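import Groth.Agent.H3Cyc.FiltDef
import Groth.Agent.H22Alg.PullVb
import Groth.Agent.H22Alg.KExists
import Groth.Agent.H22Alg.KPullLam
import Groth.Agent.H22Alg.PBRel
import Groth.Agent.H22Alg.PB.Local
import Groth.Agent.H10Coh.AffineAmple
import Groth.Agent.H22Alg.CycBasic
import Mathlib

/-!
# Filtrations by short exact sequences
-/

set_option autoImplicit false
set_option linter.style.haveILetI false
set_option linter.dupNamespace false
set_option linter.unusedSectionVars false
set_option backward.isDefEq.respectTransparency.types false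
universe u

open CategoryTheory CategoryTheory.Limits AlgebraicGeometry

noncomputable section

namespace Groth.Agent.H3Cyc.Filt

variable {X Y : Scheme.{u}}

/-- `E` has a filtration with invertible quotients (last quotient first). -/
inductive SFilt : X.Modules → List X.Modules → Prop
  | zero {E : X.Modules} (h : IsZero E) : SFilt E []
  | cons {M E L : X.Modules} {ls : List X.Modules} (a : M ⟶ E) (b : E ⟶ L) (w : a ≫ b = 0)
      (hex : (ShortComplex.mk a b w).ShortExact) (hL : PicF.IsInvertible L) (hM : SFilt M ls) : SFilt E (L :: ls)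

theorem SFilt.toFilt {E : X.Modules} {ls : List X.Modules} (h : SFilt E ls) : Filt E ls := by
  induction h with
  | zero h => exact .zero h
  | cons a b w hex hL hM ih => exact .cons a b w hex.exact hex.epi_g hL ih

theorem SFilt.of_iso {E E' : X.Modules} {ls : List X.Modules} (h : SFilt E ls) (e : E ≅ E') : SFilt E' ls := by
  cases h with
  | zero h => exact .zero (h.of_iso e.symm)
  | @cons M _ L ls a b w hex hL hM =>
    refine .cons (a ≫ e.hom) (e.inv ≫ b) (by simp [w]) ?_ hL hM
    exact ShortComplex.shortExact_of_iso (S₁ := ShortComplex.mk a b w)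
      (ShortComplex.isoMk (Iso.refl _) e (Iso.refl _)) hex

theorem SFilt.pullback {E : X.Modules} {ls : List X.Modules} (h : SFilt E ls) (f : Y ⟶ X) :
    SFilt ((Scheme.Modules.pullback f).obj E) (ls.map (Scheme.Modules.pullback f).obj) := by
  induction h with
  | zero h =>
    exact .zero ((Scheme.Modules.pullback f).map_isZero h)
  | @cons M E L ls a b w hex hL hM ih =>
    have hL1 : FlatMod.IsFinLocFree L :=
      H22Alg.KPullLam.finLocFree_of_rank (H22Alg.PB.rank_one_of_isInvertible hL)
    exact .cons ((Scheme.Modules.pullback f).map a) ((Scheme.Modules.pullback f).map b)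
      (by rw [← Functor.map_comp, w, Functor.map_zero]) (H22Alg.KModel.shortExact_pullback f hex hL1)
      (H11Ample.isInvertible_pullback f hL) ih

theorem ofRank_of_rk {M : X.Modules} (hM : FlatMod.IsFinLocFree M) {r : ℕ}
    (h : ∀ x, H22Alg.KExists.rk x M = r) : FlatMod.IsFinLocFreeOfRank r M := fun x => by
  obtain ⟨U, n, hx, ⟨e⟩⟩ := hM x
  obtain ⟨V, hV, hxV, hle⟩ := exists_isAffineOpen_mem_and_subset (x := x) (U := U) hx
  obtain ⟨b⟩ := H8Props.FinLocFree.exists_basis_of_chart M e hle
  obtain ⟨b'⟩ := H22Alg.ExtPowSum.exists_stalkBasis (H8Props.FinLocFree.isQCoh_of_isFinLocFree _ hM) hV b hxV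
  have h1 := h x
  rw [H22Alg.KExists.rk, Module.finrank_eq_card_basis b', Fintype.card_fin] at h1
  subst h1
  exact ⟨U, hx, ⟨e⟩⟩

/-- The kernel of a surjection onto an invertible module. -/
theorem kernel_ofRank {E L : X.Modules} {r : ℕ} (hE : FlatMod.IsFinLocFreeOfRank (r + 1) E)
    (hL : FlatMod.IsFinLocFreeOfRank 1 L) (q : E ⟶ L) [Epi q] : FlatMod.IsFinLocFreeOfRank r (kernel q) := by
  have hE' := H22Alg.KPullLam.finLocFree_of_rank hE
  have hL' := H22Alg.KPullLam.finLocFree_of_rank hL
  have hK := H10Coh.Tw.isFinLocFree_kernel q hE' hL'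
  have hS : (ShortComplex.mk (kernel.ι q) q (kernel.condition q)).ShortExact :=
    { exact := ShortComplex.exact_of_f_is_kernel _ (kernelIsKernel q) }
  refine ofRank_of_rk hK fun x => ?_
  have h1 : H22Alg.KExists.rk x E = H22Alg.KExists.rk x (kernel q) + H22Alg.KExists.rk x L :=
    H22Alg.KExists.rk_add hS hK hL' x
  rw [H22Alg.KExists.rk_of_rank hE, H22Alg.KExists.rk_of_rank hL] at h1
  omega

theorem exists_chain' {E : X.Modules} {ls : List X.Modules} (h : SFilt E ls) :
    ∀ {r : ℕ}, ls.length = r → ∃ (M : Fin (r + 1) → X.Modules) (L : Fin r → X.Modules),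
      IsZero (M 0) ∧ Nonempty (M (Fin.last r) ≅ E) ∧ (∀ j, PicF.IsInvertible (L j)) ∧
      ∀ j : Fin r, ∃ (a : M j.castSucc ⟶ M j.succ) (b : M j.succ ⟶ L j) (w : a ≫ b = 0),
        (ShortComplex.mk a b w).ShortExact := by
  induction h with
  | @zero E h =>
    rintro r rfl
    exact ⟨fun _ => E, fun j => j.elim0, h, ⟨Iso.refl _⟩, fun j => j.elim0, fun j => j.elim0⟩
  | @cons M E L ls a b w hex hL hM ih =>
    intro r hr
    obtain ⟨q, rfl⟩ : ∃ q, r = q + 1 := ⟨ls.length, by rw [← hr]; rfl⟩
    obtain ⟨M', L', h0, ⟨e⟩, hL', hj⟩ := ih (r := q) (by simpa using hr)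
    refine ⟨Fin.snoc M' E, Fin.snoc L' L, ?_, ⟨eqToIso (Fin.snoc_last (α := fun _ => X.Modules) _ _)⟩, fun j => ?_, fun j => ?_⟩
    · rw [← Fin.castSucc_zero, Fin.snoc_castSucc]; exact h0
    · refine Fin.lastCases ?_ (fun i => ?_) j
      · rw [Fin.snoc_last]; exact hL
      · rw [Fin.snoc_castSucc]; exact hL' i
    · refine Fin.lastCases ?_ (fun i => ?_) j
      · have key : ∀ A B C : X.Modules, A = M' (Fin.last q) → B = E → C = L →
            ∃ (a : A ⟶ B) (b : B ⟶ C) (w : a ≫ b = 0), (ShortComplex.mk a b w).ShortExact := by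
          intro A B C hA hB hC
          rw [hA, hB, hC]
          refine ⟨e.hom ≫ a, b, by rw [Category.assoc, w, comp_zero], ?_⟩
          exact ShortComplex.shortExact_of_iso (S₁ := ShortComplex.mk a b w)
            (ShortComplex.isoMk e.symm (Iso.refl _) (Iso.refl _)) hex
        exact key _ _ _ (Fin.snoc_castSucc (α := fun _ => X.Modules) _ _ _)
          ((congrArg _ (Fin.succ_last q)).trans (Fin.snoc_last (α := fun _ => X.Modules) _ _))
          (Fin.snoc_last (α := fun _ => X.Modules) _ _)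
      · rw [← Fin.castSucc_succ, Fin.snoc_castSucc, Fin.snoc_castSucc, Fin.snoc_castSucc]
        exact hj i

theorem exists_chain {E : X.Modules} {ls : List X.Modules} (h : SFilt E ls) {r : ℕ} (hr : ls.length = r) :
    ∃ (M : Fin (r + 1) → X.Modules) (L : Fin r → X.Modules) (a : ∀ j : Fin r, M j.castSucc ⟶ M j.succ)
      (b : ∀ j : Fin r, M j.succ ⟶ L j), IsZero (M 0) ∧ Nonempty (M (Fin.last r) ≅ E) ∧
        (∀ j, PicF.IsInvertible (L j)) ∧ ∀ j, ∃ w : a j ≫ b j = 0, (ShortComplex.mk (a j) (b j) w).ShortExact := by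
  obtain ⟨M, L, h0, he, hL, hj⟩ := exists_chain' h hr
  choose a b w hw using hj
  exact ⟨M, L, a, b, h0, he, hL, fun j => ⟨w j, hw j⟩⟩

end Groth.Agent.H3Cyc.Filt
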