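import Groth.Agent.H3Cyc.GenStalk
import Groth.Agent.H22Alg.LengthFormula
import Groth.Agent.H22Alg.CohSupport
import Groth.Agent.H3CAlg.ChiStalk
import Mathlib

/-!
# The length of `F_x / a F_x` at a point of codimension one in the support of a coherent module
-/

set_option autoImplicit false
set_option linter.style.haveILetI false
universe u

open AlgebraicGeometry CategoryTheory IsLocalRing
open scoped Pointwise

namespace Groth.Agent.H3Cyc.SheafLen

variable {X : Scheme.{u}}

theorem length_localized (F : X.Modules) (hF : Coh.IsQCoh F) (x z : X) (h : z ⤳ x) :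
    haveI := GenStalk.isPrime_ker x z h
    Module.length (Localization.AtPrime (RingHom.ker (Cyc.specMap x z h)))
        (LocalizedModule (RingHom.ker (Cyc.specMap x z h)).primeCompl (F.presheaf.stalk x)) =
      Module.length (X.presheaf.stalk z) (F.presheaf.stalk z) := by
  haveI := GenStalk.isPrime_ker x z h
  obtain ⟨U, hU, hxU, -⟩ := exists_isAffineOpen_mem_and_subset (X := X) (x := x) (U := ⊤) trivial
  have hzU := h.mem_open U.2 hxU
  letI := TopCat.Presheaf.algebra_section_stalk X.presheaf (⟨x, hxU⟩ : U)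
  letI := TopCat.Presheaf.algebra_section_stalk X.presheaf (⟨z, hzU⟩ : U)
  haveI := hU.isLocalization_stalk ⟨x, hxU⟩
  haveI := hU.isLocalization_stalk ⟨z, hzU⟩
  letI := Module.compHom (F.presheaf.stalk x) (algebraMap Γ(X, U) (X.presheaf.stalk x))
  letI := Module.compHom (F.presheaf.stalk z) (algebraMap Γ(X, U) (X.presheaf.stalk z))
  haveI : IsScalarTower Γ(X, U) (X.presheaf.stalk x) (F.presheaf.stalk x) :=
    IsScalarTower.of_algebraMap_smul fun _ _ => rfl
  haveI : IsScalarTower Γ(X, U) (X.presheaf.stalk z) (F.presheaf.stalk z) :=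
    IsScalarTower.of_algebraMap_smul fun _ _ => rfl
  haveI := Groth.Agent.H29Fitt.isLocalizedModule_germLin F hF hU (⟨x, hxU⟩ : U)
  haveI := Groth.Agent.H29Fitt.isLocalizedModule_germLin F hF hU (⟨z, hzU⟩ : U)
  refine H3CAlg.ChiStalk.length_loc_eq (hU.primeIdealOf ⟨x, hxU⟩).asIdeal (hU.primeIdealOf ⟨z, hzU⟩).asIdeal
    (Groth.Agent.H29Fitt.germLin F (⟨x, hxU⟩ : U)) (Groth.Agent.H29Fitt.germLin F (⟨z, hzU⟩ : U))
    ⟨RingHom.ker (Cyc.specMap x z h), GenStalk.isPrime_ker x z h⟩ ?_
  ext a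
  rw [Ideal.mem_comap, GenStalk.mem_ker_iff]
  show X.presheaf.stalkSpecializes h (X.presheaf.germ U x hxU a) ∈ _ ↔ _
  rw [TopCat.Presheaf.germ_stalkSpecializes_apply, ← IsLocalization.AtPrime.comap_maximalIdeal
    (S := X.presheaf.stalk z) (hU.primeIdealOf ⟨z, hzU⟩).asIdeal, Ideal.mem_comap]
  rfl

variable [IsLocallyNoetherian X]

theorem mem_support_iff (F : X.Modules) (hF : Coh.IsCoh F) (x z : X) (h : z ⤳ x) :
    (⟨RingHom.ker (Cyc.specMap x z h), GenStalk.isPrime_ker x z h⟩ : PrimeSpectrum (X.presheaf.stalk x)) ∈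
        Module.support (X.presheaf.stalk x) (F.presheaf.stalk x) ↔
      Nontrivial (F.presheaf.stalk z) := by
  haveI := GenStalk.isPrime_ker x z h
  rw [Module.mem_support_iff, ← Module.length_pos_iff (R := Localization.AtPrime (RingHom.ker (Cyc.specMap x z h))),
    length_localized F hF.1 x z h, Module.length_pos_iff]

theorem supportDim_le_one (F : X.Modules) (hF : Coh.IsCoh F) (x : X)
    (hgen : ∀ z : X, z ⤳ x → z ≠ x → Nontrivial (F.presheaf.stalk z) →
      ∀ w : X, w ⤳ z → Nontrivial (F.presheaf.stalk w) → w = z) :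
    Module.supportDim (X.presheaf.stalk x) (F.presheaf.stalk x) ≤ 1 := by
  let A := X.presheaf.stalk x
  let M := F.presheaf.stalk x
  have hcl : ∀ p : PrimeSpectrum A, X.fromSpecStalk x p = x → p.asIdeal = maximalIdeal A := fun p e =>
    congrArg PrimeSpectrum.asIdeal (show p = IsLocalRing.closedPoint A from
      (X.fromSpecStalk x).isEmbedding.injective (e.trans Scheme.fromSpecStalk_closedPoint.symm))
  have hsupp : ∀ p : PrimeSpectrum A, p ∈ Module.support A M → Nontrivial (F.presheaf.stalk (X.fromSpecStalk x p)) :=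
    fun p hp => by
    obtain ⟨h, e⟩ := GenStalk.ker_specMap_fromSpecStalk x p
    refine (mem_support_iff F hF x _ h).mp ?_
    have : (⟨RingHom.ker (Cyc.specMap x _ h), GenStalk.isPrime_ker x _ h⟩ : PrimeSpectrum A) = p :=
      PrimeSpectrum.ext e.symm
    rw [this]
    exact hp
  show Module.supportDim A M ≤ 1
  refine Order.krullDim_le_one_iff.mpr fun p => ?_
  by_cases hp : X.fromSpecStalk x p.1 = x
  · refine Or.inr fun q _ => ?_
    show q.1.asIdeal ≤ p.1.asIdeal
    rw [hcl _ hp]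
    exact IsLocalRing.le_maximalIdeal q.1.isPrime.ne_top
  · refine Or.inl fun q hqp => ?_
    obtain ⟨h, -⟩ := GenStalk.ker_specMap_fromSpecStalk x p.1
    have h2 := ((PrimeSpectrum.le_iff_specializes q.1 p.1).mp hqp).map (X.fromSpecStalk x).continuous
    have h3 := hgen _ h hp (hsupp _ p.2) _ h2 (hsupp _ q.2)
    exact le_of_eq (Subtype.ext ((X.fromSpecStalk x).isEmbedding.injective h3).symm)

theorem finite_gen (F : X.Modules) (hF : Coh.IsCoh F) (x : X)
    (hgen : ∀ z : X, z ⤳ x → z ≠ x → Nontrivial (F.presheaf.stalk z) →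
      ∀ w : X, w ⤳ z → Nontrivial (F.presheaf.stalk w) → w = z) :
    {z : X | z ⤳ x ∧ z ≠ x ∧ Nontrivial (F.presheaf.stalk z)}.Finite := by
  haveI : Module.Finite (X.presheaf.stalk x) (F.presheaf.stalk x) := H3CAlg.ChiStalk.finite_stalk F hF x
  refine ((H22Alg.lowPrimes_finite (supportDim_le_one F hF x hgen)).image (X.fromSpecStalk x)).subset ?_
  rintro z ⟨h, hzx, hnt⟩
  refine ⟨⟨RingHom.ker (Cyc.specMap x z h), GenStalk.isPrime_ker x z h⟩,
    ⟨(mem_support_iff F hF x z h).mpr hnt, fun e => hzx ?_⟩, GenStalk.fromSpecStalk_eq x z h⟩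
  have h2 := GenStalk.fromSpecStalk_eq x z h
  rw [show (⟨RingHom.ker (Cyc.specMap x z h), GenStalk.isPrime_ker x z h⟩ : PrimeSpectrum (X.presheaf.stalk x)) =
    IsLocalRing.closedPoint _ from PrimeSpectrum.ext e, Scheme.fromSpecStalk_closedPoint] at h2
  exact h2.symm

theorem length_quot_smul_stalk (F : X.Modules) (hF : Coh.IsCoh F) (x : X)
    (hgen : ∀ z : X, z ⤳ x → z ≠ x → Nontrivial (F.presheaf.stalk z) →
      ∀ w : X, w ⤳ z → Nontrivial (F.presheaf.stalk w) → w = z)
    (T : Finset X) (hT : ∀ z, z ∈ T ↔ z ⤳ x ∧ z ≠ x ∧ Nontrivial (F.presheaf.stalk z))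
    (a : X.presheaf.stalk x) (hreg : IsSMulRegular (F.presheaf.stalk x) a)
    (hne : ∀ z (h : z ⤳ x), z ≠ x → Nontrivial (F.presheaf.stalk z) → Cyc.specMap x z h a ≠ 0) :
    ((Module.length (X.presheaf.stalk x)
        (F.presheaf.stalk x ⧸ a • (⊤ : Submodule (X.presheaf.stalk x) (F.presheaf.stalk x)))).toNat : ℤ) =
      ∑ z ∈ T.attach, ((Module.length (X.presheaf.stalk z.1) (F.presheaf.stalk z.1)).toNat : ℤ) *
        ((Ring.ord (Cyc.LocQuot x z.1 ((hT z.1).mp z.2).1) (Ideal.Quotient.mk _ a)).toNat : ℤ) := by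
  classical
  let A := X.presheaf.stalk x
  let M := F.presheaf.stalk x
  haveI : Module.Finite A M := H3CAlg.ChiStalk.finite_stalk F hF x
  have hcl : ∀ p : PrimeSpectrum A, X.fromSpecStalk x p = x → p.asIdeal = maximalIdeal A := fun p e =>
    congrArg PrimeSpectrum.asIdeal (show p = IsLocalRing.closedPoint A from
      (X.fromSpecStalk x).isEmbedding.injective (e.trans Scheme.fromSpecStalk_closedPoint.symm))
  have hker : ∀ z (h : z ⤳ x), RingHom.ker (Cyc.specMap x z h) = maximalIdeal A → z = x := fun z h e => by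
    have h2 := GenStalk.fromSpecStalk_eq x z h
    rw [show (⟨RingHom.ker (Cyc.specMap x z h), GenStalk.isPrime_ker x z h⟩ : PrimeSpectrum A) =
      IsLocalRing.closedPoint A from PrimeSpectrum.ext e, Scheme.fromSpecStalk_closedPoint] at h2
    exact h2.symm
  have hsupp : ∀ p : PrimeSpectrum A, p ∈ Module.support A M → Nontrivial (F.presheaf.stalk (X.fromSpecStalk x p)) :=
    fun p hp => by
    obtain ⟨h, e⟩ := GenStalk.ker_specMap_fromSpecStalk x p
    refine (mem_support_iff F hF x _ h).mp ?_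
    have : (⟨RingHom.ker (Cyc.specMap x _ h), GenStalk.isPrime_ker x _ h⟩ : PrimeSpectrum A) = p :=
      PrimeSpectrum.ext e.symm
    rw [this]
    exact hp
  have h1 : Module.supportDim A M ≤ 1 := supportDim_le_one F hF x hgen
  have h0 : Module.supportDim A (M ⧸ a • (⊤ : Submodule A M)) ≤ 0 := by
    refine Order.krullDim_nonpos_iff_forall_isMax.mpr fun p => ?_
    have hp : p.1.asIdeal = maximalIdeal A := by
      by_contra hne'
      obtain ⟨h, e⟩ := GenStalk.ker_specMap_fromSpecStalk x p.1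
      have h3 := p.2
      have h4 : p.1 ∈ Module.support A M :=
        Module.support_subset_of_surjective _ (Submodule.mkQ_surjective _) h3
      refine hne _ h (fun e' => hne' (hcl _ e')) (hsupp _ h4) (RingHom.mem_ker.mp ?_)
      rw [← e]
      rw [Module.mem_support_iff_of_finite] at h3
      refine h3 (Module.mem_annihilator.mpr fun w => ?_)
      obtain ⟨v, rfl⟩ := Submodule.mkQ_surjective _ w
      exact (Submodule.Quotient.mk_eq_zero _).mpr (Submodule.smul_mem_pointwise_smul v _ _ trivial)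
    intro p' _
    show p'.1.asIdeal ≤ p.1.asIdeal
    rw [hp]
    exact IsLocalRing.le_maximalIdeal p'.1.isPrime.ne_top
  have hlen := H22Alg.length_quot_smul_eq_finsum h1 h0
  rw [show LinearMap.ker (LinearMap.lsmul A M a) = ⊥ from LinearMap.ker_eq_bot.mpr hreg, Module.length_bot, zero_add,
    finsum_mem_eq_finite_toFinset_sum _ (H22Alg.lowPrimes_finite h1)] at hlen
  have hmem : ∀ p : PrimeSpectrum A, p ∈ H22Alg.lowPrimes A M → X.fromSpecStalk x p ∈ T := fun p hp => by
    obtain ⟨h, -⟩ := GenStalk.ker_specMap_fromSpecStalk x p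
    exact (hT _).mpr ⟨h, fun e => hp.2 (hcl p e), hsupp p hp.1⟩
  have hsum : ∑ p ∈ (H22Alg.lowPrimes_finite h1).toFinset,
      Ring.ord (A ⧸ p.asIdeal) (Ideal.Quotient.mk p.asIdeal a) * H22Alg.locLen A M p =
      ∑ z ∈ T.attach, Ring.ord (Cyc.LocQuot x z.1 ((hT z.1).mp z.2).1) (Ideal.Quotient.mk _ a) *
        Module.length (X.presheaf.stalk z.1) (F.presheaf.stalk z.1) := by
    refine Finset.sum_bij (fun p hp => ⟨X.fromSpecStalk x p, hmem p ((Set.Finite.mem_toFinset _).mp hp)⟩)
      (fun p hp => Finset.mem_attach _ _) (fun p _ p' _ e => by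
        have e' := congrArg Subtype.val e
        exact (X.fromSpecStalk x).isEmbedding.injective e') (fun z _ => ?_) (fun p hp => ?_)
    · obtain ⟨h, hzx, hnt⟩ := (hT z.1).mp z.2
      refine ⟨⟨RingHom.ker (Cyc.specMap x z.1 h), GenStalk.isPrime_ker x z.1 h⟩,
        (Set.Finite.mem_toFinset _).mpr ⟨(mem_support_iff F hF x z.1 h).mpr hnt, fun e => hzx (hker _ h e)⟩,
        Subtype.ext (GenStalk.fromSpecStalk_eq x z.1 h)⟩
    · have key : ∀ (z : X) (h : z ⤳ x) (J : PrimeSpectrum A), J.asIdeal = RingHom.ker (Cyc.specMap x z h) →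
          Ring.ord (A ⧸ J.asIdeal) (Ideal.Quotient.mk J.asIdeal a) * H22Alg.locLen A M J =
          Ring.ord (Cyc.LocQuot x z h) (Ideal.Quotient.mk _ a) *
            Module.length (X.presheaf.stalk z) (F.presheaf.stalk z) := by
        rintro z h ⟨p, hp⟩ (rfl : p = _)
        rw [show H22Alg.locLen A M ⟨_, hp⟩ = _ from length_localized F hF.1 x z h]
      obtain ⟨h, e⟩ := GenStalk.ker_specMap_fromSpecStalk x p
      exact key _ _ p e
  have hfinT : ∀ z ∈ T.attach, Ring.ord (Cyc.LocQuot x z.1 ((hT z.1).mp z.2).1) (Ideal.Quotient.mk _ a) *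
      Module.length (X.presheaf.stalk z.1) (F.presheaf.stalk z.1) ≠ ⊤ := fun z _ => by
    obtain ⟨h, hzx, hnt⟩ := (hT z.1).mp z.2
    haveI := GenStalk.isPrime_ker x z.1 h
    haveI : Ring.KrullDimLE 1 (Cyc.LocQuot x z.1 h) := by
      refine Ring.krullDimLE_iff.mpr (le_trans ?_ h1)
      rw [ringKrullDim_quotient]
      refine Order.krullDim_le_of_strictMono (fun q => ⟨q.1, Module.mem_support_mono (?_ : _ ≤ q.1)
        ((mem_support_iff F hF x z.1 h).mpr hnt)⟩) fun q q' hq => hq
      exact fun c hc => q.2 hc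
    refine WithTop.mul_ne_top (Ring.ord_ne_top (mem_nonZeroDivisors_of_ne_zero fun e =>
      hne _ h hzx hnt (RingHom.mem_ker.mp (Ideal.Quotient.eq_zero_iff_mem.mp e)))) ?_
    exact (H22Alg.CohSupport.length_stalk_lt_top F hF z.1 fun w hw hwz => hgen z.1 h hzx hnt w hwz hw).ne
  rw [hsum] at hlen
  have h := congrArg ENat.toNat hlen
  rw [ENat.toNat_sum hfinT] at h
  have h2 : ((_ : ℕ) : ℤ) = ((_ : ℕ) : ℤ) := congrArg Nat.cast h
  push_cast [ENat.toNat_mul] at h2
  rw [h2]
  exact Finset.sum_congr rfl fun z _ => mul_comm _ _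

end Groth.Agent.H3Cyc.SheafLen
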