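import Groth.Agent.H22Alg.DeltaDim
import Groth.Agent.H22Alg.CycDiv
import Mathlib

/-!
# Generizations of a point as primes of its local ring
-/

set_option autoImplicit false
set_option linter.style.haveILetI false
universe u

open AlgebraicGeometry CategoryTheory IsLocalRing

namespace Groth.Agent.H3Cyc.GenStalk

variable {X : Scheme.{u}}

theorem length_self_congr {A B : Type u} [CommRing A] [CommRing B] (e : A ≃+* B) :
    Module.length A A = Module.length B B := by
  letI : Algebra A B := e.toRingHom.toAlgebra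
  rw [← Module.length_eq_of_surjective (S := A) (R := B) (M := B) e.surjective]
  exact (LinearEquiv.ofBijective (Algebra.linearMap A B) e.bijective).length_eq

theorem isPrime_ker (x z : X) (h : z ⤳ x) : (RingHom.ker (Cyc.specMap x z h)).IsPrime :=
  RingHom.ker_isPrime _

theorem mem_ker_iff (x z : X) (h : z ⤳ x) (a : X.presheaf.stalk x) :
    a ∈ RingHom.ker (Cyc.specMap x z h) ↔ X.presheaf.stalkSpecializes h a ∈ maximalIdeal (X.presheaf.stalk z) :=
  IsLocalRing.residue_eq_zero_iff _

/-- The stalk at a generization is the localisation at the corresponding prime. -/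
theorem isLocalization_stalkSpecializes (x z : X) (h : z ⤳ x) :
    letI := (X.presheaf.stalkSpecializes h).hom.toAlgebra
    haveI := isPrime_ker x z h
    IsLocalization.AtPrime (X.presheaf.stalk z) (RingHom.ker (Cyc.specMap x z h)) := by
  obtain ⟨V, hV, hxV, -⟩ := exists_isAffineOpen_mem_and_subset (show x ∈ (⊤ : X.Opens) from trivial)
  have hzV : z ∈ V := h.mem_open V.2 hxV
  letI algA := (X.presheaf.stalkSpecializes h).hom.toAlgebra
  haveI := isPrime_ker x z h
  letI := TopCat.Presheaf.algebra_section_stalk X.presheaf (⟨x, hxV⟩ : V)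
  letI := TopCat.Presheaf.algebra_section_stalk X.presheaf (⟨z, hzV⟩ : V)
  have htow : ∀ r : Γ(X, V), X.presheaf.stalkSpecializes h (X.presheaf.germ V x hxV r) = X.presheaf.germ V z hzV r :=
    fun r => X.presheaf.germ_stalkSpecializes_apply hxV h r
  haveI : IsScalarTower Γ(X, V) (X.presheaf.stalk x) (X.presheaf.stalk z) :=
    IsScalarTower.of_algebraMap_eq fun r => (htow r).symm
  haveI hx' : IsLocalization.AtPrime (X.presheaf.stalk x) (hV.primeIdealOf ⟨x, hxV⟩).asIdeal :=
    hV.isLocalization_stalk ⟨x, hxV⟩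
  haveI hz' : IsLocalization.AtPrime (X.presheaf.stalk z) (hV.primeIdealOf ⟨z, hzV⟩).asIdeal :=
    hV.isLocalization_stalk ⟨z, hzV⟩
  set P := (hV.primeIdealOf ⟨x, hxV⟩).asIdeal with hP
  set Q := (hV.primeIdealOf ⟨z, hzV⟩).asIdeal with hQ
  have hcomap : ∀ r : Γ(X, V), r ∈ Q ↔ algebraMap Γ(X, V) (X.presheaf.stalk x) r ∈ RingHom.ker (Cyc.specMap x z h) :=
    fun r => by
      rw [mem_ker_iff]
      refine ((IsLocalization.AtPrime.to_map_mem_maximal_iff (X.presheaf.stalk z) Q r).symm).trans ?_
      show X.presheaf.germ V z hzV r ∈ _ ↔ _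
      rw [← htow]; rfl
  have hle : P.primeCompl ≤ Q.primeCompl := fun r hr hrQ => hr (by
    have h1 : algebraMap Γ(X, V) (X.presheaf.stalk x) r ∈ maximalIdeal (X.presheaf.stalk x) :=
      IsLocalRing.le_maximalIdeal (RingHom.ker_ne_top _) ((hcomap r).mp hrQ)
    exact (IsLocalization.AtPrime.to_map_mem_maximal_iff (X.presheaf.stalk x) P r).mp h1)
  haveI := IsLocalization.isLocalization_of_submonoid_le (X.presheaf.stalk x) (X.presheaf.stalk z)
    P.primeCompl Q.primeCompl hle
  refine IsLocalization.isLocalization_of_is_exists_mul_mem (X.presheaf.stalk z)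
    (Q.primeCompl.map (algebraMap Γ(X, V) (X.presheaf.stalk x))) (RingHom.ker (Cyc.specMap x z h)).primeCompl ?_ ?_
  · rintro _ ⟨r, hr, rfl⟩
    exact fun hmem => hr ((hcomap r).mpr hmem)
  · rintro ⟨a, ha⟩
    obtain ⟨⟨r, s⟩, hrs⟩ := IsLocalization.surj P.primeCompl a
    refine ⟨algebraMap Γ(X, V) (X.presheaf.stalk x) s.1, r, fun hrQ => ha ?_, ?_⟩
    · have h1 : a * algebraMap Γ(X, V) (X.presheaf.stalk x) s.1 ∈ RingHom.ker (Cyc.specMap x z h) := by
        rw [hrs]; exact (hcomap r).mp hrQ
      exact ((isPrime_ker x z h).mem_or_mem h1).resolve_right fun hs => hle s.2 ((hcomap s.1).mpr hs)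
    · rw [mul_comm]; exact hrs.symm

/-- The residue field of a generization is the fraction field of the quotient of the local ring. -/
theorem isFractionRing_locQuot (x z : X) (h : z ⤳ x) :
    IsFractionRing (Cyc.LocQuot x z h) (X.residueField z) := by
  letI algA := (X.presheaf.stalkSpecializes h).hom.toAlgebra
  haveI := isPrime_ker x z h
  haveI := isLocalization_stalkSpecializes x z h
  haveI : FaithfulSMul (Cyc.LocQuot x z h) (X.residueField z) :=
    (faithfulSMul_iff_algebraMap_injective _ _).mpr (RingHom.kerLift_injective _)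
  refine IsFractionRing.of_field _ _ fun w => ?_
  obtain ⟨t, rfl⟩ := X.residue_surjective z w
  obtain ⟨⟨a, s⟩, has⟩ := IsLocalization.surj (RingHom.ker (Cyc.specMap x z h)).primeCompl t
  refine ⟨Ideal.Quotient.mk _ a, Ideal.Quotient.mk _ s.1, ?_⟩
  show _ = Cyc.specMap x z h a / Cyc.specMap x z h s.1
  rw [eq_div_iff (fun e => s.2 (RingHom.mem_ker.mpr e))]
  show (X.residue z).hom t * (X.residue z).hom (algebraMap _ (X.presheaf.stalk z) s.1) = (X.residue z).hom (algebraMap _ (X.presheaf.stalk z) a)
  rw [← map_mul, has]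

/-- The generizations of `x` are the primes of the local ring at `x`. -/
theorem ker_specMap_fromSpecStalk (x : X) (J : PrimeSpectrum (X.presheaf.stalk x)) :
    ∃ h : X.fromSpecStalk x J ⤳ x, J.asIdeal = RingHom.ker (Cyc.specMap x (X.fromSpecStalk x J) h) := by
  have h : X.fromSpecStalk x J ⤳ x := (Scheme.range_fromSpecStalk (x := x)).le ⟨J, rfl⟩
  obtain ⟨J', hJ', e⟩ := H22Alg.DeltaDim.exists_prime h
  obtain rfl : J' = J := (X.fromSpecStalk x).isEmbedding.injective hJ'
  exact ⟨h, e⟩

theorem fromSpecStalk_eq (x z : X) (h : z ⤳ x) :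
    X.fromSpecStalk x ⟨RingHom.ker (Cyc.specMap x z h), isPrime_ker x z h⟩ = z := by
  obtain ⟨J, hJ, e⟩ := H22Alg.DeltaDim.exists_prime h
  obtain rfl : J = ⟨RingHom.ker (Cyc.specMap x z h), isPrime_ker x z h⟩ := PrimeSpectrum.ext e
  exact hJ

/-- The multiplicity at a generization. -/
theorem length_localizedModule_eq (x z : X) (h : z ⤳ x) :
    haveI := isPrime_ker x z h
    Module.length (Localization.AtPrime (RingHom.ker (Cyc.specMap x z h)))
        (LocalizedModule (RingHom.ker (Cyc.specMap x z h)).primeCompl (X.presheaf.stalk x)) =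
      Module.length (X.presheaf.stalk z) (X.presheaf.stalk z) := by
  letI algA := (X.presheaf.stalkSpecializes h).hom.toAlgebra
  haveI := isPrime_ker x z h
  haveI := isLocalization_stalkSpecializes x z h
  set p := RingHom.ker (Cyc.specMap x z h)
  have e : LocalizedModule p.primeCompl (X.presheaf.stalk x) ≃ₗ[Localization.AtPrime p] Localization.AtPrime p :=
    (IsLocalizedModule.linearEquiv p.primeCompl (LocalizedModule.mkLinearMap p.primeCompl (X.presheaf.stalk x))
      (Algebra.linearMap (X.presheaf.stalk x) (Localization.AtPrime p))).extendScalarsOfIsLocalization p.primeCompl _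
  rw [e.length_eq]
  exact length_self_congr (IsLocalization.algEquiv p.primeCompl _ (X.presheaf.stalk z)).toRingEquiv

end Groth.Agent.H3Cyc.GenStalk
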