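import Groth.Agent.H3Cyc.ESym
import Mathlib

/-!
# Elementary symmetric functions of shifted and of pairwise sums
-/

set_option autoImplicit false
universe u

namespace Groth.Agent.H3Cyc.ESym

variable {R : Type u} [CommRing R]

theorem es_shift (l : R) : ∀ (xs : List R) (i : ℕ), es (xs.map (l + ·)) i =
    ∑ j ∈ Finset.range (i + 1), ((xs.length + j - i).choose j : R) * (es xs (i - j) * l ^ j)
  | xs, 0 => by simp
  | [], i + 1 => by
    rw [List.map_nil, es_nil_succ, eq_comm]
    refine Finset.sum_eq_zero fun j hj => ?_
    rcases Nat.lt_or_ge j (i + 1) with h | h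
    · rw [show i + 1 - j = (i - j) + 1 by omega, es_nil_succ, zero_mul, mul_zero]
    · have : j = i + 1 := by have := Finset.mem_range.mp hj; omega
      subst this
      simp
  | y :: ys, i + 1 => by
    rw [List.map_cons, es_cons_succ, es_shift l ys (i + 1), es_shift l ys i, List.length_cons]
    set n := ys.length with hn
    have e1 : ∑ j ∈ Finset.range (i + 1 + 1), ((n + 1 + j - (i + 1)).choose j : R) * (es (y :: ys) (i + 1 - j) * l ^ j) =
        (∑ j ∈ Finset.range (i + 1 + 1), ((n + j - i).choose j : R) * (es ys (i + 1 - j) * l ^ j)) +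
          y * ∑ j ∈ Finset.range (i + 1), ((n + j - i).choose j : R) * (es ys (i - j) * l ^ j) := by
      rw [Finset.sum_range_succ _ (i + 1), Finset.sum_range_succ _ (i + 1), Nat.sub_self, es_zero, es_zero,
        show n + 1 + (i + 1) - (i + 1) = n + (i + 1) - i by omega, add_right_comm, Finset.mul_sum,
        ← Finset.sum_add_distrib]
      congr 1
      refine Finset.sum_congr rfl fun j hj => ?_
      have := Finset.mem_range.mp hj
      rw [show i + 1 - j = (i - j) + 1 by omega, es_cons_succ, show n + 1 + j - (i + 1) = n + j - i by omega]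
      ring
    rw [e1, add_comm l y, add_mul, add_comm (y * _), ← add_assoc]
    congr 1
    rw [Finset.sum_range_succ' _ (i + 1), Finset.sum_range_succ' _ (i + 1), add_right_comm, Finset.mul_sum,
      ← Finset.sum_add_distrib]
    congr 1
    · refine Finset.sum_congr rfl fun j hj => ?_
      have := Finset.mem_range.mp hj
      rw [show i + 1 - (j + 1) = i - j by omega]
      by_cases h : i ≤ n + j
      · rw [show n + (j + 1) - (i + 1) = n + j - i by omega, show n + (j + 1) - i = (n + j - i) + 1 by omega,
          Nat.choose_succ_succ]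
        push_cast
        ring
      · rw [es_eq_zero ys (i - j) (by omega)]
        ring
    · simp

theorem two_choose (s : ℕ) : ((s + 1).choose 2 : R) = (s.choose 2 : R) + s := by
  rw [Nat.choose_succ_succ, Nat.choose_one_right]
  push_cast
  ring

theorem es_shift_two (l : R) (xs : List R) : es (xs.map (l + ·)) 2 =
    es xs 2 + ((xs.length : R) - 1) * (es xs 1 * l) + (xs.length.choose 2 : R) * l ^ 2 := by
  rw [es_shift, Finset.sum_range_succ, Finset.sum_range_succ, Finset.sum_range_one]
  simp only [Nat.sub_zero, add_zero, Nat.choose_zero_right, Nat.cast_one, one_mul, pow_zero, mul_one, pow_one,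
    Nat.choose_one_right, show (2 - 1 : ℕ) = 1 from rfl, Nat.sub_self, es_zero,
    show xs.length + 2 - 2 = xs.length by omega]
  rcases xs with _ | ⟨x, xs⟩
  · simp
  · rw [show (x :: xs).length + 1 - 2 = xs.length by simp, List.length_cons]
    push_cast
    ring

theorem es_one_pairs (xs : List R) : ∀ ys : List R, es (ys.flatMap fun y => xs.map (y + ·)) 1 =
    (xs.length : R) * es ys 1 + (ys.length : R) * es xs 1
  | [] => by simp
  | y :: ys => by
    rw [List.flatMap_cons, es_one, List.sum_append, ← es_one (ys.flatMap _), es_one_pairs xs ys, es_one (y :: ys),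
      List.sum_cons, ← es_one ys, List.sum_map_add, List.map_id', ← es_one xs]
    simp only [List.map_const', List.sum_replicate, nsmul_eq_mul, List.length_cons]
    push_cast
    ring

theorem sq_eq (n : ℕ) : (n : R) ^ 2 = (n : R) + 2 * (n.choose 2 : R) := by
  induction n with
  | zero => simp
  | succ n ih =>
    rw [two_choose]
    push_cast
    linear_combination ih

theorem es_two_pairs (xs : List R) : ∀ ys : List R, es (ys.flatMap fun y => xs.map (y + ·)) 2 =
    (xs.length : R) * es ys 2 + (ys.length : R) * es xs 2 + (xs.length.choose 2 : R) * es ys 1 ^ 2 +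
      ((xs.length : R) * (ys.length : R) - 1) * (es xs 1 * es ys 1) + (ys.length.choose 2 : R) * es xs 1 ^ 2
  | [] => by simp
  | y :: ys => by
    rw [List.flatMap_cons, es_append, Finset.Nat.sum_antidiagonal_succ, Finset.Nat.sum_antidiagonal_succ,
      Finset.Nat.antidiagonal_zero, Finset.sum_singleton]
    simp only [es_zero, one_mul, mul_one, zero_add, show (1 : ℕ) + 1 = 2 from rfl]
    rw [es_shift_two, es_two_pairs xs ys, es_one_pairs xs ys, es_one (xs.map _), List.sum_map_add, List.map_id',
      ← es_one xs, es_cons_succ, es_cons_succ, es_zero, mul_one, List.length_cons, two_choose]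
    simp only [List.map_const', List.sum_replicate, nsmul_eq_mul]
    push_cast
    linear_combination (es ys 1 * y) * sq_eq (R := R) xs.length

end Groth.Agent.H3Cyc.ESym
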