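import Groth.Agent.H3Cyc.ChernTot
import Mathlib

/-!
# Filtrations indexed by `Fin`, classes in one degree
-/

set_option autoImplicit false
set_option linter.style.haveILetI false
set_option linter.unusedSectionVars false
set_option backward.isDefEq.respectTransparency.types false
universe u

open CategoryTheory CategoryTheory.Limits AlgebraicGeometry
open Groth.Agent.H3Cyc.Tot

noncomputable section

namespace Groth.Agent.H3Cyc.Filt

variable {X : Scheme.{u}}

theorem Filt.of_fin : ∀ {r : ℕ} (M : Fin (r + 1) → X.Modules) (_ : IsZero (M 0)) (L : Fin r → X.Modules)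
    (_ : ∀ i, PicF.IsInvertible (L i)) (a : ∀ i : Fin r, M (Fin.castSucc i) ⟶ M (Fin.succ i))
    (b : ∀ i : Fin r, M (Fin.succ i) ⟶ L i) (_ : ∀ i, ∃ h : a i ≫ b i = 0, (ShortComplex.mk (a i) (b i) h).ShortExact),
    Filt (M (Fin.last r)) (List.ofFn L).reverse
  | 0, M, h0, L, _, a, b, _ => by
    rw [List.ofFn_zero, List.reverse_nil]
    exact .zero h0
  | r + 1, M, h0, L, hL, a, b, hex => by
    rw [List.ofFn_succ', List.concat_eq_append, List.reverse_append, List.reverse_singleton, List.singleton_append]
    obtain ⟨w, hs⟩ := hex (Fin.last r)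
    refine .cons (a (Fin.last r)) (b (Fin.last r)) w hs.exact hs.epi_g (hL _) ?_
    exact of_fin (fun i => M i.castSucc) h0 (fun i => L i.castSucc) (fun i => hL _)
      (fun i => a i.castSucc) (fun i => b i.castSucc) (fun i => hex i.castSucc)

variable {δ : X → ℤ}

theorem C1_single (hX : Cyc.IsSetup X δ) {L : X.Modules} (hL : PicF.IsInvertible L) {j k : ℤ} (h : j = k + 1)
    (a : ChowOps.CH X δ j) : C1 hX hL (Pi.single j a) = (Pi.single k (Chow.c1 hX hL h a) : T X δ) := by
  funext l
  by_cases hl : l = k
  · subst hl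
    rw [C1_apply hX hL _ h, single_apply, single_apply]
  · rw [Pi.single_eq_of_ne hl, C1_apply hX hL _ (rfl : l + 1 = l + 1), Pi.single_eq_of_ne (by omega), map_zero]

theorem single_cast {j k : ℤ} (h : j = k) (a : ChowOps.CH X δ j) :
    (Pi.single j a : T X δ) = Pi.single k (Chow.cast h a) := by
  subst h; rfl

theorem es_reverse_ofFn {A : Type u} [AddCommGroup A] : ∀ {r : ℕ} (x : Fin r → AddMonoid.End A)
    (g : Finset (Fin r) → A) (_ : ∀ (I : Finset (Fin r)) (i : Fin r), (∀ i' ∈ I, i' < i) → g (insert i I) = x i (g I))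
    (j : ℕ), ESym.es (List.ofFn x).reverse j (g ∅) = ∑ I ∈ Finset.powersetCard j Finset.univ, g I
  | r, x, g, _, 0 => by
    rw [ESym.es_zero, Finset.powersetCard_zero, Finset.sum_singleton]
    rfl
  | 0, x, g, _, j + 1 => by
    rw [List.ofFn_zero, List.reverse_nil, ESym.es_nil_succ, Finset.powersetCard_eq_empty.mpr (by simp),
      Finset.sum_empty]
    rfl
  | r + 1, x, g, hg, j + 1 => by
    rw [List.ofFn_succ', List.concat_eq_append, List.reverse_append, List.reverse_singleton, List.singleton_append,
      ESym.es_cons_succ]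
    let e : Fin r ↪ Fin (r + 1) := Fin.castSuccEmb
    have hg' : ∀ (I : Finset (Fin r)) (i : Fin r), (∀ i' ∈ I, i' < i) →
        g ((insert i I).map e) = x i.castSucc (g (I.map e)) := fun I i hI => by
      rw [Finset.map_insert]
      refine hg _ _ fun i' hi' => ?_
      obtain ⟨a, ha, rfl⟩ := Finset.mem_map.mp hi'
      exact Fin.castSucc_lt_castSucc_iff.mpr (hI a ha)
    have ih := es_reverse_ofFn (fun i => x i.castSucc) (fun I => g (I.map e)) hg'
    simp only [Finset.map_empty] at ih
    let l := (List.ofFn fun i : Fin r => x i.castSucc).reverse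
    show ESym.es l (j + 1) (g ∅) + x (Fin.last r) (ESym.es l j (g ∅)) = _
    rw [ih (j + 1), ih j, map_sum]
    have huniv : (Finset.univ : Finset (Fin (r + 1))) = insert (Fin.last r) (Finset.univ.map e) := by
      rw [Fin.univ_castSuccEmb, Finset.cons_eq_insert]
    have hnot : Fin.last r ∉ Finset.univ.map e := by
      simp [e, Fin.castSucc_ne_last]
    rw [huniv, Finset.powersetCard_succ_insert hnot, Finset.powersetCard_map, Finset.powersetCard_map,
      Finset.sum_union, Finset.sum_image, Finset.sum_map, Finset.sum_map]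
    · refine congrArg₂ (· + ·) rfl (Finset.sum_congr rfl fun I _ => (hg _ _ fun i' hi' => ?_).symm)
      obtain ⟨a, _, rfl⟩ := Finset.mem_map.mp hi'
      exact Fin.castSucc_lt_last a
    · intro I hI J hJ hIJ
      have key : ∀ K ∈ (Finset.powersetCard j Finset.univ).map (Finset.mapEmbedding e).toEmbedding,
          Fin.last r ∉ K := fun K hK => by
        obtain ⟨K, _, rfl⟩ := Finset.mem_map.mp hK
        simp [e, Fin.castSucc_ne_last]
      rw [← Finset.erase_insert (key I hI), ← Finset.erase_insert (key J hJ)]
      exact congrArg (Finset.erase · (Fin.last r)) hIJ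
    · rw [Finset.disjoint_left]
      intro I hI hI'
      obtain ⟨I, _, rfl⟩ := Finset.mem_map.mp hI
      obtain ⟨J, _, hJ⟩ := Finset.mem_image.mp hI'
      have : Fin.last r ∈ Finset.map e I := by
        have h1 := Finset.mem_insert_self (Fin.last r) J
        rw [hJ] at h1
        exact h1
      simp [e, Fin.castSucc_ne_last] at this

end Groth.Agent.H3Cyc.Filt
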