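import Groth.Agent.H3Cyc.SplitChern
import Mathlib

/-!
# Tools for formulas on Chern classes
-/

set_option autoImplicit false
set_option linter.style.haveILetI false
set_option linter.unusedSectionVars false
set_option backward.isDefEq.respectTransparency.types false
universe u

open CategoryTheory CategoryTheory.Limits AlgebraicGeometry
open Groth.Agent.H3Cyc.Tot

noncomputable section

namespace Groth.Agent.H3Cyc.SplitChern

section single

variable {X : Scheme.{u}} {δ : X → ℤ}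

/-- The class of a cycle, in its degree. -/
abbrev sg {q : ℤ} (a : AlgebraicCycle X ℤ) (ha : a ∈ Cyc.Zk X δ q) : T X δ := Pi.single q (ChowOps.cl a ha)

theorem sg_congr {q q' : ℤ} {a b : AlgebraicCycle X ℤ} (ha : a ∈ Cyc.Zk X δ q) (hb : b ∈ Cyc.Zk X δ q')
    (h : q = q') (hab : a = b) : sg a ha = sg b hb := by
  subst h; subst hab; rfl

theorem sg_add {q : ℤ} {a b : AlgebraicCycle X ℤ} (ha : a ∈ Cyc.Zk X δ q) (hb : b ∈ Cyc.Zk X δ q)
    (hab : a + b ∈ Cyc.Zk X δ q) : sg (a + b) hab = sg a ha + sg b hb := by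
  rw [sg, sg, sg, ← Pi.single_add]
  exact congrArg (Pi.single q) (map_add (ChowOps.clHom X δ q) (⟨a, ha⟩ : ↥(ChowOps.zk X δ q)) ⟨b, hb⟩)

theorem sg_zero {q : ℤ} (h : (0 : AlgebraicCycle X ℤ) ∈ Cyc.Zk X δ q) : sg (0 : AlgebraicCycle X ℤ) h = 0 := by
  rw [sg, show ChowOps.cl (0 : AlgebraicCycle X ℤ) h = 0 from map_zero (ChowOps.clHom X δ q), Pi.single_zero]

theorem sg_zsmul {q : ℤ} {a : AlgebraicCycle X ℤ} (ha : a ∈ Cyc.Zk X δ q) (m : ℤ)
    (hm : m • a ∈ Cyc.Zk X δ q) : sg (m • a) hm = m • sg a ha := by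
  rw [sg, sg]
  exact (congrArg (Pi.single q) (map_zsmul (ChowOps.clHom X δ q) m (⟨a, ha⟩ : ↥(ChowOps.zk X δ q)))).trans
    (map_zsmul (AddMonoidHom.single (fun k => ChowOps.CH X δ k) q) m _)

theorem sum_mem {ι : Type*} (s : Finset ι) {q : ℤ} {a : ι → AlgebraicCycle X ℤ}
    (ha : ∀ i ∈ s, a i ∈ Cyc.Zk X δ q) : ∑ i ∈ s, a i ∈ Cyc.Zk X δ q :=
  (ChowOps.zk X δ q).sum_mem ha

theorem sg_sum {ι : Type*} (s : Finset ι) {q : ℤ} {a : ι → AlgebraicCycle X ℤ}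
    (ha : ∀ i, a i ∈ Cyc.Zk X δ q) : sg (∑ i ∈ s, a i) (sum_mem s fun i _ => ha i) = ∑ i ∈ s, sg (a i) (ha i) := by
  classical
  induction s using Finset.induction_on with
  | empty =>
    refine (sg_congr _ (ChowOps.zk X δ q).zero_mem rfl Finset.sum_empty).trans ?_
    rw [sg_zero, Finset.sum_empty]
  | insert i s hi ih =>
    refine (sg_congr _ ((ChowOps.zk X δ q).add_mem (ha i) (sum_mem s fun j _ => ha j)) rfl
      (Finset.sum_insert hi)).trans ?_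
    rw [Finset.sum_insert hi, ← ih, sg_add]

theorem sg_inj {q : ℤ} {a b : AlgebraicCycle X ℤ} (ha : a ∈ Cyc.Zk X δ q) (hb : b ∈ Cyc.Zk X δ q)
    (h : sg a ha = sg b hb) : Cyc.RatEquiv δ q a b :=
  (Chow.cl_eq_iff ha hb).mp (Pi.single_injective q h)

theorem sg_c1 (hX : Cyc.IsSetup X δ) {L : X.Modules} (hL : PicF.IsInvertible L) {q : ℤ} {a b : AlgebraicCycle X ℤ}
    (ha : a ∈ Cyc.Zk X δ q) (hb : b ∈ Cyc.Zk X δ (q - 1)) (t : (ξ : X) → Cyc.secFibre L ξ) (ht : ∀ ξ, t ξ ≠ 0)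
    (hfun : ⇑b = Cyc.c1CapFun δ L ⇑a t) : sg b hb = Filt.cc hX L (sg a ha) := by
  rw [Filt.cc_eq hX hL, sg, sg, Filt.C1_single hX hL (show q = q - 1 + 1 by ring),
    Chow.c1_cl hX hL _ a ha t ht b hb hfun]

theorem c1Cap_mem (hX : Cyc.IsSetup X δ) {L : X.Modules} (hL : PicF.IsInvertible L) {q : ℤ} {a b : AlgebraicCycle X ℤ}
    (ha : a ∈ Cyc.Zk X δ q) (t : (ξ : X) → Cyc.secFibre L ξ) (ht : ∀ ξ, t ξ ≠ 0)
    (hfun : ⇑b = Cyc.c1CapFun δ L ⇑a t) : b ∈ Cyc.Zk X δ (q - 1) := by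
  haveI := hX.1
  obtain ⟨c, hcf, hc⟩ := C1Api.exists_c1Cap_cycle hX.2.2 hL (q - 1) a (by rwa [sub_add_cancel]) t ht
  rwa [DFunLike.coe_injective (hfun.trans hcf.symm)]

/-- `c₁(O) = 0`. -/
theorem cc_structureModule (hX : Cyc.IsSetup X δ) : Filt.cc hX (Coh.structureModule X) = 0 := by
  haveI := hX.1
  have hL : PicF.IsInvertible (Coh.structureModule X) :=
    H11Ample.isInvertible_of_gen fun x => ⟨⊤, _, trivial, H11Ample.isGen_one ⊤⟩
  refine AddMonoidHom.ext fun f => funext fun k => ?_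
  obtain ⟨e, he⟩ : ∃ e : Γ(Coh.structureModule X, ⊤), H11Tilde.IsGen (Coh.structureModule X) e :=
    ⟨_, H11Ample.isGen_one ⊤⟩
  rw [Filt.cc_eq hX hL]
  refine (Tot.C1_apply hX hL f (rfl : k + 1 = k + 1)).trans ?_
  show _ = (0 : ChowOps.CH X δ k)
  obtain ⟨α, hα, hαe⟩ := Chow.exists_cl (f (k + 1))
  let t : (ξ : X) → Cyc.secFibre (Coh.structureModule X) ξ := fun ξ =>
    C1Api.fib (Coh.structureModule X) (V := (⊤ : X.Opens)) ξ trivial e
  have ht : ∀ ξ, t ξ ≠ 0 := fun ξ => Filt.fib_ne_zero he _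
  have hzero : Cyc.c1CapFun δ (Coh.structureModule X) ⇑α t = 0 := funext fun x => finsum_eq_zero_of_forall_eq_zero
    fun ξ => by
      have h1 := C1Api.secDivFun_gen he δ (ξ := ξ) trivial 1 (by rw [map_one]; exact one_ne_zero) (x := x) trivial
      rw [one_smul] at h1
      rw [h1, map_one, Cyc.divFun]
      split_ifs with h
      · rw [C1Api.ordAt_one, mul_zero]
      · rw [mul_zero]
  rw [← hαe, Chow.c1_cl hX hL rfl α hα t ht 0 (ChowOps.zk X δ k).zero_mem (by rw [hzero]; rfl)]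
  exact map_zero (ChowOps.clHom X δ k)

end single

section pull

variable {X Y : Scheme.{u}} {δ : X → ℤ} {δY : Y → ℤ} {hX : Cyc.IsSetup X δ} {hY : Cyc.IsSetup Y δY}

theorem ratEquiv_of_Pull {π : Y ⟶ X} [Flat π] {d : ℤ} {hd : FlatRat.MaxDim π δY δ d}
    (hinj : Function.Injective (Tot.Pull π hY hX hd)) {q : ℤ} {a b : AlgebraicCycle X ℤ} (ha : a ∈ Cyc.Zk X δ q)
    (hb : b ∈ Cyc.Zk X δ q) (h : Tot.Pull π hY hX hd (sg a ha) = Tot.Pull π hY hX hd (sg b hb)) :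
    Cyc.RatEquiv δ q a b :=
  sg_inj ha hb (hinj h)

/-- The filtration of the middle term after pulling back. -/
theorem filt_pull_concat {E₁ E E₂ : X.Modules} {a : E₁ ⟶ E} {b : E ⟶ E₂} {w : a ≫ b = 0}
    (hex : (ShortComplex.mk a b w).ShortExact) {r₂ : ℕ} (h₂ : FlatMod.IsFinLocFreeOfRank r₂ E₂) (π : Y ⟶ X)
    {l₁ l₂ : List Y.Modules} (hl₁ : Filt.Filt ((Scheme.Modules.pullback π).obj E₁) l₁)
    (hl₂ : Filt.Filt ((Scheme.Modules.pullback π).obj E₂) l₂) :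
    Filt.Filt ((Scheme.Modules.pullback π).obj E) (l₂ ++ l₁) :=
  Filt.Filt.concat (H22Alg.KModel.shortExact_pullback π hex (H22Alg.KPullLam.finLocFree_of_rank h₂)) hl₁ hl₂

end pull

end Groth.Agent.H3Cyc.SplitChern

namespace Groth.Agent.H3Cyc.SplitChern

/-- An antidiagonal sum as a double sum over bounded indices. -/
theorem sum_fin_fin {M : Type*} [AddCommMonoid M] {r₁ r₂ : ℕ} (F : ℕ → ℕ → M)
    (hF : ∀ a b, r₁ < a ∨ r₂ < b → F a b = 0) (j : ℕ) :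
    ∑ a : Fin (r₁ + 1), ∑ b : Fin (r₂ + 1), (if (a : ℕ) + (b : ℕ) = j then F a b else 0) =
      ∑ p ∈ Finset.HasAntidiagonal.antidiagonal j, F p.2 p.1 := by
  rw [← Fintype.sum_prod_type' (f := fun (a : Fin (r₁ + 1)) (b : Fin (r₂ + 1)) =>
      if (a : ℕ) + (b : ℕ) = j then F a b else 0), ← Finset.sum_filter]
  refine Finset.sum_bij_ne_zero (fun (x : Fin (r₁ + 1) × Fin (r₂ + 1)) _ _ => ((x.2 : ℕ), (x.1 : ℕ))) ?_ ?_ ?_ ?_
  · intro x hx _
    simp only [Finset.mem_filter] at hx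
    simp only [Finset.HasAntidiagonal.mem_antidiagonal]
    omega
  · intro x _ _ y _ _ h
    obtain ⟨h1, h2⟩ := Prod.ext_iff.mp h
    exact Prod.ext (Fin.ext h2) (Fin.ext h1)
  · intro p hp hne
    have hp' : p.1 + p.2 = j := Finset.HasAntidiagonal.mem_antidiagonal.mp hp
    have h1 : ¬ (r₁ < p.2 ∨ r₂ < p.1) := fun h => hne (hF _ _ h)
    refine ⟨(⟨p.2, by omega⟩, ⟨p.1, by omega⟩), ?_, hne, rfl⟩
    simp only [Finset.mem_filter, Finset.mem_univ, true_and]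
    show p.2 + p.1 = j
    omega
  · intro x _ _
    rfl

theorem end_sum_apply {A : Type*} [AddCommGroup A] {ι : Type*} (s : Finset ι) (g : ι → AddMonoid.End A) (f : A) :
    (∑ i ∈ s, g i) f = ∑ i ∈ s, g i f := by
  classical
  induction s using Finset.induction_on with
  | empty => simp
  | insert i s hi ih =>
    rw [Finset.sum_insert hi, Finset.sum_insert hi, ← ih]
    rfl

end Groth.Agent.H3Cyc.SplitChern
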