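import Groth.Agent.H3Cyc.C1Api
import Mathlib

/-!
# Additivity of rational sections in tensor products
-/

set_option autoImplicit false
set_option linter.style.haveILetI false
universe u

open AlgebraicGeometry CategoryTheory IsLocalRing Opposite
open Groth.Agent.H11Tilde (IsGen)
open Groth.Agent.H11Ample (tm)

namespace Groth.Agent.H3Cyc.C1Api

variable {X : Scheme.{u}} {L N : X.Modules}

theorem germ_tm_change {V V' : X.Opens} {e : Γ(L, V)} {f : Γ(N, V)} {e' : Γ(L, V')} {f' : Γ(N, V')}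
    (he' : IsGen L e') (hf' : IsGen N f') {z : X} (hz : z ∈ V) (hz' : z ∈ V') :
    ∃ a b : X.presheaf.stalk z, fib L z hz e = a • fib L z hz' e' ∧ fib N z hz f = b • fib N z hz' f' ∧
      fib (CohB1.tensorMod L N) z hz (tm e f) = (a * b) • fib (CohB1.tensorMod L N) z hz' (tm e' f') := by
  have hW : z ∈ V ⊓ V' := ⟨hz, hz'⟩
  obtain ⟨a, ha⟩ := H11Ample.exists_coeff (he'.res (inf_le_right : V ⊓ V' ≤ V'))
    (L.presheaf.map (homOfLE (inf_le_left : V ⊓ V' ≤ V)).op e)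
  obtain ⟨b, hb⟩ := H11Ample.exists_coeff (hf'.res (inf_le_right : V ⊓ V' ≤ V'))
    (N.presheaf.map (homOfLE (inf_le_left : V ⊓ V' ≤ V)).op f)
  refine ⟨X.presheaf.germ _ z hW a, X.presheaf.germ _ z hW b, ?_, ?_, ?_⟩
  · rw [fib, fib, ← TopCat.Presheaf.germ_res_apply L.presheaf (homOfLE (inf_le_left : V ⊓ V' ≤ V)) z hW e, ha,
      H06Mod.germ_smul, TopCat.Presheaf.germ_res_apply, Submodule.Quotient.mk_smul]
  · rw [fib, fib, ← TopCat.Presheaf.germ_res_apply N.presheaf (homOfLE (inf_le_left : V ⊓ V' ≤ V)) z hW f, hb,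
      H06Mod.germ_smul, TopCat.Presheaf.germ_res_apply, Submodule.Quotient.mk_smul]
  · have h1 : (CohB1.tensorMod L N).presheaf.map (homOfLE (inf_le_left : V ⊓ V' ≤ V)).op (tm e f) =
        (a * b) • (CohB1.tensorMod L N).presheaf.map (homOfLE (inf_le_right : V ⊓ V' ≤ V')).op (tm e' f') := by
      rw [H11Ample.tm_res, H11Ample.tm_res, ha, hb, H11Ample.tm_smul_left, H11Ample.tm_smul_right, smul_smul]
    rw [fib, fib, ← TopCat.Presheaf.germ_res_apply (CohB1.tensorMod L N).presheaf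
      (homOfLE (inf_le_left : V ⊓ V' ≤ V)) z hW (tm e f), h1, H06Mod.germ_smul, TopCat.Presheaf.germ_res_apply,
      Submodule.Quotient.mk_smul, map_mul]

variable {δ : X → ℤ}

/-- A rational section of `L ⊗ N` whose divisor is the sum of those of the factors. -/
theorem exists_tensor_section (hL : PicF.IsInvertible L) (hN : PicF.IsInvertible N) (ξ : X)
    (s : Cyc.secFibre L ξ) (s' : Cyc.secFibre N ξ) (hs : s ≠ 0) (hs' : s' ≠ 0) :
    ∃ σ : Cyc.secFibre (CohB1.tensorMod L N) ξ, σ ≠ 0 ∧ ∀ x, Cyc.secDivFun δ (CohB1.tensorMod L N) ξ σ x =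
      Cyc.secDivFun δ L ξ s x + Cyc.secDivFun δ N ξ s' x := by
  obtain ⟨V₁, e₀, hξ₁, he₀⟩ := H11Ample.exists_gen hL ξ
  obtain ⟨V₂, f₀, hξ₂, hf₀⟩ := H11Ample.exists_gen hN ξ
  have he := he₀.res (inf_le_left : V₁ ⊓ V₂ ≤ V₁)
  have hf := hf₀.res (inf_le_right : V₁ ⊓ V₂ ≤ V₂)
  have hξ : ξ ∈ V₁ ⊓ V₂ := ⟨hξ₁, hξ₂⟩
  obtain ⟨φ, rfl⟩ := exists_smul_fib he hξ s
  obtain ⟨ψ, rfl⟩ := exists_smul_fib hf hξ s'
  have hφ := (residue_ne_zero_iff he hξ φ).mp hs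
  have hψ := (residue_ne_zero_iff hf hξ ψ).mp hs'
  refine ⟨(φ * ψ) • fib _ ξ hξ (tm _ _), (residue_ne_zero_iff (H11Ample.isGen_tm he hf) hξ _).mpr
    (by rw [map_mul]; exact mul_ne_zero hφ hψ), fun x => ?_⟩
  by_cases h : ξ ⤳ x
  · obtain ⟨U₁, e₁, hx₁, he₁⟩ := H11Ample.exists_gen hL x
    obtain ⟨U₂, f₁, hx₂, hf₁⟩ := H11Ample.exists_gen hN x
    have he' := he₁.res (inf_le_left : U₁ ⊓ U₂ ≤ U₁)
    have hf' := hf₁.res (inf_le_right : U₁ ⊓ U₂ ≤ U₂)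
    have hx : x ∈ U₁ ⊓ U₂ := ⟨hx₁, hx₂⟩
    have hξ' : ξ ∈ U₁ ⊓ U₂ := h.mem_open (U₁ ⊓ U₂).2 hx
    obtain ⟨a, b, ha, hb, hab⟩ := germ_tm_change (e := L.presheaf.map (homOfLE inf_le_left).op e₀)
      (f := N.presheaf.map (homOfLE inf_le_right).op f₀) he' hf' hξ hξ'
    rw [hab, ha, hb, smul_smul, smul_smul, smul_smul]
    rw [ha, smul_smul] at hs
    rw [hb, smul_smul] at hs'
    have h1 := (residue_ne_zero_iff he' hξ' _).mp hs
    have h2 := (residue_ne_zero_iff hf' hξ' _).mp hs'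
    have e3 : φ * ψ * (a * b) = (φ * a) * (ψ * b) := by ring
    rw [e3, secDivFun_gen (H11Ample.isGen_tm he' hf') δ hξ' _ (by rw [map_mul]; exact mul_ne_zero h1 h2) hx,
      secDivFun_gen he' δ hξ' _ h1 hx, secDivFun_gen hf' δ hξ' _ h2 hx, map_mul (X.residue ξ).hom]
    exact divFun_mul δ ξ h1 h2 x
  · simp only [Cyc.secDivFun]
    rw [dif_neg fun hh => h hh.1, dif_neg fun hh => h hh.1, dif_neg fun hh => h hh.1]
    rfl

end Groth.Agent.H3Cyc.C1Api
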