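import Groth.Agent.H3Cyc.SplitTools
import Mathlib

/-!
# Extensions with an invertible submodule
-/

set_option autoImplicit false
set_option linter.style.haveILetI false
set_option linter.unusedSectionVars false
set_option backward.isDefEq.respectTransparency.types false
universe u

open CategoryTheory CategoryTheory.Limits AlgebraicGeometry
open Groth.Agent.H3Cyc.Tot

noncomputable section

namespace Groth.Agent.H3Cyc.SplitChern

theorem es_concat {R : Type*} [Semiring R] (l : R) : ∀ (xs : List R) (j : ℕ),
    ESym.es (xs ++ [l]) (j + 1) = ESym.es xs (j + 1) + ESym.es xs j * l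
  | [], 0 => by simp [ESym.es_cons_succ]
  | [], j + 1 => by simp [ESym.es_cons_succ]
  | x :: xs, 0 => by
    rw [List.cons_append, ESym.es_cons_succ, es_concat l xs 0, ESym.es_cons_succ]
    simp only [ESym.es_zero, mul_one, one_mul]
    abel
  | x :: xs, j + 1 => by
    rw [List.cons_append, ESym.es_cons_succ, es_concat l xs (j + 1), es_concat l xs j, ESym.es_cons_succ,
      ESym.es_cons_succ, mul_add, add_mul, mul_assoc]
    abel

theorem filt_single {X : Scheme.{u}} {L : X.Modules} (hL : PicF.IsInvertible L) : Filt.Filt L [L] := by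
  obtain ⟨Z, hZ⟩ : ∃ Z : X.Modules, IsZero Z := ⟨_, isZero_zero _⟩
  refine .cons (0 : Z ⟶ L) (𝟙 L) zero_comp ?_ inferInstance hL (.zero hZ)
  rw [ShortComplex.exact_iff_mono _ rfl]
  infer_instance

section

variable {X Y : Scheme.{u}} {δ : X → ℤ} {δY : Y → ℤ} {hX : Cyc.IsSetup X δ} {hY : Cyc.IsSetup Y δY} {π : Y ⟶ X}
  [Flat π] {d : ℤ} {hd : FlatRat.MaxDim π δY δ d}

/-- The filtration of an extension of `F` by `L` after pulling back. -/
theorem filt_sub {L E F : X.Modules} (hL : PicF.IsInvertible L) {a : L ⟶ E} {b : E ⟶ F} {w : a ≫ b = 0}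
    (hex : (ShortComplex.mk a b w).ShortExact) {m : ℕ} (hF : FlatMod.IsFinLocFreeOfRank m F) (π : Y ⟶ X)
    {ls : List Y.Modules} (hls : Filt.Filt ((Scheme.Modules.pullback π).obj F) ls) :
    Filt.Filt ((Scheme.Modules.pullback π).obj E) (ls ++ [(Scheme.Modules.pullback π).obj L]) :=
  filt_pull_concat hex hF π (filt_single (H11Ample.isInvertible_pullback π hL)) hls

end

end Groth.Agent.H3Cyc.SplitChern
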