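import Groth.Agent.H3Cyc.SplitTools
import Groth.Agent.H3Cyc.SubLine
import Groth.Agent.H3Cyc.ESymShift
import Groth.Agent.H3Cyc.C1Tensor
import Groth.Agent.H16Derived.KFlat.SheafTensor
import Groth.Agent.H16Derived.KFlat.LocFreeOps
import Groth.Agent.H10Coh.TensorBasics
import Groth.Agent.S11747
import Mathlib

/-!
# Chern roots of tensor products
-/

set_option autoImplicit false
set_option linter.style.haveILetI false
set_option linter.unusedSectionVars false
set_option backward.isDefEq.respectTransparency.types false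
universe u

open CategoryTheory CategoryTheory.Limits AlgebraicGeometry
open Groth.Agent.H3Cyc.Tot

noncomputable section

namespace Groth.Agent.H3Cyc.Filt

variable {X Y : Scheme.{u}}

theorem cc_tensor {δ : X → ℤ} (hX : Cyc.IsSetup X δ) {L N : X.Modules} (hL : PicF.IsInvertible L)
    (hN : PicF.IsInvertible N) : cc hX (CohB1.tensorMod L N) = cc hX L + cc hX N := by
  haveI := hX.1
  have hLN := H11Ample.isInvertible_tensor hL hN
  refine AddMonoidHom.ext fun f => funext fun k => ?_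
  rw [cc_eq hX hLN, cc_eq hX hL, cc_eq hX hN]
  refine (Tot.C1_apply hX hLN f (rfl : k + 1 = k + 1)).trans ?_
  show _ = C1 hX hL f k + C1 hX hN f k
  rw [show C1 hX hL f k = _ from Tot.C1_apply hX hL f (rfl : k + 1 = k + 1),
    show C1 hX hN f k = _ from Tot.C1_apply hX hN f (rfl : k + 1 = k + 1)]
  obtain ⟨α, hα, hαe⟩ := Chow.exists_cl (f (k + 1))
  choose σ hσ hσv using fun ξ => C1Api.exists_tensor_section (δ := δ) hL hN ξ (Chow.sec hL ξ) (Chow.sec hN ξ)
    (Chow.sec_ne_zero hL ξ) (Chow.sec_ne_zero hN ξ)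
  obtain ⟨a, haf, ha⟩ := C1Api.exists_c1Cap_cycle hX.2.2 hL k α hα (Chow.sec hL) (Chow.sec_ne_zero hL)
  obtain ⟨b, hbf, hb⟩ := C1Api.exists_c1Cap_cycle hX.2.2 hN k α hα (Chow.sec hN) (Chow.sec_ne_zero hN)
  rw [← hαe, Chow.c1_cl hX hL rfl α hα _ (Chow.sec_ne_zero hL) a ha haf,
    Chow.c1_cl hX hN rfl α hα _ (Chow.sec_ne_zero hN) b hb hbf,
    Chow.c1_cl hX hLN rfl α hα σ hσ (a + b) ((ChowOps.zk X δ k).add_mem ha hb) ?_]
  · exact map_add (ChowOps.clHom X δ k) ⟨a, ha⟩ ⟨b, hb⟩
  · funext x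
    show a x + b x = _
    rw [haf, hbf]
    show _ = ∑ᶠ ξ, α ξ * _
    refine ((finsum_add_distrib (C1Api.finite_support_term α x _ fun ξ h => C1Api.secDivFun_ne_zero h)
      (C1Api.finite_support_term α x _ fun ξ h => C1Api.secDivFun_ne_zero h)).symm).trans ?_
    exact finsum_congr fun ξ => by rw [hσv, mul_add]

theorem isFlat_invertible {L : X.Modules} (hL : PicF.IsInvertible L) : FlatMod.IsFlat L :=
  H16Derived.KFlat.Stalk.isFlat_of_isFinLocFree
    (H22Alg.KPullLam.finLocFree_of_rank (H22Alg.PB.rank_one_of_isInvertible hL))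

theorem tensorBi_obj (A B : X.Modules) : ((DCoh.tensorBi (X := X)).obj A).obj B = CohB1.tensorMod A B := rfl

theorem SFilt.map {F : X.Modules ⥤ X.Modules} [F.Additive] {E : X.Modules} {ls : List X.Modules} (h : SFilt E ls)
    (hF : ∀ L, PicF.IsInvertible L → PicF.IsInvertible (F.obj L))
    (hS : ∀ (S : ShortComplex X.Modules), S.ShortExact → PicF.IsInvertible S.X₃ → (S.map F).ShortExact) :
    SFilt (F.obj E) (ls.map F.obj) := by
  induction h with
  | zero h => exact .zero (F.map_isZero h)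
  | cons a b w hex hL hM ih =>
    exact .cons (F.map a) (F.map b) (by rw [← F.map_comp, w, F.map_zero]) (hS _ hex hL) (hF _ hL) ih

theorem SFilt.tensor {E : X.Modules} {ls : List X.Modules} (h : SFilt E ls) {N : X.Modules}
    (hN : PicF.IsInvertible N) : SFilt (CohB1.tensorMod N E) (ls.map (CohB1.tensorMod N)) := by
  have := h.map (F := (DCoh.tensorBi (X := X)).obj N)
    (fun L hL => by rw [tensorBi_obj]; exact H11Ample.isInvertible_tensor hN hL)
    (fun S hS h3 => H16Derived.KFlat.Stalk.shortExact_tensor_of_isFlat N hS (isFlat_invertible h3))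
  rw [tensorBi_obj] at this
  have e : ((DCoh.tensorBi (X := X)).obj N).obj = CohB1.tensorMod N := funext fun B => tensorBi_obj N B
  rw [e] at this
  exact this

/-- The filtration of a tensor product of filtered modules. -/
theorem filt_tensor {E : X.Modules} {lE : List X.Modules} (hE : SFilt E lE) {F : X.Modules} {lF : List X.Modules}
    (hF : SFilt F lF) : Filt (CohB1.tensorMod E F) (lF.flatMap fun N => lE.map (CohB1.tensorMod N)) := by
  haveI := H10Coh.SheafHom.hasSheafHom E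
  haveI : ((DCoh.tensorBi (X := X)).obj E).IsLeftAdjoint := inferInstance
  induction hF with
  | @zero F h => exact .zero (((DCoh.tensorBi (X := X)).obj E).map_isZero h)
  | @cons M F N ls a b w hex hN hM ih =>
    rw [List.flatMap_cons]
    have hS := H16Derived.KFlat.Stalk.shortExact_tensor_of_isFlat E hex (isFlat_invertible hN)
    have h2 : Filt (CohB1.tensorMod E N) (lE.map (CohB1.tensorMod N)) :=
      (hE.tensor hN).toFilt.of_iso (H10Coh.Tw.commIso N E)
    rw [← tensorBi_obj] at h2 ih ⊢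
    exact Filt.concat hS ih h2

end Groth.Agent.H3Cyc.Filt

namespace Groth.Agent.H3Cyc.SplitChern

variable {Y : Scheme.{u}} {δY : Y → ℤ} (hY : Cyc.IsSetup Y δY)

/-- The ring generated by the operators `c₁`. -/
abbrev CC : Subring (AddMonoid.End (T Y δY)) := Subring.closure (Set.range (Filt.cc hY))

instance : CommRing (CC hY) :=
  { (inferInstance : Ring (CC hY)) with
    mul_comm := fun x y => (Subring.isMulCommutative_closure (s := Set.range (Filt.cc hY)) (by
      rintro _ ⟨L, rfl⟩ _ ⟨N, rfl⟩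
      exact Filt.cc_comm hY L N)).is_comm.comm x y }

/-- `c₁(L)` in the commutative ring. -/
def ccr (L : Y.Modules) : CC hY := ⟨Filt.cc hY L, Subring.subset_closure ⟨L, rfl⟩⟩

theorem coe_es (l : List Y.Modules) (j : ℕ) :
    ((ESym.es (l.map (ccr hY)) j : CC hY) : AddMonoid.End (T Y δY)) = ESym.es (l.map (Filt.cc hY)) j := by
  let g : CC hY →+* AddMonoid.End (T Y δY) :=
    { toFun := Subtype.val, map_one' := rfl, map_mul' := fun _ _ => rfl, map_zero' := rfl, map_add' := fun _ _ => rfl }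
  refine (ESym.map_es g (l.map (ccr hY)) j).trans ?_
  rw [List.map_map]
  rfl

theorem ccr_tensor {L N : Y.Modules} (hL : PicF.IsInvertible L) (hN : PicF.IsInvertible N) :
    ccr hY (CohB1.tensorMod L N) = ccr hY L + ccr hY N := Subtype.ext (Filt.cc_tensor hY hL hN)

variable {X : Scheme.{u}} {δ : X → ℤ}

theorem sg_c1pow (hX : Cyc.IsSetup X δ) {L : X.Modules} (hL : PicF.IsInvertible L) {q q' : ℤ} (m : ℕ)
    {a b : AlgebraicCycle X ℤ} (ha : a ∈ Cyc.Zk X δ q) (h : q = q' + m) (hb : b ∈ Cyc.Zk X δ q')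
    (t : ℕ → (ξ : X) → Cyc.secFibre L ξ) (ht : ∀ i ξ, t i ξ ≠ 0) (hfun : ⇑b = Cyc.c1PowFun δ L t m ⇑a) :
    sg b hb = (Filt.cc hX L ^ m) (sg a ha) := by
  obtain ⟨c, hc, hcf, hce⟩ := Chow.c1pow_cl hX hL m h a ha t ht
  funext l
  rw [Filt.cc_eq hX hL, Tot.C1_pow_apply hX hL (sg a ha) m (rfl : l + (m : ℤ) = l + m)]
  by_cases hl : l = q'
  · subst hl
    subst h
    rw [sg, sg, Tot.single_apply, Tot.single_apply, hce]
    exact Chow.cl_congr _ _ (hfun.trans hcf.symm)
  · rw [sg, sg, Pi.single_eq_of_ne hl, Pi.single_eq_of_ne (by omega), map_zero]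

theorem c1Pow_mem (hX : Cyc.IsSetup X δ) {L : X.Modules} (hL : PicF.IsInvertible L) {q q' : ℤ} (m : ℕ)
    {a b : AlgebraicCycle X ℤ} (ha : a ∈ Cyc.Zk X δ q) (h : q = q' + m)
    (t : ℕ → (ξ : X) → Cyc.secFibre L ξ) (ht : ∀ i ξ, t i ξ ≠ 0) (hfun : ⇑b = Cyc.c1PowFun δ L t m ⇑a) :
    b ∈ Cyc.Zk X δ q' := by
  obtain ⟨c, hc, hcf, -⟩ := Chow.c1pow_cl hX hL m h a ha t ht
  rwa [DFunLike.coe_injective (hfun.trans hcf.symm)]

theorem Pull_cc_pow {hX : Cyc.IsSetup X δ} {f : Y ⟶ X} [Flat f] {r : ℤ} (hr : FlatRat.MaxDim f δY δ r)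
    {L : X.Modules} (hL : PicF.IsInvertible L) (m : ℕ) (a : T X δ) :
    Tot.Pull f hY hX hr ((Filt.cc hX L ^ m) a) =
      (Filt.cc hY ((Scheme.Modules.pullback f).obj L) ^ m) (Tot.Pull f hY hX hr a) := by
  rw [Filt.cc_eq hX hL, Filt.cc_eq hY (H11Ample.isInvertible_pullback f hL)]
  exact Tot.Pull_C1_pow f hY hX hr hL _ m a

end Groth.Agent.H3Cyc.SplitChern
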