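import Groth.Agent.H3Cyc.SFilt
import Groth.Agent.H3Cyc.FiltList
import Groth.Agent.H3Cyc.TensorFilt
import Groth.Agent.H3Cyc.SplitTools
import Groth.Agent.H3Cyc.ESymShift
import Groth.Agent.H22Alg.KLFRes
import Groth.Agent.H23KS.DualSum
import Groth.Agent.H29Omega.ConormalDiffStalk
import Groth.Agent.H29Omega.ConormalSplit
import Groth.Agent.H29Ref.DualStalk
import Mathlib

/-!
# Filtrations and Chern roots of duals
-/

set_option autoImplicit false
set_option linter.style.haveILetI false
set_option linter.unusedSectionVars false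
set_option linter.dupNamespace false
set_option backward.isDefEq.respectTransparency.types false
universe u

open CategoryTheory CategoryTheory.Limits AlgebraicGeometry
open Groth.Agent.H06Mod (stalkLin)
open ZeroObject

noncomputable section

namespace Groth.Agent.H3Cyc.Filt

variable {X : Scheme.{u}}

theorem isFP (E : X.Modules) (hE : FlatMod.IsFinLocFree E) : CohB1.IsFP E :=
  H8Props.FinLocFree.isFP_of_isFinLocFree E hE

/-- The transpose on stalks. -/
theorem dualEquiv_dualMap {E F : X.Modules} (hE : CohB1.IsFP E) (hF : CohB1.IsFP F) (φ : E ⟶ F) (x : X)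
    (θ : (RefHull.dual F).presheaf.stalk x) :
    H29Ref.dualEquiv E hE x (stalkLin (RefFun.dualMap φ) x θ) =
      (H29Ref.dualEquiv F hF x θ).comp (stalkLin φ x) := by
  obtain ⟨U, hx, g, rfl⟩ := TopCat.Presheaf.exists_germ_eq (RefHull.dual F).presheaf θ
  refine LinearMap.ext fun v => ?_
  rw [H06Mod.stalkLin_germ, LinearMap.comp_apply, H29Ref.dualEquiv_apply, H29Ref.dualEquiv_apply,
    RefHull.evalStalk_germ, RefHull.evalStalk_germ]
  rfl

/-- Duals of short exact sequences of locally free modules. -/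
theorem dual_shortExact {E₁ E E₂ : X.Modules} (a : E₁ ⟶ E) (b : E ⟶ E₂) (w : a ≫ b = 0)
    (hex : (ShortComplex.mk a b w).ShortExact) (h₁ : FlatMod.IsFinLocFree E₁) (h : FlatMod.IsFinLocFree E)
    (h₂ : FlatMod.IsFinLocFree E₂) :
    ∃ w' : RefFun.dualMap b ≫ RefFun.dualMap a = 0,
      (ShortComplex.mk (RefFun.dualMap b) (RefFun.dualMap a) w').ShortExact := by
  have w' : RefFun.dualMap b ≫ RefFun.dualMap a = 0 := by
    rw [← RefFun.dualMap_comp, w, H23KS.dualMap_zero]
  refine ⟨w', ?_⟩
  have key : ∀ x : X, Function.Surjective (stalkLin b x) ∧ Function.Exact (stalkLin a x) (stalkLin b x) ∧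
      Function.Injective (stalkLin a x) := fun x => ⟨H06Mod.stalk_surjective _ hex x, H06Mod.stalk_exact _ hex x, H06Mod.stalk_injective _ hex x⟩
  haveI : Mono (RefFun.dualMap b) := H29Omega.mono_of_injective_stalkLin _ fun x => by
    refine (injective_iff_map_eq_zero _).mpr fun θ hθ => ?_
    have e := dualEquiv_dualMap (isFP E h) (isFP E₂ h₂) b x θ
    rw [hθ, map_zero] at e
    refine (H29Ref.dualEquiv E₂ (isFP E₂ h₂) x).injective ?_
    rw [map_zero]
    refine LinearMap.ext fun v => ?_
    obtain ⟨u, rfl⟩ := (key x).1 v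
    exact (DFunLike.congr_fun e u).symm
  haveI : Epi (RefFun.dualMap a) := H29Omega.epi_of_surjective_stalkLin _ fun x θ => by
    haveI := H8Props.FinLocFree.free_stalk E₂ h₂ x
    obtain ⟨s, hs⟩ := Module.projective_lifting_property (stalkLin b x) LinearMap.id (key x).1
    let d : E.presheaf.stalk x →ₗ[X.presheaf.stalk x] E.presheaf.stalk x := LinearMap.id - s.comp (stalkLin b x)
    have hd : ∀ v, d v ∈ LinearMap.range (stalkLin a x) := fun v => by
      rw [← (LinearMap.exact_iff.mp (key x).2.1)]
      show stalkLin b x (v - s (stalkLin b x v)) = 0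
      rw [map_sub]
      exact sub_eq_zero.mpr (DFunLike.congr_fun hs _).symm
    let r : E.presheaf.stalk x →ₗ[X.presheaf.stalk x] E₁.presheaf.stalk x :=
      (LinearEquiv.ofInjective (stalkLin a x) (key x).2.2).symm.toLinearMap.comp (d.codRestrict _ hd)
    refine ⟨(H29Ref.dualEquiv E (isFP E h) x).symm ((H29Ref.dualEquiv E₁ (isFP E₁ h₁) x θ).comp r), ?_⟩
    refine (H29Ref.dualEquiv E₁ (isFP E₁ h₁) x).injective ?_
    rw [dualEquiv_dualMap (isFP E₁ h₁) (isFP E h), LinearEquiv.apply_symm_apply]
    refine LinearMap.ext fun v => congrArg (H29Ref.dualEquiv E₁ (isFP E₁ h₁) x θ) ?_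
    refine (LinearEquiv.ofInjective (stalkLin a x) (key x).2.2).symm_apply_eq.mpr (Subtype.ext ?_)
    show stalkLin a x v - s (stalkLin b x (stalkLin a x v)) = stalkLin a x v
    rw [(key x).2.1.apply_apply_eq_zero, map_zero, sub_zero]
  refine { exact := H29Omega.exact_of_stalks _ fun x θ hθ => ?_ }
  have e := dualEquiv_dualMap (isFP E₁ h₁) (isFP E h) a x θ
  rw [show stalkLin (RefFun.dualMap a) x θ = 0 from hθ, map_zero] at e
  have hker : LinearMap.ker (stalkLin b x) ≤ LinearMap.ker (H29Ref.dualEquiv E (isFP E h) x θ) := fun v hv => by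
    obtain ⟨u, rfl⟩ := ((key x).2.1 v).mp hv
    exact (DFunLike.congr_fun e u).symm
  let l := ((LinearMap.ker (stalkLin b x)).liftQ _ hker).comp
    ((stalkLin b x).quotKerEquivOfSurjective (key x).1).symm.toLinearMap
  refine ⟨(H29Ref.dualEquiv E₂ (isFP E₂ h₂) x).symm l, ?_⟩
  refine (H29Ref.dualEquiv E (isFP E h) x).injective ?_
  rw [dualEquiv_dualMap (isFP E h) (isFP E₂ h₂), LinearEquiv.apply_symm_apply]
  refine LinearMap.ext fun v => ?_
  show (LinearMap.ker (stalkLin b x)).liftQ _ hker
    (((stalkLin b x).quotKerEquivOfSurjective (key x).1).symm (stalkLin b x v)) = _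
  rw [show ((stalkLin b x).quotKerEquivOfSurjective (key x).1).symm (stalkLin b x v) = Submodule.Quotient.mk v from
    (LinearEquiv.symm_apply_eq _).mpr rfl]
  rfl

theorem SFilt.finLocFree [IsLocallyNoetherian X] {E : X.Modules} {ls : List X.Modules} (h : SFilt E ls) : FlatMod.IsFinLocFree E := by
  induction h with
  | zero h => exact H22Alg.KModel.finLocFree_zero h
  | cons a b w hex hL hM ih =>
    exact H22Alg.KLFRes.finLocFree_mid hex ih (H22Alg.KPullLam.finLocFree_of_rank (H22Alg.PB.rank_one_of_isInvertible hL))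

/-- The dual of a filtered bundle is filtered by the duals, in the opposite order. -/
theorem SFilt.dual [IsLocallyNoetherian X] {E : X.Modules} {ls : List X.Modules} (h : SFilt E ls) :
    Filt (RefHull.dual E) (ls.map RefHull.dual).reverse := by
  induction h with
  | zero h => exact .zero (H23KS.isZero_dual h)
  | @cons M E L ls a b w hex hL hM ih =>
    have h₂ : FlatMod.IsFinLocFree L := H22Alg.KPullLam.finLocFree_of_rank (H22Alg.PB.rank_one_of_isInvertible hL)
    obtain ⟨w', hd⟩ := dual_shortExact a b w hex hM.finLocFree (SFilt.cons a b w hex hL hM).finLocFree h₂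
    rw [List.map_cons, List.reverse_cons]
    have hLd := H8Props.DivisorSection.isInvertible_dual hL
    have h₁ : Filt (RefHull.dual L) [RefHull.dual L] :=
      (SFilt.cons (0 : (0 : X.Modules) ⟶ RefHull.dual L) (𝟙 (RefHull.dual L)) (by simp)
        { exact := (ShortComplex.exact_iff_mono _ rfl).mpr (show Mono (𝟙 (RefHull.dual L)) from inferInstance) } hLd
        (.zero (isZero_zero _))).toFilt
    exact Filt.concat hd h₁ ih

/-- `c₁(L^∨) = -c₁(L)`. -/
theorem cc_dual {δ : X → ℤ} (hX : Cyc.IsSetup X δ) {L : X.Modules} (hL : PicF.IsInvertible L) :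
    Filt.cc hX (RefHull.dual L) = -Filt.cc hX L := by
  have hd := H8Props.DivisorSection.isInvertible_dual hL
  obtain ⟨e⟩ := H25AbCube.isInverseOf_dual hL
  have h := SplitChern.cc_structureModule hX
  rw [← cc_congr hX e, cc_tensor hX hd hL] at h
  exact eq_neg_of_add_eq_zero_left h

end Groth.Agent.H3Cyc.Filt

namespace Groth.Agent.H3Cyc.ESym

theorem es_reverse {R : Type*} [CommSemiring R] (l : List R) (j : ℕ) : es l.reverse j = es l j := by
  rw [es_eq_esymm, es_eq_esymm, Multiset.coe_reverse]

theorem es_neg {R : Type*} [CommRing R] (l : List R) (j : ℕ) : es (l.map fun x => -x) j = (-1) ^ j * es l j := by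
  rw [es_eq_esymm, es_eq_esymm, ← Multiset.map_coe, Multiset.esymm_neg]

end Groth.Agent.H3Cyc.ESym
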