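import Groth.Agent.H3Cyc.GenStalk
import Groth.Agent.H22Alg.CycDiv
import Groth.Agent.H3CAlg.Recip.Assemble
import Groth.Agent.H11Ample.Ample
import Groth.Prelude.Def_C1
import Mathlib

/-!
# Orders of rational sections of invertible modules
-/

set_option autoImplicit false
set_option linter.style.haveILetI false
universe u

open AlgebraicGeometry CategoryTheory IsLocalRing Opposite
open Groth.Agent.H11Tilde (IsGen)

namespace Groth.Agent.H3Cyc.C1Api

variable {X : Scheme.{u}}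

theorem ordAt_mul (x z : X) (h : z ⤳ x) {a b : X.residueField z} (ha : a ≠ 0) (hb : b ≠ 0) :
    Cyc.ordAt x z h (a * b) = Cyc.ordAt x z h a + Cyc.ordAt x z h b :=
  H3CAlg.Recip.ordFrac_mul (R := Cyc.LocQuot x z h) ha hb

theorem ordAt_one (x z : X) (h : z ⤳ x) : Cyc.ordAt x z h (1 : X.residueField z) = 0 :=
  H3CAlg.Recip.ordFrac_one (K := X.residueField z) (Cyc.LocQuot x z h)

theorem ordAt_inv (x z : X) (h : z ⤳ x) {a : X.residueField z} (ha : a ≠ 0) :
    Cyc.ordAt x z h a⁻¹ = -Cyc.ordAt x z h a :=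
  H3CAlg.Recip.ordFrac_inv (R := Cyc.LocQuot x z h) ha

theorem ordAt_pow (x z : X) (h : z ⤳ x) {a : X.residueField z} (ha : a ≠ 0) (n : ℕ) :
    Cyc.ordAt x z h (a ^ n) = n * Cyc.ordAt x z h a :=
  H3CAlg.Recip.ordFrac_pow (R := Cyc.LocQuot x z h) ha n

theorem ordAt_zpow (x z : X) (h : z ⤳ x) {a : X.residueField z} (ha : a ≠ 0) (n : ℤ) :
    Cyc.ordAt x z h (a ^ n) = n * Cyc.ordAt x z h a := by
  obtain ⟨m, rfl | rfl⟩ := n.eq_nat_or_neg
  · rw [zpow_natCast, ordAt_pow x z h ha]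
  · rw [zpow_neg, zpow_natCast, ordAt_inv x z h (pow_ne_zero m ha), ordAt_pow x z h ha]
    ring

theorem divFun_mul (δ : X → ℤ) (z : X) {a b : X.residueField z} (ha : a ≠ 0) (hb : b ≠ 0) (x : X) :
    Cyc.divFun δ z (a * b) x = Cyc.divFun δ z a x + Cyc.divFun δ z b x := by
  simp only [Cyc.divFun]
  split_ifs with h
  · exact ordAt_mul x z h.1 ha hb
  · rfl

theorem divFun_zpow (δ : X → ℤ) (z : X) {a : X.residueField z} (ha : a ≠ 0) (n : ℤ) (x : X) :
    Cyc.divFun δ z (a ^ n) x = n * Cyc.divFun δ z a x := by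
  simp only [Cyc.divFun]
  split_ifs with h
  · exact ordAt_zpow x z h.1 ha n
  · rw [mul_zero]

theorem ordAt_specMap_unit (x z : X) (h : z ⤳ x) {a : X.presheaf.stalk x} (ha : IsUnit a) :
    Cyc.ordAt x z h (Cyc.specMap x z h a) = 0 := by
  have e1 : Cyc.specMap x z h a = algebraMap (Cyc.LocQuot x z h) (X.residueField z) (Ideal.Quotient.mk _ a) /
      algebraMap (Cyc.LocQuot x z h) (X.residueField z) 1 := by
    rw [map_one, div_one]; rfl
  unfold Cyc.ordAt
  rw [e1]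
  exact H22Alg.CycDiv.ordFrac_eq_zero_of_isUnit (ha.map _) isUnit_one

variable {L : X.Modules}

theorem stalkSpecializes_smul {x z : X} (h : z ⤳ x) (c : X.presheaf.stalk x) (m : L.presheaf.stalk x) :
    (L.presheaf.stalkSpecializes h) (c • m) = X.presheaf.stalkSpecializes h c • (L.presheaf.stalkSpecializes h) m := by
  obtain ⟨U, hU, a, rfl⟩ := X.presheaf.exists_germ_eq c
  obtain ⟨U', hU', b, rfl⟩ := L.presheaf.exists_germ_eq m
  have hW : x ∈ U ⊓ U' := ⟨hU, hU'⟩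
  have hzW : z ∈ U ⊓ U' := h.mem_open (U ⊓ U').2 hW
  rw [← TopCat.Presheaf.germ_res_apply X.presheaf (homOfLE inf_le_left : U ⊓ U' ⟶ U) x hW a,
    ← TopCat.Presheaf.germ_res_apply L.presheaf (homOfLE inf_le_right : U ⊓ U' ⟶ U') x hW b,
    ← H06Mod.germ_smul, TopCat.Presheaf.germ_stalkSpecializes_apply, TopCat.Presheaf.germ_stalkSpecializes_apply,
    TopCat.Presheaf.germ_stalkSpecializes_apply, H06Mod.germ_smul]

/-- The image of a generator in the fibre. -/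
noncomputable abbrev fib (L : X.Modules) {V : X.Opens} (z : X) (hz : z ∈ V) (e : Γ(L, V)) : Cyc.secFibre L z :=
  Submodule.Quotient.mk (L.presheaf.germ V z hz e)

theorem exists_smul_fib {V : X.Opens} {e : Γ(L, V)} (he : IsGen L e) {z : X} (hz : z ∈ V) (s : Cyc.secFibre L z) :
    ∃ φ : X.presheaf.stalk z, s = φ • fib L z hz e := by
  obtain ⟨m, rfl⟩ := Submodule.Quotient.mk_surjective _ s
  obtain ⟨φ, rfl⟩ := (he z hz).2 m
  exact ⟨φ, Submodule.Quotient.mk_smul _ _ _⟩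

theorem residue_eq_of_smul_eq {V : X.Opens} {e : Γ(L, V)} (he : IsGen L e) {z : X} (hz : z ∈ V)
    {φ ψ : X.presheaf.stalk z} (h : φ • fib L z hz e = ψ • fib L z hz e) : X.residue z φ = X.residue z ψ := by
  rw [fib, ← Submodule.Quotient.mk_smul, ← Submodule.Quotient.mk_smul, Submodule.Quotient.eq, ← sub_smul] at h
  obtain ⟨m, hm, hme⟩ : ∃ m ∈ maximalIdeal (X.presheaf.stalk z),
      m • L.presheaf.germ V z hz e = (φ - ψ) • L.presheaf.germ V z hz e := by
    have hspan : (⊤ : Submodule (X.presheaf.stalk z) (L.presheaf.stalk z)) =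
        Submodule.span (X.presheaf.stalk z) {L.presheaf.germ V z hz e} :=
      (Submodule.eq_top_iff'.mpr fun w => Submodule.mem_span_singleton.mpr ((he z hz).2 w)).symm
    rw [hspan, Submodule.mem_smul_span_singleton] at h
    exact h
  have e1 : m = φ - ψ := (he z hz).1 hme
  have e2 : X.residue z (φ - ψ) = 0 := (IsLocalRing.residue_eq_zero_iff _).mpr (e1 ▸ hm)
  rw [map_sub, sub_eq_zero] at e2
  exact e2

theorem residue_ne_zero_iff {V : X.Opens} {e : Γ(L, V)} (he : IsGen L e) {z : X} (hz : z ∈ V)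
    (φ : X.presheaf.stalk z) : φ • fib L z hz e ≠ 0 ↔ X.residue z φ ≠ 0 := by
  refine not_congr ⟨fun h => ?_, fun h => ?_⟩
  · exact (residue_eq_of_smul_eq he hz (h.trans (zero_smul _ _).symm)).trans (map_zero _)
  · rw [fib, ← Submodule.Quotient.mk_smul, Submodule.Quotient.mk_eq_zero]
    exact Submodule.smul_mem_smul ((IsLocalRing.residue_eq_zero_iff _).mp h) trivial

/-- The order of a rational section, computed with any local generator. -/
theorem secOrdAt_eq {V : X.Opens} {e : Γ(L, V)} (he : IsGen L e) {x ξ : X} (h : ξ ⤳ x) (hx : x ∈ V)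
    (φ : X.presheaf.stalk ξ) (hφ : X.residue ξ φ ≠ 0) :
    Cyc.secOrdAt L ξ x h (φ • fib L ξ (h.mem_open V.2 hx) e) = Cyc.ordAt x ξ h (X.residue ξ φ) := by
  classical
  have hξ : ξ ∈ V := h.mem_open V.2 hx
  have h1 : ∃ t : L.presheaf.stalk x, Submodule.span (X.presheaf.stalk x) {t} = ⊤ :=
    ⟨L.presheaf.germ V x hx e, Submodule.eq_top_iff'.mpr fun w => Submodule.mem_span_singleton.mpr ((he x hx).2 w)⟩
  obtain ⟨u, hu⟩ := (he x hx).2 h1.choose
  obtain ⟨v, hv⟩ := Submodule.mem_span_singleton.mp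
    (h1.choose_spec.symm ▸ Submodule.mem_top : L.presheaf.germ V x hx e ∈ Submodule.span (X.presheaf.stalk x) {h1.choose})
  have hvu : v * u = 1 := (he x hx).1 (by
    show (v * u) • L.presheaf.germ V x hx e = (1 : X.presheaf.stalk x) • L.presheaf.germ V x hx e
    rw [mul_smul, show u • L.presheaf.germ V x hx e = h1.choose from hu, hv, one_smul])
  have huu : IsUnit u := IsUnit.of_mul_eq_one_right _ hvu
  let sp := (X.presheaf.stalkSpecializes h).hom
  have hsp : (L.presheaf.stalkSpecializes h) h1.choose = sp u • L.presheaf.germ V ξ hξ e := by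
    rw [← hu, stalkSpecializes_smul, TopCat.Presheaf.germ_stalkSpecializes_apply]
  have hsv : sp v * sp u = 1 := by rw [← map_mul, hvu, map_one]
  have h2 : ∃ ψ : X.presheaf.stalk ξ, φ • fib L ξ hξ e =
      ψ • (Submodule.Quotient.mk ((L.presheaf.stalkSpecializes h) h1.choose) : Cyc.secFibre L ξ) :=
    ⟨φ * sp v, by rw [hsp, Submodule.Quotient.mk_smul, smul_smul, mul_assoc, hsv, mul_one]⟩
  rw [Cyc.secOrdAt, dif_pos h1, dif_pos h2]
  have hres : X.residue ξ φ = X.residue ξ (Classical.choose h2) * Cyc.specMap x ξ h u := by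
    show _ = X.residue ξ (Classical.choose h2) * X.residue ξ (sp u)
    rw [← map_mul]
    refine residue_eq_of_smul_eq he hξ ((h2.choose_spec.trans
      (congrArg (fun m => h2.choose • (Submodule.Quotient.mk m : Cyc.secFibre L ξ)) hsp)).trans ?_)
    rw [Submodule.Quotient.mk_smul, smul_smul]
  have hne : X.residue ξ (Classical.choose h2) ≠ 0 := fun e0 => hφ (by rw [hres, e0, zero_mul])
  rw [hres, ordAt_mul x ξ h hne fun e0 => hφ (by rw [hres, e0, mul_zero]), ordAt_specMap_unit x ξ h huu, add_zero]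

theorem secDivFun_gen {V : X.Opens} {e : Γ(L, V)} (he : IsGen L e) (δ : X → ℤ) {ξ : X} (hξ : ξ ∈ V)
    (φ : X.presheaf.stalk ξ) (hφ : X.residue ξ φ ≠ 0) {x : X} (hx : x ∈ V) :
    Cyc.secDivFun δ L ξ (φ • fib L ξ hξ e) x = Cyc.divFun δ ξ (X.residue ξ φ) x := by
  simp only [Cyc.secDivFun, Cyc.divFun]
  split_ifs with h
  · exact secOrdAt_eq he h.1 hx φ hφ
  · rfl

/-- Changing a rational section by a scalar adds its divisor. -/
theorem secDivFun_smul (hL : PicF.IsInvertible L) (δ : X → ℤ) {ξ : X} (c : X.presheaf.stalk ξ)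
    (hc : X.residue ξ c ≠ 0) (s : Cyc.secFibre L ξ) (hs : s ≠ 0) (x : X) :
    Cyc.secDivFun δ L ξ (c • s) x = Cyc.divFun δ ξ (X.residue ξ c) x + Cyc.secDivFun δ L ξ s x := by
  by_cases h : ξ ⤳ x
  · obtain ⟨V, e, hx, he⟩ := H11Ample.exists_gen hL x
    have hξ : ξ ∈ V := h.mem_open V.2 hx
    obtain ⟨φ, rfl⟩ := exists_smul_fib he hξ s
    have hφ := (residue_ne_zero_iff he hξ φ).mp hs
    rw [smul_smul, secDivFun_gen he δ hξ (c * φ) (by rw [map_mul]; exact mul_ne_zero hc hφ) hx,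
      secDivFun_gen he δ hξ φ hφ hx, map_mul, divFun_mul δ ξ hc hφ]
  · simp only [Cyc.secDivFun, Cyc.divFun]
    rw [dif_neg fun hh => h hh.1, dif_neg fun hh => h hh.1, dif_neg fun hh => h hh.1]
    rfl

theorem exists_smul_eq (hL : PicF.IsInvertible L) {ξ : X} (s s' : Cyc.secFibre L ξ) (hs : s ≠ 0) (hs' : s' ≠ 0) :
    ∃ c : X.presheaf.stalk ξ, X.residue ξ c ≠ 0 ∧ s' = c • s := by
  obtain ⟨V, e, hξ, he⟩ := H11Ample.exists_gen hL ξ
  obtain ⟨φ, rfl⟩ := exists_smul_fib he hξ s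
  obtain ⟨ψ, rfl⟩ := exists_smul_fib he hξ s'
  have hφ := (residue_ne_zero_iff he hξ φ).mp hs
  have hψ := (residue_ne_zero_iff he hξ ψ).mp hs'
  have hu : IsUnit φ := by
    by_contra hu
    exact hφ ((IsLocalRing.residue_eq_zero_iff _).mpr hu)
  refine ⟨ψ * (hu.unit⁻¹ : (X.presheaf.stalk ξ)ˣ), ?_, ?_⟩
  · rw [map_mul]
    exact mul_ne_zero hψ ((Units.isUnit _).map _).ne_zero
  · rw [smul_smul, mul_assoc, IsUnit.val_inv_mul, mul_one]

variable {δ : X → ℤ}

theorem finite_support_term [IsLocallyNoetherian X] (α : AlgebraicCycle X ℤ) (x : X) (F : X → ℤ)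
    (hF : ∀ ξ, F ξ ≠ 0 → ξ ⤳ x) : (Function.support fun ξ => α ξ * F ξ).Finite := by
  obtain ⟨W, hW, hxW, -⟩ := exists_isAffineOpen_mem_and_subset (show x ∈ (⊤ : X.Opens) from trivial)
  refine (α.locallyFiniteSupport.finite_inter_support_of_isCompact hW.isCompact).subset fun ξ hξ => ?_
  exact ⟨(hF ξ (right_ne_zero_of_mul hξ)).mem_open W.2 hxW, left_ne_zero_of_mul hξ⟩

theorem secDivFun_ne_zero {ξ x : X} {s : Cyc.secFibre L ξ} (h : Cyc.secDivFun δ L ξ s x ≠ 0) : ξ ⤳ x := by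
  by_contra hn
  exact h (by rw [Cyc.secDivFun, dif_neg fun hh => hn hh.1])

/-- A locally finite combination of principal divisors is rationally trivial. -/
theorem ratEquivZero_sum [IsLocallyNoetherian X] (k : ℤ) (α : AlgebraicCycle X ℤ) (hα : α ∈ Cyc.Zk X δ (k + 1))
    (c : (ξ : X) → X.residueField ξ) (hc : ∀ ξ, c ξ ≠ 0) (γ : AlgebraicCycle X ℤ)
    (hγ : ∀ x, γ x = ∑ᶠ ξ, α ξ * Cyc.divFun δ ξ (c ξ) x) : Cyc.RatEquivZero δ k γ := by
  classical
  refine ⟨{ξ : X // α ξ ≠ 0}, fun ξ => ξ.1, fun ξ => c ξ.1 ^ α ξ.1, fun ξ => ?_,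
    fun ξ => zpow_ne_zero _ (hc ξ.1), fun x => ?_, fun x => ?_⟩
  · by_contra hne
    exact ξ.2 (hα _ hne)
  · obtain ⟨W, hW, hxW, -⟩ := exists_isAffineOpen_mem_and_subset (show x ∈ (⊤ : X.Opens) from trivial)
    refine ⟨W, W.2, hxW, ((α.locallyFiniteSupport.finite_inter_support_of_isCompact hW.isCompact).preimage
      Subtype.val_injective.injOn).subset ?_⟩
    rintro ξ ⟨z, hz, hzW⟩
    exact ⟨(specializes_iff_mem_closure.mpr hz).mem_open W.2 hzW, ξ.2⟩
  · rw [hγ x]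
    simp only [divFun_zpow δ _ (hc _)]
    refine Eq.trans ?_ (finsum_set_coe_eq_finsum_mem (s := {ξ : X | α ξ ≠ 0})
      (f := fun ξ => α ξ * Cyc.divFun δ ξ (c ξ) x)).symm
    exact ((finsum_mem_inter_support_eq' (fun ξ => α ξ * Cyc.divFun δ ξ (c ξ) x) {ξ | α ξ ≠ 0} Set.univ fun ξ hξ =>
      ⟨fun _ => trivial, fun _ => left_ne_zero_of_mul hξ⟩).trans (finsum_mem_univ _)).symm

/-- Independence of `c₁(L) ∩ α` of the chosen rational sections. -/
theorem c1Cap_ratEquiv [IsLocallyNoetherian X] (hL : PicF.IsInvertible L) (k : ℤ) (α : AlgebraicCycle X ℤ)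
    (hα : α ∈ Cyc.Zk X δ (k + 1)) (s s' : (ξ : X) → Cyc.secFibre L ξ) (hs : ∀ ξ, s ξ ≠ 0) (hs' : ∀ ξ, s' ξ ≠ 0)
    (γ γ' : AlgebraicCycle X ℤ) (hγ : ⇑γ = Cyc.c1CapFun δ L ⇑α s) (hγ' : ⇑γ' = Cyc.c1CapFun δ L ⇑α s') :
    Cyc.RatEquiv δ k γ' γ := by
  choose c hc hcs using fun ξ => exists_smul_eq hL (s ξ) (s' ξ) (hs ξ) (hs' ξ)
  refine ratEquivZero_sum k α hα (fun ξ => X.residue ξ (c ξ)) hc _ fun x => ?_
  show γ' x - γ x = _
  rw [hγ, hγ', Cyc.c1CapFun, Cyc.c1CapFun, ← finsum_sub_distrib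
    (finite_support_term α x _ fun ξ => secDivFun_ne_zero) (finite_support_term α x _ fun ξ => secDivFun_ne_zero)]
  refine finsum_congr fun ξ => ?_
  rw [hcs ξ, secDivFun_smul hL δ (c ξ) (hc ξ) (s ξ) (hs ξ) x]
  ring

end Groth.Agent.H3Cyc.C1Api
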