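import Groth.Agent.H3Cyc.FlatDiv
import Mathlib

/-!
# Flat pullback and rational equivalence
-/

set_option autoImplicit false
set_option linter.style.haveILetI false
universe u

open AlgebraicGeometry CategoryTheory IsLocalRing
open scoped Pointwise

namespace Groth.Agent.H3Cyc.FlatRat

open FlatDiv

theorem length_quot_ringEquiv {R R' : Type u} [CommRing R] [CommRing R'] (e : R ≃+* R') (J : Ideal R) :
    Module.length R' (R' ⧸ J.map e.toRingHom) = Module.length R (R ⧸ J) := by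
  letI := e.toRingHom.toAlgebra
  let φ : R ≃ₐ[R] R' := AlgEquiv.ofRingEquiv (f := e) fun _ => rfl
  rw [← H22Alg.length_eq_of_smul_eq (A := R) (B := R') (M := R' ⧸ J.map e.toRingHom)
    fun b => ⟨e.symm b, fun m => by
      conv_rhs => rw [← algebraMap_smul R' (e.symm b) m]
      exact congrArg (fun c : R' => c • m) (e.apply_symm_apply b).symm⟩]
  exact (Ideal.quotientEquivAlg _ _ φ rfl).toLinearEquiv.length_eq.symm

theorem locLen_quot {A : Type u} [CommRing A] (p : PrimeSpectrum A) (I : Ideal A) :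
    H22Alg.locLen A (A ⧸ I) p = Module.length (Localization.AtPrime p.asIdeal)
      (Localization.AtPrime p.asIdeal ⧸ I.map (algebraMap A (Localization.AtPrime p.asIdeal))) := by
  let S := Localization.AtPrime p.asIdeal
  have h : (I : Submodule A A).localized' S p.asIdeal.primeCompl (Algebra.linearMap A S) = I.map (algebraMap A S) :=
    Ideal.localized'_eq_map S p.asIdeal.primeCompl I
  let g := (I : Submodule A A).toLocalizedQuotient' S p.asIdeal.primeCompl (Algebra.linearMap A S)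
  rw [← h]
  exact ((IsLocalizedModule.linearEquiv p.asIdeal.primeCompl
    (LocalizedModule.mkLinearMap p.asIdeal.primeCompl (A ⧸ I)) g).extendScalarsOfIsLocalization p.asIdeal.primeCompl S).length_eq

variable {X Y : Scheme.{u}}

/-- The multiplicity of the pullback at a point. -/
noncomputable abbrev mult (f : X ⟶ Y) (z : X) : ℕ :=
  (Module.length (X.presheaf.stalk z)
    (X.presheaf.stalk z ⧸ (maximalIdeal (Y.presheaf.stalk (f z))).map (f.stalkMap z).hom)).toNat

theorem length_loc {X : Scheme.{u}} (x z : X) (h : z ⤳ x) (I : Ideal (X.presheaf.stalk x)) {J : Ideal (X.presheaf.stalk z)}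
    (hI : I.map (X.presheaf.stalkSpecializes h).hom = J) :
    haveI := GenStalk.isPrime_ker x z h
    Module.length (Localization.AtPrime (RingHom.ker (Cyc.specMap x z h)))
      (Localization.AtPrime (RingHom.ker (Cyc.specMap x z h)) ⧸
        I.map (algebraMap (X.presheaf.stalk x) (Localization.AtPrime (RingHom.ker (Cyc.specMap x z h))))) =
      Module.length (X.presheaf.stalk z) (X.presheaf.stalk z ⧸ J) := by
  letI algA := (X.presheaf.stalkSpecializes h).hom.toAlgebra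
  haveI := GenStalk.isPrime_ker x z h
  haveI := GenStalk.isLocalization_stalkSpecializes x z h
  set p := RingHom.ker (Cyc.specMap x z h)
  let e := IsLocalization.algEquiv p.primeCompl (Localization.AtPrime p) (X.presheaf.stalk z)
  rw [← length_quot_ringEquiv e.toRingEquiv, Ideal.map_map, ← hI,
    show e.toRingEquiv.toRingHom.comp (algebraMap (X.presheaf.stalk x) (Localization.AtPrime p)) =
      (X.presheaf.stalkSpecializes h).hom from RingHom.ext fun c => e.commutes c]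

set_option maxHeartbeats 400000 in
theorem locLen_fibre (f : X ⟶ Y) {η : Y} (x z : X) (h : z ⤳ x) (hz : f z = η) (hη : η ⤳ f x) :
    haveI := GenStalk.isPrime_ker x z h
    H22Alg.locLen (X.presheaf.stalk x)
        (X.presheaf.stalk x ⧸ (RingHom.ker (Cyc.specMap (f x) η hη)).map (f.stalkMap x).hom)
        ⟨RingHom.ker (Cyc.specMap x z h), GenStalk.isPrime_ker x z h⟩ =
      Module.length (X.presheaf.stalk z)
        (X.presheaf.stalk z ⧸ (maximalIdeal (Y.presheaf.stalk (f z))).map (f.stalkMap z).hom) := by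
  subst hz
  haveI := GenStalk.isPrime_ker x z h
  rw [locLen_quot]
  refine length_loc x z h _ ?_
  letI algB := (Y.presheaf.stalkSpecializes hη).hom.toAlgebra
  haveI := GenStalk.isPrime_ker (f x) (f z) hη
  haveI := GenStalk.isLocalization_stalkSpecializes (f x) (f z) hη
  rw [← IsLocalization.AtPrime.map_eq_maximalIdeal (RingHom.ker (Cyc.specMap (f x) (f z) hη)) (Y.presheaf.stalk (f z)),
    Ideal.map_map, Ideal.map_map]
  congr 1
  refine RingHom.ext fun c => ?_
  exact (f.stalkSpecializes_stalkMap_apply z x h c).symm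

theorem mult_ne_top [IsLocallyNoetherian X] (f : X ⟶ Y) (z : X)
    (h : ∀ w : X, w ⤳ z → f z ⤳ f w → w = z) :
    Module.length (X.presheaf.stalk z)
      (X.presheaf.stalk z ⧸ (maximalIdeal (Y.presheaf.stalk (f z))).map (f.stalkMap z).hom) ≠ ⊤ := by
  set J := (maximalIdeal (Y.presheaf.stalk (f z))).map (f.stalkMap z).hom
  haveI : Ring.KrullDimLE 0 (X.presheaf.stalk z ⧸ J) := by
    refine Ring.krullDimLE_zero_iff.mpr fun I hI => ?_
    obtain ⟨hw, e⟩ := GenStalk.ker_specMap_fromSpecStalk z ⟨I.comap (Ideal.Quotient.mk J), hI.comap _⟩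
    have hJle : J ≤ I.comap (Ideal.Quotient.mk J) := fun a ha => by
      rw [Ideal.mem_comap, Ideal.Quotient.eq_zero_iff_mem.mpr ha]; exact I.zero_mem
    have hfw : f z ⤳ f (X.fromSpecStalk z ⟨I.comap (Ideal.Quotient.mk J), hI.comap _⟩) := by
      set w := X.fromSpecStalk z ⟨I.comap (Ideal.Quotient.mk J), hI.comap _⟩
      have hle : maximalIdeal (Y.presheaf.stalk (f z)) ≤
          RingHom.ker (Cyc.specMap (f z) (f w) (hw.map f.continuous)) := fun c hc => by
        refine (f.residueFieldMap w).hom.injective ?_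
        rw [map_zero, residueFieldMap_specMap f z w hw c]
        refine RingHom.mem_ker.mp ?_
        rw [← e]
        exact hJle (Ideal.mem_map_of_mem _ hc)
      have h3 := GenStalk.fromSpecStalk_eq (f z) (f w) (hw.map f.continuous)
      rw [show (⟨RingHom.ker (Cyc.specMap (f z) (f w) (hw.map f.continuous)), GenStalk.isPrime_ker _ _ _⟩ :
          PrimeSpectrum (Y.presheaf.stalk (f z))) = IsLocalRing.closedPoint _ from
        PrimeSpectrum.ext (le_antisymm (IsLocalRing.le_maximalIdeal (RingHom.ker_ne_top _)) hle),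
        Scheme.fromSpecStalk_closedPoint] at h3
      exact specializes_of_eq h3
    have h2 : (⟨I.comap (Ideal.Quotient.mk J), hI.comap _⟩ : PrimeSpectrum (X.presheaf.stalk z)) = IsLocalRing.closedPoint _ :=
      (X.fromSpecStalk z).isEmbedding.injective ((h _ hw hfw).trans Scheme.fromSpecStalk_closedPoint.symm)
    have h4 := Ideal.map_comap_of_surjective (Ideal.Quotient.mk J) Ideal.Quotient.mk_surjective I
    rw [← h4, show I.comap (Ideal.Quotient.mk J) = maximalIdeal _ from congrArg PrimeSpectrum.asIdeal h2]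
    refine (Ideal.map_eq_top_or_isMaximal_of_surjective (Ideal.Quotient.mk J) Ideal.Quotient.mk_surjective
      (maximalIdeal.isMaximal (X.presheaf.stalk z))).resolve_left fun htop => hI.ne_top ?_
    rw [← h4, show I.comap (Ideal.Quotient.mk J) = maximalIdeal _ from congrArg PrimeSpectrum.asIdeal h2, htop]
  haveI : IsArtinianRing (X.presheaf.stalk z ⧸ J) :=
    isArtinianRing_iff_isNoetherianRing_krullDimLE_zero.mpr ⟨inferInstance, inferInstance⟩
  have hl := Module.length_eq_of_surjective (S := X.presheaf.stalk z) (R := X.presheaf.stalk z ⧸ J)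
    (M := X.presheaf.stalk z ⧸ J) Ideal.Quotient.mk_surjective
  rw [hl]
  exact Module.length_ne_top

theorem isSMulRegular_quot {B A : Type u} [CommRing B] [CommRing A] (φ : B →+* A) (hφ : φ.Flat) (q : Ideal B)
    [q.IsPrime] (a : B) (ha : a ∉ q) : IsSMulRegular (A ⧸ q.map φ) (φ a) := by
  letI := φ.toAlgebra
  haveI : Module.Flat B A := hφ
  have h0 : IsSMulRegular (B ⧸ q) a := by
    intro u v huv
    change a • u = a • v at huv
    rw [Algebra.smul_def, Algebra.smul_def] at huv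
    exact mul_left_cancel₀ (fun e => ha (Ideal.Quotient.eq_zero_iff_mem.mp e)) huv
  have h1 := IsSMulRegular.of_flat_of_isBaseChange (TensorProduct.isBaseChange B (B ⧸ q) A) h0
  let e := (Algebra.TensorProduct.quotIdealMapEquivTensorQuot A q).toLinearEquiv
  intro u v huv
  refine e.injective (h1 ?_)
  show a • e u = a • e v
  rw [← algebraMap_smul A a (e u), ← algebraMap_smul A a (e v), ← map_smul, ← map_smul]
  exact congrArg e huv

variable [IsLocallyNoetherian X] [IsLocallyNoetherian Y]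

omit [IsLocallyNoetherian X] [IsLocallyNoetherian Y] in
theorem prime_quot_ker' (f : X ⟶ Y) {η : Y} (x : X) (hη : η ⤳ f x) (w : X) (hw : w ⤳ x)
    (hle : (RingHom.ker (Cyc.specMap (f x) η hη)).map (f.stalkMap x).hom ≤ RingHom.ker (Cyc.specMap x w hw)) :
    η ⤳ f w := by
  let q : PrimeSpectrum (Y.presheaf.stalk (f x)) := ⟨_, GenStalk.isPrime_ker (f x) η hη⟩
  let q' : PrimeSpectrum (Y.presheaf.stalk (f x)) := ⟨_, GenStalk.isPrime_ker (f x) (f w) (hw.map f.continuous)⟩
  have h1 : q ≤ q' := fun c hc => by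
    show c ∈ RingHom.ker (Cyc.specMap (f x) (f w) (hw.map f.continuous))
    refine RingHom.mem_ker.mpr ((f.residueFieldMap w).hom.injective ?_)
    rw [map_zero, residueFieldMap_specMap f x w hw c]
    exact RingHom.mem_ker.mp (hle (Ideal.mem_map_of_mem _ hc))
  have := ((PrimeSpectrum.le_iff_specializes q q').mp h1).map (Y.fromSpecStalk (f x)).continuous
  rw [GenStalk.fromSpecStalk_eq, GenStalk.fromSpecStalk_eq] at this
  exact this

theorem prime_quot_ker (f : X ⟶ Y) {η : Y} (x : X) (hη : η ⤳ f x) (w : X) (hw : w ⤳ x)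
    (hle : (RingHom.ker (Cyc.specMap (f x) η hη)).map (f.stalkMap x).hom ≤ RingHom.ker (Cyc.specMap x w hw)) :
    η ⤳ f w := by
  let q : PrimeSpectrum (Y.presheaf.stalk (f x)) := ⟨_, GenStalk.isPrime_ker (f x) η hη⟩
  let q' : PrimeSpectrum (Y.presheaf.stalk (f x)) := ⟨_, GenStalk.isPrime_ker (f x) (f w) (hw.map f.continuous)⟩
  have h1 : q ≤ q' := fun c hc => by
    show c ∈ RingHom.ker (Cyc.specMap (f x) (f w) (hw.map f.continuous))
    refine RingHom.mem_ker.mpr ((f.residueFieldMap w).hom.injective ?_)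
    rw [map_zero, residueFieldMap_specMap f x w hw c]
    exact RingHom.mem_ker.mp (hle (Ideal.mem_map_of_mem _ hc))
  have := ((PrimeSpectrum.le_iff_specializes q q').mp h1).map (Y.fromSpecStalk (f x)).continuous
  rw [GenStalk.fromSpecStalk_eq, GenStalk.fromSpecStalk_eq] at this
  exact this

omit [IsLocallyNoetherian X] [IsLocallyNoetherian Y] in
theorem ker_le_of_eq (f : X ⟶ Y) {η : Y} (x z : X) (h : z ⤳ x) (hz : f z = η) (hη : η ⤳ f x) :
    (RingHom.ker (Cyc.specMap (f x) η hη)).map (f.stalkMap x).hom ≤ RingHom.ker (Cyc.specMap x z h) := by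
  subst hz
  refine Ideal.map_le_iff_le_comap.mpr fun c hc => RingHom.mem_ker.mpr ?_
  rw [← residueFieldMap_specMap f x z h c, RingHom.mem_ker.mp hc]
  exact map_zero _

/-- **The order identity.** -/
theorem ord_identity (f : X ⟶ Y) [Flat f] (x : X) {η : Y} (hη : η ⤳ f x) (hx : f x ≠ η)
    (hgen : ∀ z : X, z ⤳ x → z ≠ x → η ⤳ f z → f z = η ∧ ∀ w : X, w ⤳ z → η ⤳ f w → w = z)
    (hdimY : ringKrullDim (Cyc.LocQuot (f x) η hη) ≤ 1)
    (T : Finset X) (hT : ∀ z, z ∈ T ↔ z ⤳ x ∧ z ≠ x ∧ f z = η)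
    (a : Y.presheaf.stalk (f x)) (ha : Cyc.specMap (f x) η hη a ≠ 0) :
    ((Ring.ord (Cyc.LocQuot (f x) η hη) (Ideal.Quotient.mk _ a)).toNat : ℤ) *
        ((Module.length (X.presheaf.stalk x) (X.presheaf.stalk x ⧸ (maximalIdeal (Y.presheaf.stalk (f x))).map (f.stalkMap x).hom)).toNat : ℤ) =
      ∑ z ∈ T.attach, (mult f z.1 : ℤ) *
        ((Ring.ord (Cyc.LocQuot x z.1 ((hT z.1).mp z.2).1) (Ideal.Quotient.mk _ (f.stalkMap x a))).toNat : ℤ) := by
  classical
  haveI := GenStalk.isPrime_ker (f x) η hη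
  let B := Y.presheaf.stalk (f x)
  let A := X.presheaf.stalk x
  set q : Ideal B := RingHom.ker (Cyc.specMap (f x) η hη)
  set φ := (f.stalkMap x).hom
  haveI : IsLocalHom φ := inferInstanceAs (IsLocalHom (f.stalkMap x).hom)
  have hflat : φ.Flat := Flat.stalkMap f x
  set I : Ideal A := q.map φ
  have hsupp : ∀ p : PrimeSpectrum A, p ∈ Module.support A (A ⧸ I) ↔ I ≤ p.asIdeal := fun p => by
    rw [Module.mem_support_iff_of_finite, Ideal.annihilator_quotient]
  have hcl : ∀ p : PrimeSpectrum A, X.fromSpecStalk x p = x → p.asIdeal = maximalIdeal A := fun p e =>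
    congrArg PrimeSpectrum.asIdeal (show p = IsLocalRing.closedPoint A from
      (X.fromSpecStalk x).isEmbedding.injective (e.trans Scheme.fromSpecStalk_closedPoint.symm))
  have hker : ∀ z (h : z ⤳ x), RingHom.ker (Cyc.specMap x z h) = maximalIdeal A → z = x := fun z h e => by
    have h2 := GenStalk.fromSpecStalk_eq x z h
    rw [show (⟨RingHom.ker (Cyc.specMap x z h), GenStalk.isPrime_ker x z h⟩ : PrimeSpectrum A) =
      IsLocalRing.closedPoint A from PrimeSpectrum.ext e, Scheme.fromSpecStalk_closedPoint] at h2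
    exact h2.symm
  have hpt : ∀ p : PrimeSpectrum A, I ≤ p.asIdeal → p.asIdeal ≠ maximalIdeal A →
      X.fromSpecStalk x p ∈ T ∧ ∀ p' : PrimeSpectrum A, I ≤ p'.asIdeal → p' ≤ p → p' = p := fun p hp hne => by
    obtain ⟨h, e⟩ := GenStalk.ker_specMap_fromSpecStalk x p
    have h1 : η ⤳ f (X.fromSpecStalk x p) := prime_quot_ker f x hη _ h (e ▸ hp)
    have h2 : X.fromSpecStalk x p ≠ x := fun e' => hne (hcl p e')
    obtain ⟨h3, h4⟩ := hgen _ h h2 h1
    refine ⟨(hT _).mpr ⟨h, h2, h3⟩, fun p' hp' hle => ?_⟩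
    obtain ⟨h', e'⟩ := GenStalk.ker_specMap_fromSpecStalk x p'
    exact (X.fromSpecStalk x).isEmbedding.injective (h4 _
      (((PrimeSpectrum.le_iff_specializes p' p).mp hle).map (X.fromSpecStalk x).continuous)
      (prime_quot_ker f x hη _ h' (e' ▸ hp')))
  have h1 : Module.supportDim A (A ⧸ I) ≤ 1 := by
    refine Order.krullDim_le_one_iff.mpr fun p => ?_
    by_cases hm : p.1.asIdeal = maximalIdeal A
    · refine Or.inr fun p' hp' => ?_
      show p'.1.asIdeal ≤ p.1.asIdeal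
      rw [hm]
      exact IsLocalRing.le_maximalIdeal p'.1.isPrime.ne_top
    · refine Or.inl fun p' hp' => ?_
      rw [show p' = p from Subtype.ext ((hpt p.1 ((hsupp _).mp p.2) hm).2 p'.1 ((hsupp _).mp p'.2) hp')]
  have hkey : ∀ z (h : z ⤳ x), f z = η → φ a ∉ RingHom.ker (Cyc.specMap x z h) := fun z h hz hmem => by
    have h2 := liftVal_specMap f x z h hz hη a
    rw [show Cyc.specMap x z h (f.stalkMap x a) = 0 from RingHom.mem_ker.mp hmem] at h2
    exact liftVal_ne_zero f z hz _ ha h2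
  have h0 : Module.supportDim A ((A ⧸ I) ⧸ φ a • (⊤ : Submodule A (A ⧸ I))) ≤ 0 := by
    refine Order.krullDim_nonpos_iff_forall_isMax.mpr fun p => ?_
    have hp : p.1.asIdeal = maximalIdeal A := by
      by_contra hne
      have hsub : I ≤ p.1.asIdeal := (hsupp _).mp
        (Module.support_subset_of_surjective _ (Submodule.mkQ_surjective _) p.2)
      obtain ⟨h, e⟩ := GenStalk.ker_specMap_fromSpecStalk x p.1
      refine hkey _ h ((hT _).mp (hpt p.1 hsub hne).1).2.2 ?_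
      rw [← e]
      have h3 := p.2
      rw [Module.mem_support_iff_of_finite] at h3
      refine h3 (Module.mem_annihilator.mpr fun w => ?_)
      obtain ⟨v, rfl⟩ := Submodule.mkQ_surjective _ w
      exact (Submodule.Quotient.mk_eq_zero _).mpr (Submodule.smul_mem_pointwise_smul v _ _ trivial)
    intro p' _
    show p'.1.asIdeal ≤ p.1.asIdeal
    rw [hp]
    exact IsLocalRing.le_maximalIdeal p'.1.isPrime.ne_top
  have hlen := H22Alg.length_quot_smul_eq_finsum h1 h0
  rw [show LinearMap.ker (LinearMap.lsmul A (A ⧸ I) (φ a)) = ⊥ from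
      LinearMap.ker_eq_bot.mpr (isSMulRegular_quot φ hflat q a fun e => ha (RingHom.mem_ker.mp e)),
    Module.length_bot, zero_add, finsum_mem_eq_finite_toFinset_sum _ (H22Alg.lowPrimes_finite h1)] at hlen
  have hsum : ∑ p ∈ (H22Alg.lowPrimes_finite h1).toFinset,
      Ring.ord (A ⧸ p.asIdeal) (Ideal.Quotient.mk p.asIdeal (φ a)) * H22Alg.locLen A (A ⧸ I) p =
      ∑ z ∈ T.attach, Ring.ord (Cyc.LocQuot x z.1 ((hT z.1).mp z.2).1) (Ideal.Quotient.mk _ (φ a)) *
        Module.length (X.presheaf.stalk z.1)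
          (X.presheaf.stalk z.1 ⧸ (maximalIdeal (Y.presheaf.stalk (f z.1))).map (f.stalkMap z.1).hom) := by
    refine Finset.sum_bij (fun p hp => ⟨X.fromSpecStalk x p, (hpt p ((hsupp _).mp ((Set.Finite.mem_toFinset _).mp hp).1)
        ((Set.Finite.mem_toFinset _).mp hp).2).1⟩) (fun p hp => Finset.mem_attach _ _)
      (fun p _ p' _ e => by
        have e' := congrArg Subtype.val e
        exact (X.fromSpecStalk x).isEmbedding.injective e') (fun z _ => ?_) (fun p hp => ?_)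
    · obtain ⟨h, hne, hz⟩ := (hT z.1).mp z.2
      exact ⟨⟨RingHom.ker (Cyc.specMap x z.1 h), GenStalk.isPrime_ker x z.1 h⟩,
        (Set.Finite.mem_toFinset _).mpr ⟨(hsupp _).mpr (ker_le_of_eq f x z.1 h hz hη), fun e => hne (hker _ h e)⟩,
        Subtype.ext (GenStalk.fromSpecStalk_eq x z.1 h)⟩
    · have key : ∀ (z : X) (h : z ⤳ x) (hz : f z = η) (J : PrimeSpectrum A), J.asIdeal = RingHom.ker (Cyc.specMap x z h) →
          Ring.ord (A ⧸ J.asIdeal) (Ideal.Quotient.mk J.asIdeal (φ a)) * H22Alg.locLen A (A ⧸ I) J =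
          Ring.ord (Cyc.LocQuot x z h) (Ideal.Quotient.mk _ (φ a)) *
            Module.length (X.presheaf.stalk z)
              (X.presheaf.stalk z ⧸ (maximalIdeal (Y.presheaf.stalk (f z))).map (f.stalkMap z).hom) := by
        rintro z h hz ⟨p, hp⟩ (rfl : p = _)
        rw [show H22Alg.locLen A (A ⧸ I) ⟨_, hp⟩ = _ from locLen_fibre f x z h hz hη]
      obtain ⟨h, e⟩ := GenStalk.ker_specMap_fromSpecStalk x p
      exact key _ _ ((hT _).mp (hpt p ((hsupp _).mp ((Set.Finite.mem_toFinset _).mp hp).1)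
        ((Set.Finite.mem_toFinset _).mp hp).2).1).2.2 p e
  have hfinT : ∀ z ∈ T.attach, Ring.ord (Cyc.LocQuot x z.1 ((hT z.1).mp z.2).1) (Ideal.Quotient.mk _ (φ a)) *
      Module.length (X.presheaf.stalk z.1)
        (X.presheaf.stalk z.1 ⧸ (maximalIdeal (Y.presheaf.stalk (f z.1))).map (f.stalkMap z.1).hom) ≠ ⊤ := fun z _ => by
    obtain ⟨h, hne, hz⟩ := (hT z.1).mp z.2
    haveI := GenStalk.isPrime_ker x z.1 h
    have hIp : I ≤ RingHom.ker (Cyc.specMap x z.1 h) := ker_le_of_eq f x z.1 h hz hη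
    haveI : Ring.KrullDimLE 1 (Cyc.LocQuot x z.1 h) := by
      refine Ring.krullDimLE_iff.mpr (le_trans ?_ h1)
      rw [Module.supportDim_quotient_eq_ringKrullDim]
      exact ringKrullDim_le_of_surjective _ (Ideal.Quotient.factor_surjective hIp)
    refine WithTop.mul_ne_top (Ring.ord_ne_top (mem_nonZeroDivisors_of_ne_zero fun e =>
      hkey _ h hz (Ideal.Quotient.eq_zero_iff_mem.mp e))) ?_
    exact mult_ne_top f z.1 fun w hw hfw => (hgen z.1 h hne (specializes_of_eq hz.symm)).2 w hw (hz ▸ hfw)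
  have hL : Module.length A ((A ⧸ I) ⧸ φ a • (⊤ : Submodule A (A ⧸ I))) =
      Ring.ord (Cyc.LocQuot (f x) η hη) (Ideal.Quotient.mk _ a) *
        Module.length A (A ⧸ (maximalIdeal B).map φ) := by
    have e1 : (φ a • (⊤ : Submodule A (A ⧸ I))) = Submodule.map (Submodule.mkQ I) (I ⊔ Ideal.span {φ a}) := by
      ext w
      rw [Submodule.mem_smul_pointwise_iff_exists, Submodule.map_sup, Submodule.mkQ_map_self, bot_sup_eq,
        Submodule.mem_map]
      constructor
      · rintro ⟨v, -, rfl⟩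
        obtain ⟨v, rfl⟩ := Submodule.mkQ_surjective _ v
        exact ⟨φ a * v, Ideal.mem_span_singleton.mpr (dvd_mul_right _ _), by rw [← map_smul]; rfl⟩
      · rintro ⟨v, hv, rfl⟩
        obtain ⟨c, rfl⟩ := Ideal.mem_span_singleton'.mp hv
        exact ⟨Submodule.mkQ I c, trivial, by rw [← map_smul, smul_eq_mul, mul_comm]⟩
    rw [e1, LinearEquiv.length_eq (Submodule.quotientQuotientEquivQuotient I (I ⊔ Ideal.span {φ a}) le_sup_left)]
    rw [show (I ⊔ Ideal.span {φ a} : Ideal A) = (q ⊔ Ideal.span {a}).map φ from by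
      rw [Ideal.map_sup, Ideal.map_span, Set.image_singleton],
      H22Alg.CycBasic.length_quot_map φ hflat]
    congr 1
    show Module.length B (B ⧸ (q ⊔ Ideal.span {a})) = Ring.ord (B ⧸ q) (Ideal.Quotient.mk q a)
    show _ = Module.length (B ⧸ q) ((B ⧸ q) ⧸ Ideal.span {Ideal.Quotient.mk q a})
    rw [← Module.length_eq_of_surjective (S := B) (R := B ⧸ q) (M := (B ⧸ q) ⧸ Ideal.span {Ideal.Quotient.mk q a})
      Ideal.Quotient.mk_surjective]
    have e2 : (Ideal.span {Ideal.Quotient.mk q a} : Ideal (B ⧸ q)) =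
        (Ideal.span {a}).map (Ideal.Quotient.mkₐ B q) := by
      rw [Ideal.map_span, Set.image_singleton]; rfl
    rw [e2]
    exact (DoubleQuot.quotQuotEquivQuotSupₐ B q (Ideal.span {a})).toLinearEquiv.length_eq.symm
  rw [hL, hsum] at hlen
  have h := congrArg ENat.toNat hlen
  rw [ENat.toNat_sum hfinT, ENat.toNat_mul] at h
  have h2 : ((_ : ℕ) : ℤ) = ((_ : ℕ) : ℤ) := congrArg Nat.cast h
  push_cast [ENat.toNat_mul] at h2
  rw [h2]
  exact Finset.sum_congr rfl fun z _ => mul_comm _ _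

omit [IsLocallyNoetherian Y] in
theorem ordAt_div' (x z : X) (h : z ⤳ x) (hdim : ringKrullDim (Cyc.LocQuot x z h) ≤ 1)
    (a b : X.presheaf.stalk x) (ha : Cyc.specMap x z h a ≠ 0) (hb : Cyc.specMap x z h b ≠ 0) :
    Cyc.ordAt x z h (Cyc.specMap x z h a / Cyc.specMap x z h b) =
      ((Ring.ord (Cyc.LocQuot x z h) (Ideal.Quotient.mk _ a)).toNat : ℤ) -
        ((Ring.ord (Cyc.LocQuot x z h) (Ideal.Quotient.mk _ b)).toNat : ℤ) := by
  haveI := GenStalk.isPrime_ker x z h
  haveI := GenStalk.isFractionRing_locQuot x z h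
  haveI : Ring.KrullDimLE 1 (Cyc.LocQuot x z h) := Ring.krullDimLE_iff.mpr hdim
  have e : ∀ c, Cyc.specMap x z h c =
      algebraMap (Cyc.LocQuot x z h) (X.residueField z) (Ideal.Quotient.mk _ c) := fun c => rfl
  unfold Cyc.ordAt
  rw [e a, e b]
  exact H22Alg.cycOrdFrac_div (R := Cyc.LocQuot x z h) (X.residueField z)
    (mem_nonZeroDivisors_of_ne_zero fun e => ha (Ideal.Quotient.eq_zero_iff_mem.mp e))
    (mem_nonZeroDivisors_of_ne_zero fun e => hb (Ideal.Quotient.eq_zero_iff_mem.mp e))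

/-- The relative dimension `c`: at points maximal in their fibre, `δX = δY + c`. -/
def MaxDim (f : X ⟶ Y) (δX : X → ℤ) (δY : Y → ℤ) (c : ℤ) : Prop :=
  ∀ x : X, (∀ y, f y = f x → y ⤳ x → y = x) → δX x = δY (f x) + c

omit [IsLocallyNoetherian X] [IsLocallyNoetherian Y] in
theorem maxDim_of_hasRelDim (f : X ⟶ Y) [LocallyOfFiniteType f] {r : ℕ} (hr : Cyc.HasRelDim f r)
    {δX : X → ℤ} {δY : Y → ℤ} (hδ : Cyc.DeltaCompat f δX δY) : MaxDim f δX δY r :=
  fun x hx => H22Alg.CycBasic.delta_eq_of_maximal f hr hδ x hx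

omit [IsLocallyNoetherian X] [IsLocallyNoetherian Y] in
/-- Every point has a generization which is maximal in its fibre. -/
theorem exists_maximal_fibre (f : X ⟶ Y) (x : X) :
    ∃ z : X, z ⤳ x ∧ f z = f x ∧ ∀ y, f y = f z → y ⤳ z → y = z := by
  set M := (maximalIdeal (Y.presheaf.stalk (f x))).map (f.stalkMap x).hom with hM
  haveI : IsLocalHom (f.stalkMap x).hom := inferInstance
  have hMle : M ≤ maximalIdeal (X.presheaf.stalk x) := Ideal.map_le_iff_le_comap.mpr fun c hc hu =>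
    hc ((isUnit_map_iff (f.stalkMap x).hom c).mp hu)
  obtain ⟨P, hP, -⟩ := Ideal.exists_minimalPrimes_le hMle
  obtain ⟨h, e⟩ := GenStalk.ker_specMap_fromSpecStalk x ⟨P, hP.1.1⟩
  have hpt : ∀ (w : X) (hw : w ⤳ x), M ≤ RingHom.ker (Cyc.specMap x w hw) ↔ f w = f x := fun w hw => by
    have hself : maximalIdeal (Y.presheaf.stalk (f x)) = RingHom.ker (Cyc.specMap (f x) (f x) specializes_rfl) := by
      ext c
      rw [GenStalk.mem_ker_iff, TopCat.Presheaf.stalkSpecializes_refl]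
      rfl
    refine ⟨fun hle => ?_, fun hfw => ?_⟩
    · rw [hM, hself] at hle
      exact ((hw.map f.continuous).antisymm (prime_quot_ker' f x specializes_rfl w hw hle)).eq
    · rw [hM, hself]
      exact ker_le_of_eq f x w hw hfw specializes_rfl
  refine ⟨_, h, (hpt _ h).mp (e ▸ hP.1.2), fun y hy hyz => ?_⟩
  obtain ⟨J, hJ, eJ⟩ := H22Alg.DeltaDim.exists_prime (hyz.trans h)
  have h1 : J ≤ ⟨P, hP.1.1⟩ := (PrimeSpectrum.le_iff_specializes _ _).mpr
    ((X.fromSpecStalk x).isEmbedding.isInducing.specializes_iff.mp (hJ.symm ▸ hyz))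
  have h2 : M ≤ J.asIdeal := eJ ▸ (hpt y (hyz.trans h)).mpr (hy.trans ((hpt _ h).mp (e ▸ hP.1.2)))
  rw [← hJ, show J = ⟨P, hP.1.1⟩ from PrimeSpectrum.ext (le_antisymm h1 (hP.2 ⟨J.isPrime, h2⟩ h1))]

omit [IsLocallyNoetherian X] [IsLocallyNoetherian Y] in
theorem delta_le_of_maxDim (f : X ⟶ Y) {δX : X → ℤ} {δY : Y → ℤ} (hX : Cyc.IsSetup X δX) {c : ℤ}
    (hc : MaxDim f δX δY c) (x : X) : δX x ≤ δY (f x) + c := by
  obtain ⟨z, hz, hfz, hmax⟩ := exists_maximal_fibre f x
  have h1 := H22Alg.DeltaDim.delta_le hX.2.2 hz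
  have h2 := hc z hmax
  rw [hfz] at h2
  omega

/-- The components of the preimage of `closure {η}`. -/
def Comp (f : X ⟶ Y) (δX : X → ℤ) (δY : Y → ℤ) (r : ℤ) (η : Y) : Set X :=
  {ξ | f ξ = η ∧ δX ξ = δY η + r}

omit [IsLocallyNoetherian X] [IsLocallyNoetherian Y] in
theorem eq_of_specializes (f : X ⟶ Y) {δX : X → ℤ} {δY : Y → ℤ} (hX : Cyc.IsSetup X δX)
    (hY : Cyc.IsSetup Y δY) {r : ℤ} (hr : MaxDim f δX δY r) {η : Y} {z w : X}
    (hz : δX z = δY η + r) (hw : w ⤳ z) (hfw : η ⤳ f w) : w = z := by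
  by_contra hne
  have h1 := (hX.2.2 _ _ hw hne).1
  have h2 := delta_le_of_maxDim f hX hr w
  have h3 := H22Alg.DeltaDim.delta_le hY.2.2 hfw
  omega

omit [IsLocallyNoetherian Y] in
theorem finite_comp_inter (f : X ⟶ Y) {δX : X → ℤ} {δY : Y → ℤ} (hX : Cyc.IsSetup X δX)
    (hY : Cyc.IsSetup Y δY) {r : ℤ} (hr : MaxDim f δX δY r) (η : Y)
    {W : X.Opens} (hW : IsAffineOpen W) : (Comp f δX δY r η ∩ (W : Set X)).Finite := by
  classical
  let C : Set ↥W := {w | η ⤳ f w.1}
  have hC : IsClosed C := by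
    simp only [C, specializes_iff_mem_closure]
    exact isClosed_closure.preimage (f.continuous.comp continuous_subtype_val)
  haveI : TopologicalSpace.NoetherianSpace ↥W := H22Alg.CycDiv.noetherianSpace_affine hW
  haveI : QuasiSober ↥W := W.isOpenEmbedding'.quasiSober
  haveI : TopologicalSpace.NoetherianSpace C := TopologicalSpace.NoetherianSpace.set C
  haveI : QuasiSober C := hC.isClosedEmbedding_subtypeVal.quasiSober
  have hfin : (genericPoints C).Finite :=
    genericPoints.finite TopologicalSpace.NoetherianSpace.finite_irreducibleComponents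
  refine (hfin.image (fun c : C => c.1.1)).subset ?_
  rintro z ⟨⟨hfz, hz⟩, hzW⟩
  refine ⟨⟨⟨z, hzW⟩, specializes_of_eq hfz.symm⟩, ?_, rfl⟩
  refine H17.mem_genericPoints_iff.mpr fun y hy => ?_
  exact Subtype.ext (Subtype.ext (eq_of_specializes f hX hY hr hz
    ((hy.map continuous_subtype_val).map continuous_subtype_val) y.2))

omit [IsLocallyNoetherian Y] in
theorem ordAt_pow {δ : X → ℤ} (hX : Cyc.IsDimFun X δ) (x z : X) (h : z ⤳ x)
    (hd : δ x + 1 = δ z) (g : X.residueField z) (hg : g ≠ 0) (n : ℕ) :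
    Cyc.ordAt x z h (g ^ n) = n * Cyc.ordAt x z h g := by
  haveI := GenStalk.isPrime_ker x z h
  haveI := GenStalk.isFractionRing_locQuot x z h
  haveI : Ring.KrullDimLE 1 (Cyc.LocQuot x z h) := Ring.krullDimLE_iff.mpr (by
    rw [H22Alg.DeltaDim.eq_ringKrullDim_locQuot hX h, show (δ z - δ x).toNat = 1 by omega])
  obtain ⟨a, b, hb, rfl⟩ := IsFractionRing.div_surjective (Cyc.LocQuot x z h) g
  have ha : a ∈ nonZeroDivisors _ := mem_nonZeroDivisors_of_ne_zero fun e => hg (by rw [e, map_zero, zero_div])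
  have key : ∀ (c : Cyc.LocQuot x z h), c ∈ nonZeroDivisors _ →
      ((Ring.ord (Cyc.LocQuot x z h) (c ^ n)).toNat : ℤ) = n * ((Ring.ord (Cyc.LocQuot x z h) c).toNat : ℤ) := by
    intro c hc
    rw [Ring.ord_pow hc, nsmul_eq_mul, ENat.toNat_mul, ENat.toNat_natCast]
    push_cast
    rfl
  unfold Cyc.ordAt
  rw [div_pow, ← map_pow, ← map_pow, H22Alg.cycOrdFrac_div _ (pow_mem ha n) (pow_mem hb n),
    H22Alg.cycOrdFrac_div _ ha hb, key a ha, key b hb, mul_sub]

/-- **Flat pullback of a principal divisor, general form.** -/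
theorem pullFun_divFun_eq (f : X ⟶ Y) [Flat f] {δX : X → ℤ} {δY : Y → ℤ}
    (hX : Cyc.IsSetup X δX) (hY : Cyc.IsSetup Y δY) {r : ℤ} (hr : MaxDim f δX δY r) (η : Y) (g : Y.residueField η) (hg : g ≠ 0) (x : X) :
    Cyc.pullFun f δX δY r (Cyc.divFun δY η g) x =
      ∑ᶠ ξ : Comp f δX δY r η, Cyc.divFun δX ξ.1 (liftVal f ξ.1 ξ.2.1 g ^ mult f ξ.1) x := by
  classical
  have hle := delta_le_of_maxDim f hX hr
  have hR0 : ∀ ξ : Comp f δX δY r η, ¬ (ξ.1 ⤳ x ∧ δX x + 1 = δX ξ.1) →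
      Cyc.divFun δX ξ.1 (liftVal f ξ.1 ξ.2.1 g ^ mult f ξ.1) x = 0 := fun ξ h => by
    rw [Cyc.divFun, dif_neg h]
  by_cases hc : δX x + 1 = δY η + r ∧ η ⤳ f x
  swap
  · have hz : ∀ ξ : Comp f δX δY r η, Cyc.divFun δX ξ.1 (liftVal f ξ.1 ξ.2.1 g ^ mult f ξ.1) x = 0 := fun ξ =>
      hR0 ξ fun h => hc ⟨h.2.trans ξ.2.2, ξ.2.1 ▸ h.1.map f.continuous⟩
    rw [finsum_congr hz, finsum_zero]
    simp only [Cyc.pullFun, Cyc.divFun]
    split_ifs with h1 h2
    · exact absurd ⟨by have := h2.2; omega, h2.1⟩ hc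
    · rw [zero_mul]
    · rfl
  obtain ⟨hxd, hη⟩ := hc
  -- components through `x`
  have hfin : {z : X | z ⤳ x ∧ z ≠ x ∧ f z = η}.Finite := by
    obtain ⟨W, hW, hxW, -⟩ := exists_isAffineOpen_mem_and_subset (show x ∈ (⊤ : X.Opens) from trivial)
    refine (finite_comp_inter f hX hY hr η hW).subset ?_
    rintro z ⟨hz, hne, hfz⟩
    have h1 := (hX.2.2 _ _ hz hne).1
    have h2 := hle z
    rw [hfz] at h2
    exact ⟨⟨hfz, by omega⟩, hz.mem_open W.2 hxW⟩
  let T := hfin.toFinset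
  have hT : ∀ z, z ∈ T ↔ z ⤳ x ∧ z ≠ x ∧ f z = η := fun z => hfin.mem_toFinset
  have hTd : ∀ z ∈ T, δX z = δY η + r := fun z hzT => by
    obtain ⟨hz, hne, hfz⟩ := (hT z).mp hzT
    have h1 := (hX.2.2 _ _ hz hne).1
    have h2 := hle z
    rw [hfz] at h2
    omega
  let G : Finset (Comp f δX δY r η) :=
    T.attach.image fun z => ⟨z.1, ((hT z.1).mp z.2).2.2, hTd z.1 z.2⟩
  have hRHS : ∑ᶠ ξ : Comp f δX δY r η, Cyc.divFun δX ξ.1 (liftVal f ξ.1 ξ.2.1 g ^ mult f ξ.1) x =
      ∑ z ∈ T.attach, (mult f z.1 : ℤ) * Cyc.ordAt x z.1 ((hT z.1).mp z.2).1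
        (liftVal f z.1 ((hT z.1).mp z.2).2.2 g) := by
    rw [finsum_eq_sum_of_support_subset _ (s := G) ?_, Finset.sum_image ?_]
    · refine Finset.sum_congr rfl fun z _ => ?_
      have hd : δX x + 1 = δX z.1 := by rw [hTd z.1 z.2]; exact hxd
      rw [Cyc.divFun, dif_pos ⟨((hT z.1).mp z.2).1, hd⟩, ordAt_pow hX.2.2 x z.1 _ hd _ (liftVal_ne_zero f _ _ g hg)]
    · intro z _ z' _ e
      have e' := congrArg Subtype.val e
      exact Subtype.ext e'
    · intro ξ hξ
      have h2 : ξ.1 ⤳ x ∧ δX x + 1 = δX ξ.1 := by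
        by_contra hne
        exact hξ (hR0 ξ hne)
      have h3 : ξ.1 ≠ x := fun e => by rw [e] at h2; omega
      exact Finset.mem_coe.mpr (Finset.mem_image.mpr ⟨⟨ξ.1, (hT _).mpr ⟨h2.1, h3, ξ.2.1⟩⟩, Finset.mem_attach _ _, rfl⟩)
  rw [hRHS]
  haveI := GenStalk.isPrime_ker (f x) η hη
  haveI := GenStalk.isFractionRing_locQuot (f x) η hη
  obtain ⟨qa, qb, hqb, rfl⟩ := IsFractionRing.div_surjective (Cyc.LocQuot (f x) η hη) g
  obtain ⟨a, rfl⟩ := Ideal.Quotient.mk_surjective qa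
  obtain ⟨b, rfl⟩ := Ideal.Quotient.mk_surjective qb
  have ha : Cyc.specMap (f x) η hη a ≠ 0 := fun e => hg (by
    show Cyc.specMap _ _ _ a / _ = 0
    rw [e, zero_div])
  have hb : Cyc.specMap (f x) η hη b ≠ 0 := fun e => hg (by
    show _ / Cyc.specMap _ _ _ b = 0
    rw [e, div_zero])
  have hnez : ∀ z (hz : z ∈ T) c, Cyc.specMap (f x) η hη c ≠ 0 →
      Cyc.specMap x z ((hT z).mp hz).1 (f.stalkMap x c) ≠ 0 := fun z hz c hc => by
    rw [← liftVal_specMap f x z ((hT z).mp hz).1 ((hT z).mp hz).2.2 hη]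
    exact liftVal_ne_zero f _ _ _ hc
  by_cases hy : f x = η
  · have hdiv0 : ∀ g' : Y.residueField η, Cyc.divFun δY η g' (f x) = 0 := fun g' => by
      rw [Cyc.divFun, dif_neg]
      intro h
      have := h.2
      rw [hy] at this
      omega
    simp only [Cyc.pullFun, hdiv0, zero_mul, ite_self]
    refine (Finset.sum_eq_zero fun z _ => ?_).symm
    rw [mul_eq_zero]
    right
    have hloc : ∀ c, Cyc.specMap (f x) η hη c ≠ 0 → IsUnit c := fun c hc => by
      by_contra hu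
      refine hc ?_
      have key : ∀ (η : Y) (h : η ⤳ f x), f x = η → Cyc.specMap (f x) η h c = 0 := by
        rintro _ h rfl
        refine (IsLocalRing.residue_eq_zero_iff _).mpr ?_
        rw [TopCat.Presheaf.stalkSpecializes_refl]
        exact hu
      exact key _ hη hy
    show Cyc.ordAt x z.1 _ (liftVal f z.1 _ (Cyc.specMap _ _ _ a / Cyc.specMap _ _ _ b)) = 0
    rw [liftVal_div, liftVal_specMap f x z.1 ((hT z.1).mp z.2).1, liftVal_specMap f x z.1 ((hT z.1).mp z.2).1]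
    exact FlatDiv.ordAt_unit x z.1 _ _ _ ((hloc a ha).map (f.stalkMap x).hom) ((hloc b hb).map (f.stalkMap x).hom)
  have hyd : δY (f x) + 1 = δY η := by
    have h1 := (hY.2.2 _ _ hη (Ne.symm hy)).1
    have h2 := hle x
    omega
  have hdimY : ringKrullDim (Cyc.LocQuot (f x) η hη) ≤ 1 := by
    rw [H22Alg.DeltaDim.eq_ringKrullDim_locQuot hY.2.2 hη, show (δY η - δY (f x)).toNat = 1 by omega]
    rfl
  have hdimX : ∀ z (h : z ⤳ x), δX z = δY η + r → ringKrullDim (Cyc.LocQuot x z h) ≤ 1 := fun z h hd => by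
    rw [H22Alg.DeltaDim.eq_ringKrullDim_locQuot hX.2.2 h, show (δX z - δX x).toNat = 1 by omega]
    rfl
  have hgen : ∀ z : X, z ⤳ x → z ≠ x → η ⤳ f z → f z = η ∧ ∀ w : X, w ⤳ z → η ⤳ f w → w = z := by
    intro z hz hne hfz
    have h1 := (hX.2.2 _ _ hz hne).1
    have h2 := hle z
    have h3 := H22Alg.DeltaDim.delta_le hY.2.2 hfz
    refine ⟨?_, fun w hw hfw => eq_of_specializes f hX hY hr (by omega) hw hfw⟩
    by_contra hfne
    have := (hY.2.2 _ _ hfz (Ne.symm hfne)).1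
    omega
  simp only [Cyc.pullFun, Cyc.divFun]
  rw [if_pos (by omega), dif_pos ⟨hη, hyd⟩]
  have hterm : ∀ z ∈ T.attach, (mult f z.1 : ℤ) * Cyc.ordAt x z.1 ((hT z.1).mp z.2).1
      (liftVal f z.1 ((hT z.1).mp z.2).2.2 (Cyc.specMap (f x) η hη a / Cyc.specMap (f x) η hη b)) =
      (mult f z.1 : ℤ) * ((Ring.ord (Cyc.LocQuot x z.1 ((hT z.1).mp z.2).1) (Ideal.Quotient.mk _ (f.stalkMap x a))).toNat : ℤ) -
      (mult f z.1 : ℤ) * ((Ring.ord (Cyc.LocQuot x z.1 ((hT z.1).mp z.2).1) (Ideal.Quotient.mk _ (f.stalkMap x b))).toNat : ℤ) := fun z _ => by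
    rw [liftVal_div, liftVal_specMap f x z.1 ((hT z.1).mp z.2).1, liftVal_specMap f x z.1 ((hT z.1).mp z.2).1,
      ordAt_div' x z.1 _ (hdimX z.1 _ (hTd z.1 z.2)) _ _ (hnez z.1 z.2 a ha) (hnez z.1 z.2 b hb), mul_sub]
  refine Eq.trans ?_ (Finset.sum_congr rfl hterm).symm
  rw [Finset.sum_sub_distrib, ← ord_identity f x hη hy hgen hdimY T hT a ha,
    ← ord_identity f x hη hy hgen hdimY T hT b hb, ← sub_mul]
  congr 1
  exact ordAt_div' (f x) η hη hdimY a b ha hb

/-- **Flat pullback preserves rational equivalence.** -/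
theorem ratEquiv_pullFun (f : X ⟶ Y) [Flat f] {δX : X → ℤ} {δY : Y → ℤ}
    (hX : Cyc.IsSetup X δX) (hY : Cyc.IsSetup Y δY) {r : ℤ} (hr : MaxDim f δX δY r) (k : ℤ) (α β : AlgebraicCycle Y ℤ) (h : Cyc.RatEquiv δY k α β)
    (α' β' : AlgebraicCycle X ℤ) (hα' : ⇑α' = Cyc.pullFun f δX δY r ⇑α)
    (hβ' : ⇑β' = Cyc.pullFun f δX δY r ⇑β) : Cyc.RatEquiv δX (k + r) α' β' := by
  classical
  obtain ⟨ι, η, g, hk, hg, hlf, hsum⟩ := h
  refine ⟨Σ i, Comp f δX δY r (η i), fun s => s.2.1,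
    fun s => liftVal f s.2.1 s.2.2.1 (g s.1) ^ mult f s.2.1,
    fun s => by rw [s.2.2.2, hk s.1]; ring,
    fun s => pow_ne_zero _ (liftVal_ne_zero f _ _ _ (hg s.1)), fun x => ?_, fun x => ?_⟩
  · obtain ⟨U, hU, hxU, hUfin⟩ := hlf (f x)
    obtain ⟨W, hW, hxW, hWU⟩ := exists_isAffineOpen_mem_and_subset
      (U := (⟨f ⁻¹' U, hU.preimage f.continuous⟩ : X.Opens)) (x := x) hxU
    refine ⟨W, W.2, hxW, ?_⟩
    have hfs : ∀ i, {ξ : Comp f δX δY r (η i) | ξ.1 ∈ (W : Set X)}.Finite := fun i => by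
      refine ((finite_comp_inter f hX hY hr (η i) hW).preimage Subtype.val_injective.injOn).subset ?_
      exact fun ξ hξ => ⟨ξ.2, hξ⟩
    refine (((hUfin.biUnion fun i _ => (hfs i).image (Sigma.mk (β := fun i => Comp f δX δY r (η i)) i)))).subset ?_
    rintro ⟨i, ξ⟩ ⟨w, hw, hwW⟩
    have hξW : ξ.1 ∈ (W : Set X) := (specializes_iff_mem_closure.mpr hw).mem_open W.2 hwW
    exact Set.mem_biUnion (x := i) ⟨η i, subset_closure rfl, ξ.2.1 ▸ hWU hξW⟩ ⟨ξ, hξW, rfl⟩
  · show α' x - β' x = _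
    rw [hα', hβ']
    obtain ⟨U, hU, hxU, hUfin⟩ := hlf (f x)
    obtain ⟨W, hW, hxW, hWU⟩ := exists_isAffineOpen_mem_and_subset
      (U := (⟨f ⁻¹' U, hU.preimage f.continuous⟩ : X.Opens)) (x := x) hxU
    let I := hUfin.toFinset
    have hI : ∀ i, Cyc.divFun δY (η i) (g i) (f x) ≠ 0 → i ∈ I := fun i hi =>
      hUfin.mem_toFinset.mpr ⟨η i, subset_closure rfl, H22Alg.CycDiv.mem_of_divFun_ne_zero hU hxU hi⟩
    let S : (i : ι) → Finset (Comp f δX δY r (η i)) := fun i =>
      ((finite_comp_inter f hX hY hr (η i) hW).preimage (f := fun ξ : Comp f δX δY r (η i) => ξ.1)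
        Subtype.val_injective.injOn).toFinset
    have hS : ∀ i (ξ : Comp f δX δY r (η i)),
        Cyc.divFun δX ξ.1 (liftVal f ξ.1 ξ.2.1 (g i) ^ mult f ξ.1) x ≠ 0 → ξ ∈ S i ∧ i ∈ I := fun i ξ hne => by
      have hξW : ξ.1 ∈ (W : Set X) := by
        by_contra hn
        refine hne ?_
        rw [Cyc.divFun, dif_neg]
        exact fun hh => hn (hh.1.mem_open W.2 hxW)
      exact ⟨(Set.Finite.mem_toFinset _).mpr ⟨ξ.2, hξW⟩,
        hUfin.mem_toFinset.mpr ⟨η i, subset_closure rfl, ξ.2.1 ▸ hWU hξW⟩⟩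
    have hrhs : ∑ᶠ s : Σ i, Comp f δX δY r (η i),
        Cyc.divFun δX s.2.1 (liftVal f s.2.1 s.2.2.1 (g s.1) ^ mult f s.2.1) x =
        ∑ i ∈ I, Cyc.pullFun f δX δY r (Cyc.divFun δY (η i) (g i)) x := by
      rw [finsum_eq_sum_of_support_subset _ (s := I.sigma S) (fun s hs =>
        Finset.mem_coe.mpr (Finset.mem_sigma.mpr ⟨(hS s.1 s.2 hs).2, (hS s.1 s.2 hs).1⟩)), Finset.sum_sigma]
      refine Finset.sum_congr rfl fun i _ => ?_
      rw [pullFun_divFun_eq f hX hY hr (η i) (g i) (hg i) x]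
      exact (finsum_eq_sum_of_support_subset _ fun ξ hξ => Finset.mem_coe.mpr (hS i ξ hξ).1).symm
    rw [hrhs]
    simp only [Cyc.pullFun]
    by_cases hd : δX x = δY (f x) + r
    · simp only [if_pos hd, ← sub_mul, ← Finset.sum_mul]
      congr 1
      exact (hsum (f x)).trans (finsum_eq_sum_of_support_subset _ fun i hi => Finset.mem_coe.mpr (hI i hi))
    · simp only [if_neg hd, sub_self, Finset.sum_const_zero]

end Groth.Agent.H3Cyc.FlatRat
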