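import Groth.Agent.H3Cyc.Transfer
import Mathlib

/-!
# Rational triviality inside a closed subset
-/

set_option autoImplicit false
set_option linter.style.haveILetI false
set_option linter.unusedSectionVars false
universe u

open AlgebraicGeometry CategoryTheory

namespace Groth.Agent.H3Cyc

/-- `G` is a locally finite sum of principal divisors of `(k + 1)`-dimensional subvarieties whose generic
points lie in `S`. -/
def RatFam {X : Scheme.{u}} (δ : X → ℤ) (k : ℤ) (S : Set X) (G : X → ℤ) : Prop :=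
  ∃ (ι : Type u) (ξ : ι → X) (f : (i : ι) → X.residueField (ξ i)),
    (∀ i, δ (ξ i) = k + 1 ∧ ξ i ∈ S) ∧ (∀ i, f i ≠ 0) ∧
    (∀ x : X, ∃ U : Set X, IsOpen U ∧ x ∈ U ∧ {i | (closure {ξ i} ∩ U).Nonempty}.Finite) ∧
    ∀ x : X, G x = ∑ᶠ i, Cyc.divFun δ (ξ i) (f i) x

namespace RatFam

variable {X : Scheme.{u}} {δ : X → ℤ} {k : ℤ} {S : Set X} {G : X → ℤ}

theorem ratEquivZero (h : RatFam δ k S G) {γ : AlgebraicCycle X ℤ} (hγ : ∀ x, γ x = G x) :
    Cyc.RatEquivZero δ k γ := by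
  obtain ⟨ι, ξ, f, hk, hf, hlf, hsum⟩ := h
  exact ⟨ι, ξ, f, fun i => (hk i).1, hf, hlf, fun x => (hγ x).trans (hsum x)⟩

theorem of_ratEquivZero {α : AlgebraicCycle X ℤ} (h : Cyc.RatEquivZero δ k α) : RatFam δ k Set.univ ⇑α := by
  obtain ⟨ι, ξ, f, hk, hf, hlf, hsum⟩ := h
  exact ⟨ι, ξ, f, fun i => ⟨hk i, trivial⟩, hf, hlf, hsum⟩

theorem mono {S' : Set X} (hS : S ⊆ S') (h : RatFam δ k S G) : RatFam δ k S' G := by
  obtain ⟨ι, ξ, f, hk, hf, hlf, hsum⟩ := h
  exact ⟨ι, ξ, f, fun i => ⟨(hk i).1, hS (hk i).2⟩, hf, hlf, hsum⟩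

theorem congr {G' : X → ℤ} (h : RatFam δ k S G) (hG : ∀ x, G' x = G x) : RatFam δ k S G' := by
  obtain ⟨ι, ξ, f, hk, hf, hlf, hsum⟩ := h
  exact ⟨ι, ξ, f, hk, hf, hlf, fun x => (hG x).trans (hsum x)⟩

theorem zsmul (m : ℤ) (h : RatFam δ k S G) : RatFam δ k S fun x => m * G x := by
  obtain ⟨ι, ξ, f, hk, hf, hlf, hsum⟩ := h
  refine ⟨ι, ξ, fun i => f i ^ m, hk, fun i => zpow_ne_zero _ (hf i), hlf, fun x => ?_⟩
  show m * G x = _
  rw [hsum x, mul_finsum]
  exact finsum_congr fun i => (C1Api.divFun_zpow δ (ξ i) (hf i) m x).symm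

theorem eq_zero_of_notMem (hS : IsClosed S) (h : RatFam δ k S G) {x : X} (hx : x ∉ S) : G x = 0 := by
  obtain ⟨ι, ξ, f, hk, hf, hlf, hsum⟩ := h
  rw [hsum x]
  refine finsum_eq_zero_of_forall_eq_zero fun i => ?_
  simp only [Cyc.divFun]
  rw [dif_neg fun hh => hx (hh.1.mem_closed hS (hk i).2)]

/-- A locally finite family. -/
theorem family {ι : Type u} (T : ι → Set X) (hT : ∀ a, IsClosed (T a))
    (hlf : ∀ x : X, ∃ U : Set X, IsOpen U ∧ x ∈ U ∧ {a | (T a ∩ U).Nonempty}.Finite)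
    (F : ι → X → ℤ) (h : ∀ a, RatFam δ k (T a ∩ S) (F a)) (hG : ∀ x, G x = ∑ᶠ a, F a x) : RatFam δ k S G := by
  classical
  choose J ξ f hk hf hlf' hsum using h
  have hloc : ∀ x : X, ∃ U : Set X, IsOpen U ∧ x ∈ U ∧
      {p : Σ a, J a | (closure {ξ p.1 p.2} ∩ U).Nonempty}.Finite := by
    intro x
    obtain ⟨U, hU, hxU, hfin⟩ := hlf x
    choose V hV hxV hVfin using fun a => hlf' a x
    refine ⟨U ∩ ⋂ a ∈ hfin.toFinset, V a, hU.inter (isOpen_biInter_finset fun a _ => hV a),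
      ⟨hxU, Set.mem_iInter₂.mpr fun a _ => hxV a⟩, (hfin.toFinset.sigma fun a => (hVfin a).toFinset).finite_toSet.subset ?_⟩
    rintro ⟨a, j⟩ ⟨z, hz, hzU, hzV⟩
    have ha : a ∈ hfin.toFinset := hfin.mem_toFinset.mpr
      ⟨z, closure_minimal (Set.singleton_subset_iff.mpr (hk a j).2.1) (hT a) hz, hzU⟩
    exact Finset.mem_coe.mpr (Finset.mem_sigma.mpr ⟨ha, (hVfin a).mem_toFinset.mpr
      ⟨z, hz, Set.mem_iInter₂.mp hzV a ha⟩⟩)
  refine ⟨Σ a, J a, fun p => ξ p.1 p.2, fun p => f p.1 p.2, fun p => ⟨(hk p.1 p.2).1, (hk p.1 p.2).2.2⟩,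
    fun p => hf p.1 p.2, hloc, fun x => ?_⟩
  obtain ⟨U, hU, hxU, hfinU⟩ := hlf x
  have hfs : ∀ a, (Function.support fun j => Cyc.divFun δ (ξ a j) (f a j) x).Finite := fun a =>
    RatRel.finite_family (hlf' a) (f a) x
  have hT' : ∀ a j, Cyc.divFun δ (ξ a j) (f a j) x ≠ 0 → x ∈ T a := fun a j hj => by
    by_contra hx
    refine hj ?_
    simp only [Cyc.divFun]
    rw [dif_neg fun hh => hx (hh.1.mem_closed (hT a) (hk a j).2.1)]
  have hsupp : (Function.support fun a => F a x) ⊆ (hfinU.toFinset : Set ι) := fun a ha => by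
    rw [Set.Finite.coe_toFinset]
    refine ⟨x, by_contra fun hn => ha ?_, hxU⟩
    show F a x = 0
    rw [hsum a x]
    exact finsum_eq_zero_of_forall_eq_zero fun j => by_contra fun hj => hn (hT' a j hj)
  rw [hG x, finsum_eq_sum_of_support_subset _ hsupp, Finset.sum_congr rfl fun a _ => (hsum a x).trans (finsum_eq_sum _ (hfs a)),
    finsum_eq_sum_of_support_subset _ (s := hfinU.toFinset.sigma fun a => (hfs a).toFinset) ?_, Finset.sum_sigma]
  rintro ⟨a, j⟩ hp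
  exact Finset.mem_coe.mpr (Finset.mem_sigma.mpr ⟨hfinU.mem_toFinset.mpr ⟨x, hT' a j hp, hxU⟩, (hfs a).mem_toFinset.mpr hp⟩)

theorem add {G₂ : X → ℤ} (h : RatFam δ k S G) (h₂ : RatFam δ k S G₂) : RatFam δ k S fun x => G x + G₂ x := by
  refine family (ι := ULift.{u} Bool) (fun _ => Set.univ) (fun _ => isClosed_univ)
    (fun _ => ⟨Set.univ, isOpen_univ, trivial, Set.toFinite _⟩) (fun a => if a.down then G else G₂)
    (fun a => ?_) fun x => ?_
  · obtain ⟨⟨⟩⟩ := a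
    · simpa using h₂
    · simpa using h
  · rw [finsum_eq_sum_of_fintype, ← Equiv.ulift.symm.sum_comp, Fintype.sum_bool]
    simp

theorem sub {G₂ : X → ℤ} (h : RatFam δ k S G) (h₂ : RatFam δ k S G₂) : RatFam δ k S fun x => G x - G₂ x :=
  (add h (zsmul (-1) h₂)).congr fun x => by ring

variable {W : Scheme.{u}} (i : W ⟶ X) [IsClosedImmersion i]

/-- Pushforward from a closed subscheme. -/
theorem push {T : Set W} {H : W → ℤ} (h : RatFam (fun w => δ (i w)) k T H) (hG : ∀ w, G (i w) = H w)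
    (hG0 : ∀ x, x ∉ Set.range i → G x = 0) : RatFam δ k (i '' T) G := by
  classical
  obtain ⟨ι, ξ, f, hk, hf, hlf, hsum⟩ := h
  choose f' hf' using fun a => (Reduction.bijective_residueFieldMap i (ξ a)).2 (f a)
  refine ⟨ι, fun a => i (ξ a), f', fun a => ⟨(hk a).1, _, (hk a).2, rfl⟩,
    fun a e => hf a (by rw [← hf' a, e, map_zero]), fun x => ?_, fun x => ?_⟩
  · by_cases hx : x ∈ Set.range i
    · obtain ⟨w, rfl⟩ := hx
      obtain ⟨U, hU, hwU, hfin⟩ := hlf w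
      obtain ⟨V, hV, rfl⟩ := i.isEmbedding.isInducing.isOpen_iff.mp hU
      exact ⟨V, hV, hwU, hfin.subset fun a ⟨z, hz, hzV⟩ => ⟨ξ a, subset_closure rfl,
        (specializes_iff_mem_closure.mpr hz).mem_open hV hzV⟩⟩
    · exact ⟨(Set.range i)ᶜ, i.isClosedEmbedding.isClosed_range.isOpen_compl, hx,
        Set.finite_empty.subset fun a ⟨z, hz, hzV⟩ =>
          (hzV ((specializes_iff_mem_closure.mpr hz).mem_closed i.isClosedEmbedding.isClosed_range ⟨_, rfl⟩)).elim⟩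
  · by_cases hx : x ∈ Set.range i
    · obtain ⟨w, rfl⟩ := hx
      rw [hG, hsum w]
      exact finsum_congr fun a => by rw [← Reduction.divFun_immersion, hf']
    · rw [hG0 x hx]
      exact (finsum_eq_zero_of_forall_eq_zero fun a => Reduction.divFun_eq_zero_of_notMem i δ _ _ hx).symm

/-- Restriction to a closed subscheme containing the subvarieties. -/
theorem restrict (h : RatFam δ k S G) (hS : S ⊆ Set.range i) {ζ : AlgebraicCycle W ℤ} (hζ : ∀ w, ζ w = G (i w)) :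
    Cyc.RatEquivZero (fun w => δ (i w)) k ζ := by
  classical
  obtain ⟨ι, ξ, f, hk, hf, hlf, hsum⟩ := h
  choose η hη using fun a => hS (hk a).2
  have key : ∀ {p q : X} (e : p = q) (c : X.residueField q), c ≠ 0 →
      ∃ c' : X.residueField p, c' ≠ 0 ∧ Cyc.divFun δ q c = Cyc.divFun δ p c' := by
    rintro p q rfl c hc
    exact ⟨c, hc, rfl⟩
  choose f' hf'0 hf' using fun a => key (hη a) (f a) (hf a)
  refine ⟨ι, η, fun a => i.residueFieldMap (η a) (f' a), fun a => by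
    show δ (i (η a)) = k + 1
    rw [hη a]; exact (hk a).1, fun a e => hf'0 a ((i.residueFieldMap (η a)).hom.injective (e.trans (map_zero _).symm)),
    fun w => ?_, fun w => ?_⟩
  · obtain ⟨U, hU, hxU, hfin⟩ := hlf (i w)
    refine ⟨i ⁻¹' U, hU.preimage i.continuous, hxU, hfin.subset fun a ⟨z, hz, hzU⟩ => ⟨i z, ?_, hzU⟩⟩
    rw [← hη a]
    exact specializes_iff_mem_closure.mp ((specializes_iff_mem_closure.mpr hz).map i.continuous)
  · rw [hζ, hsum]
    exact finsum_congr fun a => by rw [Reduction.divFun_immersion, hf' a]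

end RatFam

end Groth.Agent.H3Cyc
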