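import Groth.Agent.H3Cyc.C1Map
import Mathlib

/-!
# The group of cycles rationally equivalent to zero
-/

set_option autoImplicit false
set_option linter.style.haveILetI false
universe u

open AlgebraicGeometry CategoryTheory

namespace Groth.Agent.H3Cyc.RatRel

variable {X : Scheme.{u}} {δ : X → ℤ} {k : ℤ}

theorem zero : Cyc.RatEquivZero δ k (0 : AlgebraicCycle X ℤ) :=
  ⟨PEmpty, fun e => e.elim, fun e => e.elim, fun e => e.elim, fun e => e.elim,
    fun _ => ⟨Set.univ, isOpen_univ, trivial, Set.toFinite _⟩, fun _ => by rw [finsum_of_isEmpty]; rfl⟩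

theorem neg {α : AlgebraicCycle X ℤ} (h : Cyc.RatEquivZero δ k α) : Cyc.RatEquivZero δ k (-α) := by
  obtain ⟨ι, ξ, f, hk, hf, hlf, hsum⟩ := h
  refine ⟨ι, ξ, fun i => (f i)⁻¹, hk, fun i => inv_ne_zero (hf i), hlf, fun x => ?_⟩
  show -α x = _
  rw [hsum x, ← finsum_neg_distrib]
  refine finsum_congr fun i => ?_
  beta_reduce
  rw [show (f i)⁻¹ = f i ^ (-1 : ℤ) from (zpow_neg_one _).symm, C1Api.divFun_zpow δ (ξ i) (hf i)]
  ring

theorem finite_family {ι : Type u} {ξ : ι → X}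
    (hlf : ∀ x : X, ∃ U : Set X, IsOpen U ∧ x ∈ U ∧ {i | (closure {ξ i} ∩ U).Nonempty}.Finite)
    (f : (i : ι) → X.residueField (ξ i)) (x : X) :
    (Function.support fun i => Cyc.divFun δ (ξ i) (f i) x).Finite := by
  obtain ⟨U, -, hxU, hfin⟩ := hlf x
  refine hfin.subset fun i hi => ⟨x, ?_, hxU⟩
  by_contra hn
  refine hi ?_
  simp only [Cyc.divFun]
  rw [dif_neg fun hh => hn (specializes_iff_mem_closure.mp hh.1)]

theorem add {α β : AlgebraicCycle X ℤ} (h : Cyc.RatEquivZero δ k α) (h' : Cyc.RatEquivZero δ k β) :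
    Cyc.RatEquivZero δ k (α + β) := by
  obtain ⟨ι, ξ, f, hk, hf, hlf, hsum⟩ := h
  obtain ⟨ι', ξ', f', hk', hf', hlf', hsum'⟩ := h'
  refine ⟨ι ⊕ ι', Sum.elim ξ ξ', fun i => match i with | .inl a => f a | .inr b => f' b,
    fun i => by cases i <;> simp [hk, hk'], fun i => by cases i; exacts [hf _, hf' _], fun x => ?_, fun x => ?_⟩
  · obtain ⟨U, hU, hxU, hfin⟩ := hlf x
    obtain ⟨U', hU', hxU', hfin'⟩ := hlf' x
    refine ⟨U ∩ U', hU.inter hU', ⟨hxU, hxU'⟩, ((hfin.image Sum.inl).union (hfin'.image Sum.inr)).subset ?_⟩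
    rintro (a | b) ⟨z, hz, hzU⟩
    · exact Or.inl ⟨a, ⟨z, hz, hzU.1⟩, rfl⟩
    · exact Or.inr ⟨b, ⟨z, hz, hzU.2⟩, rfl⟩
  · show α x + β x = _
    have h1 := finite_family (δ := δ) hlf f x
    have h2 := finite_family (δ := δ) hlf' f' x
    rw [hsum x, hsum' x, finsum_eq_sum _ h1, finsum_eq_sum _ h2,
      finsum_eq_sum_of_support_subset _ (s := h1.toFinset.disjSum h2.toFinset) ?_, Finset.sum_disjSum]
    · rfl
    · rintro (a | b) hi
      · exact Finset.mem_coe.mpr (Finset.inl_mem_disjSum.mpr (h1.mem_toFinset.mpr hi))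
      · exact Finset.mem_coe.mpr (Finset.inr_mem_disjSum.mpr (h2.mem_toFinset.mpr hi))

theorem sub {α β : AlgebraicCycle X ℤ} (h : Cyc.RatEquivZero δ k α) (h' : Cyc.RatEquivZero δ k β) :
    Cyc.RatEquivZero δ k (α - β) := by
  rw [sub_eq_add_neg]; exact add h (neg h')

theorem refl (α : AlgebraicCycle X ℤ) : Cyc.RatEquiv δ k α α := by
  rw [Cyc.RatEquiv, sub_self]; exact zero

theorem symm {α β : AlgebraicCycle X ℤ} (h : Cyc.RatEquiv δ k α β) : Cyc.RatEquiv δ k β α := by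
  rw [Cyc.RatEquiv, ← neg_sub]; exact neg h

theorem trans {α β γ : AlgebraicCycle X ℤ} (h : Cyc.RatEquiv δ k α β) (h' : Cyc.RatEquiv δ k β γ) :
    Cyc.RatEquiv δ k α γ := by
  rw [Cyc.RatEquiv, ← sub_add_sub_cancel α β γ]; exact add h h'

/-- Rational equivalence only depends on the coefficients. -/
theorem congr {α β α' β' : AlgebraicCycle X ℤ} (h : Cyc.RatEquiv δ k α β) (ha : ⇑α' = ⇑α) (hb : ⇑β' = ⇑β) :
    Cyc.RatEquiv δ k α' β' := by
  rwa [DFunLike.coe_injective ha, DFunLike.coe_injective hb]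

/-- Independence of the rational sections, for a coefficient function. -/
theorem c1Cap_indep [IsLocallyNoetherian X] {L : X.Modules} (hL : PicF.IsInvertible L) (α : AlgebraicCycle X ℤ)
    (hα : α ∈ Cyc.Zk X δ (k + 1)) (s s' : (ξ : X) → Cyc.secFibre L ξ) (hs : ∀ ξ, s ξ ≠ 0) (hs' : ∀ ξ, s' ξ ≠ 0)
    (γ γ' : AlgebraicCycle X ℤ) (hγ : ⇑γ = Cyc.c1CapFun δ L ⇑α s) (hγ' : ⇑γ' = Cyc.c1CapFun δ L ⇑α s') :
    Cyc.RatEquiv δ k γ γ' :=
  C1Api.c1Cap_ratEquiv hL k α hα s' s hs' hs γ' γ hγ' hγ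

end Groth.Agent.H3Cyc.RatRel
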