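import Groth.Agent.H3Cyc.RatFam
import Groth.Agent.H22Alg.CycDiv
import Mathlib

/-!
# Splitting rationally trivial families along closed subsets
-/

set_option autoImplicit false
universe u

open AlgebraicGeometry CategoryTheory

namespace Groth.Agent.H3Cyc.RatFam

variable {X : Scheme.{u}} {δ : X → ℤ} {k : ℤ} {S₁ S₂ : Set X} {G : X → ℤ}

theorem exists_cycle [IsLocallyNoetherian X] (hδ : Cyc.IsDimFun X δ) {S : Set X} (h : RatFam δ k S G) :
    ∃ γ : AlgebraicCycle X ℤ, ⇑γ = G ∧ γ ∈ Cyc.Zk X δ k := by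
  obtain ⟨ι, ξ, f, hk, hf, hlf, hsum⟩ := h
  have hz : ∀ i x, Cyc.divFun δ (ξ i) (f i) x ≠ 0 → ξ i ⤳ x ∧ δ x + 1 = δ (ξ i) := fun i x hx => by
    by_contra hn
    refine hx ?_
    simp only [Cyc.divFun]
    rw [dif_neg hn]
  refine ⟨⟨G, by simp, fun x _ => ?_⟩, rfl, fun x hx => ?_⟩
  · obtain ⟨U, hU, hxU, hfin⟩ := hlf x
    choose t ht htfin using fun i => H22Alg.CycDiv.locallyFinite_divFun hδ (ξ i) (hf i) x
    refine ⟨U ∩ ⋂ i ∈ hfin.toFinset, t i,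
      Filter.inter_mem (hU.mem_nhds hxU) ((Filter.biInter_finset_mem _).mpr fun i _ => ht i),
      (hfin.biUnion fun i _ => htfin i).subset ?_⟩
    rintro z ⟨⟨hzU, hzt⟩, hz0⟩
    obtain ⟨i, hi⟩ : ∃ i, Cyc.divFun δ (ξ i) (f i) z ≠ 0 := by
      by_contra hn
      exact hz0 (by rw [hsum]; exact finsum_eq_zero_of_forall_eq_zero fun i => not_not.mp (not_exists.mp hn i))
    have hi' : i ∈ {i | (closure {ξ i} ∩ U).Nonempty} :=
      ⟨z, specializes_iff_mem_closure.mp (hz i z hi).1, hzU⟩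
    exact Set.mem_iUnion₂.mpr ⟨i, hi', Set.mem_iInter₂.mp hzt i (hfin.mem_toFinset.mpr hi'), hi⟩
  · show G x = 0
    rw [hsum]
    refine finsum_eq_zero_of_forall_eq_zero fun i => by_contra fun hne => hx ?_
    have h1 := (hz i x hne).2
    have h2 := (hk i).1
    omega

theorem split (h : RatFam δ k (S₁ ∪ S₂) G) :
    ∃ G₁ G₂ : X → ℤ, RatFam δ k S₁ G₁ ∧ RatFam δ k S₂ G₂ ∧ ∀ x, G x = G₁ x + G₂ x := by
  classical
  obtain ⟨ι, ξ, f, hk, hf, hlf, hsum⟩ := h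
  have hlf' : ∀ p : ι → Prop, ∀ x : X, ∃ U : Set X, IsOpen U ∧ x ∈ U ∧
      {i : Subtype p | (closure {ξ i} ∩ U).Nonempty}.Finite := fun p x => by
    obtain ⟨U, hU, hxU, hfin⟩ := hlf x
    exact ⟨U, hU, hxU, Set.Finite.preimage (s := {i | (closure {ξ i} ∩ U).Nonempty}) Subtype.val_injective.injOn hfin⟩
  refine ⟨fun x => ∑ᶠ i : {i // ξ i ∈ S₁}, Cyc.divFun δ (ξ i) (f i) x,
    fun x => ∑ᶠ i : {i // ξ i ∉ S₁}, Cyc.divFun δ (ξ i) (f i) x,
    ⟨{i // ξ i ∈ S₁}, fun i => ξ i, fun i => f i, fun i => ⟨(hk i).1, i.2⟩, fun i => hf i, hlf' _, fun x => rfl⟩,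
    ⟨{i // ξ i ∉ S₁}, fun i => ξ i, fun i => f i, fun i => ⟨(hk i).1, ((hk i).2.resolve_left i.2)⟩, fun i => hf i, hlf' _, fun x => rfl⟩,
    fun x => ?_⟩
  have hfin := RatRel.finite_family (δ := δ) hlf f x
  beta_reduce
  rw [hsum x, finsum_subtype_eq_finsum_cond (f := fun i => Cyc.divFun δ (ξ i) (f i) x) (p := fun i => ξ i ∈ S₁),
    finsum_subtype_eq_finsum_cond (f := fun i => Cyc.divFun δ (ξ i) (f i) x) (p := fun i => ξ i ∉ S₁)]
  refine Eq.trans ?_ (finsum_mem_union' (s := {i | ξ i ∈ S₁}) (t := {i | ξ i ∉ S₁})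
    (Set.disjoint_left.mpr fun i h h' => h' h) (hfin.subset Set.inter_subset_right) (hfin.subset Set.inter_subset_right))
  rw [show {i | ξ i ∈ S₁} ∪ {i | ξ i ∉ S₁} = Set.univ from Set.ext fun i => by simp [em], finsum_mem_univ]

end Groth.Agent.H3Cyc.RatFam
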