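import Groth.Agent.H22Alg.DimFunLft
import Groth.Agent.H8Props.UnivCatenary
import Mathlib

/-!
# Setups along morphisms locally of finite type
-/

set_option autoImplicit false
universe u

open AlgebraicGeometry CategoryTheory

namespace Groth.Agent.H3Cyc

theorem isSetup_of_locallyOfFiniteType {X S : Scheme.{u}} (f : X ⟶ S) [LocallyOfFiniteType f] {δ : S → ℤ}
    (hS : Cyc.IsSetup S δ) {δX : X → ℤ} (hδ : Cyc.DeltaCompat f δX δ) : Cyc.IsSetup X δX := by
  haveI := hS.1
  haveI : IsLocallyNoetherian X := LocallyOfFiniteType.isLocallyNoetherian f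
  refine ⟨inferInstance, fun x => H8Props.UnivCatenary.isUniversallyCatenary_stalk (fun T g hg => ?_) x,
    H22Alg.DimFunLft.isDimFun_of_deltaCompat f δ hS δX hδ⟩
  haveI := hg
  exact H8Props.UnivCatenary.isCatenarySpace_of_stalks hS.2.1 T (g ≫ f) inferInstance

end Groth.Agent.H3Cyc
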