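import Groth.Agent.H3Cyc.SetupLft
import Groth.Agent.H3Cyc.C1Api
import Groth.Agent.H3Cyc.FlatRat
import Groth.Agent.H22Alg.DeltaDim
import Groth.Agent.H22Alg.CycBasic
import Groth.Agent.H12AlgSp.Residual
import Groth.Agent.H06Proper.HenselianProperPart
import Groth.Agent.H4Depth.Regular
import Groth.Agent.S0603
import Groth.Agent.S0564
import Groth.Prelude.Def_Bivar
import Mathlib

/-!
# Specialization of cycles over a discrete valuation ring as the divisor of a uniformizer
-/

set_option autoImplicit false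
set_option linter.style.haveILetI false
set_option backward.isDefEq.respectTransparency.types false
set_option linter.unusedSectionVars false
universe u

open AlgebraicGeometry CategoryTheory CategoryTheory.Limits IsLocalRing TopologicalSpace

namespace Groth.Agent.H3Cyc.SpFun

variable {R : Type u} [CommRing R] [IsDomain R] [IsDiscreteValuationRing R]

/-- The dimension function of the spectrum: one at the generic, zero at the closed point. -/
noncomputable def dS (R : Type u) [CommRing R] [IsDomain R] : Spec (CommRingCat.of R) → ℤ :=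
  open Classical in fun p => if p = genericPoint ↥(Spec (CommRingCat.of R)) then 1 else 0

theorem eq_generic_or_closed (p : Spec (CommRingCat.of R)) :
    p = genericPoint ↥(Spec (CommRingCat.of R)) ∨ p = closedPoint R := by
  by_cases h : (p : PrimeSpectrum R).asIdeal = ⊥
  · left
    rw [genericPoint_eq_bot_of_affine]
    exact PrimeSpectrum.ext h
  · right
    exact PrimeSpectrum.ext (IsLocalRing.eq_maximalIdeal (Ideal.IsPrime.isMaximal p.isPrime h))

theorem closed_ne_generic : closedPoint R ≠ genericPoint ↥(Spec (CommRingCat.of R)) := fun e => by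
  rw [genericPoint_eq_bot_of_affine] at e
  exact IsDiscreteValuationRing.not_a_field R (congrArg PrimeSpectrum.asIdeal e)

theorem dS_generic : dS R (genericPoint ↥(Spec (CommRingCat.of R))) = 1 := if_pos rfl

theorem dS_closed : dS R (closedPoint R) = 0 := if_neg closed_ne_generic

theorem isSetup_spec : Cyc.IsSetup (Spec (CommRingCat.of R)) (dS R) := by
  refine ⟨inferInstance, fun s => ?_, fun x y hxy hne => ?_⟩
  · haveI : IsRegularLocalRing ((Spec (CommRingCat.of R)).presheaf.stalk s) := by
      haveI : IsIntegral (Spec (CommRingCat.of R)) := inferInstance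
      rcases eq_generic_or_closed s with rfl | rfl
      · letI : Field ((Spec (CommRingCat.of R)).presheaf.stalk (genericPoint ↥(Spec (CommRingCat.of R)))) :=
          inferInstanceAs (Field (Spec (CommRingCat.of R)).functionField)
        infer_instance
      · exact IsRegularLocalRing.of_ringEquiv (R := R)
          (stalkClosedPointIso (CommRingCat.of R)).commRingCatIsoToRingEquiv.symm
    haveI : LocCoh.IsCohenMacaulayRing ((Spec (CommRingCat.of R)).presheaf.stalk s) :=
      { isCohenMacaulayLocalRing_localization := fun p _ => by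
          haveI := Groth.Agent.S0564.result ((Spec (CommRingCat.of R)).presheaf.stalk s) p
          exact Groth.Agent.H4Depth.isCohenMacaulayLocalRing_of_regular _ }
    exact Groth.Agent.S0603.result _
  · have hy : y = closedPoint R := by
      rcases eq_generic_or_closed y with rfl | rfl
      · exact absurd (hxy.antisymm (genericPoint_specializes x)).eq hne
      · rfl
    subst hy
    have hx : x = genericPoint ↥(Spec (CommRingCat.of R)) := (eq_generic_or_closed x).resolve_right hne
    subst hx
    rw [dS_generic, dS_closed]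
    exact ⟨one_pos, fun _ => rfl⟩

instance : IsOpenImmersion
    ((Spec (CommRingCat.of R)).fromSpecResidueField (genericPoint ↥(Spec (CommRingCat.of R)))) := by
  refine H12AlgSp.Residual.isOpenImmersion_fromSpecResidueField _ ?_ ?_
  · have : ({genericPoint ↥(Spec (CommRingCat.of R))} : Set (Spec (CommRingCat.of R))) = {closedPoint R}ᶜ :=
      Set.ext fun p => ⟨fun h => h ▸ closed_ne_generic.symm, fun h => (eq_generic_or_closed p).resolve_right h⟩
    rw [this]
    exact (isClosed_singleton_closedPoint R).isOpen_compl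
  · haveI : IsIntegral (Spec (CommRingCat.of R)) := inferInstance
    exact Field.toIsField (Spec (CommRingCat.of R)).functionField

section

variable {X : Scheme.{u}} (a : X ⟶ Spec (CommRingCat.of R))

/-- The uniformizer as a global function. -/
noncomputable def unif (π : R) : Γ(X, ⊤) := a.appTop ((Scheme.ΓSpecIso (CommRingCat.of R)).inv π)

theorem unif_comp {Y : Scheme.{u}} (f : X ⟶ Y) (b : Y ⟶ Spec (CommRingCat.of R)) (π : R) :
    unif (f ≫ b) π = f.appTop (unif b π) := by
  simp [unif]

/-- The value of the uniformizer at a point, replaced by one on the closed fibre. -/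
noncomputable def uval (π : R) (ξ : X) : X.residueField ξ :=
  open Classical in if a ξ = closedPoint R then 1 else X.Γevaluation ξ (unif a π)

theorem evaluation_ne_zero {π : R} (hπ : Irreducible π) (ξ : X) :
    X.Γevaluation ξ (unif a π) ≠ 0 ↔ a ξ ≠ closedPoint R := by
  rw [Scheme.evaluation_ne_zero_iff_mem_basicOpen, unif, ← Scheme.preimage_basicOpen_top]
  show a ξ ∈ (Spec (CommRingCat.of R)).basicOpen _ ↔ _
  rw [basicOpen_eq_of_affine]
  show π ∉ (a ξ : PrimeSpectrum R).asIdeal ↔ _
  refine ⟨fun h e => h (by rw [e]; exact hπ.not_isUnit), fun h hmem => ?_⟩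
  have := (eq_generic_or_closed (a ξ)).resolve_right h
  rw [this, genericPoint_eq_bot_of_affine] at hmem
  exact hπ.ne_zero hmem

theorem uval_ne_zero {π : R} (hπ : Irreducible π) (ξ : X) : uval a π ξ ≠ 0 := by
  unfold uval
  split_ifs with h
  · exact one_ne_zero
  · exact (evaluation_ne_zero a hπ ξ).mpr h

theorem uval_eq {π : R} {ξ : X} (h : a ξ ≠ closedPoint R) : uval a π ξ = X.Γevaluation ξ (unif a π) :=
  if_neg h

theorem uval_comp {Y : Scheme.{u}} (f : X ⟶ Y) (b : Y ⟶ Spec (CommRingCat.of R)) (π : R) (ξ : X) :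
    f.residueFieldMap ξ (uval b π (f ξ)) = uval (f ≫ b) π ξ := by
  unfold uval
  by_cases h : b (f ξ) = closedPoint R
  · rw [if_pos h, if_pos (show (f ≫ b) ξ = closedPoint R from h), map_one]
  · rw [if_neg h, if_neg (show ¬(f ≫ b) ξ = closedPoint R from h), unif_comp]
    exact ConcreteCategory.congr_hom (Scheme.evaluation_naturality f ξ (V := ⊤) trivial) (unif b π)

end

section general

variable {X Y : Scheme.{u}}

theorem trdeg_zero_of_surjective (f : X ⟶ Y) (x : X) (h : Function.Surjective (f.residueFieldMap x)) :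
    letI := (f.residueFieldMap x).hom.toAlgebra
    Algebra.trdeg (Y.residueField (f x)) (X.residueField x) = 0 := by
  letI := (f.residueFieldMap x).hom.toAlgebra
  haveI : Module.Finite (Y.residueField (f x)) (X.residueField x) :=
    Module.Finite.of_surjective (Algebra.linearMap _ _) h
  exact trdeg_eq_zero

theorem surjective_residueFieldMap (f : X ⟶ Y) [IsPreimmersion f] (x : X) :
    Function.Surjective (f.residueFieldMap x) := fun c => by
  obtain ⟨b, rfl⟩ := X.residue_surjective x c
  obtain ⟨d, rfl⟩ := f.stalkMap_surjective x b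
  exact ⟨Y.residue (f x) d, ConcreteCategory.congr_hom (Scheme.residue_residueFieldMap f x) d⟩

theorem deltaCompat_preimmersion (f : X ⟶ Y) [IsPreimmersion f] (δY : Y → ℤ) :
    Cyc.DeltaCompat f (fun x => δY (f x)) δY := fun x =>
  ⟨0, by exact_mod_cast trdeg_zero_of_surjective f x (surjective_residueFieldMap f x), by simp⟩

theorem residueDegree_preimmersion (f : X ⟶ Y) [IsPreimmersion f] (x : X) : f.residueDegree x = 1 := by
  letI := (f.residueFieldMap x).hom.toAlgebra
  let e := LinearEquiv.ofBijective (Algebra.linearMap (Y.residueField (f x)) (X.residueField x))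
    ⟨(f.residueFieldMap x).hom.injective, surjective_residueFieldMap f x⟩
  exact e.finrank_eq.symm.trans (Module.finrank_self _)

theorem deltaCompat_shift (f : X ⟶ Y) {δX : X → ℤ} {δY : Y → ℤ} (h : Cyc.DeltaCompat f δX δY) (c : ℤ) :
    Cyc.DeltaCompat f (fun x => δX x + c) (fun y => δY y + c) := fun x => by
  obtain ⟨n, hn, hx⟩ := h x
  exact ⟨n, hn, by show δX x + c = δY (f x) + c + n; omega⟩

theorem deltaCompat_unique {f g : X ⟶ Y} (e : f = g) {δ δ' : X → ℤ} {δY : Y → ℤ}
    (h : Cyc.DeltaCompat f δ δY) (h' : Cyc.DeltaCompat g δ' δY) : δ = δ' := by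
  subst e
  funext x
  obtain ⟨n, hn, hx⟩ := h x
  obtain ⟨m, hm, hx'⟩ := h' x
  have : n = m := by exact_mod_cast hn.symm.trans hm
  omega

theorem exists_deltaCompat (f : X ⟶ Y) [LocallyOfFiniteType f] (δY : Y → ℤ) :
    ∃ δX : X → ℤ, Cyc.DeltaCompat f δX δY := by
  have hex : ∀ x : X, ∃ m : ℕ, (letI := (f.residueFieldMap x).hom.toAlgebra
      Algebra.trdeg (Y.residueField (f x)) (X.residueField x)) = m := fun x => by
    have key : ∀ u : f.fiber (f x), f.fiberι (f x) u = x →
        ∃ s : ℕ, (letI := (f.residueFieldMap x).hom.toAlgebra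
          Algebra.trdeg (Y.residueField (f x)) (X.residueField x)) = s := by
      intro u hu
      obtain ⟨s, -, h2⟩ := H8Props.FieldDim.exists_trdeg_fiber f u
      refine ⟨s, ?_⟩
      convert! h2 using 3
      all_goals rw [hu]
    exact key _ (f.fiberι_asFiber x)
  choose m hm using hex
  exact ⟨fun x => δY (f x) + m x, fun x => ⟨m x, hm x, rfl⟩⟩

end general

section

variable {X : Scheme.{u}} (a : X ⟶ Spec (CommRingCat.of R)) {δX : X → ℤ}

theorem maximalIdeal_stalk_closed {π : R} (hπ : Irreducible π) (p : Spec (CommRingCat.of R))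
    (hp : p = closedPoint R) : maximalIdeal ((Spec (CommRingCat.of R)).presheaf.stalk p) =
      Ideal.span {(Spec (CommRingCat.of R)).presheaf.germ ⊤ p trivial
        ((Scheme.ΓSpecIso (CommRingCat.of R)).inv π)} := by
  subst hp
  let e : R →+* (Spec (CommRingCat.of R)).presheaf.stalk (closedPoint R) :=
    (stalkClosedPointIso (CommRingCat.of R)).inv.hom
  have hs : Function.Surjective e :=
    (ConcreteCategory.bijective_of_isIso (stalkClosedPointIso (CommRingCat.of R)).inv).2
  rw [← IsLocalRing.map_maximalIdeal_of_surjective e hs, hπ.maximalIdeal_eq, Ideal.map_span, Set.image_singleton]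
  refine congrArg (fun c => Ideal.span {c}) ?_
  have h := ConcreteCategory.congr_hom (ΓSpecIso_hom_stalkClosedPointIso_inv (CommRingCat.of R))
    ((Scheme.ΓSpecIso (CommRingCat.of R)).inv π)
  rw [ConcreteCategory.comp_apply] at h
  refine Eq.trans ?_ h
  exact congrArg e ((Scheme.ΓSpecIso (CommRingCat.of R)).commRingCatIsoToRingEquiv.apply_symm_apply π).symm

theorem delta_fiber (hδ : Cyc.DeltaCompat a δX (dS R)) (t : Spec (CommRingCat.of R))
    {δt : ↥(a.fiber t) → ℤ} (ht : Cyc.DeltaCompat (a.fiberToSpecResidueField t) δt (fun _ => 0))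
    (ζ : a.fiber t) : δX (a.fiberι t ζ) = δt ζ + dS R t := by
  have h1 := Bivar.deltaCompat_comp (a.fiberι t) a (fun z => δX (a.fiberι t z)) δX (dS R)
    (deltaCompat_preimmersion _ _) hδ
  have h2 : Cyc.DeltaCompat ((Spec (CommRingCat.of R)).fromSpecResidueField t) (fun _ => 0 + dS R t) (dS R) :=
    fun p => ⟨0, by exact_mod_cast trdeg_zero_of_surjective _ p (surjective_residueFieldMap _ p), by
      rw [Scheme.fromSpecResidueField_apply]; simp⟩
  have h3 := Bivar.deltaCompat_comp (a.fiberToSpecResidueField t) _ (fun z => δt z + dS R t)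
    (fun _ => 0 + dS R t) (dS R) (deltaCompat_shift _ ht (dS R t)) h2
  exact congrFun (deltaCompat_unique (a.fiber_fac t) h1 h3) ζ

theorem delta_closedFiber (hδ : Cyc.DeltaCompat a δX (dS R))
    {δs : ↥(a.fiber (closedPoint R)) → ℤ}
    (hs : Cyc.DeltaCompat (a.fiberToSpecResidueField (closedPoint R)) δs (fun _ => 0))
    (x : a.fiber (closedPoint R)) : δX (a.fiberι (closedPoint R) x) = δs x := by
  rw [delta_fiber a hδ _ hs x, dS_closed, add_zero]

theorem delta_genericFiber (hδ : Cyc.DeltaCompat a δX (dS R))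
    {δη : ↥(a.fiber (genericPoint ↥(Spec (CommRingCat.of R)))) → ℤ}
    (hη : Cyc.DeltaCompat (a.fiberToSpecResidueField (genericPoint ↥(Spec (CommRingCat.of R)))) δη (fun _ => 0))
    (ζ : a.fiber (genericPoint ↥(Spec (CommRingCat.of R)))) : δX (a.fiberι _ ζ) = δη ζ + 1 := by
  rw [delta_fiber a hδ _ hη ζ, dS_generic]

theorem map_fiberι (t : Spec (CommRingCat.of R)) (ζ : a.fiber t) : a (a.fiberι t ζ) = t := by
  have : a.fiberι t ζ ∈ Set.range (a.fiberι t) := ⟨ζ, rfl⟩
  rwa [Scheme.Hom.range_fiberι] at this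

theorem generic_not_closed (ζ : a.fiber (genericPoint ↥(Spec (CommRingCat.of R)))) :
    a (a.fiberι _ ζ) ≠ closedPoint R := by
  rw [map_fiberι]; exact closed_ne_generic.symm

/-- The germ of the uniformizer generates the image of the maximal ideal of the base. -/
theorem map_maximalIdeal_eq {π : R} (hπ : Irreducible π) (x : X) (hx : a x = closedPoint R) :
    (maximalIdeal ((Spec (CommRingCat.of R)).presheaf.stalk (a x))).map (a.stalkMap x).hom =
      Ideal.span {X.presheaf.germ ⊤ x trivial (unif a π)} := by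
  have h1 : maximalIdeal ((Spec (CommRingCat.of R)).presheaf.stalk (a x)) =
      Ideal.span {(Spec (CommRingCat.of R)).presheaf.germ ⊤ (a x) trivial
        ((Scheme.ΓSpecIso (CommRingCat.of R)).inv π)} := maximalIdeal_stalk_closed hπ _ hx
  rw [h1, Ideal.map_span, Set.image_singleton, unif, Scheme.Hom.appTop]
  exact congrArg (fun c => Ideal.span {c}) (Scheme.Hom.germ_stalkMap_apply a ⊤ x trivial _)

theorem ordAt_one_dim [IsLocallyNoetherian X] (x ξ : X) (h : ξ ⤳ x) (hdim : ringKrullDim (Cyc.LocQuot x ξ h) ≤ 1)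
    (c : X.presheaf.stalk x) (hc : Cyc.specMap x ξ h c ≠ 0) :
    Cyc.ordAt x ξ h (Cyc.specMap x ξ h c) =
      ((Module.length (X.presheaf.stalk x)
        (Cyc.LocQuot x ξ h ⧸ Ideal.span {Ideal.Quotient.mk (RingHom.ker (Cyc.specMap x ξ h)) c})).toNat : ℤ) := by
  have h1 := FlatRat.ordAt_div' x ξ h hdim c 1 hc (by simp)
  rw [map_one, div_one, map_one] at h1
  rw [h1, show Ring.ord (Cyc.LocQuot x ξ h) 1 = 0 by simp [Ring.ord], ENat.toNat_zero, Nat.cast_zero, sub_zero]
  rw [Ring.ord, ← Module.length_eq_of_surjective (S := X.presheaf.stalk x) (R := Cyc.LocQuot x ξ h)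
    (M := Cyc.LocQuot x ξ h ⧸ Ideal.span {Ideal.Quotient.mk (RingHom.ker (Cyc.specMap x ξ h)) c})
    Ideal.Quotient.mk_surjective]

/-- Each coefficient of the specialization is the order of the uniformizer. -/
theorem sp_term [IsLocallyNoetherian X] {π : R} (hπ : Irreducible π) (hX : Cyc.IsDimFun X δX) (x ξ : X) (h : ξ ⤳ x)
    (hd : δX x + 1 = δX ξ) (hx : a x = closedPoint R) (hξ : a ξ ≠ closedPoint R) :
    ((Module.length (X.presheaf.stalk x)
        (Cyc.LocQuot x ξ h ⧸ (maximalIdeal ((Spec (CommRingCat.of R)).presheaf.stalk (a x))).map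
          ((Ideal.Quotient.mk (RingHom.ker (Cyc.specMap x ξ h))).comp (a.stalkMap x).hom))).toNat : ℤ) =
      Cyc.divFun δX ξ (uval a π ξ) x := by
  rw [Cyc.divFun, dif_pos ⟨h, hd⟩, ← Ideal.map_map, map_maximalIdeal_eq a hπ x hx, Ideal.map_span,
    Set.image_singleton]
  have e : uval a π ξ = Cyc.specMap x ξ h (X.presheaf.germ ⊤ x trivial (unif a π)) := by
    rw [uval_eq a hξ]
    show _ = X.residue ξ (X.presheaf.stalkSpecializes h (X.presheaf.germ ⊤ x trivial (unif a π)))
    rw [TopCat.Presheaf.germ_stalkSpecializes_apply]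
    rfl
  have hdim : ringKrullDim (Cyc.LocQuot x ξ h) ≤ 1 := by
    rw [H22Alg.DeltaDim.eq_ringKrullDim_locQuot hX h, show (δX ξ - δX x).toNat = 1 by omega]
    simp
  rw [e, ordAt_one_dim x ξ h hdim _ (e ▸ uval_ne_zero a hπ ξ)]

/-- **Specialization is capping with the divisor of the uniformizer.** -/
theorem spFun_eq [LocallyOfFiniteType a] {π : R} (hπ : Irreducible π) (hδ : Cyc.DeltaCompat a δX (dS R))
    (hX : Cyc.IsSetup X δX)
    {δη : ↥(a.fiber (genericPoint ↥(Spec (CommRingCat.of R)))) → ℤ}
    (hη : Cyc.DeltaCompat (a.fiberToSpecResidueField (genericPoint ↥(Spec (CommRingCat.of R)))) δη (fun _ => 0))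
    {δs : ↥(a.fiber (closedPoint R)) → ℤ}
    (hs : Cyc.DeltaCompat (a.fiberToSpecResidueField (closedPoint R)) δs (fun _ => 0))
    (r : ℤ) (α : ↥(a.fiber (genericPoint ↥(Spec (CommRingCat.of R)))) → ℤ) (x : a.fiber (closedPoint R)) :
    Cyc.spFun a (genericPoint ↥(Spec (CommRingCat.of R))) (closedPoint R) δη δs r α x =
      ∑ᶠ ζ : a.fiber (genericPoint ↥(Spec (CommRingCat.of R))), (if δη ζ = r then α ζ else 0) *
        Cyc.divFun δX (a.fiberι _ ζ) (uval a π (a.fiberι _ ζ)) (a.fiberι _ x) := by
  classical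
  haveI := hX.1
  let P : ↥(a.fiber (genericPoint ↥(Spec (CommRingCat.of R)))) → Prop :=
    fun ζ => δη ζ = r ∧ a.fiberι _ ζ ⤳ a.fiberι _ x
  by_cases hx : δs x = r
  · rw [Cyc.spFun, if_pos hx]
    let F : ↥(a.fiber (genericPoint ↥(Spec (CommRingCat.of R)))) → ℤ := fun ζ => (if δη ζ = r then α ζ else 0) *
        Cyc.divFun δX (a.fiberι _ ζ) (uval a π (a.fiberι _ ζ)) (a.fiberι _ x)
    refine Eq.trans (b := ∑ᶠ ζ : Subtype P, F ζ.1) (finsum_congr fun ζ => ?_)
      ((finsum_subtype_eq_finsum_cond (f := F) P).trans (finsum_congr fun ζ => ?_))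
    · show _ = (if δη ζ.1 = r then α ζ.1 else 0) * _
      rw [if_pos ζ.2.1]
      congr 1
      exact sp_term a hπ hX.2.2 _ _ ζ.2.2 (by
        rw [delta_closedFiber a hδ hs, delta_genericFiber a hδ hη, hx, ζ.2.1]) (map_fiberι a _ x)
        (generic_not_closed a ζ.1)
    · by_cases hP : P ζ
      · rw [finsum_eq_if, if_pos hP]
      · rw [finsum_eq_if, if_neg hP]
        by_cases h1 : δη ζ = r
        · simp only [Cyc.divFun]
          rw [dif_neg fun hh => hP ⟨h1, hh.1⟩, mul_zero]
        · rw [if_neg h1, zero_mul]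
  · rw [Cyc.spFun, if_neg hx]
    refine (finsum_eq_zero_of_forall_eq_zero fun ζ => ?_).symm
    by_cases h1 : δη ζ = r
    · simp only [Cyc.divFun]
      rw [dif_neg fun hh => hx ?_, mul_zero]
      have := hh.2
      rw [delta_closedFiber a hδ hs, delta_genericFiber a hδ hη, h1] at this
      omega
    · rw [if_neg h1, zero_mul]

/-- On `r`-cycles the cut-off by the dimension disappears. -/
theorem spFun_eq_of_mem [LocallyOfFiniteType a] {π : R} (hπ : Irreducible π) (hδ : Cyc.DeltaCompat a δX (dS R))
    (hX : Cyc.IsSetup X δX)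
    {δη : ↥(a.fiber (genericPoint ↥(Spec (CommRingCat.of R)))) → ℤ}
    (hη : Cyc.DeltaCompat (a.fiberToSpecResidueField (genericPoint ↥(Spec (CommRingCat.of R)))) δη (fun _ => 0))
    {δs : ↥(a.fiber (closedPoint R)) → ℤ}
    (hs : Cyc.DeltaCompat (a.fiberToSpecResidueField (closedPoint R)) δs (fun _ => 0))
    (r : ℤ) (α : AlgebraicCycle (a.fiber (genericPoint ↥(Spec (CommRingCat.of R)))) ℤ)
    (hα : α ∈ Cyc.Zk _ δη r) (x : a.fiber (closedPoint R)) :
    Cyc.spFun a (genericPoint ↥(Spec (CommRingCat.of R))) (closedPoint R) δη δs r ⇑α x =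
      ∑ᶠ ζ : a.fiber (genericPoint ↥(Spec (CommRingCat.of R))), α ζ *
        Cyc.divFun δX (a.fiberι _ ζ) (uval a π (a.fiberι _ ζ)) (a.fiberι _ x) := by
  rw [spFun_eq a hπ hδ hX hη hs]
  refine finsum_congr fun ζ => ?_
  by_cases h : δη ζ = r
  · rw [if_pos h]
  · rw [if_neg h, hα ζ h]

instance quasiCompact_fiberι_generic : QuasiCompact (a.fiberι (genericPoint ↥(Spec (CommRingCat.of R)))) :=
  MorphismProperty.pullback_fst _ _ inferInstance

instance isOpenImmersion_fiberι_generic :
    IsOpenImmersion (a.fiberι (genericPoint ↥(Spec (CommRingCat.of R)))) :=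
  MorphismProperty.pullback_fst _ _ inferInstance

instance isClosedImmersion_fiberι_closed : IsClosedImmersion (a.fiberι (closedPoint R)) :=
  MorphismProperty.pullback_fst _ _ inferInstance

end

end Groth.Agent.H3Cyc.SpFun
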