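import Groth.Agent.H3Cyc.KDiv
import Groth.Agent.H3Cyc.FlatRat
import Groth.Agent.H3Cyc.RatRel
import Groth.Agent.H3Cyc.C1Api
import Groth.Agent.H3Cyc.SetupLft
import Groth.Agent.H3Cyc.SpFun
import Groth.Agent.H3Cyc.RatFam
import Groth.Agent.H3Cyc.RatSplit
import Groth.Agent.H26ChowK.Euler
import Groth.Agent.H06Equidim.AffineSpace
import Groth.Agent.H8Props.FibreStalk
import Groth.Agent.H22Alg.OrdFrac
import Mathlib

/-!
# Cycles on affine space bundles come from the base
-/

set_option autoImplicit false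
set_option linter.style.haveILetI false
set_option linter.unusedSectionVars false
set_option backward.isDefEq.respectTransparency.types false
universe u

open CategoryTheory CategoryTheory.Limits AlgebraicGeometry TopologicalSpace IsLocalRing

noncomputable section

namespace Groth.Agent.H3Cyc.KAffine

/-- Points other than the generic one are principal divisors of curves, up to rational equivalence. -/
def Princ (F : Scheme.{u}) [IsIntegral F] : Prop :=
  ∀ δ : F → ℤ, Cyc.IsDimFun F δ → ∀ z : F, z ≠ genericPoint F → ∀ γ : AlgebraicCycle F ℤ,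
    ⇑γ = Set.indicator {z} (fun _ => 1) → Cyc.RatEquivZero δ (δ z) γ

theorem exists_single {X : Scheme.{u}} (z : X) (n : ℤ) :
    ∃ γ : AlgebraicCycle X ℤ, ⇑γ = Set.indicator {z} (fun _ => n) := by
  classical
  refine ⟨⟨Set.indicator {z} (fun _ => n), by simp, fun x _ => ⟨Set.univ, Filter.univ_mem,
    (Set.finite_singleton z).subset ?_⟩⟩, rfl⟩
  rintro y ⟨-, hy⟩
  exact Set.mem_of_indicator_ne_zero hy

section dimfun

variable {F : Scheme.{u}} [IsIntegral F]

/-- Dimension functions on an irreducible scheme differ by a constant. -/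
theorem sub_eq_of_isDimFun {δ δ' : F → ℤ} (h : Cyc.IsDimFun F δ) (h' : Cyc.IsDimFun F δ') (x : F) :
    δ (genericPoint F) - δ x = δ' (genericPoint F) - δ' x := by
  classical
  suffices H : ∀ (N : ℕ) (x : F), (δ (genericPoint F) - δ x).toNat ≤ N →
      δ (genericPoint F) - δ x = δ' (genericPoint F) - δ' x from H _ x le_rfl
  intro N
  induction N with
  | zero =>
    intro x hx
    obtain rfl : x = genericPoint F := by
      by_contra hne
      have := (h _ x (genericPoint_specializes x) (Ne.symm hne)).1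
      omega
    simp
  | succ N ih =>
    intro x hx
    by_cases hne : x = genericPoint F
    · subst hne; simp
    have hex : ∃ m : ℕ, ∃ z : F, z ⤳ x ∧ z ≠ x ∧ δ z - δ x = m :=
      ⟨(δ (genericPoint F) - δ x).toNat, genericPoint F, genericPoint_specializes x, Ne.symm hne, by
        have := (h _ x (genericPoint_specializes x) (Ne.symm hne)).1
        omega⟩
    obtain ⟨z, hz, hzx, hm⟩ := Nat.find_spec hex
    have himm : ∀ w : F, z ⤳ w → w ⤳ x → w = z ∨ w = x := fun w hzw hwx => by
      by_contra hcon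
      rw [not_or] at hcon
      have h1 := (h z w hzw (Ne.symm hcon.1)).1
      have h2 := (h w x hwx hcon.2).1
      have h3 := Nat.find_min' hex (m := (δ w - δ x).toNat) ⟨w, hwx, hcon.2, by omega⟩
      omega
    have e := (h z x hz hzx).2 himm
    have e' := (h' z x hz hzx).2 himm
    have := ih z (by omega)
    omega

theorem ratEquivZero_of_isDimFun {δ δ' : F → ℤ} (h : Cyc.IsDimFun F δ) (h' : Cyc.IsDimFun F δ') {z : F}
    {γ : AlgebraicCycle F ℤ} (hγ : Cyc.RatEquivZero δ (δ z) γ) : Cyc.RatEquivZero δ' (δ' z) γ := by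
  obtain ⟨ι, ξ, f, hξ, hf, hlf, hval⟩ := hγ
  have key := fun x => sub_eq_of_isDimFun h h' x
  refine ⟨ι, ξ, f, fun i => ?_, hf, hlf, fun x => (hval x).trans (finsum_congr fun i => ?_)⟩
  · have := key (ξ i); have := key z; have := hξ i; omega
  · have h1 := key x
    have h2 := key (ξ i)
    by_cases hx : ξ i ⤳ x ∧ δ x + 1 = δ (ξ i)
    · simp only [Cyc.divFun]
      rw [dif_pos hx, dif_pos ⟨hx.1, by omega⟩]
    · simp only [Cyc.divFun]
      rw [dif_neg hx, dif_neg fun hh => hx ⟨hh.1, by omega⟩]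

theorem princ_of_one {δ : F → ℤ} (h : Cyc.IsDimFun F δ)
    (H : ∀ z : F, z ≠ genericPoint F → ∀ γ : AlgebraicCycle F ℤ,
      ⇑γ = Set.indicator {z} (fun _ => 1) → Cyc.RatEquivZero δ (δ z) γ) : Princ F :=
  fun _ h' z hz γ hγ => ratEquivZero_of_isDimFun h h' (H z hz γ hγ)

end dimfun

theorem isDimFun_comp_iso {F G : Scheme.{u}} (e : F ≅ G) {δ : F → ℤ} (h : Cyc.IsDimFun F δ) :
    Cyc.IsDimFun G fun g => δ (e.inv g) := by
  intro x y hxy hne
  have hne' : e.inv x ≠ e.inv y := fun he => hne (e.inv.isEmbedding.injective he)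
  refine ⟨(h _ _ (hxy.map e.inv.continuous) hne').1, fun himm => (h _ _ (hxy.map e.inv.continuous) hne').2 fun w h1 h2 => ?_⟩
  have hw : e.inv (e.hom w) = w := by rw [← Scheme.Hom.comp_apply, e.hom_inv_id]; rfl
  rw [← hw] at h1 h2
  rcases himm (e.hom w) (e.inv.isEmbedding.isInducing.specializes_iff.mp h1)
      (e.inv.isEmbedding.isInducing.specializes_iff.mp h2) with h3 | h3
  · exact Or.inl (hw.symm.trans (congrArg e.inv h3))
  · exact Or.inr (hw.symm.trans (congrArg e.inv h3))

theorem princ_of_iso {F G : Scheme.{u}} [IsIntegral F] [IsIntegral G] (e : F ≅ G) (hG : Princ G) : Princ F := by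
  intro δ hδ z hz γ hγ
  have hηG : e.hom (genericPoint F) = genericPoint G := by
    have h1 : genericPoint G ⤳ e.hom (genericPoint F) := genericPoint_specializes _
    have h2 : e.hom (genericPoint F) ⤳ genericPoint G := by
      have h := (genericPoint_specializes (e.inv (genericPoint G))).map e.hom.continuous
      rwa [← Scheme.Hom.comp_apply, e.inv_hom_id] at h
    exact (h2.antisymm h1).eq
  have hinv : ∀ w, e.inv (e.hom w) = w := fun w => by rw [← Scheme.Hom.comp_apply, e.hom_inv_id]; rfl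
  have hhom : ∀ g, e.hom (e.inv g) = g := fun g => by rw [← Scheme.Hom.comp_apply, e.inv_hom_id]; rfl
  obtain ⟨γ', hγ'⟩ := exists_single (e.hom z) 1
  obtain ⟨ι, ξ, f, hξ, hf, hlf, hval⟩ := hG _ (isDimFun_comp_iso e hδ) (e.hom z)
    (fun h => hz (e.hom.isEmbedding.injective (h.trans hηG.symm))) γ' hγ'
  refine ⟨ι, fun i => e.inv (ξ i), fun i => e.hom.residueFieldMap (e.inv (ξ i))
      ((G.residueFieldCongr (hhom (ξ i))).inv (f i)), fun i => ?_, fun i h0 => ?_, fun x => ?_, fun x => ?_⟩
  · have := hξ i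
    simp only [hinv] at this
    exact this
  · refine hf i ?_
    have h1 : (G.residueFieldCongr (hhom (ξ i))).inv (f i) = 0 :=
      (e.hom.residueFieldMap (e.inv (ξ i))).hom.injective (h0.trans (map_zero _).symm)
    exact (G.residueFieldCongr (hhom (ξ i))).commRingCatIsoToRingEquiv.symm.injective (h1.trans (map_zero _).symm)
  · obtain ⟨U, hU, hxU, hfin⟩ := hlf (e.hom x)
    refine ⟨e.hom ⁻¹' U, hU.preimage e.hom.continuous, hxU, hfin.subset ?_⟩
    rintro i ⟨y, hy, hyU⟩
    refine ⟨e.hom y, ?_, hyU⟩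
    have := (specializes_iff_mem_closure.mpr hy).map e.hom.continuous
    rw [hhom] at this
    exact specializes_iff_mem_closure.mp this
  · have e1 : γ x = γ' (e.hom x) := by
      rw [hγ, hγ']
      by_cases hx : x = z
      · subst hx; simp
      · have hx' : e.hom x ≠ e.hom z := fun h => hx (e.hom.isEmbedding.injective h)
        simp [hx, hx']
    rw [e1, hval]
    refine finsum_congr fun i => ?_
    have key : ∀ (g : G) (c : G.residueField g) (w : F) (hw : e.hom w = g),
        Cyc.divFun δ w (e.hom.residueFieldMap w ((G.residueFieldCongr hw).inv c)) x =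
          Cyc.divFun (fun g => δ (e.inv g)) g c (e.hom x) := by
      intro g c w hw
      subst hw
      have hd : δ = fun v => δ (e.inv (e.hom v)) := funext fun v => by rw [hinv]
      conv_lhs => rw [hd]
      simp only [Scheme.residueFieldCongr_refl, Iso.refl_inv]
      exact Reduction.divFun_immersion e.hom (fun g => δ (e.inv g)) w c x
    exact (key (ξ i) (f i) (e.inv (ξ i)) (hhom (ξ i))).symm

/-- Spectra of principal ideal domains. -/
theorem princ_spec_pid (R : Type u) [CommRing R] [IsDomain R] [IsPrincipalIdealRing R] :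
    Princ (Spec (CommRingCat.of R)) := by
  classical
  intro δ hδ z hz γ hγ
  have hη : (genericPoint (Spec (CommRingCat.of R))).asIdeal = ⊥ := by
    rw [genericPoint_eq_bot_of_affine]; rfl
  have hne : ∀ x : Spec (CommRingCat.of R), x ≠ genericPoint _ → x.asIdeal ≠ ⊥ := fun x hx h =>
    hx (PrimeSpectrum.ext (h.trans hη.symm))
  have hmax : ∀ x : Spec (CommRingCat.of R), x ≠ genericPoint _ → x.asIdeal.IsMaximal := fun x hx =>
    IsPrime.to_maximal_ideal (hne x hx)
  have hdrop : ∀ x : Spec (CommRingCat.of R), x ≠ genericPoint _ → δ (genericPoint _) = δ x + 1 := fun x hx =>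
    (hδ _ x (genericPoint_specializes x) (Ne.symm hx)).2 fun w _ hwx => by
      by_cases hw : w = genericPoint (Spec (CommRingCat.of R))
      · exact Or.inl hw
      · exact Or.inr (PrimeSpectrum.ext ((hmax w hw).eq_of_le x.2.ne_top
          ((PrimeSpectrum.le_iff_specializes w x).mpr hwx)))
  obtain ⟨g, hg⟩ : ∃ g : R, z.asIdeal = Ideal.span {g} := ⟨_, (Submodule.IsPrincipal.span_singleton_generator _).symm⟩
  have hg0 : g ≠ 0 := fun h => hne z hz (by rw [hg, h]; simp)
  let gg : ∀ x : Spec (CommRingCat.of R), (Spec (CommRingCat.of R)).presheaf.stalk x := fun x =>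
    (StructureSheaf.toStalk R x).hom g
  have hunit : ∀ x : Spec (CommRingCat.of R), g ∉ x.asIdeal → IsUnit (gg x) := fun x hx =>
    IsLocalization.map_units (R := R) (M := x.asIdeal.primeCompl) ((Spec.structureSheaf R).presheaf.stalk x)
      ⟨g, hx⟩
  refine ⟨PUnit.{u + 1}, fun _ => genericPoint _,
    fun _ => ((Spec (CommRingCat.of R)).residue (genericPoint _)).hom (gg (genericPoint _)),
    fun _ => hdrop z hz, fun _ h0 => ?_, fun x => ⟨Set.univ, isOpen_univ, trivial, Set.toFinite _⟩, fun x => ?_⟩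
  · exact (((hunit _ (by rw [hη]; simpa using hg0)).map
      ((Spec (CommRingCat.of R)).residue (genericPoint _)).hom)).ne_zero h0
  rw [finsum_unique, hγ]
  by_cases hx : x = genericPoint (Spec (CommRingCat.of R))
  · subst hx
    simp only [Cyc.divFun]
    rw [dif_neg (fun h => by have := h.2; omega)]
    exact Set.indicator_of_notMem (fun h => hz h.symm) _
  simp only [Cyc.divFun]
  rw [dif_pos ⟨genericPoint_specializes x, (hdrop x hx).symm⟩]
  haveI : Ring.KrullDimLE 1 ((Spec (CommRingCat.of R)).presheaf.stalk x) :=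
    Ring.krullDimLE_iff.mpr (KDiv.ringKrullDim_le_one hδ (hdrop x hx).symm)
  have e : gg (genericPoint _) =
      algebraMap ((Spec (CommRingCat.of R)).presheaf.stalk x) (Spec (CommRingCat.of R)).functionField (gg x) :=
    (ConcreteCategory.congr_hom (StructureSheaf.toStalk_stalkSpecializes
      (R := R) (genericPoint_specializes (α := Spec (CommRingCat.of R)) x)) g).symm
  erw [KDiv.ordAt_eq x (gg (genericPoint _))]
  rw [e]
  have hinj : Function.Injective (algebraMap ((Spec (CommRingCat.of R)).presheaf.stalk x)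
      (Spec (CommRingCat.of R)).functionField) := IsFractionRing.injective _ _
  have hne0 : gg x ≠ 0 := fun h => by
    have h1 : gg (genericPoint (Spec (CommRingCat.of R))) = 0 := by rw [e, h, map_zero]
    exact (hunit (genericPoint _) (by rw [hη]; simpa using hg0)).ne_zero h1
  have hord := H22Alg.cycOrdFrac_div (R := (Spec (CommRingCat.of R)).presheaf.stalk x)
    (Spec (CommRingCat.of R)).functionField (x := gg x) (y := 1) (mem_nonZeroDivisors_of_ne_zero hne0) (one_mem _)
  rw [map_one, div_one] at hord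
  rw [hord, show Ring.ord ((Spec (CommRingCat.of R)).presheaf.stalk x) 1 = 0 from Ring.ord_one _]
  by_cases hxz : x = z
  · subst hxz
    have hm : IsLocalRing.maximalIdeal ((Spec (CommRingCat.of R)).presheaf.stalk x) = Ideal.span {gg x} := by
      haveI : IsLocalRing ((Spec.structureSheaf R).presheaf.stalk x) :=
        IsLocalization.AtPrime.isLocalRing _ x.asIdeal
      refine ((IsLocalization.AtPrime.map_eq_maximalIdeal x.asIdeal
        ((Spec.structureSheaf R).presheaf.stalk x)).symm).trans ?_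
      rw [hg, Ideal.map_span, Set.image_singleton]
      rfl
    have h1 : Ring.ord ((Spec (CommRingCat.of R)).presheaf.stalk x) (gg x) = 1 := by
      rw [Ring.ord, ← hm, Module.length_eq_one_iff, isSimpleModule_iff_isCoatom]
      exact (IsLocalRing.maximalIdeal.isMaximal _).out
    rw [h1]
    simp
  · have hu : IsUnit (gg x) := hunit x fun hgx => hxz (PrimeSpectrum.ext
      ((hmax z hz).eq_of_le x.2.ne_top (by rw [hg, Ideal.span_singleton_le_iff_mem]; exact hgx)).symm)
    rw [Ring.ord_of_isUnit hu]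
    simp [hxz]

section master

variable {X Y : Scheme.{u}} (f : X ⟶ Y) {δX : X → ℤ} {δY : Y → ℤ}

theorem isDimFun_fiber (hδX : Cyc.IsDimFun X δX) (y : Y) :
    Cyc.IsDimFun (f.fiber y) fun z => δX (f.fiberι y z) := by
  intro a b hab hne
  have hne' : f.fiberι y a ≠ f.fiberι y b := fun h => hne ((f.fiberι y).isEmbedding.injective h)
  have hmap := hab.map (f.fiberι y).continuous
  refine ⟨(hδX _ _ hmap hne').1, fun himm => (hδX _ _ hmap hne').2 fun v h1 h2 => ?_⟩
  have hy : ∀ w, f (f.fiberι y w) = y := fun w => (f.range_fiberι y).subset (Set.mem_range_self w)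
  have hv : f v = y := by
    have e1 := h1.map f.continuous
    have e2 := h2.map f.continuous
    rw [hy] at e1 e2
    exact (e2.antisymm e1).eq
  obtain ⟨w, rfl⟩ : v ∈ Set.range (f.fiberι y) := (f.range_fiberι y).symm.subset hv
  rcases himm w ((f.fiberι y).isEmbedding.isInducing.specializes_iff.mp h1)
      ((f.fiberι y).isEmbedding.isInducing.specializes_iff.mp h2) with h | h
  · exact Or.inl (congrArg _ h)
  · exact Or.inr (congrArg _ h)

theorem surjective_residueFieldMap_of_isPreimmersion {W Z : Scheme.{u}} (i : W ⟶ Z) [IsPreimmersion i] (w : W) :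
    Function.Surjective (i.residueFieldMap w).hom := by
  intro c
  obtain ⟨s, rfl⟩ := IsLocalRing.residue_surjective c
  obtain ⟨t, rfl⟩ := i.stalkMap_surjective w s
  exact ⟨(Z.residue (i w)).hom t, ConcreteCategory.congr_hom (Scheme.residue_residueFieldMap i w) t⟩

theorem push_fibre [QuasiCompact f] (hδY : Cyc.IsDimFun Y δY) (y : Y) {n : ℤ}
    {γ : AlgebraicCycle (f.fiber y) ℤ} (h : Cyc.RatEquivZero (fun z => δX (f.fiberι y z)) n γ) :
    ∃ G : X → ℤ, RatFam δX n (f ⁻¹' closure {y}) G ∧ (∀ z, G (f.fiberι y z) = γ z) ∧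
      ∀ x, G x ≠ 0 → f x = y ∨ δY (f x) < δY y := by
  classical
  obtain ⟨ι, ξ, g, hξ, hg, hlf, hval⟩ := h
  choose c hc using fun i => surjective_residueFieldMap_of_isPreimmersion (f.fiberι y) (ξ i) (g i)
  have hy : ∀ w, f (f.fiberι y w) = y := fun w => (f.range_fiberι y).subset (Set.mem_range_self w)
  choose U hU hmem hfin using hlf
  obtain ⟨t, ht⟩ := (isCompact_univ (X := f.fiber y)).elim_finite_subcover U hU
    fun u _ => Set.mem_iUnion.mpr ⟨u, hmem u⟩
  haveI : Finite ι := Set.finite_univ_iff.mp ((t.finite_toSet.biUnion fun u _ => hfin u).subset fun i _ => by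
    obtain ⟨u, hu, hiu⟩ := Set.mem_iUnion₂.mp (ht (Set.mem_univ (ξ i)))
    exact Set.mem_biUnion hu ⟨ξ i, subset_closure rfl, hiu⟩)
  refine ⟨fun x => ∑ᶠ i, Cyc.divFun δX (f.fiberι y (ξ i)) (c i) x,
    ⟨ι, fun i => f.fiberι y (ξ i), c, fun i => ⟨hξ i, ?_⟩, fun i h0 => hg i ?_,
      fun x => ⟨Set.univ, isOpen_univ, trivial, Set.toFinite _⟩, fun x => rfl⟩, fun z => ?_, fun x hx => ?_⟩
  · show f (f.fiberι y (ξ i)) ∈ closure {y}
    rw [hy]
    exact subset_closure rfl
  · rw [← hc i, h0, map_zero]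
  · rw [hval]
    refine finsum_congr fun i => ?_
    rw [← hc i]
    exact (Reduction.divFun_immersion (f.fiberι y) δX (ξ i) (c i) z).symm
  · obtain ⟨i, hi⟩ : ∃ i, Cyc.divFun δX (f.fiberι y (ξ i)) (c i) x ≠ 0 := by
      by_contra hn
      exact hx (finsum_eq_zero_of_forall_eq_zero fun i => not_not.mp (not_exists.mp hn i))
    have hs : f.fiberι y (ξ i) ⤳ x := by
      by_contra hn
      refine hi ?_
      simp only [Cyc.divFun]
      rw [dif_neg fun hh => hn hh.1]
    have e := hs.map f.continuous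
    rw [hy] at e
    by_cases hxy : f x = y
    · exact Or.inl hxy
    · exact Or.inr (hδY _ _ e (Ne.symm hxy)).1

variable [Flat f] [LocallyOfFiniteType f] [QuasiCompact f]

/-- Flat pullback is surjective up to rational equivalence when the fibres are principal. -/
theorem master (hX : Cyc.IsSetup X δX) (hY : Cyc.IsSetup Y δY) {r : ℕ} (hr : Cyc.HasRelDim f r)
    (hδ : Cyc.DeltaCompat f δX δY) (hint : ∀ y, IsIntegral (f.fiber y))
    (hP : ∀ y, haveI := hint y; Princ (f.fiber y)) (k : ℤ) (β : AlgebraicCycle X ℤ)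
    (hβ : β ∈ Cyc.Zk X δX (k + r)) :
    ∃ (α : AlgebraicCycle Y ℤ) (β' : AlgebraicCycle X ℤ), α ∈ Cyc.Zk Y δY k ∧
      ⇑β' = Cyc.pullFun f δX δY r ⇑α ∧ Cyc.RatEquiv δX (k + r) β β' := by
  classical
  haveI := hX.1
  suffices H : ∀ (m : ℕ) (β : AlgebraicCycle X ℤ), β ∈ Cyc.Zk X δX (k + r) →
      (∀ x, β x ≠ 0 → δY (f x) ≤ k + m) →
      ∃ (α : AlgebraicCycle Y ℤ) (β' : AlgebraicCycle X ℤ), α ∈ Cyc.Zk Y δY k ∧
        ⇑β' = Cyc.pullFun f δX δY r ⇑α ∧ Cyc.RatEquiv δX (k + r) β β' by
    refine H r β hβ fun x hx => ?_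
    have h1 := H22Alg.CycBasic.delta_le f hδ x
    have h2 : δX x = k + r := by_contra fun h => hx (hβ x h)
    omega
  have hlfS : ∀ (β : AlgebraicCycle X ℤ) (y : Y), ∃ V : Set Y, IsOpen V ∧ y ∈ V ∧
      (f ⁻¹' V ∩ Function.support ⇑β).Finite := fun β y => by
    obtain ⟨V, hV, hyV, -⟩ := exists_isAffineOpen_mem_and_subset (show y ∈ (⊤ : Y.Opens) from trivial)
    exact ⟨V, V.2, hyV, β.locallyFiniteSupport.finite_inter_support_of_isCompact (f.isCompact_preimage hV.isCompact)⟩
  intro m
  induction m with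
  | zero =>
    intro β hβ hle
    let gen : Y → X := fun y => haveI := hint y; f.fiberι y (genericPoint (f.fiber y))
    have hgen : ∀ y, f (gen y) = y := fun y => (f.range_fiberι y).subset (Set.mem_range_self _)
    have key : ∀ x, δX x = δY (f x) + r → x = gen (f x) := fun x hx => by
      haveI := hint (f x)
      refine (f.fiberι_asFiber x).symm.trans (congrArg _ ?_)
      by_contra hne
      have h1 := (genericPoint_specializes (f.asFiber x)).map (f.fiberι (f x)).continuous
      rw [f.fiberι_asFiber] at h1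
      have h2 : gen (f x) ≠ x := fun he => hne
        ((f.fiberι (f x)).isEmbedding.injective ((f.fiberι_asFiber x).trans he.symm))
      have h3 := (hX.2.2 _ _ h1 h2).1
      have h4 := H22Alg.CycBasic.delta_le_of_hasRelDim f hr hδ (gen (f x))
      rw [hgen] at h4
      show False
      exact absurd h4 (by have : δX x < δX (gen (f x)) := h3; omega)
    have hsupp : ∀ x, β x ≠ 0 → δX x = k + r ∧ δY (f x) = k := fun x hx => by
      have h1 : δX x = k + r := by_contra fun h => hx (hβ x h)
      have h2 := H22Alg.CycBasic.delta_le_of_hasRelDim f hr hδ x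
      have h3 := hle x hx
      exact ⟨h1, by push_cast at h3; omega⟩
    let α : AlgebraicCycle Y ℤ :=
      ⟨fun y => if δY y = k then β (gen y) else 0, by simp, fun y _ => by
        obtain ⟨V, hV, hyV, hfin⟩ := hlfS β y
        refine ⟨V, hV.mem_nhds hyV, (hfin.image f).subset ?_⟩
        rintro z ⟨hzV, hz⟩
        refine ⟨gen z, ⟨by show f (gen z) ∈ V; rw [hgen]; exact hzV, ?_⟩, hgen z⟩
        intro h0
        exact hz (by show (if δY z = k then β (gen z) else 0) = 0; rw [h0, ite_self])⟩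
    refine ⟨α, β, fun y hy => if_neg hy, funext fun x => ?_, RatRel.refl β⟩
    simp only [Cyc.pullFun]
    by_cases hx : δX x = δY (f x) + r
    · rw [if_pos hx]
      show β x = (if δY (f x) = k then β (gen (f x)) else 0) * _
      haveI := hint (f x)
      have hlen : Module.length (X.presheaf.stalk x) (X.presheaf.stalk x ⧸
          (maximalIdeal (Y.presheaf.stalk (f x))).map (f.stalkMap x).hom) = 1 := by
        refine (Module.length_eq_of_surjective (S := X.presheaf.stalk x)
          (R := X.presheaf.stalk x ⧸ (maximalIdeal (Y.presheaf.stalk (f x))).map (f.stalkMap x).hom)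
          Ideal.Quotient.mk_surjective).trans ?_
        have he : f.asFiber x = genericPoint (f.fiber (f x)) :=
          (f.fiberι (f x)).isEmbedding.injective ((f.fiberι_asFiber x).trans (key x hx))
        have hfld : IsField ((f.fiber (f x)).presheaf.stalk (f.asFiber x)) := by
          rw [he]
          exact Field.toIsField (f.fiber (f x)).functionField
        letI := ((H8Props.FibreStalk.asFiberStalkEquiv f x).toMulEquiv.isField hfld).toField
        rw [Module.length_eq_one_iff]
        infer_instance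
      rw [hlen]
      simp only [ENat.toNat_one, Nat.cast_one, mul_one]
      by_cases hk : δY (f x) = k
      · rw [if_pos hk, ← key x hx]
      · rw [if_neg hk]
        exact by_contra fun h => hk (hsupp x h).2
    · rw [if_neg hx]
      refine by_contra fun h => hx ?_
      obtain ⟨h1, h2⟩ := hsupp x h
      omega
  | succ m ih =>
    intro β hβ hle
    let S := {a : X // β a ≠ 0 ∧ δY (f a) = k + (m + 1 : ℕ)}
    have hone : ∀ a : S, ∃ G : X → ℤ, RatFam δX (k + r) (f ⁻¹' closure {f a.1}) G ∧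
        (∀ x, f x = f a.1 → G x = if x = a.1 then 1 else 0) ∧
        ∀ x, G x ≠ 0 → f x = f a.1 ∨ δY (f x) < k + (m + 1 : ℕ) := by
      rintro ⟨a, ha, hay⟩
      haveI := hint (f a)
      have hak : δX a = k + r := by_contra fun h => ha (hβ a h)
      have hne : f.asFiber a ≠ genericPoint (f.fiber (f a)) := fun he => by
        have hm : ∀ x', f x' = f a → x' ⤳ a → x' = a := fun x' hx' hs => by
          obtain ⟨w, rfl⟩ : x' ∈ Set.range (f.fiberι (f a)) := (f.range_fiberι (f a)).symm.subset hx'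
          have h1 : genericPoint (f.fiber (f a)) ⤳ w := genericPoint_specializes w
          rw [← he] at h1
          have h2 := h1.map (f.fiberι (f a)).continuous
          rw [f.fiberι_asFiber] at h2
          exact (hs.antisymm h2).eq
        have := H22Alg.CycBasic.delta_eq_of_maximal f hr hδ a hm
        omega
      obtain ⟨γ, hγ⟩ := exists_single (f.asFiber a) 1
      have hR := hP (f a) _ (isDimFun_fiber f hX.2.2 (f a)) (f.asFiber a) hne γ hγ
      rw [show δX (f.fiberι (f a) (f.asFiber a)) = k + r by rw [f.fiberι_asFiber, hak]] at hR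
      obtain ⟨G, hG, hG1, hG2⟩ := push_fibre f hY.2.2 (f a) hR
      refine ⟨G, hG, fun x hx => ?_, fun x hx => (hG2 x hx).imp id fun h => by omega⟩
      obtain ⟨w, rfl⟩ : x ∈ Set.range (f.fiberι (f a)) := (f.range_fiberι (f a)).symm.subset hx
      rw [hG1, hγ]
      by_cases hw : w = f.asFiber a
      · subst hw; rw [if_pos (f.fiberι_asFiber a)]; simp
      · rw [if_neg fun h => hw ((f.fiberι (f a)).isEmbedding.injective (h.trans (f.fiberι_asFiber a).symm))]
        exact Set.indicator_of_notMem (s := {f.asFiber a}) hw _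
    choose G hG hG1 hG2 using hone
    have hfam : RatFam δX (k + r) Set.univ fun x => ∑ᶠ a : S, β a.1 * G a x := by
      refine RatFam.family (fun a : S => f ⁻¹' closure {f a.1}) (fun a => isClosed_closure.preimage f.continuous)
        (fun x => ?_) (fun a x => β a.1 * G a x)
        (fun a => ((hG a).zsmul (β a.1)).mono fun x hx => ⟨hx, trivial⟩) fun x => rfl
      obtain ⟨V, hV, hxV, hfin⟩ := hlfS β (f x)
      refine ⟨f ⁻¹' V, hV.preimage f.continuous, hxV,
        (hfin.preimage (f := fun a : S => a.1) Subtype.val_injective.injOn).subset ?_⟩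
      rintro a ⟨z, hz, hzV⟩
      exact ⟨(specializes_iff_mem_closure.mpr hz).mem_open hV hzV, a.2.1⟩
    obtain ⟨γ, hγ, hγk⟩ := RatFam.exists_cycle hX.2.2 hfam
    have hval : ∀ x, k + (m + 1 : ℕ) ≤ δY (f x) → γ x = β x := fun x hx => by
      rw [hγ]
      show ∑ᶠ a : S, β a.1 * G a x = β x
      have hGx : ∀ a : S, G a x ≠ 0 → x = a.1 := fun a hne => by
        rcases hG2 a x hne with h | h
        · by_contra hxa
          exact hne (by rw [hG1 a x h, if_neg hxa])
        · omega
      by_cases hxS : β x ≠ 0 ∧ δY (f x) = k + (m + 1 : ℕ)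
      · rw [finsum_eq_single _ (⟨x, hxS⟩ : S) fun a ha => mul_eq_zero_of_right _
          (by_contra fun hne => ha (Subtype.ext (hGx a hne).symm)), hG1 ⟨x, hxS⟩ x rfl, if_pos rfl, mul_one]
      · rw [finsum_eq_zero_of_forall_eq_zero fun a => mul_eq_zero_of_right _
          (by_contra fun hne => hxS (by rw [hGx a hne]; exact a.2))]
        exact (not_not.mp fun hb => hxS ⟨hb, le_antisymm (hle x hb) hx⟩).symm
    have hRγ : Cyc.RatEquiv δX (k + r) β (β - γ) := by
      show Cyc.RatEquivZero δX (k + r) (β - (β - γ))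
      rw [sub_sub_cancel]
      exact hfam.ratEquivZero fun x => by rw [hγ]
    obtain ⟨α, β', hα, hβ', hrel⟩ := ih (β - γ) (fun x hx => by
        show β x - γ x = 0
        rw [hβ x hx, hγk x hx, sub_zero]) (fun x hx => by
        by_contra hlt
        refine hx ?_
        show β x - γ x = 0
        rw [hval x (by push_cast at hlt ⊢; omega), sub_self])
    exact ⟨α, β', hα, hβ', RatRel.trans hRγ hrel⟩

end master

section affine

open H8Props.FieldDim

theorem hasRelDim_affineSpace {Y : Scheme.{u}} (σ : Type u) [Fintype σ] :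
    Cyc.HasRelDim (𝔸(σ; Y) ↘ Y) (Fintype.card σ) := by
  intro y T hT
  obtain ⟨η, rfl, hη⟩ := mem_irreducibleComponents_iff hT
  haveI := locallyOfFiniteType_fiberToSpec (𝔸(σ; Y) ↘ Y) y
  show cdim η = _
  rw [← localDim_of_maximal (k := Y.residueField y) ((𝔸(σ; Y) ↘ Y).fiberToSpecResidueField y) η hη,
    ← fibreDimAt_eq_localDim, H06Equidim.fibreDimAt_affineSpace]

/-- A fibre of affine space. -/
def fiberAffineIso {Y : Scheme.{u}} (σ : Type u) (y : Y) :
    (𝔸(σ; Y) ↘ Y).fiber y ≅ Spec (CommRingCat.of (MvPolynomial σ (Y.residueField y))) :=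
  (AffineSpace.isPullback_map (n := σ) (Y.fromSpecResidueField y)).isoPullback.symm ≪≫
    AffineSpace.SpecIso σ (Y.residueField y)

/-- Isomorphic rings have isomorphic spectra. -/
def specIso {A B : Type u} [CommRing A] [CommRing B] (e : A ≃+* B) :
    Spec (CommRingCat.of A) ≅ Spec (CommRingCat.of B) :=
  Scheme.Spec.mapIso e.symm.toCommRingCatIso.op

theorem princ_line (K : Type u) [Field K] (σ : Type u) [Unique σ] :
    Princ (Spec (CommRingCat.of (MvPolynomial σ K))) :=
  haveI : IsIntegral (Spec (CommRingCat.of (Polynomial K))) := inferInstance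
  princ_of_iso (specIso (MvPolynomial.uniqueAlgEquiv K σ).toRingEquiv) (princ_spec_pid (Polynomial K))

theorem ratEquivZero_of_princ {Y : Scheme.{u}} [IsIntegral Y] [CompactSpace Y] {δ : Y → ℤ}
    (hY : Cyc.IsSetup Y δ) (hP : Princ Y) {k : ℤ} {α : AlgebraicCycle Y ℤ} (hα : α ∈ Cyc.Zk Y δ k)
    (h0 : α (genericPoint Y) = 0) : Cyc.RatEquivZero δ k α := by
  classical
  let S := {a : Y // α a ≠ 0}
  haveI : Finite S := by
    have h := α.locallyFiniteSupport.finite_inter_support_of_isCompact (isCompact_univ (X := Y))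
    rw [Set.univ_inter] at h
    exact h.to_subtype
  choose γ hγ using fun a : S => exists_single a.1 1
  have hk : ∀ a : S, δ a.1 = k := fun a => by_contra fun h => a.2 (hα a.1 h)
  have hR : ∀ a : S, RatFam δ k Set.univ ⇑(γ a) := fun a => hk a ▸
    RatFam.of_ratEquivZero (hP δ hY.2.2 a.1 (fun h => a.2 (h ▸ h0)) (γ a) (hγ a))
  refine RatFam.ratEquivZero (S := Set.univ) (G := fun x => ∑ᶠ a : S, α a.1 * γ a x) ?_ fun x => ?_
  · exact RatFam.family (fun _ => Set.univ) (fun _ => isClosed_univ)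
      (fun x => ⟨Set.univ, isOpen_univ, trivial, Set.toFinite _⟩) (fun a x => α a.1 * γ a x)
      (fun a => ((hR a).zsmul (α a.1)).mono (by simp)) fun x => rfl
  · by_cases hx : α x = 0
    · rw [finsum_eq_zero_of_forall_eq_zero fun a => mul_eq_zero_of_right _ (by
        rw [hγ a, Set.indicator_of_notMem]
        exact fun h => a.2 (Set.mem_singleton_iff.mp h ▸ hx)), hx]
    · rw [finsum_eq_single _ (⟨x, hx⟩ : S) fun a ha => mul_eq_zero_of_right _ (by
        rw [hγ a, Set.indicator_of_notMem]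
        exact fun h => ha (Subtype.ext (Set.mem_singleton_iff.mp h).symm)), hγ ⟨x, hx⟩]
      simp

theorem princ_affine_line {Y : Scheme.{u}} [IsIntegral Y] [CompactSpace Y] {δY : Y → ℤ}
    (hY : Cyc.IsSetup Y δY) (hP : Princ Y) (σ : Type u) [Unique σ] : Princ (𝔸(σ; Y)) := by
  classical
  haveI := hY.1
  haveI := H06Equidim.flat_affineSpace (Y := Y) σ
  obtain ⟨δX, hδ⟩ := SpFun.exists_deltaCompat (𝔸(σ; Y) ↘ Y) δY
  have hX := isSetup_of_locallyOfFiniteType _ hY hδ
  haveI := hX.1
  have hr : Cyc.HasRelDim (𝔸(σ; Y) ↘ Y) 1 := by simpa using hasRelDim_affineSpace (Y := Y) σ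
  have hint : ∀ y, IsIntegral ((𝔸(σ; Y) ↘ Y).fiber y) := fun y =>
    haveI : Nonempty ((𝔸(σ; Y) ↘ Y).fiber y) := ⟨(fiberAffineIso σ y).inv (genericPoint _)⟩
    isIntegral_of_isOpenImmersion (fiberAffineIso σ y).hom
  refine princ_of_one hX.2.2 fun z hz γ hγ => ?_
  obtain ⟨α, β', hα, hβ', hrel⟩ := master (𝔸(σ; Y) ↘ Y) hX hY hr hδ hint
    (fun y => haveI := hint y; princ_of_iso (fiberAffineIso σ y) (princ_line _ σ)) (δX z - 1) γ
    (fun x hx => by
      rw [hγ]
      exact Set.indicator_of_notMem (fun h => hx (by rw [Set.mem_singleton_iff.mp h]; push_cast; ring)) _)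
  have hα0 : α (genericPoint Y) = 0 := hα _ fun he => by
    have h1 := (hX.2.2 _ z (genericPoint_specializes z) (Ne.symm hz)).1
    have h2 := H22Alg.CycBasic.delta_le_of_hasRelDim (𝔸(σ; Y) ↘ Y) hr hδ (genericPoint (𝔸(σ; Y)))
    have h3 := H22Alg.DeltaDim.delta_le hY.2.2 (genericPoint_specializes ((𝔸(σ; Y) ↘ Y) (genericPoint (𝔸(σ; Y)))))
    omega
  have hα' : Cyc.RatEquiv δY (δX z - 1) α 0 := by
    show Cyc.RatEquivZero _ _ _
    rw [sub_zero]
    exact ratEquivZero_of_princ hY hP hα hα0
  have h2 := FlatRat.ratEquiv_pullFun (𝔸(σ; Y) ↘ Y) hX hY (FlatRat.maxDim_of_hasRelDim _ hr hδ) (δX z - 1) α 0 hα'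
    β' 0 hβ' (funext fun x => by simp [Cyc.pullFun])
  have h3 : Cyc.RatEquivZero δX (δX z - 1 + (1 : ℕ)) (γ - 0) := RatRel.trans hrel h2
  simpa using h3

/-- Points other than the generic one of affine space over a field are rationally trivial. -/
theorem princ_polynomial (K : Type u) [Field K] (n : ℕ) :
    Princ (Spec (CommRingCat.of (MvPolynomial (_root_.Fin n) K))) := by
  induction n with
  | zero => exact princ_of_iso (specIso (MvPolynomial.isEmptyRingEquiv K (_root_.Fin 0))) (princ_spec_pid K)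
  | succ n ih =>
    let p : Spec (CommRingCat.of (MvPolynomial (_root_.Fin n) K)) ⟶ Spec (CommRingCat.of K) :=
      Spec.map (CommRingCat.ofHom (algebraMap K (MvPolynomial (_root_.Fin n) K)))
    haveI : LocallyOfFiniteType p := (HasRingHomProperty.Spec_iff (P := @LocallyOfFiniteType)).mpr
      (RingHom.finiteType_algebraMap.mpr inferInstance)
    obtain ⟨δY, hδY⟩ := SpFun.exists_deltaCompat p fun _ => (0 : ℤ)
    have hY := isSetup_of_locallyOfFiniteType p (H26ChowK.isSetup_spec_field (k := K)) hδY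
    have h := princ_affine_line hY ih PUnit.{u + 1}
    exact princ_of_iso (specIso (((MvPolynomial.renameEquiv K
      ((finSuccEquiv n).trans (Equiv.optionEquivSumPUnit.{u} _) |>.trans (Equiv.sumComm _ _))).toRingEquiv).trans
        (MvPolynomial.sumAlgEquiv K PUnit.{u + 1} (_root_.Fin n)).toRingEquiv) ≪≫
      (AffineSpace.SpecIso PUnit.{u + 1} (CommRingCat.of (MvPolynomial (_root_.Fin n) K))).symm) h

theorem princ_mvPolynomial (K : Type u) [Field K] (σ : Type u) [Fintype σ] :
    Princ (Spec (CommRingCat.of (MvPolynomial σ K))) :=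
  princ_of_iso (specIso (MvPolynomial.renameEquiv K (Fintype.equivFin σ)).toRingEquiv)
    (princ_polynomial K _)

end affine

section bundle

variable {X Y : Scheme.{u}} (f : X ⟶ Y) {σ : Type u}

theorem exists_fiber_iso (hloc : ∀ y : Y, ∃ U : Y.Opens, y ∈ U ∧ ∃ e : (↑(f ⁻¹ᵁ U) : Scheme.{u}) ≅ 𝔸(σ; (↑U : Scheme.{u})),
      e.hom ≫ (𝔸(σ; (↑U : Scheme.{u})) ↘ (↑U : Scheme.{u})) = f ∣_ U) (y : Y) :
    Nonempty (f.fiber y ≅ Spec (CommRingCat.of (MvPolynomial σ (Y.residueField y)))) := by
  obtain ⟨U, hy, e, he⟩ := hloc y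
  let φ : Spec (Y.residueField y) ⟶ (U : Scheme.{u}) := IsOpenImmersion.lift U.ι (Y.fromSpecResidueField y)
    (by rw [Scheme.range_fromSpecResidueField, Scheme.Opens.range_ι]; exact Set.singleton_subset_iff.mpr hy)
  have hφ : φ ≫ U.ι = Y.fromSpecResidueField y := IsOpenImmersion.lift_fac _ _ _
  have h2 : IsPullback e.inv (𝔸(σ; (↑U : Scheme.{u})) ↘ (↑U : Scheme.{u})) (f ∣_ U) (𝟙 _) :=
    IsPullback.of_horiz_isIso ⟨by rw [← he, Iso.inv_hom_id_assoc, Category.comp_id]⟩
  have h := ((AffineSpace.isPullback_map (n := σ) φ).paste_horiz h2).paste_horiz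
    (isPullback_morphismRestrict f U).flip
  have hb : (φ ≫ 𝟙 _) ≫ U.ι = Y.fromSpecResidueField y := by rw [Category.comp_id, hφ]
  rw [hb] at h
  exact ⟨h.isoPullback.symm ≪≫ AffineSpace.SpecIso σ (Y.residueField y)⟩

theorem isAffineHom_of_loc (hloc : ∀ y : Y, ∃ U : Y.Opens, y ∈ U ∧ ∃ e : (↑(f ⁻¹ᵁ U) : Scheme.{u}) ≅ 𝔸(σ; (↑U : Scheme.{u})),
      e.hom ≫ (𝔸(σ; (↑U : Scheme.{u})) ↘ (↑U : Scheme.{u})) = f ∣_ U) : IsAffineHom f := by
  choose U hy e he using hloc
  refine IsZariskiLocalAtTarget.of_iSup_eq_top (P := @IsAffineHom) U ?_ fun y => ?_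
  · exact eq_top_iff.mpr fun y _ => TopologicalSpace.Opens.mem_iSup.mpr ⟨y, hy y⟩
  · rw [← he y]
    infer_instance

theorem pullFun_surjective [Fintype σ] [Flat f] [LocallyOfFiniteType f] {δX : X → ℤ} {δY : Y → ℤ}
    (hX : Cyc.IsSetup X δX) (hY : Cyc.IsSetup Y δY) {r : ℕ} (hr : Cyc.HasRelDim f r)
    (hδ : Cyc.DeltaCompat f δX δY)
    (hloc : ∀ y : Y, ∃ U : Y.Opens, y ∈ U ∧ ∃ e : (↑(f ⁻¹ᵁ U) : Scheme.{u}) ≅ 𝔸(σ; (↑U : Scheme.{u})),
      e.hom ≫ (𝔸(σ; (↑U : Scheme.{u})) ↘ (↑U : Scheme.{u})) = f ∣_ U)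
    (k : ℤ) (β : AlgebraicCycle X ℤ) (hβ : β ∈ Cyc.Zk X δX (k + r)) :
    ∃ (α : AlgebraicCycle Y ℤ) (β' : AlgebraicCycle X ℤ), α ∈ Cyc.Zk Y δY k ∧
      ⇑β' = Cyc.pullFun f δX δY r ⇑α ∧ Cyc.RatEquiv δX (k + r) β β' := by
  haveI := isAffineHom_of_loc f hloc
  have hint : ∀ y, IsIntegral (f.fiber y) := fun y => by
    obtain ⟨e⟩ := exists_fiber_iso f hloc y
    haveI : Nonempty (f.fiber y) := ⟨e.inv (genericPoint _)⟩
    exact isIntegral_of_isOpenImmersion e.hom
  exact master f hX hY hr hδ hint (fun y => by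
    haveI := hint y
    obtain ⟨e⟩ := exists_fiber_iso f hloc y
    exact princ_of_iso e (princ_mvPolynomial _ σ)) k β hβ

end bundle

end Groth.Agent.H3Cyc.KAffine
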