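import Groth.Agent.H22Alg.PB.Exists
import Groth.Agent.H22Alg.PB.Vanish
import Groth.Agent.H3Cyc.KAffine
import Groth.Agent.S10829
import Groth.Agent.LeadPic.PnRel
import Mathlib

/-!
# Locally trivial bundles of projective spaces and their base change
-/

set_option autoImplicit false
set_option linter.style.haveILetI false
set_option linter.unusedSectionVars false
set_option backward.isDefEq.respectTransparency.types false
universe u

open CategoryTheory CategoryTheory.Limits AlgebraicGeometry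

noncomputable section

namespace Groth.Agent.H3Cyc.PBundle

open H22Alg

variable {X P : Scheme.{u}}

/-- `π` is locally on the base `P^n` with `O1` its `O(1)`. -/
structure Bundle (n : ℕ) (π : P ⟶ X) (O1 : P.Modules) : Prop where
  invertible : PicF.IsInvertible O1
  chart : ∀ x : X, ∃ (U : X.Opens) (j : KRR.PY n (↑U : Scheme.{u}) ⟶ P) (_ : IsOpenImmersion j), x ∈ U ∧
    j ≫ π = KRR.pr n (↑U : Scheme.{u}) ≫ U.ι ∧ j.opensRange = π ⁻¹ᵁ U ∧
    Nonempty ((Scheme.Modules.pullback j).obj O1 ≅ Twist.twistOver n (↑U : Scheme.{u}) 1)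

variable {n : ℕ} {π : P ⟶ X} {O1 : P.Modules}

theorem of_isProjBundle {E : X.Modules} {q : (Scheme.Modules.pullback π).obj E ⟶ O1}
    (hE : FlatMod.IsFinLocFreeOfRank (n + 1) E) (h : KRR.IsProjBundle π E O1 q) : Bundle n π O1 where
  invertible := PB.isInvertible_of_rank_one h.invertible
  chart x := by
    obtain ⟨U, hxU, ⟨e⟩⟩ := hE x
    obtain ⟨j, hj, hw, hr, hτ⟩ := PB.exists_chart h e
    exact ⟨U, j, hj, hxU, hw, hr, hτ⟩

theorem Bundle.isPn (h : Bundle n π O1) : PB.IsPn n π (PB.pw h.invertible) where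
  tw := PB.isTwistFamily_pw _
  chart x := by
    obtain ⟨U, j, hj, hxU, hw, hr, ⟨τ⟩⟩ := h.chart x
    obtain ⟨a⟩ := PB.nonempty_pw_one h.invertible
    exact ⟨⟨U, j, hj, hw, hr, ⟨(Scheme.Modules.pullback j).mapIso a ≪≫ τ⟩⟩, hxU⟩

theorem Bundle.isProper (h : Bundle n π O1) : IsProper π := h.isPn.isProper

theorem Bundle.flat (h : Bundle n π O1) : Flat π := h.isPn.flat

theorem chart_isPullback (U : X.Opens) (j : KRR.PY n (↑U : Scheme.{u}) ⟶ P) [IsOpenImmersion j]
    (hw : j ≫ π = KRR.pr n (↑U : Scheme.{u}) ≫ U.ι) (hr : j.opensRange = π ⁻¹ᵁ U) :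
    IsPullback j (KRR.pr n (↑U : Scheme.{u})) π U.ι := by
  refine (IsOpenImmersion.isPullback (KRR.pr n (↑U : Scheme.{u})) j U.ι π hw ?_).flip
  rw [hr, Scheme.Opens.opensRange_ι]

/-- Bundles of projective spaces are stable under base change. -/
theorem Bundle.baseChange (h : Bundle n π O1) {X' P' : Scheme.{u}} {f : X' ⟶ X} {f' : P' ⟶ P} {π' : P' ⟶ X'}
    (hsq : IsPullback f' π' π f) : Bundle n π' ((Scheme.Modules.pullback f').obj O1) where
  invertible := H11Ample.isInvertible_pullback f' h.invertible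
  chart x := by
    obtain ⟨U, j, hj, hxU, hw, hr, ⟨τ⟩⟩ := h.chart (f x)
    let U' := f ⁻¹ᵁ U
    let φ : (↑U' : Scheme.{u}) ⟶ (↑U : Scheme.{u}) := f ∣_ U
    have hφ : φ ≫ U.ι = U'.ι ≫ f := morphismRestrict_ι f U
    have h1 : IsPullback (KRR.projSpaceMap n φ ≫ j) (KRR.pr n (↑U' : Scheme.{u})) π (U'.ι ≫ f) := by
      rw [← hφ]
      exact (KBaseChangeCl.isPullback_map φ).paste_horiz (chart_isPullback U j hw hr)
    let j' : KRR.PY n (↑U' : Scheme.{u}) ⟶ P' :=
      hsq.lift (KRR.projSpaceMap n φ ≫ j) (KRR.pr n (↑U' : Scheme.{u}) ≫ U'.ι)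
        (by rw [h1.w, Category.assoc])
    have hj1 : j' ≫ f' = KRR.projSpaceMap n φ ≫ j := hsq.lift_fst _ _ _
    have hj2 : j' ≫ π' = KRR.pr n (↑U' : Scheme.{u}) ≫ U'.ι := hsq.lift_snd _ _ _
    have h2 : IsPullback j' (KRR.pr n (↑U' : Scheme.{u})) π' U'.ι :=
      IsPullback.of_right (by rw [hj1]; exact h1) hj2 hsq
    haveI : IsOpenImmersion j' := MorphismProperty.of_isPullback (P := @IsOpenImmersion) h2.flip inferInstance
    refine ⟨U', j', inferInstance, hxU, hj2, ?_, ?_⟩
    · refine TopologicalSpace.Opens.ext ?_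
      show Set.range j' = π' ⁻¹' (U' : Set X')
      rw [← h2.isoPullback_hom_fst, ← Scheme.Hom.coe_opensRange, Scheme.Hom.opensRange_comp_of_isIso,
        Scheme.Hom.coe_opensRange, Scheme.Pullback.range_fst, Scheme.Opens.range_ι]
    · obtain ⟨e⟩ := BCReg.nonempty_pull_twist (n := n) φ (1 : ℤ)
      exact ⟨(Scheme.Modules.pullbackComp j' f').app O1 ≪≫ (Scheme.Modules.pullbackCongr hj1).app O1 ≪≫
        ((Scheme.Modules.pullbackComp (KRR.projSpaceMap n φ) j).app O1).symm ≪≫
        (Scheme.Modules.pullback (KRR.projSpaceMap n φ)).mapIso τ ≪≫ e⟩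

/-- A bundle over a field is the projective space. -/
theorem Bundle.exists_iso {K : Type u} [Field K] {P : Scheme.{u}} {π : P ⟶ Spec (CommRingCat.of K)} {O1 : P.Modules}
    (h : Bundle n π O1) :
    ∃ a : CohB1.ProjSpace n K ⟶ P, IsIso a ∧ a ≫ π = CohB1.ProjSpace.toSpec n K ∧
      Nonempty ((Scheme.Modules.pullback a).obj O1 ≅ Twist.twistProjSpace n K 1) := by
  haveI : Subsingleton ↥(Spec (CommRingCat.of K)) := inferInstanceAs (Subsingleton (PrimeSpectrum K))
  obtain ⟨U, j, hj, hxU, hw, hr, ⟨τ⟩⟩ := h.chart (IsLocalRing.closedPoint K)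
  have hU : U = ⊤ := TopologicalSpace.Opens.ext (Set.eq_univ_of_forall fun y => by
    rw [Subsingleton.elim y (IsLocalRing.closedPoint K)]; exact hxU)
  subst hU
  haveI : IsIso j := by
    haveI : Epi j.base := by
      rw [TopCat.epi_iff_surjective]
      intro y
      have : y ∈ j.opensRange := hr ▸ trivial
      exact this
    exact IsOpenImmersion.isIso j
  let ι := (⊤ : (Spec (CommRingCat.of K)).Opens).ι
  haveI : IsIso ι := (Scheme.topIso (Spec (CommRingCat.of K))).isIso_hom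
  let φ := inv ι
  obtain ⟨a, ha, hapr, ⟨σ⟩⟩ := PB.exists_affine_iso n K
  haveI := ha
  haveI : IsIso (KRR.projSpaceMap n φ) :=
    MorphismProperty.of_isPullback (P := MorphismProperty.isomorphisms Scheme.{u})
      (KBaseChangeCl.isPullback_map φ).flip (inferInstanceAs (IsIso φ))
  obtain ⟨e⟩ := BCReg.nonempty_pull_twist (n := n) φ (1 : ℤ)
  refine ⟨a ≫ KRR.projSpaceMap n φ ≫ j, inferInstance, ?_, ?_⟩
  · rw [Category.assoc, Category.assoc, hw, ← Category.assoc (KRR.projSpaceMap n φ), KBaseChangeCl.sq,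
      Category.assoc, IsIso.inv_hom_id, Category.comp_id, hapr]
  · exact ⟨((Scheme.Modules.pullbackComp a (KRR.projSpaceMap n φ ≫ j)).app O1).symm ≪≫
      (Scheme.Modules.pullback a).mapIso (((Scheme.Modules.pullbackComp (KRR.projSpaceMap n φ) j).app O1).symm ≪≫
        (Scheme.Modules.pullback (KRR.projSpaceMap n φ)).mapIso τ ≪≫ e) ≪≫ σ⟩

/-- The fibre of a bundle. -/
theorem Bundle.fiber (h : Bundle n π O1) (y : X) :
    Bundle n (π.fiberToSpecResidueField y) ((Scheme.Modules.pullback (π.fiberι y)).obj O1) :=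
  h.baseChange (IsPullback.of_hasPullback π (X.fromSpecResidueField y))

theorem Bundle.isIntegral_of_field {K : Type u} [Field K] {P : Scheme.{u}} {π : P ⟶ Spec (CommRingCat.of K)}
    {O1 : P.Modules} (h : Bundle n π O1) :
    IsIntegral P ∧ topologicalKrullDim ↥P = (n : WithBot ℕ∞) := by
  obtain ⟨a, ha, -, -⟩ := h.exists_iso
  haveI := ha
  haveI : IsIntegral (CohB1.ProjSpace n K) := LeadPic.PnRel.isIntegral_projSpace (n := n) K
  haveI : Nonempty ↥P := ⟨a (genericPoint _)⟩
  refine ⟨isIntegral_of_isOpenImmersion (inv a), ?_⟩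
  rw [← S10829.result K n]
  exact ((Scheme.homeoOfIso (asIso a)).isHomeomorph.topologicalKrullDim_eq).symm

theorem Bundle.isIntegral_fiber (h : Bundle n π O1) (y : X) : IsIntegral (π.fiber y) :=
  (Bundle.isIntegral_of_field (K := X.residueField y) (h.fiber y)).1

theorem Bundle.topologicalKrullDim_fiber (h : Bundle n π O1) (y : X) :
    topologicalKrullDim ↥(π.fiber y) = (n : WithBot ℕ∞) :=
  (Bundle.isIntegral_of_field (K := X.residueField y) (h.fiber y)).2

theorem Bundle.hasRelDim (h : Bundle n π O1) : Cyc.HasRelDim π n := by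
  intro y T hT
  haveI := h.isIntegral_fiber y
  rw [irreducibleComponents_eq_singleton] at hT
  obtain rfl := hT
  rw [← h.topologicalKrullDim_fiber y]
  exact (Homeomorph.Set.univ _).isHomeomorph.topologicalKrullDim_eq

end Groth.Agent.H3Cyc.PBundle
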