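import Groth.Agent.H22Alg.CycDiv
import Groth.Agent.H22Alg.CycBasic
import Groth.Agent.H22Alg.DimFunLft
import Groth.Agent.H06EGA14.CatenaryFormula
import Groth.Agent.H22Alg.RedIntegral
import Groth.Agent.H27CurveDiv.Degree
import Mathlib

/-!
# Principal divisors and immersions; residue transcendence degrees
-/

set_option autoImplicit false
set_option linter.style.haveILetI false
universe u

open AlgebraicGeometry CategoryTheory IsLocalRing

namespace Groth.Agent.H3Cyc.Reduction

variable {W X Y : Scheme.{u}}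

/-- The residue transcendence degree of a morphism at a point. -/
noncomputable def td (f : X ⟶ Y) (x : X) : Cardinal.{u} :=
  letI := (f.residueFieldMap x).hom.toAlgebra
  Algebra.trdeg (Y.residueField (f x)) (X.residueField x)

theorem td_comp (f : W ⟶ X) (g : X ⟶ Y) (w : W) : td g (f w) + td f w = td (f ≫ g) w := by
  letI a1 := (g.residueFieldMap (f w)).hom.toAlgebra
  letI a2 := (f.residueFieldMap w).hom.toAlgebra
  letI a3 : Algebra (Y.residueField (g (f w))) (W.residueField w) := ((f ≫ g).residueFieldMap w).hom.toAlgebra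
  haveI : IsScalarTower (Y.residueField (g (f w))) (X.residueField (f w)) (W.residueField w) :=
    IsScalarTower.of_algebraMap_eq' (by
      show ((f ≫ g).residueFieldMap w).hom = _
      rw [Scheme.residueFieldMap_comp]; rfl)
  exact trdeg_add_eq (Y.residueField (g (f w))) (X.residueField (f w))

theorem bijective_residueFieldMap (i : W ⟶ X) [IsPreimmersion i] (w : W) :
    Function.Bijective (i.residueFieldMap w).hom := by
  refine ⟨(i.residueFieldMap w).hom.injective, fun a => ?_⟩
  obtain ⟨b, rfl⟩ := W.residue_surjective w a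
  obtain ⟨c, rfl⟩ := i.stalkMap_surjective w b
  exact ⟨X.residue (i w) c, ConcreteCategory.congr_hom (Scheme.residue_residueFieldMap i w) c⟩

theorem td_immersion (i : W ⟶ X) [IsPreimmersion i] (w : W) : td i w = 0 := by
  letI := (i.residueFieldMap w).hom.toAlgebra
  haveI : Module.Finite (X.residueField (i w)) (W.residueField w) :=
    RingHom.Finite.of_surjective _ (bijective_residueFieldMap i w).2
  exact trdeg_eq_zero

theorem deltaCompat_immersion (i : W ⟶ X) [IsPreimmersion i] (δ : X → ℤ) :
    Cyc.DeltaCompat i (fun w => δ (i w)) δ :=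
  fun w => ⟨0, (td_immersion i w).trans (by simp), by simp⟩

theorem isSetup_closedImmersion (i : W ⟶ X) [IsClosedImmersion i] {δ : X → ℤ} (h : Cyc.IsSetup X δ) :
    Cyc.IsSetup W (fun w => δ (i w)) := by
  haveI := h.1
  refine ⟨LocallyOfFiniteType.isLocallyNoetherian i,
    fun w => H06EGA14.isUniversallyCatenary_of_surjective (i.stalkMap w).hom (i.stalkMap_surjective w) (h.2.1 _),
    H22Alg.DimFunLft.isDimFun_of_deltaCompat i δ h _ (deltaCompat_immersion i δ)⟩

theorem deltaCompat_factor {W' : Scheme.{u}} (i : W ⟶ X) [IsPreimmersion i] (p : X ⟶ Y) (q : W ⟶ W') (j : W' ⟶ Y)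
    [IsPreimmersion j] (h : q ≫ j = i ≫ p) {δX : X → ℤ} {δY : Y → ℤ} (hδ : Cyc.DeltaCompat p δX δY) :
    Cyc.DeltaCompat q (fun w => δX (i w)) (fun v => δY (j v)) := by
  intro w
  obtain ⟨n, hn, hx⟩ := hδ (i w)
  have e : j (q w) = p (i w) := congrArg (fun f : W ⟶ Y => f w) h
  refine ⟨n, ?_, by show δX (i w) = δY (j (q w)) + n; rw [e]; exact hx⟩
  have h1 := td_comp q j w
  have h2 := td_comp i p w
  have h3 : td (q ≫ j) w = td (i ≫ p) w := congrArg (fun f : W ⟶ Y => td f w) h
  rw [td_immersion j, zero_add] at h1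
  rw [td_immersion i, add_zero] at h2
  exact (h1.trans (h3.trans h2.symm)).trans hn

theorem ordAt_immersion (i : W ⟶ X) [IsPreimmersion i] (w η : W) (h : η ⤳ w) (g : X.residueField (i η)) :
    Cyc.ordAt w η h (i.residueFieldMap η g) = Cyc.ordAt (i w) (i η) (h.map i.continuous) g := by
  let s := Cyc.specMap (i w) (i η) (h.map i.continuous)
  let s' := Cyc.specMap w η h
  have hsq : ∀ r, i.residueFieldMap η (s r) = s' (i.stalkMap w r) := fun r => by
    refine (ConcreteCategory.congr_hom (Scheme.residue_residueFieldMap i η) _).trans ?_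
    exact congrArg (W.residue η).hom (i.stalkSpecializes_stalkMap_apply η w h r)
  let m : Cyc.LocQuot (i w) (i η) (h.map i.continuous) →+* Cyc.LocQuot w η h :=
    Ideal.Quotient.lift _ ((Ideal.Quotient.mk _).comp (i.stalkMap w).hom) fun r hr => by
      refine Ideal.Quotient.eq_zero_iff_mem.mpr (RingHom.mem_ker.mpr ?_)
      rw [← hsq, show s r = 0 from RingHom.mem_ker.mp hr, map_zero]
  have hm : Function.Bijective m := by
    constructor
    · rw [injective_iff_map_eq_zero]
      intro z hz
      obtain ⟨r, rfl⟩ := Ideal.Quotient.mk_surjective z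
      have hz' : s' (i.stalkMap w r) = 0 := RingHom.mem_ker.mp (Ideal.Quotient.eq_zero_iff_mem.mp hz)
      rw [← hsq] at hz'
      exact Ideal.Quotient.eq_zero_iff_mem.mpr
        (RingHom.mem_ker.mpr ((i.residueFieldMap η).hom.injective (hz'.trans (map_zero _).symm)))
    · intro z
      obtain ⟨t, rfl⟩ := Ideal.Quotient.mk_surjective z
      obtain ⟨r, rfl⟩ := i.stalkMap_surjective w t
      exact ⟨Ideal.Quotient.mk _ r, rfl⟩
  exact H22Alg.CycDiv.ordFrac_congr (RingEquiv.ofBijective m hm)
    (RingEquiv.ofBijective (i.residueFieldMap η).hom (bijective_residueFieldMap i η)) (fun z => by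
      obtain ⟨r, rfl⟩ := Ideal.Quotient.mk_surjective z
      exact hsq r) g

theorem divFun_immersion (i : W ⟶ X) [IsPreimmersion i] (δ : X → ℤ) (η : W) (g : X.residueField (i η)) (w : W) :
    Cyc.divFun (fun v => δ (i v)) η (i.residueFieldMap η g) w = Cyc.divFun δ (i η) g (i w) := by
  have hiff : i η ⤳ i w ↔ η ⤳ w := i.isEmbedding.isInducing.specializes_iff
  by_cases h : η ⤳ w ∧ δ (i w) + 1 = δ (i η)
  · simp only [Cyc.divFun]
    rw [dif_pos h, dif_pos ⟨hiff.mpr h.1, h.2⟩]
    exact ordAt_immersion i w η h.1 g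
  · simp only [Cyc.divFun]
    rw [dif_neg h, dif_neg fun h' => h ⟨hiff.mp h'.1, h'.2⟩]

theorem divFun_eq_zero_of_notMem (i : W ⟶ X) [IsClosedImmersion i] (δ : X → ℤ) (η : W)
    (g : X.residueField (i η)) {x : X} (hx : x ∉ Set.range i) : Cyc.divFun δ (i η) g x = 0 := by
  rw [Cyc.divFun, dif_neg]
  exact fun h => hx (h.1.mem_closed i.isClosedEmbedding.isClosed_range ⟨η, rfl⟩)

end Groth.Agent.H3Cyc.Reduction
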