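import Groth.Agent.H3Cyc.C1Map
import Groth.Agent.H3Cyc.Reduction
import Groth.Agent.H8Props.NilThickTor
import Mathlib

/-!
# Gysin maps of zero schemes: comparison of rational sections
-/

set_option autoImplicit false
set_option linter.style.haveILetI false
universe u

open AlgebraicGeometry CategoryTheory CategoryTheory.Limits IsLocalRing
open Groth.Agent.H11Tilde (IsGen)

namespace Groth.Agent.H3Cyc.Gysin

open C1Api

variable {X X' D : Scheme.{u}}

theorem residueDegree_immersion (i : D ⟶ X) [IsPreimmersion i] (d : D) : i.residueDegree d = 1 := by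
  unfold Scheme.Hom.residueDegree
  letI := (i.residueFieldMap d).hom.toAlgebra
  let e : X.residueField (i d) ≃ₗ[X.residueField (i d)] D.residueField d :=
    LinearEquiv.ofBijective (Algebra.linearMap _ _) (Reduction.bijective_residueFieldMap i d)
  rw [← e.finrank_eq, Module.finrank_self]

theorem map_immersion_apply (i : D ⟶ X) [IsClosedImmersion i] (δ : X → ℤ) (α : AlgebraicCycle D ℤ) (d : D) :
    AlgebraicCycle.map i (fun d => δ (i d)) δ α (i d) = α d := by
  show ∑ᶠ x ∈ i ⁻¹' {i d}, α x * ((AlgebraicCycle.mapCoeff i (fun d => δ (i d)) δ x : ℕ) : ℤ) = α d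
  rw [show i ⁻¹' {i d} = {d} from Set.ext fun x => i.isEmbedding.injective.eq_iff, finsum_mem_singleton,
    AlgebraicCycle.mapCoeff, if_pos rfl, residueDegree_immersion]
  simp

theorem map_immersion_eq_zero (i : D ⟶ X) [IsClosedImmersion i] (δ : X → ℤ) (α : AlgebraicCycle D ℤ) (x : X)
    (hx : x ∉ Set.range i) : AlgebraicCycle.map i (fun d => δ (i d)) δ α x = 0 := by
  show ∑ᶠ y ∈ i ⁻¹' {x}, α y * ((AlgebraicCycle.mapCoeff i (fun d => δ (i d)) δ y : ℕ) : ℤ) = 0
  exact finsum_mem_eq_zero_of_forall_eq_zero fun y hy => (hx ⟨y, hy⟩).elim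

theorem residue_stalkMap (f : X' ⟶ X) (z : X') (φ : X.presheaf.stalk (f z)) :
    X'.residue z (f.stalkMap z φ) = f.residueFieldMap z (X.residue (f z) φ) :=
  (ConcreteCategory.congr_hom (Scheme.residue_residueFieldMap f z) φ).symm

theorem secDiv_immersion (i : D ⟶ X) [IsPreimmersion i] {L : X.Modules} (hL : PicF.IsInvertible L) (δ : X → ℤ)
    (η : D) (v : Cyc.secFibre L (i η)) (hv : v ≠ 0) (d : D) :
    Cyc.secDivFun (fun d => δ (i d)) ((Scheme.Modules.pullback i).obj L) η (pullFib i L η v) d =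
      Cyc.secDivFun δ L (i η) v (i d) := by
  by_cases h : i η ⤳ i d
  swap
  · simp only [Cyc.secDivFun]
    rw [dif_neg fun hh => h (hh.1.map i.continuous), dif_neg fun hh => h hh.1]
  obtain ⟨V, e, hdV, he⟩ := H11Ample.exists_gen hL (i d)
  have hη : i η ∈ V := h.mem_open V.2 hdV
  obtain ⟨φ, rfl⟩ := exists_smul_fib he hη v
  have hφ := (residue_ne_zero_iff he hη φ).mp hv
  have hne : D.residue η (i.stalkMap η φ) ≠ 0 := by
    rw [residue_stalkMap]
    exact fun e0 => hφ ((i.residueFieldMap η).hom.injective (e0.trans (map_zero _).symm))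
  rw [pullFib_smul_fib, secDivFun_gen (IsGen.pullSect i he) (V := i ⁻¹ᵁ V) _ hη _ hne hdV,
    secDivFun_gen he δ hη φ hφ hdV, residue_stalkMap, Reduction.divFun_immersion]

theorem c1Cap_immersion (i : D ⟶ X) [IsPreimmersion i] {L : X.Modules} (hL : PicF.IsInvertible L) (δ : X → ℤ)
    (αX : X → ℤ) (h0 : ∀ x, x ∉ Set.range i → αX x = 0) (v : (ξ : X) → Cyc.secFibre L ξ) (hv : ∀ ξ, v ξ ≠ 0)
    (d : D) :
    Cyc.c1CapFun δ L αX v (i d) = Cyc.c1CapFun (fun d => δ (i d)) ((Scheme.Modules.pullback i).obj L)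
      (fun η => αX (i η)) (fun η => pullFib i L η (v (i η))) d := by
  simp only [Cyc.c1CapFun]
  rw [← finsum_mem_univ, finsum_mem_inter_support_eq' _ Set.univ (Set.range i) fun ξ hξ =>
    ⟨fun _ => by_contra fun hn => (Function.mem_support.mp hξ) (by rw [h0 ξ hn, zero_mul]), fun _ => trivial⟩,
    finsum_mem_range i.isEmbedding.injective]
  exact finsum_congr fun η => by rw [secDiv_immersion i hL δ η _ (hv _) d]

/-- Two families of rational sections with the same divisor near `D` off `D` give the same class on `D`. -/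
theorem gysin_congr [IsLocallyNoetherian X] (i : D ⟶ X) [IsClosedImmersion i] {L : X.Modules}
    (hL : PicF.IsInvertible L) {δ : X → ℤ} (k : ℤ) (α : AlgebraicCycle X ℤ) (hα : α ∈ Cyc.Zk X δ (k + 1))
    (u v : (ξ : X) → Cyc.secFibre L ξ) (hu : ∀ ξ, u ξ ≠ 0) (hv : ∀ ξ, v ξ ≠ 0)
    (hoff : ∀ ξ, ξ ∉ Set.range i → ∀ d, ξ ⤳ i d →
      Cyc.secDivFun δ L ξ (u ξ) (i d) = Cyc.secDivFun δ L ξ (v ξ) (i d))
    (ζ₁ ζ₂ : AlgebraicCycle D ℤ) (h₁ : ∀ d, ζ₁ d = Cyc.c1CapFun δ L ⇑α u (i d))
    (h₂ : ∀ d, ζ₂ d = Cyc.c1CapFun δ L ⇑α v (i d)) :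
    Cyc.RatEquiv (fun d => δ (i d)) k ζ₁ ζ₂ := by
  classical
  haveI : IsLocallyNoetherian D := LocallyOfFiniteType.isLocallyNoetherian i
  let αD : AlgebraicCycle D ℤ := ⟨fun η => α (i η), by simp, fun d _ => by
    obtain ⟨t, ht, hfin⟩ := α.supportLocallyFiniteWithinDomain' (i d) trivial
    exact ⟨i ⁻¹' t, i.continuous.continuousAt.preimage_mem_nhds ht,
      (hfin.preimage i.isEmbedding.injective.injOn).subset fun z hz => hz⟩⟩
  choose c hc0 hc using fun ξ => exists_smul_eq hL (v ξ) (u ξ) (hv ξ) (hu ξ)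
  refine ratEquivZero_sum k αD (fun η hη => hα (i η) hη) (fun η => i.residueFieldMap η (X.residue (i η) (c (i η))))
    (fun η e0 => hc0 (i η) ((i.residueFieldMap η).hom.injective (e0.trans (map_zero _).symm))) (ζ₁ - ζ₂) fun d => ?_
  show ζ₁ d - ζ₂ d = _
  rw [h₁, h₂]
  simp only [Cyc.c1CapFun]
  rw [← finsum_sub_distrib (finite_support_term α (i d) _ fun ξ h => secDivFun_ne_zero h)
    (finite_support_term α (i d) _ fun ξ h => secDivFun_ne_zero h)]
  have key : ∀ ξ, α ξ * Cyc.secDivFun δ L ξ (u ξ) (i d) - α ξ * Cyc.secDivFun δ L ξ (v ξ) (i d) =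
      α ξ * Cyc.divFun δ ξ (X.residue ξ (c ξ)) (i d) := fun ξ => by
    rw [hc ξ, secDivFun_smul hL δ (c ξ) (hc0 ξ) (v ξ) (hv ξ)]
    ring
  rw [finsum_congr key, ← finsum_mem_univ, finsum_mem_inter_support_eq' _ Set.univ (Set.range i) ?_,
    finsum_mem_range i.isEmbedding.injective]
  · exact finsum_congr fun η => by rw [Reduction.divFun_immersion]; rfl
  · refine fun ξ hξ => ⟨fun _ => by_contra fun hn => hξ ?_, fun _ => trivial⟩
    beta_reduce
    rw [← key ξ]
    by_cases h : ξ ⤳ i d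
    · rw [hoff ξ hn d h, sub_self]
    · simp only [Cyc.secDivFun]
      rw [dif_neg fun hh => h hh.1, dif_neg fun hh => h hh.1, sub_self]

/-- The ideal of the zero scheme in terms of any local generator. -/
theorem ker_eq_span_gen {L : X.Modules} {s : L.presheaf.obj (Opposite.op ⊤)} {i : D ⟶ X}
    (hD : Cyc.IsZeroSchemeOf i L s) {V : X.Opens} {e : Γ(L, V)} (he : IsGen L e) {y : X} (d : D) (h : y = i d)
    (hy : y ∈ V) (a : X.presheaf.stalk y)
    (ha : (L.presheaf.germ ⊤ y trivial) s = a • L.presheaf.germ V y hy e) :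
    RingHom.ker ((X.presheaf.stalkCongr (.of_eq h)).hom ≫ i.stalkMap d).hom = Ideal.span {a} := by
  subst h
  obtain ⟨t, f, ht, hft, hker⟩ := hD.2 d
  obtain ⟨u, hu⟩ := (he (i d) hy).2 t
  obtain ⟨v, hv⟩ := Submodule.mem_span_singleton.mp (ht.symm ▸ Submodule.mem_top :
    L.presheaf.germ V (i d) hy e ∈ Submodule.span (X.presheaf.stalk (i d)) {t})
  have hvu : IsUnit u := IsUnit.of_mul_eq_one_right v ((he (i d) hy).1 (by
    show (v * u) • L.presheaf.germ V (i d) hy e = (1 : X.presheaf.stalk (i d)) • L.presheaf.germ V (i d) hy e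
    rw [mul_smul, show u • L.presheaf.germ V (i d) hy e = t from hu, hv, one_smul]))
  have hau : a = f * u := (he (i d) hy).1 (by
    show a • L.presheaf.germ V (i d) hy e = (f * u) • L.presheaf.germ V (i d) hy e
    rw [mul_smul, show u • L.presheaf.germ V (i d) hy e = t from hu, ← ha, hft])
  rw [hau, Ideal.span_singleton_mul_right_unit hvu f, ← hker]
  simp

theorem notMem_range_iff {L : X.Modules} {s : L.presheaf.obj (Opposite.op ⊤)} {i : D ⟶ X}
    (hD : Cyc.IsZeroSchemeOf i L s) (ξ : X) :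
    ξ ∉ Set.range i ↔ (Submodule.Quotient.mk ((L.presheaf.germ ⊤ ξ trivial) s) : Cyc.secFibre L ξ) ≠ 0 := by
  rw [hD.1]
  exact Iff.rfl

theorem gysinChoice_ne_zero (L : X.Modules) (s : L.presheaf.obj (Opposite.op ⊤))
    (w : (ξ : X) → Cyc.secFibre L ξ) (hw : ∀ ξ, w ξ ≠ 0) (ξ : X) : Cyc.gysinChoice L s w ξ ≠ 0 := by
  rw [Cyc.gysinChoice]
  split_ifs with h
  · exact h
  · exact hw ξ

theorem fst_mem_range_iff (f : X' ⟶ X) (i : D ⟶ X) (ξ : X') :
    ξ ∈ Set.range (pullback.fst f i) ↔ f ξ ∈ Set.range i := by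
  rw [Scheme.Pullback.range_fst]
  exact Iff.rfl

/-- The sections defining the two Gysin maps agree up to a unit near the zero scheme. -/
theorem secDiv_gysin_sq {D' : Scheme.{u}} {p₁ : D' ⟶ X'} {p₂ : D' ⟶ D} (f : X' ⟶ X) (δ' : X' → ℤ) {L : X.Modules} (hL : PicF.IsInvertible L)
    {s : L.presheaf.obj (Opposite.op ⊤)} {i : D ⟶ X} [IsClosedImmersion i] (hD : Cyc.IsZeroSchemeOf i L s)
    {s' : ((Scheme.Modules.pullback f).obj L).presheaf.obj (Opposite.op ⊤)}
    (hsq : IsPullback p₁ p₂ f i) (hD' : Cyc.IsZeroSchemeOf p₁ ((Scheme.Modules.pullback f).obj L) s')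
    (w : (ξ : X) → Cyc.secFibre L ξ) (w' : (ξ : X') → Cyc.secFibre ((Scheme.Modules.pullback f).obj L) ξ)
    (ξ : X') (hξ : ξ ∉ Set.range (p₁)) (z : D') (h : ξ ⤳ p₁ z) :
    Cyc.secDivFun δ' ((Scheme.Modules.pullback f).obj L) ξ (Cyc.gysinChoice _ s' w' ξ) (p₁ z) =
      Cyc.secDivFun δ' ((Scheme.Modules.pullback f).obj L) ξ (pullFib f L ξ (Cyc.gysinChoice L s w (f ξ)))
        (p₁ z) := by
  let L' := (Scheme.Modules.pullback f).obj L
  let x : X' := p₁ z
  obtain ⟨V, e, hyV, he⟩ := H11Ample.exists_gen hL (f x)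
  have he' := IsGen.pullSect f he
  have hξV : f ξ ∈ V := (h.map f.continuous).mem_open V.2 hyV
  obtain ⟨a, ha⟩ := (he (f x) hyV).2 ((L.presheaf.germ ⊤ (f x) trivial) s)
  obtain ⟨a', ha'⟩ := (he' x hyV).2 ((L'.presheaf.germ ⊤ x trivial) s')
  have hfξ : f ξ ∉ Set.range i := fun ⟨d, hd⟩ => hξ (by
    haveI : IsClosedImmersion p₁ := MorphismProperty.of_isPullback hsq.flip inferInstance
    obtain ⟨w, hw₁, -⟩ := Scheme.Pullback.exists_preimage_pullback (f := f) (g := i) ξ d hd.symm
    refine ⟨hsq.isoPullback.inv w, ?_⟩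
    rw [← hw₁, ← hsq.isoPullback_inv_fst]
    rfl)
  have hm := (notMem_range_iff hD (f ξ)).mp hfξ
  have hm' := (notMem_range_iff hD' ξ).mp hξ
  have hs1 : (L.presheaf.germ ⊤ (f ξ) trivial) s =
      X.presheaf.stalkSpecializes (h.map f.continuous) a • L.presheaf.germ V (f ξ) hξV e := by
    rw [← TopCat.Presheaf.germ_stalkSpecializes_apply L.presheaf (U := ⊤) trivial (h.map f.continuous) s, ← ha,
      stalkSpecializes_smul, TopCat.Presheaf.germ_stalkSpecializes_apply]
  have hs2 : (L'.presheaf.germ ⊤ ξ trivial) s' =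
      X'.presheaf.stalkSpecializes h a' • L'.presheaf.germ (f ⁻¹ᵁ V) ξ hξV (OmegaSh.pullSect f L V e) := by
    rw [← TopCat.Presheaf.germ_stalkSpecializes_apply L'.presheaf (U := ⊤) trivial h s', ← ha',
      stalkSpecializes_smul]
    exact congrArg _ (TopCat.Presheaf.germ_stalkSpecializes_apply L'.presheaf (U := f ⁻¹ᵁ V) hyV h _)
  have hker : RingHom.ker ((p₁).stalkMap z).hom = Ideal.span {f.stalkMap x a} := by
    rw [H8Props.NilThick.ker_stalkMap_eq hsq z, H8Props.NilThick.baseMap,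
      ker_eq_span_gen hD he (p₂ z) (H8Props.NilThick.base_eq hsq z) hyV a ha.symm,
      Ideal.map_span, Set.image_singleton]
  have hker' : RingHom.ker ((p₁).stalkMap z).hom = Ideal.span {a'} := by
    have h1 := ker_eq_span_gen hD' he' (V := f ⁻¹ᵁ V) z rfl hyV a' ha'.symm
    rw [← h1]
    simp
  rw [Cyc.gysinChoice, if_pos hm', Cyc.gysinChoice, if_pos hm, hs1, hs2, Submodule.Quotient.mk_smul,
    Submodule.Quotient.mk_smul]
  rw [hs1, Submodule.Quotient.mk_smul] at hm
  rw [hs2, Submodule.Quotient.mk_smul] at hm'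
  have hr := (residue_ne_zero_iff he hξV _).mp hm
  have hr' := (residue_ne_zero_iff he' (V := f ⁻¹ᵁ V) hξV _).mp hm'
  have hspec : f.stalkMap ξ (X.presheaf.stalkSpecializes (h.map f.continuous) a) =
      X'.presheaf.stalkSpecializes h (f.stalkMap x a) := f.stalkSpecializes_stalkMap_apply ξ x h a
  have hr2 : X'.residue ξ (f.stalkMap ξ (X.presheaf.stalkSpecializes (h.map f.continuous) a)) ≠ 0 := by
    rw [residue_stalkMap]
    exact fun e0 => hr ((f.residueFieldMap ξ).hom.injective (e0.trans (map_zero _).symm))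
  rw [show (Submodule.Quotient.mk (L.presheaf.germ V (f ξ) hξV e) : Cyc.secFibre L (f ξ)) = fib L (f ξ) hξV e from rfl,
    pullFib_smul_fib, secDivFun_gen he' (V := f ⁻¹ᵁ V) δ' hξV _ hr2 hyV]
  rw [hspec] at hr2 ⊢
  refine (secDivFun_gen he' (V := f ⁻¹ᵁ V) δ' hξV _ hr' hyV).trans ?_
  obtain ⟨p, hp⟩ := Ideal.mem_span_singleton'.mp
    ((hker'.symm.trans hker) ▸ Ideal.mem_span_singleton_self a' : a' ∈ Ideal.span {f.stalkMap x a})
  obtain ⟨q, hq⟩ := Ideal.mem_span_singleton'.mp
    ((hker.symm.trans hker') ▸ Ideal.mem_span_singleton_self (f.stalkMap x a) : f.stalkMap x a ∈ Ideal.span {a'})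
  have hp1 : IsUnit p := by
    rcases IsLocalRing.isUnit_or_isUnit_one_sub_self (p * q) with h1 | h1
    · exact isUnit_of_mul_isUnit_left h1
    · refine absurd ?_ hr'
      have h2 : a' * (1 - p * q) = 0 := by rw [← hq] at hp; linear_combination -hp
      rw [h1.mul_left_eq_zero.mp h2, map_zero, map_zero]
  rw [← hp, map_mul, map_mul, divFun_mul δ' ξ ?_ hr2]
  · suffices h0 : Cyc.divFun δ' ξ (X'.residue ξ (X'.presheaf.stalkSpecializes h p)) x = 0 by rw [h0, zero_add]
    simp only [Cyc.divFun]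
    split_ifs with hh
    · exact ordAt_specMap_unit x ξ hh.1 hp1
    · rfl
  · exact (hp1.map (X'.presheaf.stalkSpecializes h ≫ X'.residue ξ).hom).ne_zero

/-- The same, for the chosen fibre product. -/
theorem secDiv_gysin_pullFib (f : X' ⟶ X) (δ' : X' → ℤ) {L : X.Modules} (hL : PicF.IsInvertible L)
    {s : L.presheaf.obj (Opposite.op ⊤)} {i : D ⟶ X} [IsClosedImmersion i] (hD : Cyc.IsZeroSchemeOf i L s)
    {s' : ((Scheme.Modules.pullback f).obj L).presheaf.obj (Opposite.op ⊤)}
    (hD' : Cyc.IsZeroSchemeOf (pullback.fst f i) ((Scheme.Modules.pullback f).obj L) s')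
    (w : (ξ : X) → Cyc.secFibre L ξ) (w' : (ξ : X') → Cyc.secFibre ((Scheme.Modules.pullback f).obj L) ξ)
    (ξ : X') (hξ : ξ ∉ Set.range (pullback.fst f i)) (z : ↥(pullback f i)) (h : ξ ⤳ pullback.fst f i z) :
    Cyc.secDivFun δ' ((Scheme.Modules.pullback f).obj L) ξ (Cyc.gysinChoice _ s' w' ξ) (pullback.fst f i z) =
      Cyc.secDivFun δ' ((Scheme.Modules.pullback f).obj L) ξ (pullFib f L ξ (Cyc.gysinChoice L s w (f ξ)))
        (pullback.fst f i z) :=
  secDiv_gysin_sq f δ' hL hD (IsPullback.of_hasPullback f i) hD' w w' ξ hξ z h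

/-- The multiplicity in a fibre does not change along a base change by a closed immersion. -/
theorem length_fibre_baseChange (f : X' ⟶ X) (i : D ⟶ X) [IsClosedImmersion i] (z : ↥(pullback f i)) :
    Module.length ((pullback f i).presheaf.stalk z)
        ((pullback f i).presheaf.stalk z ⧸ Ideal.map ((pullback.snd f i).stalkMap z).hom
          (maximalIdeal (D.presheaf.stalk (pullback.snd f i z)))) =
      Module.length (X'.presheaf.stalk (pullback.fst f i z))
        (X'.presheaf.stalk (pullback.fst f i z) ⧸ Ideal.map (f.stalkMap (pullback.fst f i z)).hom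
          (maximalIdeal (X.presheaf.stalk (f (pullback.fst f i z))))) := by
  have hsq := IsPullback.of_hasPullback f i
  let β := (H8Props.NilThick.baseMap hsq z).hom
  let φ := ((pullback.fst f i).stalkMap z).hom
  have hφ : Function.Surjective φ := (pullback.fst f i).stalkMap_surjective z
  have hβ : Function.Surjective β := by
    show Function.Surjective (H8Props.NilThick.baseMap hsq z).hom
    rw [H8Props.NilThick.baseMap, CommRingCat.hom_comp]
    exact (i.stalkMap_surjective _).comp (ConcreteCategory.bijective_of_isIso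
      (X.presheaf.stalkCongr (.of_eq (H8Props.NilThick.base_eq hsq z))).hom).2
  haveI : IsLocalHom β := IsLocalHom.of_surjective β hβ
  let J : Ideal (X'.presheaf.stalk (pullback.fst f i z)) :=
    (maximalIdeal (X.presheaf.stalk (f (pullback.fst f i z)))).map (f.stalkMap (pullback.fst f i z)).hom
  have hkJ : RingHom.ker φ ≤ J :=
    (H8Props.NilThick.ker_stalkMap_eq hsq z).le.trans
      (Ideal.map_mono (IsLocalRing.le_maximalIdeal (RingHom.ker_ne_top _)))
  have hJ : J.map φ = Ideal.map ((pullback.snd f i).stalkMap z).hom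
      (maximalIdeal (D.presheaf.stalk (pullback.snd f i z))) := by
    rw [← IsLocalRing.map_maximalIdeal_of_surjective β hβ]
    simp only [J, Ideal.map_map]
    congr 1
    rw [← CommRingCat.hom_comp, ← CommRingCat.hom_comp, H8Props.NilThick.baseMap_comp]
  rw [← hJ]
  letI := φ.toAlgebra
  rw [← Module.length_eq_of_surjective (S := X'.presheaf.stalk (pullback.fst f i z))
    (R := (pullback f i).presheaf.stalk z) hφ]
  let g := (Ideal.Quotient.mkₐ (X'.presheaf.stalk (pullback.fst f i z)) (J.map φ)).comp (Algebra.ofId _ _)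
  have hg : Function.Surjective g := Ideal.Quotient.mk_surjective.comp hφ
  have hgk : RingHom.ker g = J := by
    show (RingHom.ker (Ideal.Quotient.mk (J.map φ))).comap φ = J
    rw [Ideal.mk_ker, Ideal.comap_map_of_surjective φ hφ, sup_eq_left]
    exact hkJ
  exact ((Submodule.quotEquivOfEq _ _ hgk.symm).trans
    (Ideal.quotientKerAlgEquivOfSurjective (f := g) hg).toLinearEquiv).length_eq.symm

theorem residueDegree_immersion_comp {Y : Scheme.{u}} (j : D ⟶ X) [IsPreimmersion j] (f : X ⟶ Y) (w : D) :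
    (j ≫ f).residueDegree w = f.residueDegree (j w) := by
  unfold Scheme.Hom.residueDegree
  letI := ((j ≫ f).residueFieldMap w).hom.toAlgebra
  letI : Algebra (Y.residueField ((j ≫ f) w)) (X.residueField (j w)) := (f.residueFieldMap (j w)).hom.toAlgebra
  exact (Algebra.finrank_eq_of_equiv_equiv (RingEquiv.refl _)
    (RingEquiv.ofBijective (j.residueFieldMap w).hom (Reduction.bijective_residueFieldMap j w))
    (RingHom.ext fun a => by
      show ((j ≫ f).residueFieldMap w).hom a = (j.residueFieldMap w).hom ((f.residueFieldMap (j w)).hom a)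
      rw [Scheme.residueFieldMap_comp]; rfl)).symm

theorem residueDegree_comp_immersion {W : Scheme.{u}} (g : W ⟶ D) (i : D ⟶ X) [IsPreimmersion i] (w : W) :
    (g ≫ i).residueDegree w = g.residueDegree w := by
  unfold Scheme.Hom.residueDegree
  letI := ((g ≫ i).residueFieldMap w).hom.toAlgebra
  letI := (g.residueFieldMap w).hom.toAlgebra
  exact Algebra.finrank_eq_of_equiv_equiv
    (RingEquiv.ofBijective (i.residueFieldMap (g w)).hom (Reduction.bijective_residueFieldMap i (g w)))
    (RingEquiv.refl _) (RingHom.ext fun a => by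
      show (g.residueFieldMap w).hom ((i.residueFieldMap (g w)).hom a) = ((g ≫ i).residueFieldMap w).hom a
      rw [Scheme.residueFieldMap_comp]; rfl)

/-- Pushforward commutes with restriction to a closed subscheme of the target. -/
theorem map_restrict_apply (f : X' ⟶ X) [QuasiCompact f] (i : D ⟶ X) [IsClosedImmersion i] (δ' : X' → ℤ)
    (δ : X → ℤ) (c : AlgebraicCycle X' ℤ) (c' : AlgebraicCycle (pullback f i) ℤ)
    (hc : ∀ z, c' z = c (pullback.fst f i z)) (d : D) :
    AlgebraicCycle.map (pullback.snd f i) (fun z => δ' (pullback.fst f i z)) (fun d => δ (i d)) c' d =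
      AlgebraicCycle.map f δ' δ c (i d) := by
  have hsq : ∀ z, f (pullback.fst f i z) = i (pullback.snd f i z) := fun z =>
    congrArg (fun g : pullback f i ⟶ X => g z) pullback.condition
  show ∑ᶠ z ∈ pullback.snd f i ⁻¹' {d}, c' z *
      ((AlgebraicCycle.mapCoeff (pullback.snd f i) (fun z => δ' (pullback.fst f i z)) (fun d => δ (i d)) z : ℕ) : ℤ) =
    ∑ᶠ x ∈ f ⁻¹' {i d}, c x * ((AlgebraicCycle.mapCoeff f δ' δ x : ℕ) : ℤ)
  have himg : f ⁻¹' {i d} = pullback.fst f i '' (pullback.snd f i ⁻¹' {d}) := by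
    ext x
    constructor
    · intro hx
      obtain ⟨z, hz⟩ := (fst_mem_range_iff f i x).mpr ⟨d, (show f x = i d from hx).symm⟩
      exact ⟨z, i.isEmbedding.injective ((hsq z).symm.trans (by rw [hz]; exact hx)), hz⟩
    · rintro ⟨z, hz, rfl⟩
      show f (pullback.fst f i z) = i d
      rw [hsq, show pullback.snd f i z = d from hz]
  rw [himg, finsum_mem_image (pullback.fst f i).isEmbedding.injective.injOn]
  refine finsum_mem_congr rfl fun z _ => ?_
  rw [hc]
  congr 2
  have hdeg : (pullback.snd f i).residueDegree z = f.residueDegree (pullback.fst f i z) := by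
    rw [← residueDegree_comp_immersion (pullback.snd f i) i z, ← residueDegree_immersion_comp (pullback.fst f i) f z]
    exact congrArg (fun g : pullback f i ⟶ X => g.residueDegree z) pullback.condition.symm
  simp only [AlgebraicCycle.mapCoeff, hdeg]
  rw [show δ (i (pullback.snd f i z)) = δ (f (pullback.fst f i z)) from by rw [hsq z]]

end Groth.Agent.H3Cyc.Gysin
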