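import Groth.Agent.H3Cyc.Gysin
import Mathlib

/-!
# Fundamental cycles
-/

set_option autoImplicit false
set_option linter.style.haveILetI false
universe u

open AlgebraicGeometry CategoryTheory TopologicalSpace

namespace Groth.Agent.H3Cyc.Fund

variable {Y : Scheme.{u}}

theorem subschemeFun_id (δ : Y → ℤ) (m : ℤ) (y : Y) :
    Cyc.subschemeFun δ m (𝟙 Y) y =
      if δ y = m then ((Module.length (Y.presheaf.stalk y) (Y.presheaf.stalk y)).toNat : ℤ) else 0 := by
  rw [Cyc.subschemeFun]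
  split_ifs with h
  · rw [show {z : Y | (𝟙 Y : Y ⟶ Y) z = y} = {y} from Set.ext fun z => by simp]
    exact finsum_mem_singleton
  · rfl

/-- The fundamental cycle. -/
theorem exists_fundamental [IsLocallyNoetherian Y] {δ : Y → ℤ} (hδ : Cyc.IsDimFun Y δ) (m : ℤ) (hdim : ∀ y, δ y ≤ m) :
    ∃ α : AlgebraicCycle Y ℤ, ⇑α = Cyc.subschemeFun δ m (𝟙 Y) ∧ α ∈ Cyc.Zk Y δ m := by
  classical
  refine ⟨⟨Cyc.subschemeFun δ m (𝟙 Y), by simp, fun x _ => ?_⟩, rfl, fun x hx => ?_⟩
  · obtain ⟨W, hW, hxW, -⟩ := exists_isAffineOpen_mem_and_subset (show x ∈ (⊤ : Y.Opens) from trivial)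
    haveI : NoetherianSpace ↥W := H22Alg.CycDiv.noetherianSpace_affine hW
    haveI : QuasiSober ↥W := W.isOpenEmbedding'.quasiSober
    have hfin : (genericPoints ↥W).Finite :=
      genericPoints.finite NoetherianSpace.finite_irreducibleComponents
    refine ⟨W, W.2.mem_nhds hxW, (hfin.image (fun c : ↥W => c.1)).subset ?_⟩
    rintro z ⟨hzW, hz⟩
    rw [Function.mem_support, subschemeFun_id] at hz
    have hd : δ z = m := by
      by_contra h
      exact hz (if_neg h)
    refine ⟨⟨z, hzW⟩, H17.mem_genericPoints_iff.mpr fun y hy => Subtype.ext ?_, rfl⟩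
    by_contra hne
    have h1 := (hδ _ _ (hy.map continuous_subtype_val) hne).1
    have := hdim y.1
    have : δ z < δ y.1 := h1
    omega
  · show Cyc.subschemeFun δ m (𝟙 Y) x = 0
    rw [subschemeFun_id, if_neg hx]

theorem map_fundamental {X : Scheme.{u}} (ι : Y ⟶ X) [IsClosedImmersion ι] (δ : X → ℤ) (m : ℤ)
    (α : AlgebraicCycle Y ℤ) (hα : ⇑α = Cyc.subschemeFun (fun y => δ (ι y)) m (𝟙 Y)) :
    ⇑(AlgebraicCycle.map ι (fun y => δ (ι y)) δ α) = Cyc.subschemeFun δ m ι := by
  funext x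
  by_cases hx : x ∈ Set.range ι
  · obtain ⟨y, rfl⟩ := hx
    rw [Gysin.map_immersion_apply, hα, subschemeFun_id, Cyc.subschemeFun]
    by_cases h : δ (ι y) = m
    · rw [if_pos h, if_pos (show δ (ι y) = m from h)]
      rw [show {z : Y | ι z = ι y} = {y} from Set.ext fun z => ι.isEmbedding.injective.eq_iff]
      exact (finsum_mem_singleton (f := fun z => ((Module.length (Y.presheaf.stalk z) (Y.presheaf.stalk z)).toNat : ℤ))).symm
    · rw [if_neg h, if_neg h]
  · rw [Gysin.map_immersion_eq_zero ι δ α x hx, Cyc.subschemeFun]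
    split_ifs
    · exact (finsum_mem_eq_zero_of_forall_eq_zero fun z hz => (hx ⟨z, hz⟩).elim).symm
    · rfl

end Groth.Agent.H3Cyc.Fund
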