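import Groth.Agent.H3Cyc.SFilt
import Groth.Agent.H06Mod.StalkPullback
import Groth.Agent.H11Ample.Ample
import Groth.Agent.H22Alg.TorIndepLocal
import Mathlib

/-!
# The ideal of the coordinates of an element of a free module
-/

set_option autoImplicit false
set_option linter.style.haveILetI false
set_option backward.isDefEq.respectTransparency.types false
universe u v w

open CategoryTheory CategoryTheory.Limits AlgebraicGeometry
open scoped TensorProduct Pointwise
open RingTheory.Sequence

noncomputable section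

namespace Groth.Agent.H3Cyc.SecIdeal

section algebra

variable {R : Type u} [CommRing R] {M : Type v} [AddCommGroup M] [Module R M]

/-- The values at `m` of all functionals. -/
def idl (R : Type u) [CommRing R] {M : Type v} [AddCommGroup M] [Module R M] (m : M) : Ideal R where
  carrier := {c | ∃ φ : M →ₗ[R] R, φ m = c}
  add_mem' := by rintro _ _ ⟨φ, rfl⟩ ⟨ψ, rfl⟩; exact ⟨φ + ψ, rfl⟩
  zero_mem' := ⟨0, rfl⟩
  smul_mem' := by rintro c _ ⟨φ, rfl⟩; exact ⟨c • φ, rfl⟩

theorem idl_eq_span {ι : Type w} [Fintype ι] (b : Module.Basis ι R M) (m : M) :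
    idl R m = Ideal.span (Set.range fun l => b.repr m l) := by
  refine le_antisymm ?_ (Ideal.span_le.mpr ?_)
  · rintro _ ⟨φ, rfl⟩
    show φ m ∈ _
    rw [(congrArg φ (b.sum_repr m)).symm.trans (map_sum φ _ _)]
    refine Submodule.sum_mem _ fun l _ => ?_
    rw [map_smul]
    exact Ideal.mul_mem_right _ _ (Ideal.subset_span ⟨l, rfl⟩)
  · rintro _ ⟨l, rfl⟩
    exact ⟨b.coord l, rfl⟩

theorem mem_smul_top_iff {ι : Type w} [Fintype ι] (b : Module.Basis ι R M) (I : Ideal R) (m : M) :
    m ∈ I • (⊤ : Submodule R M) ↔ idl R m ≤ I := by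
  constructor
  · rintro h _ ⟨φ, rfl⟩
    show φ m ∈ I
    refine Submodule.smul_induction_on h (fun c hc x _ => ?_) (fun x y hx hy => ?_)
    · rw [map_smul]; exact I.mul_mem_right _ hc
    · rw [map_add]; exact I.add_mem hx hy
  · intro h
    rw [← b.sum_repr m]
    exact Submodule.sum_mem _ fun l _ => Submodule.smul_mem_smul (h ⟨b.coord l, rfl⟩) trivial

/-- The equivalence of a module with sub and free rank one quotient. -/
theorem exists_split {M' L : Type v} [AddCommGroup M'] [Module R M'] [AddCommGroup L] [Module R L]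
    (a : M' →ₗ[R] M) (b : M →ₗ[R] L) (ha : Function.Injective a) (hab : LinearMap.range a = LinearMap.ker b)
    (hb : Function.Surjective b) (eL : L ≃ₗ[R] R) :
    ∃ (e : M ≃ₗ[R] M' × R), (∀ x, (e x).2 = eL (b x)) ∧ ∀ y, e (a y) = (y, 0) := by
  obtain ⟨ε, hε⟩ := hb (eL.symm 1)
  let q : M →ₗ[R] M := LinearMap.id - (eL.toLinearMap ∘ₗ b).smulRight ε
  have hq : ∀ x, q x ∈ LinearMap.range a := fun x => by
    rw [hab, LinearMap.mem_ker]
    show b (x - eL (b x) • ε) = 0
    rw [map_sub, map_smul, hε, ← map_smul, smul_eq_mul, mul_one, eL.symm_apply_apply, sub_self]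
  let ρ : M →ₗ[R] M' := (LinearEquiv.ofInjective a ha).symm.toLinearMap ∘ₗ q.codRestrict _ hq
  have hρ : ∀ x, a (ρ x) = x - eL (b x) • ε := fun x => by
    have := congrArg Subtype.val ((LinearEquiv.ofInjective a ha).apply_symm_apply ⟨q x, hq x⟩)
    exact this
  have hba : ∀ y, b (a y) = 0 := fun y => LinearMap.mem_ker.mp (hab ▸ ⟨y, rfl⟩)
  let inv : M' × R →ₗ[R] M := a.coprod (LinearMap.toSpanSingleton R M ε)
  refine ⟨LinearEquiv.ofLinear (ρ.prod (eL.toLinearMap ∘ₗ b)) inv ?_ ?_, fun x => rfl, fun y => ?_⟩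
  · refine LinearMap.ext fun p => ?_
    obtain ⟨y, c⟩ := p
    have h2 : eL (b (a y + c • ε)) = c := by
      rw [map_add, hba, zero_add, map_smul, map_smul, hε, eL.apply_symm_apply, smul_eq_mul, mul_one]
    refine Prod.ext (ha ?_) h2
    show a (ρ (a y + c • ε)) = a y
    rw [hρ, h2, add_sub_cancel_right]
  · refine LinearMap.ext fun x => ?_
    show a (ρ x) + eL (b x) • ε = x
    rw [hρ, sub_add_cancel]
  · refine Prod.ext (ha ?_) ?_
    · show a (ρ (a y)) = a y
      rw [hρ, hba, map_zero, zero_smul, sub_zero]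
    · show eL (b (a y)) = 0
      rw [hba, map_zero]

theorem exists_basis_cons {M' L : Type v} [AddCommGroup M'] [Module R M'] [AddCommGroup L] [Module R L]
    (a : M' →ₗ[R] M) (b : M →ₗ[R] L) (ha : Function.Injective a) (hab : LinearMap.range a = LinearMap.ker b)
    (hb : Function.Surjective b) (eL : L ≃ₗ[R] R) {q : ℕ} (c : Module.Basis (Fin q) R M') :
    Nonempty (Module.Basis (Fin (q + 1)) R M) := by
  obtain ⟨e, -, -⟩ := exists_split a b ha hab hb eL
  exact ⟨Module.Basis.ofEquivFun (((e.trans (LinearEquiv.prodCongr c.equivFun (LinearEquiv.refl R R))).trans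
    (LinearEquiv.prodComm R _ _)).trans (Fin.consLinearEquiv R fun _ : Fin (q + 1) => R))⟩

/-- The coordinates of an element with respect to an extension by a free rank one module. -/
theorem idl_cons {M' L : Type v} [AddCommGroup M'] [Module R M'] [AddCommGroup L] [Module R L]
    (a : M' →ₗ[R] M) (b : M →ₗ[R] L) (ha : Function.Injective a) (hab : LinearMap.range a = LinearMap.ker b)
    (hb : Function.Surjective b) (eL : L ≃ₗ[R] R) (m : M) :
    ∃ (m' : M') (ε : M), m = a m' + eL (b m) • ε ∧ idl R m = Ideal.span {eL (b m)} ⊔ idl R m' := by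
  obtain ⟨e, he, hea⟩ := exists_split a b ha hab hb eL
  have hm : m = a (e m).1 + eL (b m) • e.symm (0, 1) := by
    refine e.injective ?_
    rw [map_add, map_smul, hea, e.apply_symm_apply, ← he, Prod.smul_mk, Prod.mk_add_mk, smul_zero, add_zero,
      smul_eq_mul, mul_one, zero_add]
  refine ⟨(e m).1, e.symm (0, 1), hm, le_antisymm ?_ (sup_le ?_ ?_)⟩
  · rintro _ ⟨φ, rfl⟩
    show φ m ∈ _
    have h : φ m = eL (b m) * φ (e.symm (0, 1)) + φ (a (e m).1) := by
      conv_lhs => rw [hm]
      rw [map_add, map_smul, smul_eq_mul, add_comm]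
    rw [h]
    exact Submodule.add_mem_sup (Ideal.mul_mem_right _ _ (Ideal.mem_span_singleton_self _)) ⟨φ ∘ₗ a, rfl⟩
  · rw [Ideal.span_singleton_le_iff_mem]
    exact ⟨eL.toLinearMap ∘ₗ b, rfl⟩
  · rintro _ ⟨ψ, rfl⟩
    exact ⟨ψ ∘ₗ LinearMap.fst R M' R ∘ₗ e.toLinearMap, rfl⟩

theorem idl_baseChange {S : Type u} [CommRing S] [Algebra R S] {ι : Type w} [Fintype ι] (b : Module.Basis ι R M)
    (m : M) {N : Type v} [AddCommGroup N] [Module S N] (e : S ⊗[R] M ≃ₗ[S] N) :
    idl S (e (1 ⊗ₜ m)) = (idl R m).map (algebraMap R S) := by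
  rw [idl_eq_span ((b.baseChange S).map e), idl_eq_span b, Ideal.map_span, ← Set.range_comp]
  refine congrArg Ideal.span (congrArg Set.range (funext fun l => ?_))
  simp [Algebra.smul_def]

end algebra

/-- An ideal generated by a regular sequence of length `r`, being the coordinates of an element. -/
def RegIdl {R : Type u} [CommRing R] (I : Ideal R) (r : ℕ) : Prop :=
  ∃ rs : List R, rs.length = r ∧ IsRegular R rs ∧ Ideal.ofList rs = I

theorem regIdl_cons {R S : Type u} [CommRing R] [IsLocalRing R] [IsNoetherianRing R] [CommRing S] [IsLocalRing S]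
    (π : R →+* S) (hπ : Function.Surjective π) {f : R} {J : Ideal R} {q : ℕ} (g : Fin q → R)
    (hJ : J = Ideal.span (Set.range g)) (hker : RingHom.ker π = Ideal.span {f})
    (h : RegIdl (Ideal.span {f} ⊔ J) (q + 1)) :
    IsSMulRegular R f ∧ RegIdl (J.map π) q := by
  obtain ⟨rs, hlen, hreg, hI⟩ := h
  have hG : Ideal.span (Set.range (Fin.cons f g : Fin (q + 1) → R)) = Ideal.ofList rs := by
    rw [hI, Fin.range_cons, Ideal.span_insert, hJ]
  have h1 := H22Alg.TorIndepLocal.isRegular_of_span_eq hreg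
    ((Fin.cons f g : Fin (q + 1) → R) ∘ Fin.cast hlen) (by
      rw [Set.range_comp, Set.range_eq_univ.mpr (show Function.Surjective (Fin.cast hlen) from (finCongr hlen).surjective), Set.image_univ, hG])
  rw [show List.ofFn ((Fin.cons f g : Fin (q + 1) → R) ∘ Fin.cast hlen) = f :: List.ofFn g from by
    refine (List.ofFn_congr hlen _).trans ?_
    rw [List.ofFn_succ]
    rfl] at h1
  obtain ⟨hf, hg⟩ := (isRegular_cons_iff R f _).mp h1
  refine ⟨hf, (List.ofFn g).map π, by simp, ?_, ?_⟩
  · letI := π.toAlgebra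
    have hm : ∀ r ∈ (List.ofFn g).map π, r ∈ IsLocalRing.maximalIdeal S := by
      intro r hr
      obtain ⟨x, hx, rfl⟩ := List.mem_map.mp hr
      intro hu
      haveI : IsLocalHom π := .of_surjective π hπ
      refine h1.2 ?_
      have : x ∈ Ideal.ofList (f :: List.ofFn g) := Ideal.subset_span (List.mem_cons_of_mem _ hx)
      rw [Ideal.eq_top_of_isUnit_mem _ this (IsLocalHom.map_nonunit x hu)]
      simp
    rw [IsLocalRing.isRegular_iff_isWeaklyRegular_of_subset_maximalIdeal hm]
    let e : QuotSMulTop f R ≃ₗ[R] S :=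
      (Submodule.quotEquivOfEq _ _ (show f • (⊤ : Submodule R R) = RingHom.ker π by
        rw [hker, ← Submodule.ideal_span_singleton_smul f ⊤, smul_eq_mul, Ideal.mul_top])).trans
        (Ideal.quotientKerAlgEquivOfSurjective (f := Algebra.ofId R S) hπ).toLinearEquiv
    exact (isWeaklyRegular_map_algebraMap_iff S S (List.ofFn g)).mpr ((e.isWeaklyRegular_congr _).mp hg.toIsWeaklyRegular)
  · rw [← Ideal.map_ofList, hJ]
    exact congrArg (Ideal.map π) (congrArg Ideal.span (Set.ext fun x => List.mem_ofFn))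

section scheme

variable {X Y : Scheme.{u}}

theorem idl_pullStalk (g : Y ⟶ X) (E : X.Modules) (y : Y) {ι : Type w} [Fintype ι]
    (b : Module.Basis ι (X.presheaf.stalk (g y)) (E.presheaf.stalk (g y))) (m : E.presheaf.stalk (g y)) :
    idl (Y.presheaf.stalk y) (H06Mod.pullStalk g E y m) =
      (idl (X.presheaf.stalk (g y)) m).map (g.stalkMap y).hom := by
  letI := H06Mod.stalkAlgebra g y
  have h := idl_baseChange (S := Y.presheaf.stalk y) b m (H06Mod.pullStalkEquiv g E y)
  refine Eq.trans (congrArg _ ?_) h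
  show _ = H06Mod.pullStalkLin g E y (1 ⊗ₜ m)
  simp [H06Mod.pullStalkLin]

/-- The stalk of an invertible module is free of rank one on a generator. -/
def stalkEquiv {L : X.Modules} {V : X.Opens} {e : Γ(L, V)} (he : H11Tilde.IsGen L e) (x : X) (hx : x ∈ V) :
    L.presheaf.stalk x ≃ₗ[X.presheaf.stalk x] X.presheaf.stalk x :=
  (LinearEquiv.ofBijective (LinearMap.toSpanSingleton _ _ (L.presheaf.germ V x hx e)) (he x hx)).symm

theorem stalkEquiv_smul {L : X.Modules} {V : X.Opens} {e : Γ(L, V)} (he : H11Tilde.IsGen L e) (x : X) (hx : x ∈ V)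
    (c : X.presheaf.stalk x) : stalkEquiv he x hx (c • L.presheaf.germ V x hx e) = c :=
  (LinearEquiv.ofBijective (LinearMap.toSpanSingleton _ _ (L.presheaf.germ V x hx e)) (he x hx)).symm_apply_apply c

theorem exists_basis {E : X.Modules} {ls : List X.Modules} (hF : Filt.SFilt E ls) (x : X) :
    Nonempty (Module.Basis (Fin ls.length) (X.presheaf.stalk x) (E.presheaf.stalk x)) := by
  induction hF with
  | @zero E h =>
    have h0 := (DerSch.stalkFunctor X x).map_isZero h
    haveI : Subsingleton (E.presheaf.stalk x) := ModuleCat.subsingleton_of_isZero h0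
    exact ⟨(Module.Basis.empty _ : Module.Basis (Fin 0) _ _)⟩
  | @cons M E L ls a b w hex hL hM ih =>
    obtain ⟨c⟩ := ih
    obtain ⟨V, e, hxV, he⟩ := H11Ample.exists_gen hL x
    have hT := hex.map_of_exact (DerSch.stalkFunctor X x)
    exact exists_basis_cons (Filt.sl a x) (Filt.sl b x) hT.moduleCat_injective_f hT.exact.moduleCat_range_eq_ker
      hT.moduleCat_surjective_g (stalkEquiv he x hxV) c

end scheme

end Groth.Agent.H3Cyc.SecIdeal
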