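import Groth.Agent.H12Pic.PicCurve.Section
import Groth.Agent.H13CInt.Spread
import Groth.Agent.H29Fitt.FreeLocal
import Groth.Agent.H3Cyc.Gysin
import Mathlib

/-!
# Every section of an invertible module has a zero scheme
-/

set_option autoImplicit false
set_option linter.style.haveILetI false
set_option backward.isDefEq.respectTransparency.types false
universe u

open CategoryTheory AlgebraicGeometry TopologicalSpace Opposite

noncomputable section

namespace Groth.Agent.H3Cyc.ZeroSch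

variable {X : Scheme.{u}}

theorem exists_zeroScheme {L : X.Modules} (hL : PicF.IsInvertible L) (s : L.presheaf.obj (op ⊤)) :
    ∃ (D : Scheme.{u}) (i : D ⟶ X), IsClosedImmersion i ∧ Cyc.IsZeroSchemeOf i L s := by
  let σ : Coh.structureModule X ⟶ L := H29Fitt.homSec L s
  let I := H12Pic.PicCurve.zeroIdeal L σ hL
  have hval : ∀ y : X, H28Mero.sGerm L σ y = L.presheaf.germ ⊤ y trivial s := fun y => by
    refine congrArg (L.presheaf.germ ⊤ y trivial) ?_
    show σ.app ⊤ (1 : Γ(X, ⊤)) = s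
    refine (H29Fitt.homSec_app L s ⊤ (1 : Γ(X, ⊤))).trans ?_
    rw [one_smul]
    exact congr($((congrArg L.presheaf.map (Subsingleton.elim _ (𝟙 _))).trans (L.presheaf.map_id _)) s)
  have hspan : ∀ y : X, ∃ (V : X.Opens) (hy : y ∈ V) (e : Γ(L, V)) (c : Γ(X, V)) (hV : IsAffineOpen V),
      H11Tilde.IsGen L e ∧ L.presheaf.germ ⊤ y trivial s = X.presheaf.germ V y hy c • L.presheaf.germ V y hy e ∧
      I.ideal ⟨V, hV⟩ = Ideal.span {c} ∧ H28Mero.zeroGerm L σ y = Ideal.span {X.presheaf.germ V y hy c} := fun y => by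
    obtain ⟨V, hV, hyV, -, e, c, he, hc⟩ := H28Mero.exists_section_coeff L σ hL ⊤ y trivial
    exact ⟨V, hyV, e, c, hV, he, (hval y).symm.trans (hc y hyV),
      H12Pic.PicCurve.zeroIdeal_ideal L σ hL hV he hc, H28Mero.zeroGerm_eq_span L σ (he y hyV) (hc y hyV)⟩
  refine ⟨I.subscheme, I.subschemeι, inferInstance, ?_, fun d => ?_⟩
  · ext y
    obtain ⟨V, hy, e, c, hV, he, hs, -, hz⟩ := hspan y
    rw [Scheme.IdealSheafData.range_subschemeι, SetLike.mem_coe, H12Pic.PicCurve.zeroIdeal_support]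
    show _ ↔ (Submodule.Quotient.mk (L.presheaf.germ ⊤ y trivial s) : Cyc.secFibre L y) = 0
    rw [hs, hz, Submodule.Quotient.mk_smul]
    show _ ↔ X.presheaf.germ V y hy c • C1Api.fib L y hy e = 0
    rw [← not_iff_not, not_not]
    refine Iff.trans ?_ (C1Api.residue_ne_zero_iff he hy _).symm
    show _ ↔ IsLocalRing.residue _ (X.presheaf.germ V y hy c) ≠ 0
    rw [IsLocalRing.residue_ne_zero_iff_isUnit, Ideal.span_singleton_eq_top]
  · obtain ⟨V, hy, e, c, hV, he, hs, hI, -⟩ := hspan (I.subschemeι d)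
    refine ⟨_, _, Submodule.eq_top_iff'.mpr fun w => Submodule.mem_span_singleton.mpr ((he _ hy).2 w), hs, ?_⟩
    rw [H13CInt.ker_stalkMap I.subschemeι d ⟨V, hV⟩ hy, Scheme.IdealSheafData.ker_subschemeι, hI, Ideal.map_span,
      Set.image_singleton]

end Groth.Agent.H3Cyc.ZeroSch
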