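import Groth.Agent.H3Cyc.GysinTot
import Groth.Agent.H3Cyc.SecIdeal
import Groth.Agent.H3Cyc.ZeroSch
import Groth.Agent.H3Cyc.Fund
import Groth.Agent.H3Cyc.SheafLen
import Groth.Agent.H11Ample.Tensor
import Groth.Agent.H17.PullSect
import Mathlib

/-!
# The product of the first Chern classes as the cycle of the zero scheme of a section
-/

set_option autoImplicit false
set_option linter.style.haveILetI false
set_option linter.unusedSectionVars false
set_option backward.isDefEq.respectTransparency.types false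
universe u

open CategoryTheory CategoryTheory.Limits AlgebraicGeometry IsLocalRing Opposite
open Groth.Agent.H11Tilde (IsGen)
open Groth.Agent.H3Cyc.Tot
open Groth.Agent.H3Cyc.SplitChern (sg sg_congr)
open scoped Pointwise

noncomputable section

namespace Groth.Agent.H3Cyc.TopChern

variable {X : Scheme.{u}}

/-- Near `x` the function `α` is the cycle of the top dimensional part of `X`. -/
def FundAt (δ : X → ℤ) (k : ℤ) (α : X → ℤ) (x : X) : Prop :=
  ∀ ξ, ξ ⤳ x → α ξ = Cyc.subschemeFun δ k (𝟙 X) ξ ∧ δ ξ ≤ k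

theorem regular_specializes {x z : X} (h : z ⤳ x) {a : X.presheaf.stalk x}
    (ha : IsSMulRegular (X.presheaf.stalk x) a) :
    IsSMulRegular (X.presheaf.stalk z) (X.presheaf.stalkSpecializes h a) := by
  letI := (X.presheaf.stalkSpecializes h).hom.toAlgebra
  haveI := GenStalk.isPrime_ker x z h
  haveI := GenStalk.isLocalization_stalkSpecializes x z h
  haveI : Module.Flat (X.presheaf.stalk x) (X.presheaf.stalk z) :=
    IsLocalization.flat (X.presheaf.stalk z) (RingHom.ker (Cyc.specMap x z h)).primeCompl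
  exact ha.of_flat

theorem residue_ne_zero {z : X} (hgen : ∀ w : X, w ⤳ z → w = z) {a : X.presheaf.stalk z}
    (ha : IsSMulRegular (X.presheaf.stalk z) a) : IsLocalRing.residue (X.presheaf.stalk z) a ≠ 0 := by
  rw [IsLocalRing.residue_ne_zero_iff_isUnit]
  by_contra hu
  have hall : ∀ q : PrimeSpectrum (X.presheaf.stalk z), q = IsLocalRing.closedPoint (X.presheaf.stalk z) := fun q =>
    (X.fromSpecStalk z).isEmbedding.injective ((hgen _ (by
      have := Scheme.range_fromSpecStalk (x := z) ▸ Set.mem_range_self (f := X.fromSpecStalk z) q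
      exact this)).trans Scheme.fromSpecStalk_closedPoint.symm)
  have hnil : IsNilpotent a := nilpotent_iff_mem_prime.mpr fun J hJ => by
    rw [show J = IsLocalRing.maximalIdeal (X.presheaf.stalk z) from congrArg PrimeSpectrum.asIdeal (hall ⟨J, hJ⟩)]
    exact hu
  obtain ⟨n, hn⟩ := hnil
  have h0 := ha.pow n
  rw [hn] at h0
  exact one_ne_zero (h0 (show (0 : X.presheaf.stalk z) • 1 = 0 • 0 by simp))

section step

variable {δ : X → ℤ} (hX : Cyc.IsSetup X δ) {L : X.Modules} (hL : PicF.IsInvertible L)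
  {s : L.presheaf.obj (Opposite.op ⊤)} {D : Scheme.{u}} {i : D ⟶ X} [IsClosedImmersion i]
  (hD : Cyc.IsZeroSchemeOf i L s)

include hX hL hD in
theorem gysin_key (k : ℤ) (α : AlgebraicCycle X ℤ) (d : D) {V : X.Opens} {e : Γ(L, V)} (he : IsGen L e)
    (hxV : i d ∈ V) (a : X.presheaf.stalk (i d))
    (hsa : (L.presheaf.germ ⊤ (i d) trivial) s = a • L.presheaf.germ V (i d) hxV e)
    (hrega : IsSMulRegular (X.presheaf.stalk (i d)) a) (hA : FundAt δ (k + 1) ⇑α (i d))
    (w : (ξ : X) → Cyc.secFibre L ξ) :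
    Cyc.c1CapFun δ L ⇑α (Cyc.gysinChoice L s w) (i d) = Cyc.subschemeFun (fun d => δ (i d)) k (𝟙 D) d ∧
      δ (i d) ≤ k := by
  haveI := hX.1
  classical
  let x : X := i d
  have hres0 : ∀ z (hz : z ⤳ x), (∀ w : X, w ⤳ z → w = z) →
      X.residue z (X.presheaf.stalkSpecializes hz a) ≠ 0 := fun z hz hg =>
    residue_ne_zero hg (regular_specializes hz hrega)
  have htop : ∀ z, z ⤳ x → δ z = k + 1 → ∀ w : X, w ⤳ z → w = z := fun z hz hzd w hw => by
    by_contra hne
    have h1 := (hX.2.2 _ _ hw hne).1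
    have h2 := (hA w (hw.trans hz)).2
    omega
  have hsz : ∀ (z : X) (hz : z ⤳ x), (L.presheaf.germ ⊤ z trivial) s =
      X.presheaf.stalkSpecializes hz a • L.presheaf.germ V z (hz.mem_open V.2 hxV) e := fun z hz => by
    rw [← TopCat.Presheaf.germ_stalkSpecializes_apply L.presheaf (U := ⊤) trivial hz s, hsa,
      C1Api.stalkSpecializes_smul, TopCat.Presheaf.germ_stalkSpecializes_apply]
  have hle : δ x ≤ k := by
    by_contra hc
    have h2 := (hA x specializes_rfl).2
    have h3 := hres0 x specializes_rfl (htop x specializes_rfl (by omega))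
    refine (Gysin.notMem_range_iff hD x).mpr ?_ ⟨d, rfl⟩
    rw [hsz x specializes_rfl, Submodule.Quotient.mk_smul]
    exact (C1Api.residue_ne_zero_iff he hxV _).mpr h3
  refine ⟨?_, hle⟩
  rw [Fund.subschemeFun_id]
  by_cases hxd : δ x = k
  swap
  · rw [if_neg hxd, Cyc.c1CapFun]
    refine finsum_eq_zero_of_forall_eq_zero fun ξ => ?_
    by_contra hne
    have h1 := C1Api.secDivFun_ne_zero (right_ne_zero_of_mul hne)
    have h0 := left_ne_zero_of_mul hne
    rw [(hA ξ h1).1, Fund.subschemeFun_id, ne_eq, ite_eq_right_iff, Classical.not_imp] at h0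
    refine right_ne_zero_of_mul hne ?_
    rw [Cyc.secDivFun, dif_neg fun hh => hxd (by have h3 := hh.2; have h4 := h0.1; show δ (i d) = k; omega)]
  rw [if_pos hxd]
  let F : X.Modules := Coh.structureModule X
  have hF : Coh.IsCoh F :=
    H11Ample.isCoh_of_isInvertible (H11Ample.isInvertible_of_gen fun y => ⟨⊤, _, trivial, H11Ample.isGen_one ⊤⟩)
  let eF : ∀ y : X, F.presheaf.stalk y ≃ₗ[X.presheaf.stalk y] X.presheaf.stalk y := fun y =>
    SecIdeal.stalkEquiv (H11Ample.isGen_one (X := X) ⊤) y trivial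
  have hnt : ∀ y : X, Nontrivial (F.presheaf.stalk y) := fun y => (eF y).toEquiv.nontrivial
  have hd : ∀ z : X, z ⤳ x → z ≠ x → δ z = k + 1 := fun z hz hne => by
    have h1 := (hX.2.2 _ _ hz hne).1
    have h2 := (hA z hz).2
    omega
  have hgen : ∀ z : X, z ⤳ x → z ≠ x → Nontrivial (F.presheaf.stalk z) →
      ∀ w : X, w ⤳ z → Nontrivial (F.presheaf.stalk w) → w = z := fun z hz hne _ w hw _ =>
    htop z hz (hd z hz hne) w hw
  have hne : ∀ z (hz : z ⤳ x), z ≠ x → Nontrivial (F.presheaf.stalk z) → Cyc.specMap x z hz a ≠ 0 :=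
    fun z hz hzx _ => hres0 z hz (htop z hz (hd z hz hzx))
  let T := (SheafLen.finite_gen F hF x hgen).toFinset
  have hT : ∀ z, z ∈ T ↔ z ⤳ x ∧ z ≠ x ∧ Nontrivial (F.presheaf.stalk z) :=
    fun z => (SheafLen.finite_gen F hF x hgen).mem_toFinset
  have hregF : IsSMulRegular (F.presheaf.stalk x) a := ((eF x).isSMulRegular_congr a).mpr hrega
  have hlen : Module.length (D.presheaf.stalk d) (D.presheaf.stalk d) =
      Module.length (X.presheaf.stalk x)
        (F.presheaf.stalk x ⧸ a • (⊤ : Submodule (X.presheaf.stalk x) (F.presheaf.stalk x))) := by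
    have hker : RingHom.ker (i.stalkMap d).hom = Ideal.span {a} := by
      rw [← Gysin.ker_eq_span_gen hD he d rfl hxV a hsa]
      simp
    letI := (i.stalkMap d).hom.toAlgebra
    have hs : Function.Surjective (algebraMap (X.presheaf.stalk (i d)) (D.presheaf.stalk d)) :=
      i.stalkMap_surjective d
    let φ : (X.presheaf.stalk x ⧸ Ideal.span {a}) ≃ₗ[X.presheaf.stalk x] D.presheaf.stalk d :=
      (Submodule.quotEquivOfEq _ _ hker.symm).trans
        (Ideal.quotientKerAlgEquivOfSurjective (f := Algebra.ofId (X.presheaf.stalk (i d)) (D.presheaf.stalk d)) hs).toLinearEquiv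
    let ψ : (X.presheaf.stalk x ⧸ a • (⊤ : Submodule (X.presheaf.stalk x) (X.presheaf.stalk x))) ≃ₗ[X.presheaf.stalk x]
        (X.presheaf.stalk x ⧸ Ideal.span {a}) :=
      Submodule.quotEquivOfEq _ _ (by rw [← Submodule.ideal_span_singleton_smul a ⊤, smul_eq_mul, Ideal.mul_top])
    rw [← Module.length_eq_of_surjective (S := X.presheaf.stalk (i d)) (R := D.presheaf.stalk d) hs]
    exact (((QuotSMulTop.congr a (eF x)).trans ψ).trans φ).length_eq.symm
  rw [hlen, SheafLen.length_quot_smul_stalk F hF x hgen T hT a hregF hne, Cyc.c1CapFun,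
    finsum_eq_sum_of_support_subset _ (s := T) ?_,
    ← Finset.sum_attach T (fun ξ => α ξ * Cyc.secDivFun δ L ξ (Cyc.gysinChoice L s w ξ) x)]
  · refine Finset.sum_congr rfl fun z _ => ?_
    obtain ⟨hz, hzx, hzn⟩ := (hT z.1).mp z.2
    have hzd := hd z.1 hz hzx
    have hres : X.residue z.1 (X.presheaf.stalkSpecializes hz a) ≠ 0 := hne z.1 hz hzx hzn
    have hm : (Submodule.Quotient.mk ((L.presheaf.germ ⊤ z.1 trivial) s) : Cyc.secFibre L z.1) ≠ 0 := by
      rw [hsz z.1 hz, Submodule.Quotient.mk_smul]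
      exact (C1Api.residue_ne_zero_iff he (hz.mem_open V.2 hxV) _).mpr hres
    rw [(hA z.1 hz).1, Fund.subschemeFun_id, if_pos hzd, Cyc.gysinChoice, if_pos hm, hsz z.1 hz,
      Submodule.Quotient.mk_smul, C1Api.secDivFun_gen he δ (hz.mem_open V.2 hxV) (X.presheaf.stalkSpecializes hz a) hres hxV,
      Cyc.divFun, dif_pos ⟨hz, by have h3 : δ (i d) = k := hxd; show δ (i d) + 1 = δ z.1; omega⟩, (eF z.1).length_eq]
    congr 1
    haveI := GenStalk.isPrime_ker x z.1 hz
    have hdimq : ringKrullDim (Cyc.LocQuot x z.1 hz) ≤ 1 := by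
      haveI : Module.Finite (X.presheaf.stalk x) (F.presheaf.stalk x) := H3CAlg.ChiStalk.finite_stalk F hF x
      refine le_trans ?_ (SheafLen.supportDim_le_one F hF x hgen)
      rw [ringKrullDim_quotient]
      refine Order.krullDim_le_of_strictMono (fun q => ⟨q.1, Module.mem_support_mono (?_ : _ ≤ q.1)
        ((SheafLen.mem_support_iff F hF x z.1 hz).mpr hzn)⟩) fun q q' hq => hq
      exact fun c hc => q.2 hc
    have h := FlatRat.ordAt_div' x z.1 hz hdimq a 1 (hne z.1 hz hzx hzn) (by rw [map_one]; exact one_ne_zero)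
    rw [map_one, div_one, map_one, Ring.ord_one, ENat.toNat_zero, Nat.cast_zero, sub_zero] at h
    exact h
  · intro ξ hξ
    have h1 := C1Api.secDivFun_ne_zero (right_ne_zero_of_mul hξ)
    have h0 := left_ne_zero_of_mul hξ
    rw [(hA ξ h1).1, Fund.subschemeFun_id, ne_eq, ite_eq_right_iff, Classical.not_imp] at h0
    refine Finset.mem_coe.mpr ((hT ξ).mpr ⟨h1, fun e => ?_, hnt ξ⟩)
    have h4 := h0.1
    rw [e] at h4
    omega

include hX hL hD in
theorem fundAt_gysin (k : ℤ) (α : AlgebraicCycle X ℤ) (d : D) {V : X.Opens} {e : Γ(L, V)} (he : IsGen L e)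
    (hxV : i d ∈ V) (a : X.presheaf.stalk (i d))
    (hsa : (L.presheaf.germ ⊤ (i d) trivial) s = a • L.presheaf.germ V (i d) hxV e)
    (hrega : IsSMulRegular (X.presheaf.stalk (i d)) a) (hA : FundAt δ (k + 1) ⇑α (i d))
    (w : (ξ : X) → Cyc.secFibre L ξ) (γ : AlgebraicCycle D ℤ)
    (hγ : ∀ d, γ d = Cyc.c1CapFun δ L ⇑α (Cyc.gysinChoice L s w) (i d)) :
    FundAt (fun d => δ (i d)) k ⇑γ d := fun η hη => by
  have hz : i η ⤳ i d := hη.map i.continuous
  rw [hγ η]
  refine gysin_key hX hL hD k α η he (hz.mem_open V.2 hxV) (X.presheaf.stalkSpecializes hz a) ?_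
    (regular_specializes hz hrega) (fun ξ hξ => hA ξ (hξ.trans hz)) w
  rw [← TopCat.Presheaf.germ_stalkSpecializes_apply L.presheaf (U := ⊤) trivial hz s, hsa,
    C1Api.stalkSpecializes_smul, TopCat.Presheaf.germ_stalkSpecializes_apply]

include hX hL hD in
/-- Pushing forward the Gysin image gives `c₁`. -/
theorem map_gysin (k : ℤ) (α : AlgebraicCycle X ℤ) (hα : α ∈ Cyc.Zk X δ (k + 1))
    (w : (ξ : X) → Cyc.secFibre L ξ) (hw : ∀ ξ, w ξ ≠ 0) (γ : AlgebraicCycle D ℤ)
    (hγ : ∀ d, γ d = Cyc.c1CapFun δ L ⇑α (Cyc.gysinChoice L s w) (i d))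
    (hm : AlgebraicCycle.map i (fun d => δ (i d)) δ γ ∈ Cyc.Zk X δ k) :
    sg (AlgebraicCycle.map i (fun d => δ (i d)) δ γ) hm = Filt.cc hX L (sg α hα) := by
  haveI := hX.1
  refine (sg_congr hm (q' := k + 1 - 1) (by rwa [add_sub_cancel_right]) (by ring) rfl).trans
    (SplitChern.sg_c1 hX hL hα _ (Cyc.gysinChoice L s w) (fun ξ => Gysin.gysinChoice_ne_zero L s w hw ξ) ?_)
  funext x
  by_cases hx : x ∈ Set.range i
  · obtain ⟨d, rfl⟩ := hx
    rw [Gysin.map_immersion_apply, hγ]
  · rw [Gysin.map_immersion_eq_zero i δ γ x hx, Cyc.c1CapFun, finsum_eq_zero_of_forall_eq_zero fun ξ => ?_]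
    by_cases h : ξ ⤳ x
    swap
    · rw [Cyc.secDivFun, dif_neg fun hh => h hh.1, mul_zero]
    obtain ⟨V, e, hxV, he⟩ := H11Ample.exists_gen hL x
    obtain ⟨a, ha⟩ := (he x hxV).2 ((L.presheaf.germ ⊤ x trivial) s)
    have ha' : (L.presheaf.germ ⊤ x trivial) s = a • L.presheaf.germ V x hxV e := ha.symm
    have hu : IsUnit a := by
      have h1 := (Gysin.notMem_range_iff hD x).mp hx
      rw [ha', Submodule.Quotient.mk_smul] at h1
      exact (IsLocalRing.residue_ne_zero_iff_isUnit a).mp ((C1Api.residue_ne_zero_iff he hxV a).mp h1)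
    have hξ : ξ ∉ Set.range i := fun hh => hx (h.mem_closed i.isClosedEmbedding.isClosed_range hh)
    have hξV := h.mem_open V.2 hxV
    have hs1 : (L.presheaf.germ ⊤ ξ trivial) s =
        X.presheaf.stalkSpecializes h a • L.presheaf.germ V ξ hξV e := by
      rw [← TopCat.Presheaf.germ_stalkSpecializes_apply L.presheaf (U := ⊤) trivial h s, ha',
        C1Api.stalkSpecializes_smul, TopCat.Presheaf.germ_stalkSpecializes_apply]
    have hr : X.residue ξ (X.presheaf.stalkSpecializes h a) ≠ 0 :=
      ((hu.map (X.presheaf.stalkSpecializes h).hom).map (X.residue ξ).hom).ne_zero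
    rw [Cyc.gysinChoice, if_pos ((Gysin.notMem_range_iff hD ξ).mp hξ), hs1, Submodule.Quotient.mk_smul,
      C1Api.secDivFun_gen he δ hξV (X.presheaf.stalkSpecializes h a) hr hxV]
    unfold Cyc.divFun
    split_ifs with hh
    · exact mul_eq_zero_of_right _ (C1Api.ordAt_specMap_unit x ξ hh.1 hu)
    · exact mul_zero _

end step

section push

variable {Y : Scheme.{u}} {δ : X → ℤ} {δY : Y → ℤ} (p : X ⟶ Y) [IsProper p] (hX : Cyc.IsSetup X δ)
  (hY : Cyc.IsSetup Y δY) (hp : Cyc.DeltaCompat p δ δY)

theorem Push_sg {q : ℤ} (a : AlgebraicCycle X ℤ) (ha : a ∈ Cyc.Zk X δ q) :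
    Tot.Push p hX hY hp (sg a ha) = sg (AlgebraicCycle.map p δ δY a) (Chow.map_mem p a ha) := by
  funext l
  show Chow.push p hX hY hp l ((Pi.single q (ChowOps.cl a ha) : T X δ) l) = _
  by_cases hl : l = q
  · subst hl
    rw [Tot.single_apply]
    simp only [SplitChern.sg]
    rw [Tot.single_apply, Chow.push_cl]
  · simp only [SplitChern.sg]
    rw [Pi.single_eq_of_ne hl, Pi.single_eq_of_ne hl, map_zero]

theorem Push_prod : ∀ (ls : List Y.Modules) (_ : ∀ L ∈ ls, PicF.IsInvertible L) (f : T X δ),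
    Tot.Push p hX hY hp (((ls.map (Scheme.Modules.pullback p).obj).map (Filt.cc hX)).prod f) =
      (ls.map (Filt.cc hY)).prod (Tot.Push p hX hY hp f)
  | [], _, f => rfl
  | L :: ls, h, f => by
    have hL := h L List.mem_cons_self
    have hL' := H11Ample.isInvertible_pullback p hL
    simp only [List.map_cons, List.prod_cons]
    show Tot.Push p hX hY hp (Filt.cc hX _ (((ls.map (Scheme.Modules.pullback p).obj).map (Filt.cc hX)).prod f)) =
      Filt.cc hY L ((ls.map (Filt.cc hY)).prod (Tot.Push p hX hY hp f))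
    rw [Filt.cc_eq hX hL', Filt.cc_eq hY hL, Tot.Push_C1 p hX hY hp hL hL',
      Push_prod ls (fun M hM => h M (List.mem_cons_of_mem _ hM)) f]

end push

theorem invertible_of_sfilt {E : X.Modules} {ls : List X.Modules} (h : Filt.SFilt E ls) :
    ∀ L ∈ ls, PicF.IsInvertible L := by
  induction h with
  | zero h => exact fun L hL => (List.not_mem_nil hL).elim
  | cons a b w hex hL hM ih => exact List.forall_mem_cons.mpr ⟨hL, ih⟩

theorem sl_germ {M N : X.Modules} (φ : M ⟶ N) (U : X.Opens) (x : X) (h : x ∈ U) (m : Γ(M, U)) :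
    Filt.sl φ x (M.presheaf.germ U x h m) = N.presheaf.germ U x h (φ.app U m) :=
  TopCat.Presheaf.stalkFunctor_map_germ_apply U x h φ.mapPresheaf m

/-- The coordinates of a global section at a point. -/
def IDL {E : X.Modules} (s : E.presheaf.obj (op ⊤)) (x : X) : Ideal (X.presheaf.stalk x) :=
  SecIdeal.idl (X.presheaf.stalk x) (E.presheaf.germ ⊤ x trivial s)

theorem exists_top : ∀ (q : ℕ) {X : Scheme.{u}} {δ : X → ℤ} (hX : Cyc.IsSetup X δ) {E : X.Modules}
    {ls : List X.Modules} (_ : Filt.SFilt E ls) (_ : ls.length = q) (s : E.presheaf.obj (op ⊤)) (k : ℤ)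
    (α : AlgebraicCycle X ℤ) (hα : α ∈ Cyc.Zk X δ k),
    ∃ (β : AlgebraicCycle X ℤ) (hβ : β ∈ Cyc.Zk X δ (k - q)),
      (∀ x, β x ≠ 0 → E.presheaf.germ ⊤ x trivial s ∈
        IsLocalRing.maximalIdeal (X.presheaf.stalk x) • (⊤ : Submodule (X.presheaf.stalk x) (E.presheaf.stalk x))) ∧
      sg β hβ = (ls.map (Filt.cc hX)).prod (sg α hα) ∧
      ∀ x, E.presheaf.germ ⊤ x trivial s ∈
          IsLocalRing.maximalIdeal (X.presheaf.stalk x) • (⊤ : Submodule (X.presheaf.stalk x) (E.presheaf.stalk x)) →
        δ x = k - q → FundAt δ k ⇑α x → SecIdeal.RegIdl (IDL s x) q →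
        β x = ((Module.length (X.presheaf.stalk x) (X.presheaf.stalk x ⧸ IDL s x)).toNat : ℤ)
  | 0, X, δ, hX, E, ls, hF, hlen, s, k, α, hα => by
    obtain rfl := List.length_eq_zero_iff.mp hlen
    have hsub : ∀ x : X, Subsingleton (E.presheaf.stalk x) := fun x => by
      cases hF with
      | zero h => exact ModuleCat.subsingleton_of_isZero ((DerSch.stalkFunctor X x).map_isZero h)
    refine ⟨α, by simpa using hα, fun x _ => ?_, ?_, fun x _ hxd hA _ => ?_⟩
    · haveI := hsub x
      rw [Subsingleton.elim (E.presheaf.germ ⊤ x trivial s) 0]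
      exact Submodule.zero_mem _
    · rw [List.map_nil, List.prod_nil]
      exact sg_congr _ _ (by simp) rfl
    · have h0 : IDL s x = ⊥ := by
        haveI := hsub x
        refine eq_bot_iff.mpr ?_
        rintro _ ⟨φ, rfl⟩
        rw [Subsingleton.elim (E.presheaf.germ ⊤ x trivial s) 0, map_zero]
        exact Submodule.zero_mem _
      rw [(hA x specializes_rfl).1, Fund.subschemeFun_id, if_pos (by simpa using hxd), h0,
        (Submodule.quotEquivOfEqBot _ rfl).length_eq]
  | q + 1, X, δ, hX, E, ls, hF, hlen, s, k, α, hα => by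
    cases hF with
    | zero h => simp at hlen
    | @cons M _ L ls a b w hex hL hM =>
      haveI := hX.1
      have hlen' : ls.length = q := by simpa using hlen
      let σ : L.presheaf.obj (op ⊤) := b.app ⊤ s
      obtain ⟨D, i, hi, hD⟩ := ZeroSch.exists_zeroScheme hL σ
      haveI := hi
      have hDs := GysinTot.isSetupD hX (i := i)
      have hδi := Reduction.deltaCompat_immersion i δ
      let sD : ((Scheme.Modules.pullback i).obj E).presheaf.obj (op ⊤) := OmegaSh.pullSect i E ⊤ s
      let a' := (Scheme.Modules.pullback i).map a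
      let b' := (Scheme.Modules.pullback i).map b
      have hex' := H22Alg.KModel.shortExact_pullback i hex (H22Alg.KPullLam.finLocFree_of_rank
        (H22Alg.PB.rank_one_of_isInvertible hL))
      have hgD : ∀ d : D, ((Scheme.Modules.pullback i).obj E).presheaf.germ ⊤ d trivial sD =
          H06Mod.pullStalk i E d (E.presheaf.germ ⊤ (i d) trivial s) := fun d =>
        (H06Mod.pullStalk_germ i E d ⊤ trivial s).symm
      have hgσ : ∀ x : X, Filt.sl b x (E.presheaf.germ ⊤ x trivial s) = L.presheaf.germ ⊤ x trivial σ := fun x =>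
        sl_germ b ⊤ x trivial s
      have hb0 : b'.app ⊤ sD = 0 := by
        refine TopCat.Presheaf.section_ext ⟨_, ((Scheme.Modules.pullback i).obj L).isSheaf⟩ ⊤ _ _ fun d _ => ?_
        obtain ⟨V, e, hV, he⟩ := H11Ample.exists_gen hL (i d)
        obtain ⟨c, hc⟩ := (he (i d) hV).2 (L.presheaf.germ ⊤ (i d) trivial σ)
        have hker := Gysin.ker_eq_span_gen hD he d rfl hV c hc.symm
        have hc0 : i.stalkMap d c = 0 := by
          have : c ∈ RingHom.ker ((X.presheaf.stalkCongr (.of_eq (rfl : i d = i d))).hom ≫ i.stalkMap d).hom := by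
            rw [hker]; exact Ideal.mem_span_singleton_self c
          simpa using this
        show ((Scheme.Modules.pullback i).obj L).presheaf.germ ⊤ d trivial (b'.app ⊤ sD) =
          ((Scheme.Modules.pullback i).obj L).presheaf.germ ⊤ d trivial 0
        rw [map_zero, show b'.app ⊤ sD = OmegaSh.pullSect i L ⊤ σ from (H17.PullSect.pullSect_natural i b ⊤ s).symm]
        refine (H06Mod.pullStalk_germ i L d ⊤ trivial σ).symm.trans ?_
        show H06Mod.pullStalk i L d (L.presheaf.germ ⊤ (i d) trivial σ) = 0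
        rw [← hc]
        refine (H06Mod.pullStalk_smul i L d c _).trans ?_
        rw [hc0, zero_smul]
      haveI := hex'.mono_f
      let φ := H29Fitt.homSec ((Scheme.Modules.pullback i).obj E) sD
      have hφ : φ ≫ b' = 0 := by
        refine Scheme.Modules.hom_ext _ _ fun U => ?_
        ext r
        show b'.app U (φ.app U r) = 0
        rw [H29Fitt.homSec_app, Scheme.Modules.Hom.app_smul, H11Tilde.app_map_apply, hb0, map_zero, smul_zero]
      let s' : ((Scheme.Modules.pullback i).obj M).presheaf.obj (op ⊤) :=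
        (hex'.exact.lift φ hφ).app ⊤ (show Γ(Coh.structureModule D, ⊤) from (1 : Γ(D, ⊤)))
      have hs' : a'.app ⊤ s' = sD := by
        show ((hex'.exact.lift φ hφ) ≫ a').app ⊤ _ = sD
        rw [show hex'.exact.lift φ hφ ≫ a' = φ from hex'.exact.lift_f φ hφ]
        refine (H29Fitt.homSec_app _ sD ⊤ _).trans ?_
        rw [show ((1 : Γ(D, ⊤)) : Γ(D, ⊤)) • _ = _ from one_smul _ _]
        exact congr($((congrArg _ (Subsingleton.elim _ (𝟙 _))).trans
          (((Scheme.Modules.pullback i).obj E).presheaf.map_id _)) sD)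
      have hidl' : ∀ d : D, IDL s' d = (IDL s (i d)).map (i.stalkMap d).hom := fun d => by
        obtain ⟨bX⟩ := SecIdeal.exists_basis (Filt.SFilt.cons a b w hex hL hM) (i d)
        have h1 := SecIdeal.idl_pullStalk i E d bX (E.presheaf.germ ⊤ (i d) trivial s)
        rw [← hgD d] at h1
        obtain ⟨V, e, hdV, he⟩ := H11Ample.exists_gen (H11Ample.isInvertible_pullback i hL) d
        have hT := hex'.map_of_exact (DerSch.stalkFunctor D d)
        obtain ⟨m', ε, hm, hid⟩ := SecIdeal.idl_cons (Filt.sl a' d) (Filt.sl b' d) hT.moduleCat_injective_f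
          hT.exact.moduleCat_range_eq_ker hT.moduleCat_surjective_g (SecIdeal.stalkEquiv he d hdV)
          (((Scheme.Modules.pullback i).obj E).presheaf.germ ⊤ d trivial sD)
        have hz : Filt.sl b' d (((Scheme.Modules.pullback i).obj E).presheaf.germ ⊤ d trivial sD) = 0 := by
          rw [sl_germ, hb0, map_zero]
        rw [hz, map_zero] at hm hid
        rw [zero_smul, add_zero] at hm
        rw [Ideal.span_singleton_eq_bot.mpr rfl, bot_sup_eq] at hid
        have hm' : m' = ((Scheme.Modules.pullback i).obj M).presheaf.germ ⊤ d trivial s' :=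
          hT.moduleCat_injective_f (hm.symm.trans ((congrArg _ hs'.symm).trans (sl_germ a' ⊤ d trivial s').symm))
        rw [hm'] at hid
        exact hid.symm.trans h1
      obtain ⟨γ, hγf, hγ⟩ := GysinTot.exists_gysin_cycle (s := σ) (i := i) hX hL (k - 1) α
        (by rwa [sub_add_cancel]) (Chow.sec hL) (Chow.sec_ne_zero hL)
      obtain ⟨β', hβ', hsupp, hcl, hcoef⟩ := exists_top q hDs (hM.pullback i) (by simpa using hlen') s' (k - 1) γ hγ
      have hk : k - 1 - (q : ℤ) = k - ((q + 1 : ℕ) : ℤ) := by push_cast; ring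
      have hloc : ∀ x : X, E.presheaf.germ ⊤ x trivial s ∈
          IsLocalRing.maximalIdeal (X.presheaf.stalk x) • (⊤ : Submodule (X.presheaf.stalk x) (E.presheaf.stalk x)) →
          ∃ (V : X.Opens) (e : Γ(L, V)) (hV : x ∈ V) (c : X.presheaf.stalk x), IsGen L e ∧
            L.presheaf.germ ⊤ x trivial σ = c • L.presheaf.germ V x hV e ∧
            c ∈ IDL s x ∧ x ∈ Set.range i ∧ ∃ g : Fin q → X.presheaf.stalk x,
              IDL s x = Ideal.span {c} ⊔ Ideal.span (Set.range g) := fun x hx => by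
        obtain ⟨bX⟩ := SecIdeal.exists_basis (Filt.SFilt.cons a b w hex hL hM) x
        obtain ⟨bM⟩ := SecIdeal.exists_basis hM x
        obtain ⟨V, e, hV, he⟩ := H11Ample.exists_gen hL x
        have hT := hex.map_of_exact (DerSch.stalkFunctor X x)
        obtain ⟨m', ε, hm, hid⟩ := SecIdeal.idl_cons (Filt.sl a x) (Filt.sl b x) hT.moduleCat_injective_f
          hT.exact.moduleCat_range_eq_ker hT.moduleCat_surjective_g (SecIdeal.stalkEquiv he x hV)
          (E.presheaf.germ ⊤ x trivial s)
        rw [hgσ x] at hid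
        obtain ⟨c, hc⟩ := (he x hV).2 (L.presheaf.germ ⊤ x trivial σ)
        have hcc : SecIdeal.stalkEquiv he x hV (L.presheaf.germ ⊤ x trivial σ) = c := by
          rw [← hc]; exact SecIdeal.stalkEquiv_smul he x hV c
        rw [hcc] at hid
        have hcI : c ∈ IDL s x := by rw [IDL, hid]; exact Ideal.mem_sup_left (Ideal.mem_span_singleton_self c)
        refine ⟨V, e, hV, c, he, hc.symm, hcI, ?_, fun j => bM.repr m' (Fin.cast hlen'.symm j), ?_⟩
        · by_contra hn
          have h1 := (Gysin.notMem_range_iff hD x).mp hn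
          rw [← hc, Submodule.Quotient.mk_smul] at h1
          refine (C1Api.residue_ne_zero_iff he hV c).mp h1 ((IsLocalRing.residue_eq_zero_iff c).mpr ?_)
          exact (SecIdeal.mem_smul_top_iff bX _ _).mp hx hcI
        · refine hid.trans (congrArg _ ((SecIdeal.idl_eq_span bM m').trans (congrArg Ideal.span ?_)))
          exact ((finCongr hlen'.symm).surjective.range_comp fun l => bM.repr m' l).symm
      refine ⟨AlgebraicCycle.map i (fun d => δ (i d)) δ β',
        hk ▸ Chow.map_mem (δ := fun d => δ (i d)) i β' hβ', fun x hx => ?_, ?_, fun x hx hxd hA hreg => ?_⟩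
      · by_cases hxr : x ∈ Set.range i
        swap
        · exact absurd (Gysin.map_immersion_eq_zero i δ β' x hxr) hx
        obtain ⟨d, rfl⟩ := hxr
        rw [Gysin.map_immersion_apply] at hx
        obtain ⟨bX⟩ := SecIdeal.exists_basis (Filt.SFilt.cons a b w hex hL hM) (i d)
        obtain ⟨bD⟩ := SecIdeal.exists_basis (hM.pullback i) d
        have h1 := (SecIdeal.mem_smul_top_iff bD _ _).mp (hsupp d hx)
        rw [SecIdeal.mem_smul_top_iff bX]
        refine le_trans ((Ideal.map_le_iff_le_comap).mp ((hidl' d).symm.le.trans h1)) ?_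
        exact IsLocalRing.le_maximalIdeal (Ideal.comap_ne_top _ (IsLocalRing.maximalIdeal.isMaximal _).ne_top)
      · refine Eq.trans (sg_congr _ (Chow.map_mem (δ := fun d => δ (i d)) i β' hβ') hk.symm rfl) ?_
        rw [← Push_sg i hDs hX hδi β' hβ', hcl, Push_prod i hDs hX hδi ls (invertible_of_sfilt hM), Push_sg i hDs hX hδi,
          map_gysin hX hL hD (k - 1) α (by rwa [sub_add_cancel]) _ (Chow.sec_ne_zero hL) γ hγf,
          show sg α (q := k - 1 + 1) (by rwa [sub_add_cancel]) = sg α hα from sg_congr _ hα (by ring) rfl,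
          List.map_cons, List.prod_cons]
        have hcom : Commute (Filt.cc hX L) (ls.map (Filt.cc hX)).prod := Commute.list_prod_right _ _ fun y hy => by
          obtain ⟨N, -, rfl⟩ := List.mem_map.mp hy
          exact Filt.cc_comm hX L N
        exact congr($(hcom.symm.eq) (sg α hα))
      · obtain ⟨V, e, hV, c, he, hc, hcI, ⟨d, rfl⟩, g, hg⟩ := hloc x hx
        obtain ⟨bX⟩ := SecIdeal.exists_basis (Filt.SFilt.cons a b w hex hL hM) (i d)
        obtain ⟨bD⟩ := SecIdeal.exists_basis (hM.pullback i) d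
        have hker : RingHom.ker (i.stalkMap d).hom = Ideal.span {c} := by
          rw [← Gysin.ker_eq_span_gen hD he d rfl hV c hc]; simp
        have hle : RingHom.ker (i.stalkMap d).hom ≤ IDL s (i d) := by
          rw [hker, Ideal.span_singleton_le_iff_mem]; exact hcI
        obtain ⟨hcreg, hreg'⟩ := SecIdeal.regIdl_cons (i.stalkMap d).hom (i.stalkMap_surjective d) g rfl hker
          (hg ▸ hreg)
        have hmap : (IDL s (i d)).map (i.stalkMap d).hom = (Ideal.span (Set.range g)).map (i.stalkMap d).hom := by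
          rw [hg, Ideal.map_sup, sup_eq_right, Ideal.map_span, Set.image_singleton, Ideal.span_singleton_le_iff_mem,
            show (i.stalkMap d).hom c = 0 from (hker.symm ▸ Ideal.mem_span_singleton_self c :
              c ∈ RingHom.ker (i.stalkMap d).hom)]
          exact zero_mem _
        have hmax : ((IDL s (i d)).map (i.stalkMap d).hom) ≤ IsLocalRing.maximalIdeal (D.presheaf.stalk d) :=
          (Ideal.map_mono ((SecIdeal.mem_smul_top_iff bX _ _).mp hx)).trans
            (IsLocalRing.map_maximalIdeal_of_surjective _ (i.stalkMap_surjective d)).le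
        rw [Gysin.map_immersion_apply,
          hcoef d ((SecIdeal.mem_smul_top_iff bD _ _).mpr ((hidl' d).le.trans hmax))
            (show δ (i d) = k - 1 - (q : ℤ) by omega)
            (fundAt_gysin hX hL hD (k - 1) α d he hV c hc hcreg (by rwa [sub_add_cancel]) _ γ hγf)
            (by rw [hidl' d, hmap]; exact hreg'), hidl' d]
        congr 2
        letI := (i.stalkMap d).hom.toAlgebra
        have hs : Function.Surjective (algebraMap (X.presheaf.stalk (i d)) (D.presheaf.stalk d)) :=
          i.stalkMap_surjective d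
        rw [← Module.length_eq_of_surjective (S := X.presheaf.stalk (i d)) (R := D.presheaf.stalk d) hs]
        let f := (Ideal.Quotient.mkₐ (X.presheaf.stalk (i d)) ((IDL s (i d)).map (i.stalkMap d).hom)).comp
          (Algebra.ofId _ _)
        have hf : Function.Surjective f := Ideal.Quotient.mk_surjective.comp hs
        have hfk : RingHom.ker f = IDL s (i d) := by
          show (RingHom.ker (Ideal.Quotient.mk ((IDL s (i d)).map (i.stalkMap d).hom))).comap (i.stalkMap d).hom = _
          rw [Ideal.mk_ker, Ideal.comap_map_of_surjective _ (i.stalkMap_surjective d), sup_eq_left]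
          exact hle
        exact ((Submodule.quotEquivOfEq _ _ hfk.symm).trans
          (Ideal.quotientKerAlgEquivOfSurjective (f := f) hf).toLinearEquiv).length_eq.symm

end Groth.Agent.H3Cyc.TopChern
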