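import Groth.Agent.H3Cyc.BCFibre
import Groth.Agent.H3Cyc.FlatRat
import Groth.Agent.H3Cyc.Reduction
import Mathlib

/-!
# Flat pullback commutes with proper pushforward
-/

set_option autoImplicit false
set_option linter.style.haveILetI false
universe u

open AlgebraicGeometry CategoryTheory Limits IsLocalRing

namespace Groth.Agent.H3Cyc.BCPush

open FlatRat (MaxDim)

variable {X X' Y : Scheme.{u}}

theorem delta_le_of_deltaCompat (f : Y ⟶ X) {δY : Y → ℤ} {δ : X → ℤ} (hf : Cyc.DeltaCompat f δY δ) (y : Y) :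
    δ (f y) ≤ δY y := by
  obtain ⟨n, -, h⟩ := hf y
  omega

theorem pullFun_map_eq (f : Y ⟶ X) (p : X' ⟶ X) [IsProper f] [Flat p] {δ : X → ℤ} {δ' : X' → ℤ} {δY : Y → ℤ}
    {δY' : ↥(pullback f p) → ℤ} (hX' : Cyc.IsSetup X' δ') (hY' : Cyc.IsSetup (pullback f p) δY')
    (hf : Cyc.DeltaCompat f δY δ) (hf' : Cyc.DeltaCompat (pullback.snd f p) δY' δ') {c : ℤ}
    (hc : MaxDim p δ' δ c) (hcY : MaxDim (pullback.fst f p) δY' δY c) (α : AlgebraicCycle Y ℤ)
    (α' : AlgebraicCycle (pullback f p) ℤ) (hα' : ⇑α' = Cyc.pullFun (pullback.fst f p) δY' δY c ⇑α) :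
    Cyc.pullFun p δ' δ c ⇑(AlgebraicCycle.map f δY δ α) = ⇑(AlgebraicCycle.map (pullback.snd f p) δY' δ' α') := by
  classical
  funext x'
  show (if δ' x' = δ (p x') + c then _ else _) =
    ∑ᶠ y' ∈ pullback.snd f p ⁻¹' {x'}, α' y' * ((AlgebraicCycle.mapCoeff (pullback.snd f p) δY' δ' y' : ℕ) : ℤ)
  rw [hα']
  have hle := FlatRat.delta_le_of_maxDim p hX' hc
  have hleY := FlatRat.delta_le_of_maxDim (pullback.fst f p) hY' hcY
  have hpt : ∀ y' : ↥(pullback f p), f (pullback.fst f p y') = p (pullback.snd f p y') := fun y' =>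
    congrArg (fun g : pullback f p ⟶ X => g y') pullback.condition
  have hkey : ∀ y' ∈ pullback.snd f p ⁻¹' {x'},
      Cyc.pullFun (pullback.fst f p) δY' δY c (⇑α) y' *
        ((AlgebraicCycle.mapCoeff (pullback.snd f p) δY' δ' y' : ℕ) : ℤ) ≠ 0 →
      δ' x' = δ (p x') + c ∧ δY (pullback.fst f p y') = δ (p x') ∧ α (pullback.fst f p y') ≠ 0 := by
    intro y' hy' hne
    have hy : pullback.snd f p y' = x' := hy'
    have h1 := left_ne_zero_of_mul hne
    have h2 := right_ne_zero_of_mul hne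
    simp only [Cyc.pullFun, ne_eq, ite_eq_right_iff, Classical.not_imp] at h1
    simp only [AlgebraicCycle.mapCoeff, ne_eq, Nat.cast_eq_zero, ite_eq_right_iff, Classical.not_imp] at h2
    have h4 := delta_le_of_deltaCompat f hf (pullback.fst f p y')
    rw [hpt, hy] at h4
    have h5 := hle x'
    have h6 := h1.1
    have h7 : δY' y' = δ' x' := hy ▸ h2.1
    exact ⟨by omega, by omega, left_ne_zero_of_mul h1.2⟩
  by_cases hx : δ' x' = δ (p x') + c
  swap
  · rw [if_neg hx]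
    refine (finsum_mem_eq_zero_of_forall_eq_zero fun y' hy' => ?_).symm
    by_contra hne
    exact hx (hkey y' hy' hne).1
  rw [if_pos hx]
  obtain ⟨V, hV, hxV, -⟩ := exists_isAffineOpen_mem_and_subset (show p x' ∈ (⊤ : X.Opens) from trivial)
  have hH₀ : (f ⁻¹' {p x'} ∩ Function.support α).Finite :=
    (α.locallyFiniteSupport.finite_inter_support_of_isCompact (f.isSpectralMap.2 V.isOpen hV.isCompact)).subset
      (Set.inter_subset_inter_left _ fun y hy => show f y ∈ V by rw [show f y = p x' from hy]; exact hxV)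
  let H : Finset Y := hH₀.toFinset.filter fun y => δY y = δ (p x')
  have hH : ∀ y ∈ H, f y = p x' ∧ δY y = δ (p x') := fun y hy => by
    obtain ⟨h1, h2⟩ := Finset.mem_filter.mp hy
    exact ⟨(hH₀.mem_toFinset.mp h1).1, h2⟩
  have hpair : ∀ y : H, {y' : ↥(pullback f p) | pullback.fst f p y' = y.1 ∧ pullback.snd f p y' = x'}.Finite ∧
      ∑ᶠ y' ∈ {y' : ↥(pullback f p) | pullback.fst f p y' = y.1 ∧ pullback.snd f p y' = x'},
        H22Alg.FiniteDegree.mult (pullback.fst f p) y' * (pullback.snd f p).residueDegree y' =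
      H22Alg.FiniteDegree.mult p x' * f.residueDegree y.1 := fun y => by
    obtain ⟨h1, h2⟩ := hH y.1 y.2
    exact BCFibre.finsum_pair f p y.1 x' h1.symm
      (H22Alg.CycBasic.finite_residueFieldMap_of_delta_eq f hf y.1 (h2.trans (congrArg δ h1.symm)))
  let S : H → Finset ↥(pullback f p) := fun y => (hpair y).1.toFinset
  have hS : ∀ y y', y' ∈ S y ↔ pullback.fst f p y' = y.1 ∧ pullback.snd f p y' = x' := fun y y' =>
    (hpair y).1.mem_toFinset
  rw [finsum_mem_eq_sum_of_subset _ (t := H.attach.biUnion S) ?_ ?_, Finset.sum_biUnion ?_]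
  · show (∑ᶠ y ∈ f ⁻¹' {p x'}, α y * ((AlgebraicCycle.mapCoeff f δY δ y : ℕ) : ℤ)) *
      (H22Alg.FiniteDegree.mult p x' : ℤ) = _
    rw [finsum_mem_eq_sum_of_subset _ (t := H) ?_ (show (H : Set Y) ⊆ f ⁻¹' {p x'} from fun y hy => (hH y hy).1),
      Finset.sum_mul, ← Finset.sum_attach H]
    · refine Finset.sum_congr rfl fun y _ => ?_
      obtain ⟨h1, h2⟩ := hH y.1 y.2
      have hterm : ∀ y' ∈ S y, Cyc.pullFun (pullback.fst f p) δY' δY c (⇑α) y' *
          ((AlgebraicCycle.mapCoeff (pullback.snd f p) δY' δ' y' : ℕ) : ℤ) =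
          α y.1 * ((H22Alg.FiniteDegree.mult (pullback.fst f p) y' * (pullback.snd f p).residueDegree y' : ℕ) : ℤ) := by
        intro y' hy'
        obtain ⟨e1, e2⟩ := (hS y y').mp hy'
        have h3 := hleY y'
        have h4 := delta_le_of_deltaCompat (pullback.snd f p) hf' y'
        rw [e1] at h3
        rw [e2] at h4
        have h5 : δY' y' = δY y.1 + c := by omega
        simp only [Cyc.pullFun, AlgebraicCycle.mapCoeff]
        rw [if_pos (by rw [e1]; exact h5), if_pos (show δY' y' = δ' (pullback.snd f p y') by rw [e2]; omega), ← e1]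
        push_cast [H22Alg.FiniteDegree.mult]
        ring
      rw [Finset.sum_congr rfl hterm, ← Finset.mul_sum, ← Nat.cast_sum,
        show ∑ y' ∈ S y, H22Alg.FiniteDegree.mult (pullback.fst f p) y' * (pullback.snd f p).residueDegree y' =
          H22Alg.FiniteDegree.mult p x' * f.residueDegree y.1 from
          (finsum_mem_eq_finite_toFinset_sum _ (hpair y).1).symm.trans (hpair y).2,
        AlgebraicCycle.mapCoeff, if_pos (show δY y.1 = δ (f y.1) from h2.trans (congrArg δ h1.symm))]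
      push_cast
      ring
    · rintro y ⟨hy, hne⟩
      have h2 := right_ne_zero_of_mul hne
      simp only [AlgebraicCycle.mapCoeff, ne_eq, Nat.cast_eq_zero, ite_eq_right_iff, Classical.not_imp] at h2
      exact Finset.mem_coe.mpr (Finset.mem_filter.mpr
        ⟨hH₀.mem_toFinset.mpr ⟨hy, left_ne_zero_of_mul hne⟩, h2.1.trans (congrArg δ hy)⟩)
  · intro y _ z _ hne
    exact Finset.disjoint_left.mpr fun y' h h' =>
      hne (Subtype.ext (((hS y y').mp h).1.symm.trans ((hS z y').mp h').1))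
  · rintro y' ⟨hy', hne⟩
    obtain ⟨-, h2, h3⟩ := hkey y' hy' hne
    have hy : pullback.fst f p y' ∈ H := Finset.mem_filter.mpr
      ⟨hH₀.mem_toFinset.mpr ⟨(hpt y').trans (congrArg p hy'), h3⟩, h2⟩
    exact Finset.mem_coe.mpr (Finset.mem_biUnion.mpr ⟨⟨_, hy⟩, Finset.mem_attach _ _, (hS _ _).mpr ⟨rfl, hy'⟩⟩)
  · intro y' hy'
    obtain ⟨y, -, hy⟩ := Finset.mem_biUnion.mp (Finset.mem_coe.mp hy')
    exact ((hS _ _).mp hy).2

theorem deltaCompat_cancel (g : Y ⟶ X') (h : X' ⟶ X) {δY : Y → ℤ} {δX' : X' → ℤ} {δ : X → ℤ}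
    (hh : Cyc.DeltaCompat h δX' δ) (hgh : Cyc.DeltaCompat (g ≫ h) δY δ) : Cyc.DeltaCompat g δY δX' := by
  intro y
  obtain ⟨a, ha, ha'⟩ := hh (g y)
  obtain ⟨b, hb, hb'⟩ := hgh y
  have e := Reduction.td_comp g h y
  rw [show Reduction.td h (g y) = a from ha, show Reduction.td (g ≫ h) y = b from hb] at e
  have hlt : Reduction.td g y < Cardinal.aleph0 :=
    lt_of_le_of_lt (by rw [← e]; exact le_add_self) Cardinal.natCast_lt_aleph0
  obtain ⟨n, hn⟩ := Cardinal.lt_aleph0.mp hlt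
  rw [hn, ← Nat.cast_add, Nat.cast_inj] at e
  refine ⟨n, hn, ?_⟩
  rw [hb', ha', Scheme.Hom.comp_apply, ← e]
  push_cast
  ring

theorem deltaCompat_comp (g : Y ⟶ X') (h : X' ⟶ X) {δY : Y → ℤ} {δX' : X' → ℤ} {δ : X → ℤ}
    (hg : Cyc.DeltaCompat g δY δX') (hh : Cyc.DeltaCompat h δX' δ) : Cyc.DeltaCompat (g ≫ h) δY δ := by
  intro y
  obtain ⟨a, ha, ha'⟩ := hh (g y)
  obtain ⟨b, hb, hb'⟩ := hg y
  refine ⟨a + b, ?_, ?_⟩
  · refine ((Reduction.td_comp g h y).symm.trans ?_)
    rw [show Reduction.td h (g y) = a from ha, show Reduction.td g y = b from hb, Nat.cast_add]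
  · rw [hb', ha', Scheme.Hom.comp_apply]
    push_cast
    ring

end Groth.Agent.H3Cyc.BCPush
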