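import Groth.Agent.H3Cyc.CommPoint
import Mathlib

/-!
# Gysin sections, double intersections, and rationally trivial cycles
-/

set_option autoImplicit false
set_option linter.style.haveILetI false
set_option linter.unusedSectionVars false
universe u

open AlgebraicGeometry CategoryTheory
open Groth.Agent.H11Tilde (IsGen)

namespace Groth.Agent.H3Cyc.CommApp

open C1Api CommPoint

variable {X D : Scheme.{u}} {δ : X → ℤ}

/-- The unit section of the structure sheaf. -/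
noncomputable abbrev oneSec (X : Scheme.{u}) (ξ : X) : Cyc.secFibre (Coh.structureModule X) ξ :=
  fib (Coh.structureModule X) ξ (V := ⊤) trivial (H11Ample.one ⊤)

theorem isInvertible_structure (X : Scheme.{u}) : PicF.IsInvertible (Coh.structureModule X) :=
  H11Ample.isInvertible_of_gen fun x => ⟨⊤, H11Ample.one ⊤, trivial, H11Ample.isGen_one ⊤⟩

theorem oneSec_ne_zero (ξ : X) : oneSec X ξ ≠ 0 := by
  have h := (residue_ne_zero_iff (L := Coh.structureModule X) (H11Ample.isGen_one (X := X) ⊤) (z := ξ) trivial 1).mpr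
    (by rw [map_one]; exact one_ne_zero)
  rwa [one_smul] at h

theorem secDiv_oneSec (ξ x : X) : Cyc.secDivFun δ (Coh.structureModule X) ξ (oneSec X ξ) x = 0 := by
  have h := secDivFun_gen (L := Coh.structureModule X) (H11Ample.isGen_one (X := X) ⊤) δ (ξ := ξ) trivial 1
    (by rw [map_one]; exact one_ne_zero) (x := x) trivial
  rw [one_smul] at h
  rw [show Cyc.secDivFun δ (Coh.structureModule X) ξ (oneSec X ξ) x = _ from h, map_one]
  simp only [Cyc.divFun]
  split_ifs with hh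
  · exact ordAt_one _ _ _
  · rfl

theorem c1Cap_oneSec (F : X → ℤ) (x : X) : Cyc.c1CapFun δ (Coh.structureModule X) F (oneSec X) x = 0 :=
  finsum_eq_zero_of_forall_eq_zero fun ξ => by rw [secDiv_oneSec, mul_zero]

theorem exists_sec_divFun {ξ : X} (g : X.residueField ξ) (hg : g ≠ 0) :
    ∃ t : Cyc.secFibre (Coh.structureModule X) ξ, t ≠ 0 ∧
      Cyc.secDivFun δ (Coh.structureModule X) ξ t = Cyc.divFun δ ξ g := by
  obtain ⟨φ, hφ⟩ := X.residue_surjective ξ g
  have hφ0 : X.residue ξ φ ≠ 0 := by rw [hφ]; exact hg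
  refine ⟨φ • oneSec X ξ,
    (residue_ne_zero_iff (L := Coh.structureModule X) (H11Ample.isGen_one (X := X) ⊤) (z := ξ) trivial φ).mpr hφ0,
    funext fun x => ?_⟩
  rw [← hφ]
  exact secDivFun_gen (L := Coh.structureModule X) (H11Ample.isGen_one (X := X) ⊤) δ trivial φ hφ0 trivial

variable {L : X.Modules} {s : L.presheaf.obj (Opposite.op ⊤)} {i : D ⟶ X} [IsClosedImmersion i]

theorem exists_gen_off (hL : PicF.IsInvertible L) (hD : Cyc.IsZeroSchemeOf i L s) {z : X} (hz : z ∉ Set.range i) :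
    ∃ (V : X.Opens) (e : Γ(L, V)) (_ : IsGen L e), z ∈ V ∧ (V : Set X) = (Set.range i)ᶜ ∧
      ∀ (y : X) (hy : y ∈ V), (Submodule.Quotient.mk ((L.presheaf.germ ⊤ y trivial) s) : Cyc.secFibre L y) = fib L y hy e := by
  let V : X.Opens := ⟨(Set.range i)ᶜ, i.isClosedEmbedding.isClosed_range.isOpen_compl⟩
  have hg : ∀ (y : X) (hy : y ∈ V), L.presheaf.germ V y hy (L.presheaf.map (homOfLE le_top : V ⟶ ⊤).op s) =
      (L.presheaf.germ ⊤ y trivial) s := fun y hy => TopCat.Presheaf.germ_res_apply L.presheaf _ y hy s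
  refine ⟨V, L.presheaf.map (homOfLE le_top : V ⟶ ⊤).op s, fun y hy => ?_, hz, rfl, fun y hy => ?_⟩
  · rw [hg y hy]
    obtain ⟨U, e, hyU, he⟩ := H11Ample.exists_gen hL y
    obtain ⟨a, ha⟩ := (he y hyU).2 ((L.presheaf.germ ⊤ y trivial) s)
    have hu : IsUnit a := by
      by_contra hu
      refine (Gysin.notMem_range_iff hD y).mp hy ?_
      rw [← ha, Submodule.Quotient.mk_eq_zero]
      exact Submodule.smul_mem_smul hu trivial
    rw [← ha]
    refine ⟨fun p q hpq => hu.mul_right_cancel ((he y hyU).1 ?_), fun m => ?_⟩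
    · show (p * a) • L.presheaf.germ U y hyU e = (q * a) • L.presheaf.germ U y hyU e
      rw [mul_smul, mul_smul]
      exact hpq
    · obtain ⟨r, hr⟩ := (he y hyU).2 m
      refine ⟨r * (hu.unit⁻¹ : (X.presheaf.stalk y)ˣ), ?_⟩
      show (r * (hu.unit⁻¹ : (X.presheaf.stalk y)ˣ)) • a • L.presheaf.germ U y hyU e = m
      rw [smul_smul, mul_assoc, IsUnit.val_inv_mul, mul_one]
      exact hr
  · rw [fib, hg y hy]

theorem gysinChoice_flat (hL : PicF.IsInvertible L) (hD : Cyc.IsZeroSchemeOf i L s)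
    (w : (ξ : X) → Cyc.secFibre L ξ) {ξ z : X} (hξ : ξ ∉ Set.range i) (hz : z ∉ Set.range i) :
    Flat1 L (Cyc.gysinChoice L s w ξ) z (Cyc.gysinChoice L s w z) := by
  obtain ⟨V, e, he, hzV, hV, hval⟩ := exists_gen_off hL hD hz
  have hξV : ξ ∈ V := by rw [← SetLike.mem_coe, hV]; exact hξ
  refine ⟨V, e, he, hzV, hξV, ?_, ?_⟩
  · rw [Cyc.gysinChoice, if_pos ((Gysin.notMem_range_iff hD z).mp hz), hval z hzV]
  · rw [Cyc.gysinChoice, if_pos ((Gysin.notMem_range_iff hD ξ).mp hξ), hval ξ hξV]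

theorem gysin_off (hL : PicF.IsInvertible L) (hD : Cyc.IsZeroSchemeOf i L s) (w : (ξ : X) → Cyc.secFibre L ξ)
    (F : X → ℤ) {x : X} (hx : x ∉ Set.range i) : Cyc.c1CapFun δ L F (Cyc.gysinChoice L s w) x = 0 := by
  refine finsum_eq_zero_of_forall_eq_zero fun ξ => ?_
  by_cases h : ξ ⤳ x
  swap
  · rw [Cyc.secDivFun, dif_neg fun hh => h hh.1, mul_zero]
  obtain ⟨V, e, he, hxV, hV, hval⟩ := exists_gen_off hL hD hx
  have hξV : ξ ∈ V := h.mem_open V.2 hxV
  have hξ : ξ ∉ Set.range i := by rw [← SetLike.mem_coe, hV] at hξV; exact hξV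
  rw [Cyc.gysinChoice, if_pos ((Gysin.notMem_range_iff hD ξ).mp hξ), hval ξ hξV]
  have h1 := secDivFun_gen he δ hξV 1 (by rw [map_one]; exact one_ne_zero) (x := x) hxV
  rw [one_smul, map_one] at h1
  rw [h1]
  simp only [Cyc.divFun]
  split_ifs with hh
  · rw [ordAt_one, mul_zero]
  · rw [mul_zero]

theorem locally_finite_closures (α : AlgebraicCycle X ℤ) (x : X) :
    ∃ U : Set X, IsOpen U ∧ x ∈ U ∧ {a : {a : X // α a ≠ 0} | (closure {a.1} ∩ U).Nonempty}.Finite := by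
  obtain ⟨W, hW, hxW, -⟩ := exists_isAffineOpen_mem_and_subset (show x ∈ (⊤ : X.Opens) from trivial)
  refine ⟨W, W.2, hxW, ((α.locallyFiniteSupport.finite_inter_support_of_isCompact hW.isCompact).preimage
    Subtype.val_injective.injOn).subset ?_⟩
  rintro a ⟨z, hz, hzW⟩
  exact ⟨(specializes_iff_mem_closure.mpr hz).mem_open W.2 hzW, a.2⟩

theorem c1CapFun_eq_family (α : AlgebraicCycle X ℤ) {M : X.Modules} (r : (ξ : X) → Cyc.secFibre M ξ) (x : X) :
    Cyc.c1CapFun δ M ⇑α r x = ∑ᶠ a : {a : X // α a ≠ 0}, α a.1 * Cyc.secDivFun δ M a.1 (r a.1) x := by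
  refine Eq.trans ?_ (finsum_set_coe_eq_finsum_mem (s := {a : X | α a ≠ 0})
    (f := fun ξ => α ξ * Cyc.secDivFun δ M ξ (r ξ) x)).symm
  rw [Cyc.c1CapFun, ← finsum_mem_univ]
  exact finsum_mem_inter_support_eq' _ _ _ fun ξ hξ => ⟨fun _ => left_ne_zero_of_mul hξ, fun _ => trivial⟩

/-- A double intersection, point by point. -/
theorem c1Cap_c1Cap_family [IsLocallyNoetherian X] (hδ : Cyc.IsDimFun X δ) {M N : X.Modules} (hM : PicF.IsInvertible M)
    (k : ℤ) (α : AlgebraicCycle X ℤ) (hα : α ∈ Cyc.Zk X δ (k + 1)) (r : (ξ : X) → Cyc.secFibre M ξ) (hr : ∀ ξ, r ξ ≠ 0)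
    (u : (ξ : X) → Cyc.secFibre N ξ) (x : X) :
    Cyc.c1CapFun δ N (Cyc.c1CapFun δ M ⇑α r) u x =
      ∑ᶠ a : {a : X // α a ≠ 0}, α a.1 * Cyc.c1CapFun δ N (Cyc.secDivFun δ M a.1 (r a.1)) u x := by
  classical
  have hlfF : ∀ (a : {a : X // α a ≠ 0}) (y : X), ∃ t ∈ nhds y,
      (t ∩ Function.support (fun z => α a.1 * Cyc.secDivFun δ M a.1 (r a.1) z)).Finite := fun a y => by
    obtain ⟨V, e, hyV, he⟩ := H11Ample.exists_gen hM y
    obtain ⟨W, hW, hyW, hWV⟩ := exists_isAffineOpen_mem_and_subset (U := V) (x := y) hyV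
    by_cases ha : a.1 ∈ W
    · obtain ⟨φ, hφ⟩ := exists_smul_fib he (hWV ha) (r a.1)
      have hφ0 := (residue_ne_zero_iff he (hWV ha) φ).mp (hφ ▸ hr a.1)
      refine ⟨W, W.2.mem_nhds hyW, (H22Alg.CycDiv.finite_divFun_inter hδ a.1 hφ0 hW).subset ?_⟩
      rintro z ⟨hzW, hz⟩
      have h := right_ne_zero_of_mul hz
      rw [hφ, secDivFun_gen he δ (hWV ha) φ hφ0 (hWV hzW)] at h
      exact ⟨hzW, h⟩
    · refine ⟨W, W.2.mem_nhds hyW, Set.finite_empty.subset ?_⟩
      rintro z ⟨hzW, hz⟩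
      exact (ha ((secDivFun_ne_zero (right_ne_zero_of_mul hz)).mem_open W.2 hzW)).elim
  rw [Transfer.c1CapFun_family (fun a : {a : X // α a ≠ 0} => closure {a.1}) (fun a => isClosed_closure)
    (fun a z => α a.1 * Cyc.secDivFun δ M a.1 (r a.1) z)
    (fun a z hz => by rw [secDiv_off_closure (S := closure {a.1}) (r a.1) isClosed_closure (subset_closure rfl) hz, mul_zero])
    hlfF (locally_finite_closures α) u _ (fun ξ => c1CapFun_eq_family α r ξ) x]
  refine finsum_congr fun a => ?_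
  simp only [Cyc.c1CapFun, mul_finsum]
  exact finsum_congr fun ξ => mul_assoc _ _ _

/-- Combine the pieces of a double intersection. -/
theorem ratFam_double [IsLocallyNoetherian X] (k : ℤ) (α : AlgebraicCycle X ℤ) (S : Set X)
    (A B : X → X → ℤ) (G : X → ℤ) (hG : ∀ x, G x = ∑ᶠ a : {a : X // α a ≠ 0}, α a.1 * (A a.1 x - B a.1 x))
    (h : ∀ a, α a ≠ 0 → RatFam δ k (closure {a} ∩ S) fun x => A a x - B a x) : RatFam δ k S G :=
  RatFam.family (ι := {a : X // α a ≠ 0}) (fun a => closure {a.1}) (fun a => isClosed_closure)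
    (locally_finite_closures α) _ (fun a => RatFam.zsmul (α a.1) (h a.1 a.2)) hG

/-- Commutativity of two `c₁` on a cycle, with supports. -/
theorem comm_cycle (hX : Cyc.IsSetup X δ) {M N : X.Modules} (hM : PicF.IsInvertible M) (hN : PicF.IsInvertible N)
    (k : ℤ) (α : AlgebraicCycle X ℤ) (hα : α ∈ Cyc.Zk X δ (k + 2)) (r v : (ξ : X) → Cyc.secFibre M ξ) (hr : ∀ ξ, r ξ ≠ 0)
    (hv : ∀ ξ, v ξ ≠ 0) (q u : (ξ : X) → Cyc.secFibre N ξ) (hq : ∀ ξ, q ξ ≠ 0) (hu : ∀ ξ, u ξ ≠ 0) (S : Set X)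
    (hS : ∀ ξ, α ξ ≠ 0 → ∀ z, z ∉ S → ξ ⤳ z → δ z = k + 1 → Flat1 M (r ξ) z (v z) ∨ Flat1 N (q ξ) z (u z)) :
    RatFam δ k S fun x => Cyc.c1CapFun δ N (Cyc.c1CapFun δ M ⇑α r) u x - Cyc.c1CapFun δ M (Cyc.c1CapFun δ N ⇑α q) v x := by
  classical
  haveI := hX.1
  have hα1 : α ∈ Cyc.Zk X δ (k + 1 + 1) := by rwa [show k + 1 + 1 = k + 2 by ring]
  refine ratFam_double k α S (fun a x => Cyc.c1CapFun δ N (Cyc.secDivFun δ M a (r a)) u x)
    (fun a x => Cyc.c1CapFun δ M (Cyc.secDivFun δ N a (q a)) v x) _ (fun x => ?_) fun a ha => ?_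
  · rw [c1Cap_c1Cap_family hX.2.2 hM (k + 1) α hα1 r hr u x, c1Cap_c1Cap_family hX.2.2 hN (k + 1) α hα1 q hq v x,
      ← finsum_sub_distrib (finite_fam α (fun a x => Cyc.c1CapFun δ N (Cyc.secDivFun δ M a (r a)) u x) x fun a hx => ?_)
        (finite_fam α (fun a x => Cyc.c1CapFun δ M (Cyc.secDivFun δ N a (q a)) v x) x fun a hx => ?_)]
    · exact finsum_congr fun a => (mul_sub _ _ _).symm
    · exact Transfer.c1CapFun_eq_zero_of_notMem isClosed_closure _
        (fun z hz => secDiv_off_closure (S := closure {a}) (r a) isClosed_closure (subset_closure rfl) hz) u hx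
    · exact Transfer.c1CapFun_eq_zero_of_notMem isClosed_closure _
        (fun z hz => secDiv_off_closure (S := closure {a}) (q a) isClosed_closure (subset_closure rfl) hz) v hx
  · exact comm_point hX hM hN k (by_contra fun h => ha (hα a h)) (hr a) (hq a) u hu v hv S (hS a ha)
where
  finite_fam {X : Scheme.{u}} (α : AlgebraicCycle X ℤ) (F : X → X → ℤ) (x : X)
      (hF : ∀ a, x ∉ closure {a} → F a x = 0) :
      (Function.support fun a : {a : X // α a ≠ 0} => α a.1 * F a.1 x).Finite := by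
    obtain ⟨U, -, hxU, hfin⟩ := locally_finite_closures α x
    exact hfin.subset fun a ha => ⟨x, by_contra fun hn => right_ne_zero_of_mul ha (hF a.1 hn), hxU⟩

/-- `c₁(M) ∩` of a principal divisor, with supports. -/
theorem comm_div (hX : Cyc.IsSetup X δ) {M : X.Modules} (hM : PicF.IsInvertible M) (k : ℤ) {ξ : X}
    (hξ : δ ξ = k + 2) {g : X.residueField ξ} (hg : g ≠ 0) (r : Cyc.secFibre M ξ) (hr : r ≠ 0)
    (v : (z : X) → Cyc.secFibre M z) (hv : ∀ z, v z ≠ 0) (S : Set X)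
    (hS : ∀ z, z ∉ S → ξ ⤳ z → δ z = k + 1 → Flat1 M r z (v z)) :
    RatFam δ k (closure {ξ} ∩ S) fun x => Cyc.c1CapFun δ M (Cyc.divFun δ ξ g) v x := by
  obtain ⟨t, ht, hdiv⟩ := exists_sec_divFun (δ := δ) g hg
  have h := comm_point hX hM (isInvertible_structure X) k hξ hr ht (oneSec X) oneSec_ne_zero v hv S
    fun z hz hs hd => Or.inl (hS z hz hs hd)
  refine (RatFam.zsmul (-1) h).congr fun x => ?_
  rw [c1Cap_oneSec, hdiv]
  ring

end Groth.Agent.H3Cyc.CommApp
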