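import Groth.Agent.H3Cyc.FlatRat
import Mathlib

/-!
# Composition of flat pullbacks
-/

set_option autoImplicit false
set_option linter.style.haveILetI false
universe u

open AlgebraicGeometry CategoryTheory IsLocalRing

namespace Groth.Agent.H3Cyc.FlatRat

variable {X Y Z : Scheme.{u}}

theorem maxDim_comp (f : X ⟶ Y) (g : Y ⟶ Z) [Flat f] {δX : X → ℤ} {δY : Y → ℤ} {δZ : Z → ℤ} {c d : ℤ}
    (hc : MaxDim f δX δY c) (hd : MaxDim g δY δZ d) : MaxDim (f ≫ g) δX δZ (d + c) := by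
  intro x hx
  have h1 : ∀ y, f y = f x → y ⤳ x → y = x := fun y hy hyx =>
    hx y (by rw [Scheme.Hom.comp_apply, Scheme.Hom.comp_apply, hy]) hyx
  have h2 : ∀ w, g w = g (f x) → w ⤳ f x → w = f x := fun w hw hwx => by
    obtain ⟨y, hyx, hy⟩ := Flat.generalizingMap f hwx
    have e := hx y (by rw [Scheme.Hom.comp_apply, Scheme.Hom.comp_apply, hy, hw]) hyx
    rw [← hy, e]
  rw [Scheme.Hom.comp_apply, hc x h1, hd (f x) h2]
  ring

theorem pullFun_comp (f : X ⟶ Y) (g : Y ⟶ Z) [Flat f] {δX : X → ℤ} {δY : Y → ℤ} {δZ : Z → ℤ} {r s : ℤ}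
    (hX : Cyc.IsSetup X δX) (hY : Cyc.IsSetup Y δY) (hr : MaxDim f δX δY r) (hs : MaxDim g δY δZ s) (α : Z → ℤ) :
    Cyc.pullFun f δX δY r (Cyc.pullFun g δY δZ s α) = Cyc.pullFun (f ≫ g) δX δZ (r + s) α := by
  funext x
  have h1 := delta_le_of_maxDim f hX hr x
  have h2 := delta_le_of_maxDim g hY hs (f x)
  simp only [Cyc.pullFun, Scheme.Hom.comp_apply]
  by_cases h : δX x = δY (f x) + r ∧ δY (f x) = δZ (g (f x)) + s
  · rw [if_pos h.1, if_pos h.2, if_pos (by omega)]
    have key : Module.length (X.presheaf.stalk x)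
        (X.presheaf.stalk x ⧸ (maximalIdeal (Z.presheaf.stalk ((f ≫ g) x))).map ((f ≫ g).stalkMap x).hom) =
      Module.length (Y.presheaf.stalk (f x))
        (Y.presheaf.stalk (f x) ⧸ (maximalIdeal (Z.presheaf.stalk (g (f x)))).map (g.stalkMap (f x)).hom) *
      Module.length (X.presheaf.stalk x)
        (X.presheaf.stalk x ⧸ (maximalIdeal (Y.presheaf.stalk (f x))).map (f.stalkMap x).hom) := by
      rw [← H22Alg.CycBasic.length_quot_map (f.stalkMap x).hom (Flat.stalkMap f x), Ideal.map_map,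
        Scheme.Hom.stalkMap_comp]
      rfl
    erw [key]
    push_cast [ENat.toNat_mul]
    ring
  · by_cases h' : δX x = δY (f x) + r
    · rw [if_pos h', if_neg (fun hc => h ⟨h', hc⟩), if_neg (by omega), zero_mul]
    · rw [if_neg h', if_neg (by omega)]

end Groth.Agent.H3Cyc.FlatRat
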