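import Groth.Prelude.Def_ChowK
import Groth.Agent.H26ChowK.Basic
import Groth.Agent.H27KZero.Devissage
import Groth.Agent.H27KZero.Coherent
import Groth.Agent.H10Coh.SubMod
import Groth.Agent.H16Derived.KFlat.SheafStalk
import Groth.Agent.H06Mod.StalkExact
import Groth.Agent.H10Coh.Proper
import Mathlib

/-!
# Classes of locally finite coproducts of coherent modules
-/

set_option autoImplicit false
set_option linter.style.haveILetI false
set_option linter.unusedSectionVars false
universe u v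

open CategoryTheory CategoryTheory.Limits AlgebraicGeometry TopologicalSpace Opposite
open Groth.Agent.H16Derived.KFlat.Stalk

noncomputable section

namespace Groth.Agent.H3Cyc.KDev

variable {X : Scheme.{u}}

/-- The stalk functor. -/
abbrev st (x : X) : X.Modules ⥤ ModuleCat.{u} (X.presheaf.stalk x) := DerSch.stalkFunctor X x

theorem mem_support {F : X.Modules} {x : X} : x ∈ CohB1.support F ↔ Nontrivial (F.presheaf.stalk x) :=
  not_subsingleton_iff_nontrivial

theorem notMem_support {F : X.Modules} {x : X} : x ∉ CohB1.support F ↔ IsZero ((st x).obj F) :=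
  H25Euler.notMem_support_iff F x

/-- A family with locally finite supports. -/
def LocFin {I : Type u} (M : I → X.Modules) : Prop :=
  ∀ x : X, ∃ U : X.Opens, x ∈ U ∧ {i | (CohB1.support (M i) ∩ (U : Set X)).Nonempty}.Finite

theorem LocFin.mono {I : Type u} {M N : I → X.Modules} (h : LocFin M)
    (hle : ∀ i, CohB1.support (N i) ⊆ CohB1.support (M i)) : LocFin N := fun x => by
  obtain ⟨U, hx, hU⟩ := h x
  exact ⟨U, hx, hU.subset fun i hi => hi.mono (Set.inter_subset_inter_left _ (hle i))⟩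

theorem LocFin.comp {I J : Type u} {M : I → X.Modules} (h : LocFin M) (σ : J → I)
    (hσ : ∀ i, (σ ⁻¹' {i}).Finite) : LocFin fun j => M (σ j) := fun x => by
  obtain ⟨U, hx, hU⟩ := h x
  exact ⟨U, hx, (hU.preimage' fun i _ => hσ i).subset fun j hj => hj⟩

theorem LocFin.finite_of_isCompact {I : Type u} {M : I → X.Modules} (h : LocFin M) {K : Set X}
    (hK : IsCompact K) : {i | (CohB1.support (M i) ∩ K).Nonempty}.Finite := by
  choose U hxU hU using h
  obtain ⟨t, ht⟩ := hK.elim_finite_subcover (fun x => (U x : Set X)) (fun x => (U x).isOpen)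
    fun x _ => Set.mem_iUnion.mpr ⟨x, hxU x⟩
  refine (t.finite_toSet.biUnion fun x _ => hU x).subset fun i hi => ?_
  obtain ⟨y, hy, hyK⟩ := hi
  obtain ⟨x, hx, hxy⟩ := Set.mem_iUnion₂.mp (ht hyK)
  exact Set.mem_biUnion hx ⟨y, hy, hxy⟩

/-- Maps out of the stalk of a coproduct are determined on the components. -/
theorem stalk_sigma_ext {I : Type u} (M : I → X.Modules) (x : X) {T : ModuleCat.{u} (X.presheaf.stalk x)}
    {g h : (st x).obj (∐ M) ⟶ T} (e : ∀ i, (st x).map (Sigma.ι M i) ≫ g = (st x).map (Sigma.ι M i) ≫ h) :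
    g = h :=
  (isColimitOfPreserves (st x) (coproductIsCoproduct M)).hom_ext fun ⟨i⟩ => e i

theorem support_sigma {I : Type u} (M : I → X.Modules) :
    CohB1.support (∐ M) ⊆ ⋃ i, CohB1.support (M i) := fun x hx => by
  by_contra hn
  refine (notMem_support.mpr ?_ : x ∉ CohB1.support (∐ M)) hx
  rw [IsZero.iff_id_eq_zero]
  exact stalk_sigma_ext M x fun i => ((notMem_support.mp fun h => hn (Set.mem_iUnion.mpr ⟨i, h⟩))).eq_of_src _ _

/-- A family of monomorphisms has monic coproduct. -/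
theorem mono_sigmaMap {I : Type u} {M N : I → X.Modules} (φ : ∀ i, M i ⟶ N i) [∀ i, Mono (φ i)] :
    Mono (Limits.Sigma.map φ) := by
  haveI : AB4 X.Modules := AB4.of_AB5 _
  haveI : ∀ j : Discrete I, Mono ((Discrete.natTrans (F := Discrete.functor M) (G := Discrete.functor N)
      fun i => φ i.as).app j) := fun j => inferInstanceAs (Mono (φ j.as))
  haveI : Mono (Discrete.natTrans (F := Discrete.functor M) (G := Discrete.functor N) fun i => φ i.as) :=
    NatTrans.mono_of_mono_app _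
  exact (colim : (Discrete I ⥤ X.Modules) ⥤ X.Modules).map_mono
    (Discrete.natTrans (F := Discrete.functor M) (G := Discrete.functor N) fun i => φ i.as)

/-- Coproducts of short exact sequences. -/
theorem sigma_shortExact {I : Type u} (S : I → ShortComplex X.Modules) (hS : ∀ i, (S i).ShortExact) :
    (ShortComplex.mk (Limits.Sigma.map fun i => (S i).f) (Limits.Sigma.map fun i => (S i).g)
      (Sigma.hom_ext _ _ fun i => by simp)).ShortExact := by
  haveI : ∀ i, Mono (S i).f := fun i => (hS i).mono_f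
  haveI : ∀ i, Epi (S i).g := fun i => (hS i).epi_g
  haveI := mono_sigmaMap fun i => (S i).f
  refine { exact := ShortComplex.exact_of_g_is_cokernel _ ?_, mono_f := ‹_›, epi_g := ⟨fun a b e => ?_⟩ }
  · refine CokernelCofork.IsColimit.ofπ' _ _ fun {T} k hk => ⟨Sigma.desc fun i =>
      (hS i).exact.desc (Sigma.ι (fun i => (S i).X₂) i ≫ k) ?_, Sigma.hom_ext _ _ fun i => ?_⟩
    · have := congrArg (fun m => Sigma.ι (fun i => (S i).X₁) i ≫ m) hk
      simpa using this
    · simp
  · refine Sigma.hom_ext _ _ fun i => ?_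
    have := congrArg (fun m => Sigma.ι (fun i => (S i).X₂) i ≫ m) e
    simpa [cancel_epi] using this

variable [IsLocallyNoetherian X]

/-- Surjectivity on sections over an affine open from surjectivity of the stalks there. -/
theorem surjective_app {M N : X.Modules} (φ : M ⟶ N) (hM : Coh.IsQCoh M) (hN : Coh.IsQCoh N) {U : X.Opens}
    (hU : IsAffineOpen U) (h : ∀ y ∈ U, y ∉ CohB1.support (cokernel φ)) : Function.Surjective (φ.app U) := by
  have hI : Coh.IsQCoh (kernel (cokernel.π φ)) :=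
    @H10Coh.isQuasicoherent_kernel _ _ _ (cokernel.π φ) hN (@H10Coh.isQuasicoherent_cokernel _ _ _ φ hM hN)
  have hsur := @H10Coh.surjective_app_of_epi _ _ _ (Abelian.factorThruImage φ) hM hI _ _ hU
  intro s
  have hS : (ShortComplex.mk (kernel.ι (cokernel.π φ)) (cokernel.π φ) (kernel.condition _)).ShortExact :=
    { exact := ShortComplex.exact_kernel _ }
  obtain ⟨t, ht⟩ := (H06Mod.exact_sections _ hS U).2 s (by
    refine TopCat.Presheaf.section_ext (⟨(cokernel φ).presheaf, (cokernel φ).isSheaf⟩ : TopCat.Sheaf Ab.{u} X.toTopCat) U _ _ fun y hy => ?_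
    have hsub : Subsingleton ((cokernel φ).presheaf.stalk y) := not_not.mp (h y hy)
    exact hsub.elim _ _)
  obtain ⟨m, hm⟩ := hsur t
  refine ⟨m, ?_⟩
  rw [← ht, ← hm]
  exact congr($(congr(Scheme.Modules.Hom.app $((Abelian.image.fac φ).symm) U)) m)

/-- A locally finite coproduct of coherent modules is coherent. -/
theorem isCoh_sigma {I : Type u} (M : I → X.Modules) (hlf : LocFin M) (hM : ∀ i, Coh.IsCoh (M i)) :
    Coh.IsCoh (∐ M) := by
  classical
  have hq : Coh.IsQCoh (∐ M) := H10Coh.isQuasicoherent_coproduct M fun i => (hM i).1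
  refine (H10Coh.isCoh_iff_finite_sections _).2 ⟨hq, fun U hU => ?_⟩
  have hfin := hlf.finite_of_isCompact hU.isCompact
  let e := hfin.toFinset.equivFin
  let M' : Fin hfin.toFinset.card → X.Modules := fun j => M (e.symm j).1
  let π : (∐ M') ⟶ ∐ M := Sigma.desc fun j => Sigma.ι M (e.symm j).1
  have hM' := H10Coh.isCoh_sigma M' fun j => hM _
  haveI : Module.Finite Γ(X, U) Γ(∐ M', U) := ((H10Coh.isCoh_iff_finite_sections _).1 hM').2 U hU
  have hsur : Function.Surjective (π.app U) := surjective_app π hM'.1 hq hU fun y hy => by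
    refine notMem_support.mpr ?_
    rw [IsZero.iff_id_eq_zero]
    haveI := (st y).map_epi (cokernel.π π)
    rw [← cancel_epi ((st y).map (cokernel.π π))]
    refine stalk_sigma_ext M y fun i => ?_
    by_cases hi : y ∈ CohB1.support (M i)
    · have hiJ : i ∈ hfin.toFinset := hfin.mem_toFinset.mpr ⟨y, hi, hy⟩
      have h0 : Sigma.ι M i ≫ cokernel.π π = 0 := by
        have h1 : Sigma.ι M' (e ⟨i, hiJ⟩) ≫ π ≫ cokernel.π π = 0 := by
          rw [cokernel.condition, comp_zero]
        have h2 : Sigma.ι M' (e ⟨i, hiJ⟩) ≫ π = Sigma.ι M (e.symm (e ⟨i, hiJ⟩)).1 := Sigma.ι_desc _ _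
        rw [← Category.assoc, h2] at h1
        have key : ∀ j, j = (⟨i, hiJ⟩ : hfin.toFinset) → Sigma.ι M j.1 ≫ cokernel.π π = 0 →
            Sigma.ι M i ≫ cokernel.π π = 0 := by rintro j rfl h; exact h
        exact key _ (e.symm_apply_apply _) h1
      rw [← Category.assoc, ← Category.assoc, ← Functor.map_comp, h0, Functor.map_zero, zero_comp, zero_comp]
    · exact (notMem_support.mp hi).eq_of_src _ _
  let l : Γ(∐ M', U) →ₗ[Γ(X, U)] Γ(∐ M, U) :=
    { toFun := π.app U, map_add' := map_add _, map_smul' := fun c m => Scheme.Modules.Hom.app_smul π c m }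
  exact Module.Finite.of_surjective l hsur

/-! ### Support bounds -/

variable {δ : X → ℤ} {a b : ℤ}

theorem cohLe_iff {F : X.Modules} :
    Cyc.CohLe δ a F ↔ Coh.IsCoh F ∧ ∀ x ∈ CohB1.support F, δ x ≤ a := by
  constructor
  · exact fun h => ⟨h.1, fun x hx => h.2 x (mem_support.mp hx)⟩
  · exact fun h => ⟨h.1, fun x hx => h.2 x (mem_support.mpr hx)⟩

theorem cohLe_mono {F : X.Modules} (hab : b ≤ a) (h : Cyc.CohLe δ b F) : Cyc.CohLe δ a F :=
  ⟨h.1, fun x hx => (h.2 x hx).trans hab⟩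

theorem cohLe_of_mono {F G : X.Modules} (i : F ⟶ G) [Mono i] (hF : Coh.IsQCoh F) (hG : Cyc.CohLe δ a G) :
    Cyc.CohLe δ a F :=
  cohLe_iff.mpr ⟨H10Coh.isCoh_of_mono i hF hG.1,
    fun x hx => (cohLe_iff.mp hG).2 x (LeadDev.support_subset_of_mono i hx)⟩

theorem cohLe_kernel {F G : X.Modules} (φ : F ⟶ G) (hF : Cyc.CohLe δ a F) (hG : Coh.IsQCoh G) :
    Cyc.CohLe δ a (kernel φ) :=
  cohLe_of_mono (kernel.ι φ) (@H10Coh.isQuasicoherent_kernel _ _ _ φ hF.1.1 hG) hF

theorem cohLe_cokernel {F G : X.Modules} (φ : F ⟶ G) (hF : Coh.IsQCoh F) (hG : Cyc.CohLe δ a G) :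
    Cyc.CohLe δ a (cokernel φ) :=
  cohLe_iff.mpr ⟨H10Coh.isCoh_cokernel φ hF hG.1,
    fun x hx => (cohLe_iff.mp hG).2 x (LeadDev.support_subset_of_epi (cokernel.π φ) hx)⟩

theorem cohLe_congr {F G : X.Modules} (e : F ≅ G) (h : Cyc.CohLe δ a F) : Cyc.CohLe δ a G :=
  cohLe_iff.mpr ⟨H10Coh.isCoh_of_iso e h.1,
    fun x hx => (cohLe_iff.mp h).2 x (LeadDev.support_subset_of_mono e.inv hx)⟩

theorem cohLe_of_isZero {F : X.Modules} (h : IsZero F) : Cyc.CohLe δ a F :=
  cohLe_iff.mpr ⟨H10Coh.isCoh_of_iso ((isZero_cokernel_of_epi (𝟙 (Coh.structureModule X))).iso h)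
      (H10Coh.isCoh_cokernel _ (H10Coh.isCoh_structureModule' X).1 (H10Coh.isCoh_structureModule' X)),
    fun x hx => absurd hx (notMem_support.mpr ((st x).map_isZero h))⟩

theorem cohLe_sigma {I : Type u} {M : I → X.Modules} (hlf : LocFin M) (hM : ∀ i, Cyc.CohLe δ a (M i)) :
    Cyc.CohLe δ a (∐ M) := by
  refine cohLe_iff.mpr ⟨isCoh_sigma M hlf fun i => (hM i).1, fun x hx => ?_⟩
  obtain ⟨i, hi⟩ := Set.mem_iUnion.mp (support_sigma M hx)
  exact (cohLe_iff.mp (hM i)).2 x hi

theorem cohLe_X₂ {S : ShortComplex X.Modules} (hS : S.ShortExact) (h₁ : Cyc.CohLe δ a S.X₁)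
    (h₃ : Cyc.CohLe δ a S.X₃) : Cyc.CohLe δ a S.X₂ := by
  refine cohLe_iff.mpr ⟨H27KZero.isCoh_extension hS h₁.1 h₃.1, fun x hx => ?_⟩
  by_contra hn
  refine (?_ : x ∉ CohB1.support S.X₂) hx
  exact notMem_support.mpr ((hS.map_of_exact (st x)).exact.isZero_of_both_zeros
    ((notMem_support.mp fun h => hn ((cohLe_iff.mp h₁).2 x h)).eq_of_src _ _)
    ((notMem_support.mp fun h => hn ((cohLe_iff.mp h₃).2 x h)).eq_of_tgt _ _))

/-! ### Classes -/

local notation "K" => Cyc.K0CohQuot δ a b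

/-- The class. -/
abbrev cls (F : X.Modules) : K := Cyc.toK0CohQuot δ a b F

theorem cls_shortExact {S : ShortComplex X.Modules} (hS : S.ShortExact) (h₁ : Cyc.CohLe δ a S.X₁)
    (h₂ : Cyc.CohLe δ a S.X₂) (h₃ : Cyc.CohLe δ a S.X₃) :
    (cls S.X₂ : K) = cls S.X₁ + cls S.X₃ := by
  simp only [cls, Cyc.toK0CohQuot, H27KZero.clSub_shortExact hS h₁ h₂ h₃, QuotientAddGroup.mk_add]

theorem cls_congr {F G : X.Modules} (e : F ≅ G) (hF : Cyc.CohLe δ a F) : (cls F : K) = cls G := by
  obtain ⟨O, hO⟩ := HasZeroObject.zero (C := X.Modules)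
  exact congrArg QuotientAddGroup.mk
    (H27KZero.clSub_iso e hF (cohLe_congr e hF) hO (cohLe_of_isZero hO))

theorem cls_small {F : X.Modules} (hF : Cyc.CohLe δ b F) : (cls F : K) = 0 :=
  (QuotientAddGroup.eq_zero_iff _).mpr (AddSubgroup.subset_closure ⟨F, hF, rfl⟩)

theorem cls_isZero {F : X.Modules} (hF : IsZero F) : (cls F : K) = 0 := cls_small (cohLe_of_isZero hF)

/-- A map with small kernel and cokernel preserves the class. -/
theorem cls_of_map {F G : X.Modules} (φ : F ⟶ G) (hF : Cyc.CohLe δ a F) (hG : Cyc.CohLe δ a G)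
    (h : ∀ x, b < δ x → IsIso ((st x).map φ)) : (cls F : K) = cls G := by
  have hK := cohLe_kernel φ hF hG.1.1
  have hQ := cohLe_cokernel φ hF.1.1 hG
  have hI := cohLe_kernel (cokernel.π φ) hG hQ.1.1
  have hS₁ : (ShortComplex.mk (kernel.ι φ) (Abelian.factorThruImage φ)
      (by rw [← cancel_mono (Abelian.image.ι φ), Category.assoc, Abelian.image.fac, kernel.condition,
        zero_comp])).ShortExact :=
    { exact := ShortComplex.exact_of_f_is_kernel _ (KernelFork.IsLimit.ofι' _ _ fun g hg =>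
        ⟨kernel.lift φ g (by
          rw [← Abelian.image.fac φ, ← Category.assoc, hg, zero_comp]), kernel.lift_ι _ _ _⟩)
      epi_g := inferInstanceAs (Epi (Abelian.factorThruImage φ)) }
  have hS₂ : (ShortComplex.mk (kernel.ι (cokernel.π φ)) (cokernel.π φ) (kernel.condition _)).ShortExact :=
    { exact := ShortComplex.exact_kernel _ }
  have e1 := cls_shortExact (b := b) hS₁ hK hF hI
  have e2 := cls_shortExact (b := b) hS₂ hI hG hQ
  have zK : (cls (kernel φ) : K) = 0 := cls_small (cohLe_iff.mpr ⟨hK.1, fun x hx => by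
    by_contra hlt
    exact H26ChowK.notMem_support_kernel φ (h x (not_le.1 hlt)) hx⟩)
  have zQ : (cls (cokernel φ) : K) = 0 := cls_small (cohLe_iff.mpr ⟨hQ.1, fun x hx => by
    by_contra hlt
    exact H26ChowK.notMem_support_cokernel φ (h x (not_le.1 hlt)) hx⟩)
  refine e1.trans ?_
  rw [show (ShortComplex.mk (kernel.ι φ) (Abelian.factorThruImage φ) _).X₁ = kernel φ from rfl, zK, zero_add]
  refine Eq.trans ?_ e2.symm
  show _ = _ + (cls (cokernel φ) : K)
  rw [zQ, add_zero]

/-- The class of a coproduct over a disjoint union. -/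
theorem cls_sum {I J : Type u} (M : I ⊕ J → X.Modules) (hlf : LocFin M) (hM : ∀ k, Cyc.CohLe δ a (M k)) :
    (cls (∐ M) : K) = cls (∐ fun i => M (.inl i)) + cls (∐ fun j => M (.inr j)) := by
  have h₁ : Cyc.CohLe δ a (∐ fun i => M (.inl i)) := cohLe_sigma (hlf.comp Sum.inl fun k =>
    (Set.finite_singleton k).preimage Sum.inl_injective.injOn) fun i => hM _
  have h₃ : Cyc.CohLe δ a (∐ fun j => M (.inr j)) := cohLe_sigma (hlf.comp Sum.inr fun k =>
    (Set.finite_singleton k).preimage Sum.inr_injective.injOn) fun i => hM _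
  let f : (∐ fun i => M (.inl i)) ⟶ ∐ M := Sigma.desc fun i => Sigma.ι M (.inl i)
  let g : (∐ M) ⟶ ∐ fun j => M (.inr j) := Sigma.desc fun k =>
    match k with
    | .inl _ => 0
    | .inr j => Sigma.ι (fun j => M (.inr j)) j
  let r : (∐ M) ⟶ ∐ fun i => M (.inl i) := Sigma.desc fun k =>
    match k with
    | .inl i => Sigma.ι (fun i => M (.inl i)) i
    | .inr _ => 0
  let s : (∐ fun j => M (.inr j)) ⟶ ∐ M := Sigma.desc fun j => Sigma.ι M (.inr j)
  let S := ShortComplex.mk f g (Sigma.hom_ext _ _ fun i => by simp [f, g])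
  have sp : S.Splitting :=
    { r := r
      s := s
      f_r := Sigma.hom_ext _ _ fun i => by simp [S, f, r]
      s_g := Sigma.hom_ext _ _ fun j => by simp [S, g, s]
      id := Sigma.hom_ext _ _ fun k => by
        rcases k with i | j <;> simp [S, f, g, r, s] }
  exact cls_shortExact (S := S) sp.shortExact h₁ (cohLe_sigma hlf hM) h₃

theorem cls_reindex {I J : Type u} (e : I ≃ J) (M : J → X.Modules) (hlf : LocFin M)
    (hM : ∀ j, Cyc.CohLe δ a (M j)) : (cls (∐ fun i => M (e i)) : K) = cls (∐ M) :=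
  cls_congr (Sigma.whiskerEquiv e fun _ => Iso.refl _)
    (cohLe_sigma (hlf.comp e fun j => (Set.finite_singleton j).preimage e.injective.injOn) fun i => hM _)

theorem cls_sigma_congr {I : Type u} {M N : I → X.Modules} (φ : ∀ i, M i ≅ N i) (hlf : LocFin M)
    (hM : ∀ i, Cyc.CohLe δ a (M i)) : (cls (∐ M) : K) = cls (∐ N) :=
  cls_congr (Sigma.mapIso φ) (cohLe_sigma hlf hM)

theorem cls_sigma_shortExact {I : Type u} (S : I → ShortComplex X.Modules) (hS : ∀ i, (S i).ShortExact)
    (hlf : LocFin fun i => (S i).X₂) (h₁ : ∀ i, Cyc.CohLe δ a (S i).X₁) (h₂ : ∀ i, Cyc.CohLe δ a (S i).X₂)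
    (h₃ : ∀ i, Cyc.CohLe δ a (S i).X₃) :
    (cls (∐ fun i => (S i).X₂) : K) = cls (∐ fun i => (S i).X₁) + cls (∐ fun i => (S i).X₃) := by
  haveI : ∀ i, Mono (S i).f := fun i => (hS i).mono_f
  haveI : ∀ i, Epi (S i).g := fun i => (hS i).epi_g
  exact cls_shortExact (sigma_shortExact S hS)
    (cohLe_sigma (hlf.mono fun i => LeadDev.support_subset_of_mono (S i).f) h₁) (cohLe_sigma hlf h₂)
    (cohLe_sigma (hlf.mono fun i => LeadDev.support_subset_of_epi (S i).g) h₃)

/-- Telescoping along finite chains of extensions. -/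
theorem cls_telescope {I : Type u} (n : I → ℕ) (Q G : I → ℕ → X.Modules)
    (hex : ∀ i j, j < n i → ∃ (f : G i j ⟶ Q i (j + 1)) (g : Q i (j + 1) ⟶ Q i j) (w : f ≫ g = 0),
      (ShortComplex.mk f g w).ShortExact)
    (h0 : ∀ i, IsZero (Q i 0))
    (hQ : ∀ i j, j ≤ n i → Cyc.CohLe δ a (Q i j))
    (hG : ∀ i j, j < n i → Cyc.CohLe δ a (G i j))
    (hlf : LocFin fun p : Σ i, Fin (n i + 1) => Q p.1 p.2) :
    (cls (∐ fun p : Σ i, Fin (n i) => G p.1 p.2) : K) = cls (∐ fun i => Q i (n i)) := by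
  choose f g w hse using hex
  let P := Σ i, Fin (n i)
  let T := Σ i, Fin (n i + 1)
  let S : P → ShortComplex X.Modules := fun p =>
    ShortComplex.mk (f p.1 p.2 p.2.2) (g p.1 p.2 p.2.2) (w p.1 p.2 p.2.2)
  let M : T → X.Modules := fun p => Q p.1 p.2
  have hM : ∀ p : T, Cyc.CohLe δ a (M p) := fun p => hQ _ _ (Nat.lt_succ_iff.mp p.2.2)
  let up : P ⊕ I ≃ T :=
    { toFun := Sum.elim (fun p => ⟨p.1, p.2.succ⟩) fun i => ⟨i, 0⟩
      invFun := fun p => Fin.cases (Sum.inr p.1) (fun j => Sum.inl ⟨p.1, j⟩) p.2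
      left_inv := by rintro (⟨i, j⟩ | i) <;> simp
      right_inv := by
        rintro ⟨i, j⟩
        induction j using Fin.cases <;> simp }
  let down : P ⊕ I ≃ T :=
    { toFun := Sum.elim (fun p => ⟨p.1, p.2.castSucc⟩) fun i => ⟨i, Fin.last _⟩
      invFun := fun p => Fin.lastCases (Sum.inr p.1) (fun j => Sum.inl ⟨p.1, j⟩) p.2
      left_inv := by rintro (⟨i, j⟩ | i) <;> simp
      right_inv := by
        rintro ⟨i, j⟩
        induction j using Fin.lastCases <;> simp }
  have hlu : LocFin fun k => M (up k) :=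
    hlf.comp up fun t => (Set.finite_singleton t).preimage up.injective.injOn
  have hld : LocFin fun k => M (down k) :=
    hlf.comp down fun t => (Set.finite_singleton t).preimage down.injective.injOn
  have e1 := cls_sum (a := a) (b := b) (fun k => M (up k)) hlu fun k => hM _
  have e2 := cls_sum (a := a) (b := b) (fun k => M (down k)) hld fun k => hM _
  rw [cls_reindex up M hlf hM] at e1
  rw [cls_reindex down M hlf hM, e1] at e2
  have hI0 : (cls (∐ fun i => M (up (.inr i))) : K) = 0 := by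
    refine cls_isZero ?_
    rw [IsZero.iff_id_eq_zero]
    exact Sigma.hom_ext _ _ fun i => (h0 i).eq_of_src _ _
  rw [hI0, add_zero] at e2
  have hl2 : LocFin fun p : P => (S p).X₂ :=
    hlu.comp Sum.inl fun k => (Set.finite_singleton k).preimage Sum.inl_injective.injOn
  have e3 := cls_sigma_shortExact (a := a) (b := b) S (fun p => hse _ _ p.2.2) hl2
    (fun p => hG _ _ p.2.2) (fun p => hQ _ _ p.2.2) (fun p => hQ _ _ p.2.2.le)
  have e4 := e3.symm.trans e2
  rw [add_comm (cls (∐ fun i => M (down (.inl i))))] at e4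
  exact add_right_cancel e4

end Groth.Agent.H3Cyc.KDev
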