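import Groth.Agent.H7Lim.RelDimDescend
import Groth.Agent.H8Props.FieldDimFibre
import Mathlib

/-!
# Base change of pure relative dimension
-/

set_option autoImplicit false
universe u

open AlgebraicGeometry CategoryTheory Limits

namespace Groth.Agent.H3Cyc

theorem hasRelDim_of_isPullback {X X' Y Y' : Scheme.{u}} {f : X ⟶ Y} {g : Y' ⟶ Y} {f' : X' ⟶ Y'} {g' : X' ⟶ X}
    [LocallyOfFiniteType f] [LocallyOfFiniteType f'] (h : IsPullback g' f' f g) {r : ℕ} (hr : Cyc.HasRelDim f r) :
    Cyc.HasRelDim f' r := by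
  rw [H7Lim.hasRelDim_iff] at hr ⊢
  intro x
  rw [H8Props.FieldDim.fibreDimAt_baseChange (f := f) h x]
  exact hr _

end Groth.Agent.H3Cyc
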