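import Groth.Agent.H3Cyc.Chow
import Groth.Agent.H3Cyc.CommApp
import Groth.Agent.H3Cyc.FlatComp
import Groth.Agent.H3Cyc.BCPush
import Groth.Agent.H3Cyc.RelDimBC
import Groth.Agent.H3Cyc.KDev
import Groth.Agent.H11Tilde.ProjUPUnique
import Mathlib

/-!
# Compatibilities of the operations on Chow groups
-/

set_option autoImplicit false
set_option linter.style.haveILetI false
set_option linter.unusedSectionVars false
set_option backward.isDefEq.respectTransparency.types false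
universe u

open CategoryTheory CategoryTheory.Limits AlgebraicGeometry
open Groth.Agent.H11Tilde (IsGen)

noncomputable section

namespace Groth.Agent.H3Cyc.Chow

variable {X Y : Scheme.{u}} {δ : X → ℤ} {δY : Y → ℤ}

theorem cast_cast {i j k : ℤ} (h : i = j) (h' : j = k) (a : ChowOps.CH X δ i) :
    cast h' (cast h a) = cast (h.trans h') a := by
  subst h; subst h'; rfl

theorem cast_rfl {i : ℤ} (a : ChowOps.CH X δ i) : cast (rfl : i = i) a = a := rfl

section congr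

variable {L N : X.Modules}

theorem exists_sec_iso (ψ : L ≅ N) (hL : PicF.IsInvertible L) {ξ : X} (s : Cyc.secFibre L ξ) (hs : s ≠ 0) :
    ∃ t : Cyc.secFibre N ξ, t ≠ 0 ∧ ∀ x, Cyc.secDivFun δ N ξ t x = Cyc.secDivFun δ L ξ s x := by
  obtain ⟨m, rfl⟩ := Submodule.Quotient.mk_surjective _ s
  let ψξ := ((KDev.st ξ).map ψ.hom).hom
  have key : ∀ {V : X.Opens} {e : Γ(L, V)} (he : IsGen L e) (hξ : ξ ∈ V),
      ∃ φ : X.presheaf.stalk ξ, X.residue ξ φ ≠ 0 ∧
        (Submodule.Quotient.mk m : Cyc.secFibre L ξ) = φ • C1Api.fib L ξ hξ e ∧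
        (Submodule.Quotient.mk (ψξ m) : Cyc.secFibre N ξ) = φ • C1Api.fib N ξ hξ (ψ.hom.app V e) := fun {V e} he hξ => by
    obtain ⟨φ, hφ⟩ := (he ξ hξ).2 m
    have hm : φ • L.presheaf.germ V ξ hξ e = m := hφ
    refine ⟨φ, (C1Api.residue_ne_zero_iff he hξ φ).mp ?_, ?_, ?_⟩
    · rw [C1Api.fib, ← Submodule.Quotient.mk_smul, hm]; exact hs
    · rw [C1Api.fib, ← Submodule.Quotient.mk_smul, hm]
    · rw [C1Api.fib, ← Submodule.Quotient.mk_smul]
      refine congrArg Submodule.Quotient.mk ?_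
      rw [← hm]
      exact (ψξ.map_smul φ _).trans (congrArg (φ • ·) (DerSch.stalkFunctor_map_germ ξ ψ.hom V hξ e))
  obtain ⟨V₀, e₀, hξ₀, he₀⟩ := H11Ample.exists_gen hL ξ
  obtain ⟨φ₀, hφ₀, -, ht₀⟩ := key he₀ hξ₀
  refine ⟨Submodule.Quotient.mk (ψξ m), ?_, fun x => ?_⟩
  · rw [ht₀]
    exact (C1Api.residue_ne_zero_iff (he₀.map_iso ψ) hξ₀ φ₀).mpr hφ₀
  · by_cases hx : ξ ⤳ x
    · obtain ⟨V, e, hxV, he⟩ := H11Ample.exists_gen hL x
      obtain ⟨φ, hφ, h1, h2⟩ := key he (hx.mem_open V.2 hxV)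
      rw [h1, h2, C1Api.secDivFun_gen (he.map_iso ψ) δ _ φ hφ hxV, C1Api.secDivFun_gen he δ _ φ hφ hxV]
    · simp only [Cyc.secDivFun]
      rw [dif_neg fun hh => hx hh.1, dif_neg fun hh => hx hh.1]

theorem c1_congr (hX : Cyc.IsSetup X δ) (hL : PicF.IsInvertible L) (hN : PicF.IsInvertible N) (ψ : L ≅ N)
    {j k : ℤ} (h : j = k + 1) (a : ChowOps.CH X δ j) : c1 hX hL h a = c1 hX hN h a := by
  haveI := hX.1
  obtain ⟨α, hα, rfl⟩ := exists_cl a
  choose t ht htv using fun ξ => exists_sec_iso (δ := δ) ψ hL (sec hL ξ) (sec_ne_zero hL ξ)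
  obtain ⟨b, hbf, hb⟩ := C1Api.exists_c1Cap_cycle hX.2.2 hL k α (h ▸ hα) (sec hL) (sec_ne_zero hL)
  rw [c1_cl hX hL h α hα (sec hL) (sec_ne_zero hL) b hb hbf, c1_cl hX hN h α hα t ht b hb]
  funext x
  rw [hbf]
  exact finsum_congr fun ξ => by rw [htv]

end congr

section c1

variable {L N : X.Modules} (hX : Cyc.IsSetup X δ) (hL : PicF.IsInvertible L) (hN : PicF.IsInvertible N)

theorem c1_comm {i j j' k : ℤ} (h₁ : i = j + 1) (h₂ : j = k + 1) (h₁' : i = j' + 1) (h₂' : j' = k + 1)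
    (a : ChowOps.CH X δ i) : c1 hX hN h₂ (c1 hX hL h₁ a) = c1 hX hL h₂' (c1 hX hN h₁' a) := by
  haveI := hX.1
  obtain ⟨α, hα, rfl⟩ := exists_cl a
  have hα2 : α ∈ Cyc.Zk X δ (k + 2) := by rw [show k + 2 = i by omega]; exact hα
  obtain ⟨b, hbf, hb⟩ := C1Api.exists_c1Cap_cycle hX.2.2 hL j α (h₁ ▸ hα) (sec hL) (sec_ne_zero hL)
  obtain ⟨c, hcf, hc⟩ := C1Api.exists_c1Cap_cycle hX.2.2 hN j' α (h₁' ▸ hα) (sec hN) (sec_ne_zero hN)
  obtain ⟨b', hbf', hb'⟩ := C1Api.exists_c1Cap_cycle hX.2.2 hN k b (h₂ ▸ hb) (sec hN) (sec_ne_zero hN)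
  obtain ⟨c', hcf', hc'⟩ := C1Api.exists_c1Cap_cycle hX.2.2 hL k c (h₂' ▸ hc) (sec hL) (sec_ne_zero hL)
  rw [c1_cl hX hL h₁ α hα _ (sec_ne_zero hL) b hb hbf, c1_cl hX hN h₂ b hb _ (sec_ne_zero hN) b' hb' hbf',
    c1_cl hX hN h₁' α hα _ (sec_ne_zero hN) c hc hcf, c1_cl hX hL h₂' c hc _ (sec_ne_zero hL) c' hc' hcf', cl_eq_iff]
  refine RatFam.ratEquivZero (S := Set.univ) (CommApp.comm_cycle hX hL hN k α hα2 (sec hL) (sec hL)
    (sec_ne_zero hL) (sec_ne_zero hL) (sec hN) (sec hN) (sec_ne_zero hN) (sec_ne_zero hN) Set.univ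
    fun ξ _ z hz => (hz trivial).elim) fun x => ?_
  show b' x - c' x = _
  rw [hbf', hcf', hbf, hcf]

theorem c1_c1pow : ∀ (m : ℕ) {i j j' k : ℤ} (h : i = j + m) (h₂ : j = k + 1) (h₁' : i = j' + 1) (h' : j' = k + m)
    (a : ChowOps.CH X δ i), c1 hX hN h₂ (c1pow hX hL m h a) = c1pow hX hL m h' (c1 hX hN h₁' a)
  | 0, i, j, j', k, h, h₂, h₁', h', a => by
    obtain rfl : i = j := by simpa using h
    obtain rfl : j' = k := by simpa using h'
    rfl
  | m + 1, i, j, j', k, h, h₂, h₁', h', a => by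
    show c1 hX hN h₂ (c1 hX hL _ (c1pow hX hL m _ a)) = c1 hX hL _ (c1pow hX hL m _ _)
    rw [c1_comm hX hL hN _ h₂ (j' := k + 1) (by omega) rfl,
      c1_c1pow m _ (j := j + 1) (k := k + 1) (by omega) h₁' (by push_cast at h' ⊢; omega)]

end c1

section push

variable (p : X ⟶ Y) [IsProper p] (hX : Cyc.IsSetup X δ) (hY : Cyc.IsSetup Y δY) (hp : Cyc.DeltaCompat p δ δY)
variable {L : Y.Modules} (hL : PicF.IsInvertible L) (hL' : PicF.IsInvertible ((Scheme.Modules.pullback p).obj L))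

theorem cast_push {j k : ℤ} (e : j = k) (a : ChowOps.CH X δ j) :
    cast e (push p hX hY hp j a) = push p hX hY hp k (cast e a) := by
  subst e; rfl

theorem push_c1 {j k : ℤ} (h : j = k + 1) (a : ChowOps.CH X δ j) :
    push p hX hY hp k (c1 hX hL' h a) = c1 hY hL h (push p hX hY hp j a) := by
  haveI := hX.1
  haveI := hY.1
  obtain ⟨α, hα, rfl⟩ := exists_cl a
  obtain ⟨b, hbf, hb⟩ := C1Api.exists_c1Cap_cycle hX.2.2 hL' k α (h ▸ hα) (sec hL') (sec_ne_zero hL')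
  obtain ⟨c, hcf, hc⟩ := C1Api.exists_c1Cap_cycle hY.2.2 hL k (AlgebraicCycle.map p δ δY α)
    (h ▸ map_mem p α hα) (sec hL) (sec_ne_zero hL)
  rw [c1_cl hX hL' h α hα _ (sec_ne_zero hL') b hb hbf, push_cl, push_cl,
    c1_cl hY hL h _ (map_mem p α hα) _ (sec_ne_zero hL) c hc hcf, cl_eq_iff]
  exact C1Api.map_c1Cap p hX hY hp hL k α (h ▸ hα) _ (sec_ne_zero hL') _ (sec_ne_zero hL) b hbf c hcf

theorem push_c1pow : ∀ (m : ℕ) {j k : ℤ} (h : j = k + m) (a : ChowOps.CH X δ j),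
    push p hX hY hp k (c1pow hX hL' m h a) = c1pow hY hL m h (push p hX hY hp j a)
  | 0, j, k, h, a => (cast_push p hX hY hp (by simpa using h) a).symm
  | m + 1, j, k, h, a => by
    show push p hX hY hp k (c1 hX hL' _ (c1pow hX hL' m _ a)) = c1 hY hL _ (c1pow hY hL m _ _)
    rw [push_c1 p hX hY hp hL hL', push_c1pow m]

end push

section pull

variable (f : X ⟶ Y) [Flat f] (hX : Cyc.IsSetup X δ) (hY : Cyc.IsSetup Y δY) {r : ℤ}
  (hr : FlatRat.MaxDim f δ δY r)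
variable {L : Y.Modules} (hL : PicF.IsInvertible L) (hL' : PicF.IsInvertible ((Scheme.Modules.pullback f).obj L))

theorem pull_congr {g : X ⟶ Y} [Flat g] (e : f = g) (hr' : FlatRat.MaxDim g δ δY r) {j k : ℤ} (h : k = j + r)
    (a : ChowOps.CH Y δY j) : pull f hX hY hr h a = pull g hX hY hr' h a := by
  subst e; rfl

theorem cast_pull {j k l : ℤ} (h : k = j + r) (e : k = l) (a : ChowOps.CH Y δY j) :
    cast e (pull f hX hY hr h a) = pull f hX hY hr (e ▸ h) a := by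
  subst e; rfl

theorem pull_cast {i j k : ℤ} (e : i = j) (h : k = j + r) (a : ChowOps.CH Y δY i) :
    pull f hX hY hr h (cast e a) = pull f hX hY hr (e ▸ h : k = i + r) a := by
  subst e; rfl

theorem pull_c1 {i j i' k : ℤ} (h₁ : i = j + 1) (h₂ : k = j + r) (h₁' : i' = i + r) (h₂' : i' = k + 1)
    (a : ChowOps.CH Y δY i) : pull f hX hY hr h₂ (c1 hY hL h₁ a) = c1 hX hL' h₂' (pull f hX hY hr h₁' a) := by
  haveI := hX.1
  haveI := hY.1
  obtain ⟨α, hα, rfl⟩ := exists_cl a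
  obtain ⟨b, hbf, hb⟩ := C1Api.exists_c1Cap_cycle hY.2.2 hL j α (h₁ ▸ hα) (sec hL) (sec_ne_zero hL)
  obtain ⟨b', hbf', hb'⟩ := C1Api.exists_pullFun_cycle f hX hY hr j b hb
  obtain ⟨c, hcf, hc⟩ := C1Api.exists_pullFun_cycle f hX hY hr i α hα
  rw [← h₁'] at hc
  rw [← h₂] at hb'
  obtain ⟨c', hcf', hc'⟩ := C1Api.exists_c1Cap_cycle hX.2.2 hL' k c (h₂' ▸ hc) (sec hL') (sec_ne_zero hL')
  rw [c1_cl hY hL h₁ α hα _ (sec_ne_zero hL) b hb hbf, pull_cl f hX hY hr h₂ b hb b' hb' hbf',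
    pull_cl f hX hY hr h₁' α hα c hc hcf, c1_cl hX hL' h₂' c hc _ (sec_ne_zero hL') c' hc' hcf', cl_eq_iff]
  have := C1Api.pullFun_c1Cap f hX hY hr hL i α hα (sec hL) (sec_ne_zero hL) (sec hL') (sec_ne_zero hL')
    b' c' (by rw [hbf', hbf]) (by rw [hcf', hcf])
  rwa [show k = i + r - 1 by omega]

theorem pull_c1pow : ∀ (m : ℕ) {i j i' k : ℤ} (h₁ : i = j + m) (h₂ : k = j + r) (h₁' : i' = i + r) (h₂' : i' = k + m)
    (a : ChowOps.CH Y δY i),
    pull f hX hY hr h₂ (c1pow hY hL m h₁ a) = c1pow hX hL' m h₂' (pull f hX hY hr h₁' a)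
  | 0, i, j, i', k, h₁, h₂, h₁', h₂', a => by
    obtain rfl : i = j := by simpa using h₁
    obtain rfl : i' = k := by simpa using h₂'
    rfl
  | m + 1, i, j, i', k, h₁, h₂, h₁', h₂', a => by
    show pull f hX hY hr h₂ (c1 hY hL _ (c1pow hY hL m _ a)) = c1 hX hL' _ (c1pow hX hL' m _ _)
    rw [pull_c1 f hX hY hr hL hL' (j := j) (i' := k + 1) rfl h₂ (by omega) rfl,
      pull_c1pow m _ (k := k + 1) (by omega) h₁' (by push_cast at h₂' ⊢; omega)]

theorem pull_pull {Z : Scheme.{u}} {δZ : Z → ℤ} (g : Y ⟶ Z) [Flat g] (hZ : Cyc.IsSetup Z δZ) {s : ℤ}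
    (hs : FlatRat.MaxDim g δY δZ s) (hrs : FlatRat.MaxDim (f ≫ g) δ δZ (r + s)) {i j k : ℤ} (h₁ : j = i + s)
    (h₂ : k = j + r) (h : k = i + (r + s)) (a : ChowOps.CH Z δZ i) :
    pull f hX hY hr h₂ (pull g hY hZ hs h₁ a) = pull (f ≫ g) hX hZ hrs h a := by
  haveI := hX.1
  haveI := hY.1
  haveI := hZ.1
  obtain ⟨α, hα, rfl⟩ := exists_cl a
  obtain ⟨b, hbf, hb⟩ := C1Api.exists_pullFun_cycle g hY hZ hs i α hα
  rw [← h₁] at hb
  obtain ⟨c, hcf, hc⟩ := C1Api.exists_pullFun_cycle f hX hY hr j b hb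
  rw [← h₂] at hc
  rw [pull_cl g hY hZ hs h₁ α hα b hb hbf, pull_cl f hX hY hr h₂ b hb c hc hcf,
    pull_cl (f ≫ g) hX hZ hrs h α hα c hc (by rw [hcf, hbf, FlatRat.pullFun_comp f g hX hY hr hs])]

end pull

section basechange

variable {X' P : Scheme.{u}} (f : X ⟶ Y) (p : P ⟶ Y) [IsProper f] [Flat p] {δP : P → ℤ} {δ' : X' → ℤ}
variable {p' : X' ⟶ X} {f' : X' ⟶ P} (hsq : IsPullback f' p' p f)

theorem maxDim_shift_iso {W : Scheme.{u}} (e : W ⟶ X') [IsIso e] {q : X' ⟶ X} {c : ℤ}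
    (h : FlatRat.MaxDim q δ' δ c) : FlatRat.MaxDim (e ≫ q) (fun w => δ' (e w)) δ c := by
  intro w hw
  refine h (e w) fun y hy hs => ?_
  obtain ⟨z, rfl⟩ := (Scheme.homeoOfIso (asIso e)).surjective y
  have hz : z ⤳ w := e.isEmbedding.isInducing.specializes_iff.mp hs
  exact congrArg e (hw z hy hz)

include hsq in
theorem pull_push (hX : Cyc.IsSetup X δ) (hY : Cyc.IsSetup Y δY) (hP : Cyc.IsSetup P δP) (hX' : Cyc.IsSetup X' δ')
    (hf : Cyc.DeltaCompat f δ δY) [IsProper f'] [Flat p'] (hf' : Cyc.DeltaCompat f' δ' δP) {c : ℤ}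
    (hc : FlatRat.MaxDim p δP δY c) (hc' : FlatRat.MaxDim p' δ' δ c) {j k : ℤ} (h : k = j + c)
    (a : ChowOps.CH X δ j) :
    pull p hP hY hc h (push f hX hY hf j a) = push f' hX' hP hf' k (pull p' hX' hX hc' h a) := by
  haveI := hX.1
  haveI := hY.1
  haveI := hP.1
  haveI := hX'.1
  obtain ⟨α, hα, rfl⟩ := exists_cl a
  let e := hsq.flip.isoPullback
  let δQ : ↥(pullback f p) → ℤ := fun z => δ' (e.inv z)
  haveI : IsPreimmersion e.inv := inferInstance
  have hQ : Cyc.IsSetup (pullback f p) δQ := by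
    haveI : LocallyOfFiniteType e.inv := inferInstance
    exact isSetup_of_locallyOfFiniteType e.inv hX' (SpFun.deltaCompat_preimmersion e.inv δ')
  have hfst : pullback.fst f p = e.inv ≫ p' := hsq.flip.isoPullback_inv_fst.symm
  have hsnd : pullback.snd f p = e.inv ≫ f' := hsq.flip.isoPullback_inv_snd.symm
  have hQP : Cyc.DeltaCompat (pullback.snd f p) δQ δP := by
    rw [hsnd]; exact BCPush.deltaCompat_comp e.inv f' (SpFun.deltaCompat_preimmersion e.inv δ') hf'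
  have hQc : FlatRat.MaxDim (pullback.fst f p) δQ δ c := by
    rw [hfst]; exact maxDim_shift_iso e.inv hc'
  haveI := hQ.1
  obtain ⟨b, hbf, hb⟩ := C1Api.exists_pullFun_cycle p' hX' hX hc' j α hα
  rw [← h] at hb
  obtain ⟨b', hbf', hb'⟩ := C1Api.exists_pullFun_cycle (pullback.fst f p) hQ hX hQc j α hα
  obtain ⟨d, hdf, hd⟩ := C1Api.exists_pullFun_cycle p hP hY hc j (AlgebraicCycle.map f δ δY α) (map_mem f α hα)
  rw [← h] at hd
  rw [push_cl, pull_cl p hP hY hc h _ (map_mem f α hα) d hd hdf, pull_cl p' hX' hX hc' h α hα b hb hbf, push_cl]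
  refine cl_congr _ _ ?_
  rw [hdf, BCPush.pullFun_map_eq f p hP hQ hf hQP hc hQc α b' hbf']
  have hval : ∀ z, b' z = b (e.inv z) := fun z => by
    rw [hbf, hbf', hfst]
    have h0 : FlatRat.MaxDim e.inv δQ δ' 0 := fun z _ => (add_zero _).symm
    have := congrFun (FlatRat.pullFun_comp e.inv p' (δY := δ') hQ hX' h0 hc' (⇑α)) z
    rw [zero_add] at this
    rw [← this, Cyc.pullFun]
    rw [if_pos (add_zero _).symm]
    have hlen := H22Alg.CycBasic.length_quot_map (e.inv.stalkMap z).hom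
    have : Module.length ((pullback f p).presheaf.stalk z) ((pullback f p).presheaf.stalk z ⧸
        Ideal.map (e.inv.stalkMap z).hom (IsLocalRing.maximalIdeal (X'.presheaf.stalk (e.inv z)))) = 1 := by
      have hbij : Function.Bijective (e.inv.stalkMap z).hom := ConcreteCategory.bijective_of_isIso (e.inv.stalkMap z)
      rw [IsLocalRing.map_maximalIdeal_of_surjective _ hbij.2]
      refine (Module.length_eq_of_surjective (S := (pullback f p).presheaf.stalk z)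
        (R := (pullback f p).presheaf.stalk z ⧸ IsLocalRing.maximalIdeal _) Ideal.Quotient.mk_surjective).trans ?_
      letI := Ideal.Quotient.field (IsLocalRing.maximalIdeal ((pullback f p).presheaf.stalk z))
      rw [Module.length_eq_one_iff]
      infer_instance
    rw [this]
    simp
  funext x
  show ∑ᶠ z ∈ pullback.snd f p ⁻¹' {x}, b' z * _ = ∑ᶠ w ∈ f' ⁻¹' {x}, b w * _
  refine finsum_mem_eq_of_bijOn (fun z => e.inv z) ?_ fun z hz => ?_
  · refine ⟨fun z hz => ?_, e.inv.isEmbedding.injective.injOn, fun w hw => ?_⟩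
    · show f' (e.inv z) = x
      rw [← Scheme.Hom.comp_apply, ← hsnd]; exact hz
    · obtain ⟨z, rfl⟩ := (Scheme.homeoOfIso e.symm).surjective w
      exact ⟨z, show pullback.snd f p z = x by rw [hsnd, Scheme.Hom.comp_apply]; exact hw, rfl⟩
  · have hdeg : (pullback.snd f p).residueDegree z = f'.residueDegree (e.inv z) := by
      rw [hsnd]; exact Gysin.residueDegree_immersion_comp e.inv f' z
    rw [hval]
    unfold AlgebraicCycle.mapCoeff
    beta_reduce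
    rw [hdeg, show δP ((pullback.snd f p) z) = δP (f' (e.inv z)) by rw [hsnd]; rfl]

end basechange

end Groth.Agent.H3Cyc.Chow
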