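import Groth.Agent.H3Cyc.ChernTot
import Mathlib

/-!
# Segre classes and Chern classes
-/

set_option autoImplicit false
set_option linter.style.haveILetI false
set_option linter.unusedSectionVars false
set_option backward.isDefEq.respectTransparency.types false
universe u

open CategoryTheory CategoryTheory.Limits AlgebraicGeometry
open Groth.Agent.H3Cyc.Tot

noncomputable section

namespace Groth.Agent.H3Cyc.ChernTot

open PBundle

variable {X P : Scheme.{u}} {n : ℕ} {π : P ⟶ X} {O1 : P.Modules} (h : Bundle n π O1) {δ : X → ℤ} {δP : P → ℤ}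
  (hX : Cyc.IsSetup X δ) (hP : Cyc.IsSetup P δP) (hδ : Cyc.DeltaCompat π δP δ) [IsProper π]

theorem push_zeta_lt {s : ℕ} (hs : s < n) (g : T X δ) :
    Tot.Push π hP hX hδ ((zeta h hP ^ s) (pl h hX hP hδ g)) = 0 := funext fun l => by
  show Chow.push π hP hX hδ l (((zeta h hP ^ s) (pl h hX hP hδ g)) l) = 0
  rw [zeta_pow_pl h hX hP hδ s (show l + (s : ℤ) - n + n = l + s by ring), PBChow.push_T_lt h hX hP hδ s hs]

theorem push_zeta_eq (g : T X δ) : Tot.Push π hP hX hδ ((zeta h hP ^ n) (pl h hX hP hδ g)) = g := funext fun l => by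
  show Chow.push π hP hX hδ l (((zeta h hP ^ n) (pl h hX hP hδ g)) l) = g l
  rw [zeta_pow_pl h hX hP hδ n (rfl : l + (n : ℤ) = l + n), PBChow.push_T_eq h hX hP hδ n rfl]
  rfl

theorem opEnd_comm (i : Fin (n + 1)) (s : ℕ) (f : T X δ) :
    opEnd h hX hP hδ i (Tot.Push π hP hX hδ ((zeta h hP ^ s) (pl h hX hP hδ f))) =
      Tot.Push π hP hX hδ ((zeta h hP ^ s) (pl h hX hP hδ (opEnd h hX hP hδ i f))) := funext fun l => by
  haveI := h.flat
  let R := pullback π π
  have hsq : IsPullback (pullback.fst π π) (pullback.snd π π) π π := IsPullback.of_hasPullback _ _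
  haveI : Flat (pullback.fst π π) := MorphismProperty.pullback_fst _ _ inferInstance
  haveI : IsProper (pullback.fst π π) := MorphismProperty.pullback_fst _ _ inferInstance
  obtain ⟨δR, hδR⟩ := SpFun.exists_deltaCompat (pullback.snd π π) δP
  have hR := isSetup_of_locallyOfFiniteType _ hP hδR
  have hcomp : Cyc.DeltaCompat (pullback.fst π π) δR δP := Chern.deltaCompat_top hδ π hδ hsq hδR
  have hc' : FlatRat.MaxDim (pullback.fst π π) δR δP (n : ℤ) :=
    FlatRat.maxDim_of_hasRelDim _ (hasRelDim_of_isPullback hsq.flip h.hasRelDim) hcomp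
  set j : ℤ := l + ((n + 1 : ℕ) - (i : ℕ)) with hj
  have e0 : l = j + ((i : ℕ) - (n + 1 : ℕ)) := by rw [hj]; ring
  show Chern.op h hX hP hδ i e0 (Chow.push π hP hX hδ j (((zeta h hP ^ s) (pl h hX hP hδ f)) j)) =
    Chow.push π hP hX hδ l (((zeta h hP ^ s) (pl h hX hP hδ (opEnd h hX hP hδ i f))) l)
  rw [zeta_pow_pl h hX hP hδ s (show j + s - n + (n : ℤ) = j + s by ring),
    zeta_pow_pl h hX hP hδ s (show l + s - n + (n : ℤ) = l + s by ring),
    opEnd_apply h hX hP hδ i f (show l + s - (n : ℤ) = j + s - n + ((i : ℕ) - (n + 1 : ℕ)) by rw [hj]; ring),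
    Chern.op_push h hP hX hP hδ π hδ hsq hR hδR i (show l = j + ((i : ℕ) - (n + 1 : ℕ)) by rw [hj]; ring)]
  congr 1
  show Chern.op (h.baseChange hsq) hP hR hδR i e0
      (Chow.c1pow hP h.invertible s (show j + s - n + (n : ℤ) = j + s by ring)
        (Chow.pull π hP hX (PBPush.maxDim h hδ) (rfl : j + s - n + (n : ℤ) = _) (f (j + s - n)))) =
    Chow.c1pow hP h.invertible s (show l + s - n + (n : ℤ) = l + s by ring)
      (Chow.pull π hP hX (PBPush.maxDim h hδ) (rfl : l + s - n + (n : ℤ) = _)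
        (Chern.op h hX hP hδ i _ (f (j + s - n))))
  rw [Chern.op_c1pow (h.baseChange hsq) hP hR hδR h.invertible i s (j := j + s - n + n) (l := l + s - n + n)
      (by rw [hj]; ring) _ (show l + s - (n : ℤ) + n = l + s by ring),
    Chern.op_pull h hP hX hP hδ π (PBPush.maxDim h hδ) hsq hR hδR hc' i
      (show l + s - (n : ℤ) = j + s - n + ((i : ℕ) - (n + 1 : ℕ)) by rw [hj]; ring) rfl rfl]

theorem cT_comm_segre (m s : ℕ) (f : T X δ) :
    cT h hX hP hδ m (Tot.Push π hP hX hδ ((zeta h hP ^ s) (pl h hX hP hδ f))) =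
      Tot.Push π hP hX hδ ((zeta h hP ^ s) (pl h hX hP hδ (cT h hX hP hδ m f))) := by
  match m with
  | 0 => rfl
  | m + 1 =>
    by_cases hm : m < n + 1
    · rw [cT_succ h hX hP hδ hm]
      show ((-1 : ℤ) ^ m) • opEnd h hX hP hδ _ _ = Tot.Push π hP hX hδ ((zeta h hP ^ s) (pl h hX hP hδ
        (((-1 : ℤ) ^ m) • opEnd h hX hP hδ _ f)))
      rw [opEnd_comm, map_zsmul, map_zsmul, map_zsmul]
    · rw [cT_eq_zero h hX hP hδ (by omega)]
      show (0 : T X δ) = Tot.Push π hP hX hδ ((zeta h hP ^ s) (pl h hX hP hδ 0))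
      rw [map_zero, map_zero, map_zero]

/-- Segre classes invert Chern classes. -/
theorem segre_reciprocity {m : ℕ} (hm : 1 ≤ m) (f : T X δ) :
    ∑ i ∈ Finset.range (m + 1), ((-1 : ℤ) ^ i) •
      cT h hX hP hδ (m - i) (Tot.Push π hP hX hδ ((zeta h hP ^ (n + i)) (pl h hX hP hδ f))) = 0 := by
  obtain ⟨t, rfl⟩ : ∃ t, m = t + 1 := ⟨m - 1, by omega⟩
  let F : ℕ → T X δ := fun b => ((-1 : ℤ) ^ b) •
    Tot.Push π hP hX hδ ((zeta h hP ^ (n + (t + 1) - b)) (pl h hX hP hδ (cT h hX hP hδ b f)))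
  have hF : ∀ b, (t + 1 < b ∨ n + 1 < b) → F b = 0 := by
    intro b hb
    show ((-1 : ℤ) ^ b) • Tot.Push π hP hX hδ _ = 0
    by_cases hb' : n + 1 < b
    · rw [cT_eq_zero h hX hP hδ hb', AddMonoid.End.zero_apply, map_zero, map_zero, map_zero, smul_zero]
    · rw [push_zeta_lt h hX hP hδ (by omega), smul_zero]
  have h1 := congrArg (fun g => Tot.Push π hP hX hδ ((zeta h hP ^ t) g)) (relation h hX hP hδ f)
  simp only [map_sum, map_zsmul, map_zero] at h1
  rw [← Finset.sum_range_reflect] at h1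
  have h2 : ((-1 : ℤ) ^ (n + 1)) • ∑ b ∈ Finset.range (n + 1 + 1), F b = 0 := by
    rw [Finset.smul_sum]
    refine Eq.trans (Finset.sum_congr rfl fun b hb => ?_) h1
    have hb' : b ≤ n + 1 := Nat.lt_succ_iff.mp (Finset.mem_range.mp hb)
    show ((-1 : ℤ) ^ (n + 1)) • ((-1 : ℤ) ^ b) • _ = _
    rw [show n + 1 + 1 - 1 - b = n + 1 - b by omega, show n + 1 - (n + 1 - b) = b by omega, smul_smul, ← pow_add,
      show n + 1 + b = n + 1 - b + 2 * b by omega, pow_add (-1 : ℤ), pow_mul, neg_one_sq, one_pow, mul_one,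
      show n + (t + 1) - b = t + (n + 1 - b) by omega, pow_add (zeta h hP)]
    rfl
  have h3 : ((-1 : ℤ) ^ (t + 1)) • ∑ b ∈ Finset.range (t + 1 + 1), F b = ∑ i ∈ Finset.range (t + 1 + 1),
      ((-1 : ℤ) ^ i) •
        cT h hX hP hδ (t + 1 - i) (Tot.Push π hP hX hδ ((zeta h hP ^ (n + i)) (pl h hX hP hδ f))) := by
    rw [Finset.smul_sum, ← Finset.sum_range_reflect]
    refine Finset.sum_congr rfl fun i hi => ?_
    have hi' : i ≤ t + 1 := Nat.lt_succ_iff.mp (Finset.mem_range.mp hi)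
    rw [show t + 1 + 1 - 1 - i = t + 1 - i by omega]
    show ((-1 : ℤ) ^ (t + 1)) • ((-1 : ℤ) ^ (t + 1 - i)) • _ = _
    rw [smul_smul, ← pow_add, show t + 1 + (t + 1 - i) = i + 2 * (t + 1 - i) by omega, pow_add (-1 : ℤ) i, pow_mul,
      neg_one_sq, one_pow, mul_one, show n + (t + 1) - (t + 1 - i) = n + i by omega, cT_comm_segre]
  have h4 : ∑ b ∈ Finset.range (t + 1 + 1), F b = ∑ b ∈ Finset.range (n + 1 + 1), F b := by
    rcases le_total (t + 1) (n + 1) with hle | hle
    · exact Finset.sum_subset (Finset.range_subset_range.mpr (by omega)) fun b _ hb => hF b (Or.inl (by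
        have := Finset.mem_range.not.mp hb; omega))
    · exact (Finset.sum_subset (Finset.range_subset_range.mpr (by omega)) fun b _ hb => hF b (Or.inr (by
        have := Finset.mem_range.not.mp hb; omega))).symm
  rw [← h3, h4]
  have h5 := congrArg (fun z => ((-1 : ℤ) ^ (n + 1)) • z) h2
  simp only [smul_smul, ← pow_add, smul_zero] at h5
  rw [show n + 1 + (n + 1) = 2 * (n + 1) by ring, pow_mul, neg_one_sq, one_pow, one_smul] at h5
  rw [h5, smul_zero]

end Groth.Agent.H3Cyc.ChernTot
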