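import Groth.Agent.H3Cyc.SFilt
import Groth.Agent.H3Cyc.Segre
import Groth.Agent.H17.Ample.LocalProj
import Groth.Agent.S9708
import Groth.Agent.S5729
import Mathlib

/-!
# Towers of bundles of projective spaces: splitting of bundles, injectivity of the pullback
-/

set_option autoImplicit false
set_option linter.style.haveILetI false
set_option linter.dupNamespace false
set_option linter.unusedSectionVars false
set_option backward.isDefEq.respectTransparency.types false
universe u

open CategoryTheory CategoryTheory.Limits AlgebraicGeometry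
open Groth.Agent.H3Cyc.Tot

noncomputable section

namespace Groth.Agent.H3Cyc.Tower

open PBundle

/-- Iterated bundles of projective spaces. -/
inductive Tower : {P X : Scheme.{u}} → (P ⟶ X) → ℕ → Prop
  | iso {P X : Scheme.{u}} (π : P ⟶ X) [IsIso π] : Tower π 0
  | step {Q P X : Scheme.{u}} {π : P ⟶ X} {d n : ℕ} {ρ : Q ⟶ P} {O1 : Q.Modules} (h : Tower π d)
      (hB : Bundle n ρ O1) : Tower (ρ ≫ π) (n + d)

variable {P X : Scheme.{u}} {π : P ⟶ X} {d : ℕ}

theorem Tower.isProper (h : Tower π d) : IsProper π := by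
  induction h with
  | iso π => infer_instance
  | @step Q P X π d n ρ O1 h hB ih =>
    haveI := ih
    haveI := hB.isProper
    infer_instance

theorem Tower.flat (h : Tower π d) : Flat π := by
  induction h with
  | iso π => infer_instance
  | @step Q P X π d n ρ O1 h hB ih =>
    haveI := ih
    haveI := hB.flat
    infer_instance

theorem Tower.hasRelDim (h : Tower π d) : Cyc.HasRelDim π d := by
  induction h with
  | iso π => exact H22Alg.FiniteDegree.hasRelDim_zero (f := π)
  | @step Q P X π d n ρ O1 h hB ih =>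
    haveI := h.isProper
    haveI := hB.isProper
    haveI := hB.flat
    exact H22Alg.CycBasic.hasRelDim_comp ρ π hB.hasRelDim ih

theorem Tower.maxDim (h : Tower π d) {δ : X → ℤ} {δP : P → ℤ} (hδ : Cyc.DeltaCompat π δP δ) :
    FlatRat.MaxDim π δP δ (d : ℤ) :=
  haveI := h.isProper
  FlatRat.maxDim_of_hasRelDim π h.hasRelDim hδ

theorem Tower.baseChange (h : Tower π d) {Y PY : Scheme.{u}} {f : Y ⟶ X} {g : PY ⟶ P} {πY : PY ⟶ Y}
    (hsq : IsPullback g πY π f) : Tower πY d := by
  induction h generalizing Y PY with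
  | @iso P X π hπ =>
    haveI : IsIso πY := MorphismProperty.of_isPullback (P := MorphismProperty.isomorphisms Scheme.{u}) hsq
      (inferInstanceAs (IsIso π))
    exact .iso πY
  | @step Q P X π d n ρ O1 h hB ih =>
    let P' := pullback π f
    let t : PY ⟶ P' := pullback.lift (g ≫ ρ) πY (by rw [Category.assoc]; exact hsq.w)
    have ht : t ≫ pullback.snd π f = πY := pullback.lift_snd _ _ _
    have hsq' : IsPullback g t ρ (pullback.fst π f) :=
      IsPullback.of_bot (by rw [ht]; exact hsq) (pullback.lift_fst _ _ _).symm (IsPullback.of_hasPullback π f)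
    rw [← ht]
    exact .step (ih (IsPullback.of_hasPullback π f)) (hB.baseChange hsq')

theorem pullFun_id (δ : X → ℤ) (α : X → ℤ) : Cyc.pullFun (𝟙 X) δ δ 0 α = α := funext fun x => by
  simp only [Cyc.pullFun, add_zero]
  rw [if_pos (show δ x = δ ((𝟙 X : X ⟶ X) x) from rfl)]
  have hm : Ideal.map ((𝟙 X : X ⟶ X).stalkMap x).hom (IsLocalRing.maximalIdeal (X.presheaf.stalk ((𝟙 X : X ⟶ X) x))) =
      IsLocalRing.maximalIdeal (X.presheaf.stalk x) := by
    rw [Scheme.Hom.stalkMap_id]
    exact Ideal.map_id _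
  rw [hm]
  haveI : IsSimpleModule (X.presheaf.stalk x)
      (X.presheaf.stalk x ⧸ IsLocalRing.maximalIdeal (X.presheaf.stalk x)) :=
    isSimpleModule_iff_isCoatom.mpr (IsLocalRing.maximalIdeal.isMaximal _).out
  have : Module.length (X.presheaf.stalk x)
      (X.presheaf.stalk x ⧸ IsLocalRing.maximalIdeal (X.presheaf.stalk x)) = 1 := Module.length_eq_one _ _
  rw [this]
  show α x * 1 = α x
  ring

theorem Pull_id {δ : X → ℤ} (hX : Cyc.IsSetup X δ) (hr : FlatRat.MaxDim (𝟙 X) δ δ 0) (f : T X δ) :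
    Tot.Pull (𝟙 X) hX hX hr f = f := funext fun k => by
  rw [Tot.Pull_apply (𝟙 X) hX hX hr f (show k = k + 0 by ring)]
  obtain ⟨α, hα, e⟩ := Chow.exists_cl (f k)
  rw [← e, Chow.pull_cl (𝟙 X) hX hX hr _ α hα α hα (pullFun_id δ ⇑α).symm]

theorem Tower.Pull_injective (h : Tower π d) : ∀ {δ : X → ℤ} {δP : P → ℤ} (hX : Cyc.IsSetup X δ)
    (hP : Cyc.IsSetup P δP) (_ : Cyc.DeltaCompat π δP δ) [Flat π] {r : ℤ} (hr : FlatRat.MaxDim π δP δ r) (_ : r = d),
    Function.Injective (Tot.Pull π hP hX hr) := by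
  induction h with
  | @iso P X π hπ =>
    intro δ δP hX hP hδ _ r hr hr0 f g hfg
    have hr0 : r = 0 := by simpa using hr0
    subst hr0
    have hinv : FlatRat.MaxDim (inv π) δ δP 0 := fun x _ => by
      have h1 : π (inv π x) = x := by rw [← Scheme.Hom.comp_apply, IsIso.inv_hom_id]; rfl
      have h2 := hr (inv π x) fun y hy _ => by
        have := congrArg (inv π) hy
        rwa [← Scheme.Hom.comp_apply, IsIso.hom_inv_id, h1] at this
      rw [h1] at h2
      omega
    have hid : FlatRat.MaxDim (𝟙 X) δ δ 0 := fun x _ => by simp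
    have hc : FlatRat.MaxDim (inv π ≫ π) δ δ (0 + 0) := by rw [IsIso.inv_hom_id, add_zero]; exact hid
    have key : ∀ f : T X δ, Tot.Pull (inv π) hX hP hinv (Tot.Pull π hP hX hr f) = f := fun f => by
      rw [Tot.Pull_Pull (inv π) hX hP hinv π hX hr hc]
      have key' : ∀ (φ : X ⟶ X) (_ : Flat φ) (s : ℤ) (hs : FlatRat.MaxDim φ δ δ s), φ = 𝟙 X → s = 0 →
          Tot.Pull φ hX hX hs f = f := by
        rintro φ _ s hs rfl rfl
        exact Pull_id hX hs f
      exact key' _ inferInstance _ hc (IsIso.inv_hom_id π) (add_zero _)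
    rw [← key f, hfg, key g]
  | @step Q P X π d n ρ O1 h hB ih =>
    intro δ δQ hX hQ hδ _ r hr hr0 f g hfg
    haveI := hB.flat
    haveI := hB.isProper
    haveI := h.flat
    haveI := h.isProper
    obtain ⟨δP, hδP⟩ := SpFun.exists_deltaCompat π δ
    have hP := isSetup_of_locallyOfFiniteType π hX hδP
    have hδρ : Cyc.DeltaCompat ρ δQ δP := BCPush.deltaCompat_cancel ρ π hδP hδ
    have hdim : FlatRat.MaxDim π δP δ (d : ℤ) := h.maxDim hδP
    have hcomp : FlatRat.MaxDim (ρ ≫ π) δQ δ ((n : ℤ) + d) := by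
      rw [add_comm]; exact FlatRat.maxDim_comp ρ π (PBPush.maxDim hB hδρ) hdim
    obtain rfl : r = (n : ℤ) + d := by rw [hr0]; push_cast; ring
    have key : ∀ f, ChernTot.pl hB hP hQ hδρ (Tot.Pull π hP hX hdim f) = Tot.Pull (ρ ≫ π) hQ hX hr f := fun f =>
      Tot.Pull_Pull ρ hQ hP _ π hX hdim hcomp f
    rw [← key f, ← key g] at hfg
    have h2 := congrArg (fun z => Tot.Push ρ hQ hP hδρ ((ChernTot.zeta hB hQ ^ n) z)) hfg
    simp only [ChernTot.push_zeta_eq] at h2
    exact ih hX hP hδP hdim rfl h2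

/-- Projective over every affine open of the base. -/
def Proj (π : P ⟶ X) : Prop := ∀ U : X.Opens, IsAffineOpen U → RelProj.IsProjective (π ∣_ U)

theorem Proj.id (X : Scheme.{u}) : Proj (𝟙 X) := fun U _ =>
  haveI : IsFinite (𝟙 X ∣_ U) := IsZariskiLocalAtTarget.restrict (P := @IsFinite) inferInstance U
  H11Proj.isProjective_of_isFinite _

theorem Proj.isLocallyProjective (h : Proj π) : RelProj.IsLocallyProjective π := fun s => by
  obtain ⟨V, hV, hsV, -⟩ := exists_isAffineOpen_mem_and_subset (X := X) (U := ⊤) (x := s) trivial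
  exact ⟨V, hsV, h V hV⟩

theorem Proj.comp {Q : Scheme.{u}} {ρ : Q ⟶ P} (hρ : RelProj.IsProjective ρ) [IsProper π] (h : Proj π) :
    Proj (ρ ≫ π) := fun U hU => by
  rw [morphismRestrict_comp]
  haveI : CompactSpace U.toScheme := isCompact_iff_compactSpace.mp hU.isCompact
  haveI : IsAffine U.toScheme := hU
  exact Groth.Agent.S9708.result _ _
    (H17.LocalProj.isProjective_of_isPullback (isPullback_morphismRestrict ρ (π ⁻¹ᵁ U)).flip hρ) (h U hU)

theorem exists_bundle {E : X.Modules} {n : ℕ} (hE : FlatMod.IsFinLocFreeOfRank (n + 1) E) :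
    ∃ (P : Scheme.{u}) (p : P ⟶ X) (O1 : P.Modules) (q : (Scheme.Modules.pullback p).obj E ⟶ O1),
      Bundle n p O1 ∧ Epi q ∧ RelProj.IsProjective p := by
  have hE' := H22Alg.KPullLam.finLocFree_of_rank hE
  have hq := H8Props.FinLocFree.isQCoh_of_isFinLocFree E hE'
  obtain ⟨𝒯, j, hT⟩ := H11Sym.exists_isGrSymAlg E hq
  obtain ⟨P, p, chart, hP⟩ := H11Proj.exists_isRelProj 𝒯
  obtain ⟨O1, lam, hL⟩ := H11Tilde.exists_isRelTwist hP 1
  obtain ⟨φ, hφ⟩ := H11Sym.exists_canon hq hT hP hL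
  have hPB : KRR.IsProjBundle p E O1 (((Scheme.Modules.pullbackPushforwardAdjunction p).homEquiv E O1).symm φ) :=
    ⟨H22Alg.PB.rank_one_of_isInvertible (H11Sym.isInvertible_twist_one hq hT hP hL),
      H11Sym.epi_homEquiv_symm_of_spans (H11Sym.spans_of_eq_ks hq hT hL hφ), fun T g L hL' s hs =>
        H11Sym.existsUnique_toBundle hq hT hP hL hφ g L (H22Alg.PB.isInvertible_of_rank_one hL') s hs⟩
  refine ⟨P, p, O1, _, PBundle.of_isProjBundle hE hPB, hPB.epi, ?_⟩
  exact (Groth.Agent.S5729.result p).mpr ⟨E, 𝒯, j, P, p, chart, 𝟙 P, hq,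
    H29Fitt.isFT_of_isFP E (H8Props.FinLocFree.isFP_of_isFinLocFree E hE'), hT, hP, inferInstance, Category.id_comp p⟩

/-- One bundle can be split by a tower. -/
theorem exists_extend : ∀ (r : ℕ) {P : Scheme.{u}} {π : P ⟶ X} {d : ℕ} (_ : Tower π d) (_ : Proj π) (E : P.Modules)
    (_ : FlatMod.IsFinLocFreeOfRank r E), ∃ (Q : Scheme.{u}) (ρ : Q ⟶ P) (d' : ℕ), Tower (ρ ≫ π) d' ∧ Proj (ρ ≫ π) ∧
      ∃ ls, Filt.SFilt ((Scheme.Modules.pullback ρ).obj E) ls ∧ ls.length = r
  | 0, P, π, d, h, hp, E, hE => by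
    refine ⟨P, 𝟙 P, d, by rwa [Category.id_comp], by rwa [Category.id_comp], [], .zero ?_, rfl⟩
    exact (Scheme.Modules.pullback (𝟙 P)).map_isZero (H22Alg.PBRel.isZero_of_rank_zero hE)
  | r + 1, P, π, d, h, hp, E, hE => by
    obtain ⟨Q, p, O1, q, hB, hq, hproj⟩ := exists_bundle hE
    haveI := hq
    haveI := h.isProper
    have hE' := H22Alg.KPullLam.finLocFreeOfRank_pullback p hE
    have hO := H22Alg.PB.rank_one_of_isInvertible hB.invertible
    obtain ⟨R, ρ, d', hT, hPr, ls, hls, hlen⟩ :=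
      exists_extend r (.step h hB) (hp.comp hproj) (kernel q) (Filt.kernel_ofRank hE' hO q)
    refine ⟨R, ρ ≫ p, d', by rwa [Category.assoc], by rwa [Category.assoc],
      (Scheme.Modules.pullback ρ).obj O1 :: ls, ?_, by simp [hlen]⟩
    refine Filt.SFilt.of_iso ?_ ((Scheme.Modules.pullbackComp ρ p).app E)
    exact .cons ((Scheme.Modules.pullback ρ).map (kernel.ι q)) ((Scheme.Modules.pullback ρ).map q)
      (by rw [← Functor.map_comp, kernel.condition, Functor.map_zero])
      (H22Alg.KModel.shortExact_pullback ρ (S := ShortComplex.mk (kernel.ι q) q (kernel.condition q))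
        { exact := ShortComplex.exact_of_f_is_kernel _ (kernelIsKernel q) }
        (H22Alg.KPullLam.finLocFree_of_rank hO)) (H11Ample.isInvertible_pullback ρ hB.invertible) hls

/-- Finitely many bundles can be split by a tower. -/
theorem exists_split (X : Scheme.{u}) : ∀ (m : ℕ) (E : Fin m → X.Modules) (rk : Fin m → ℕ)
    (_ : ∀ i, FlatMod.IsFinLocFreeOfRank (rk i) (E i)),
    ∃ (P : Scheme.{u}) (π : P ⟶ X) (d : ℕ), Tower π d ∧ Proj π ∧
      ∀ i, ∃ ls, Filt.SFilt ((Scheme.Modules.pullback π).obj (E i)) ls ∧ ls.length = rk i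
  | 0, _, _, _ => ⟨X, 𝟙 X, 0, .iso _, Proj.id X, fun i => i.elim0⟩
  | m + 1, E, rk, hE => by
    obtain ⟨P, π, d, h, hp, hs⟩ := exists_split X m (fun i => E i.castSucc) (fun i => rk i.castSucc) fun i => hE _
    obtain ⟨Q, ρ, d', hT, hPr, ls, hls, hlen⟩ := exists_extend (rk (Fin.last m)) h hp _
      (H22Alg.KPullLam.finLocFreeOfRank_pullback π (hE (Fin.last m)))
    refine ⟨Q, ρ ≫ π, d', hT, hPr, fun i => ?_⟩
    refine Fin.lastCases ?_ (fun i => ?_) i
    · exact ⟨ls, hls.of_iso ((Scheme.Modules.pullbackComp ρ π).app _), hlen⟩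
    · obtain ⟨l, hl, hlen'⟩ := hs i
      exact ⟨_, (hl.pullback ρ).of_iso ((Scheme.Modules.pullbackComp ρ π).app _), by simp [hlen']⟩

end Groth.Agent.H3Cyc.Tower
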