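import Groth.Agent.H3Cyc.FiltChow
import Groth.Agent.H3Cyc.Segre
import Groth.Agent.H3Cyc.Tower
import Groth.Agent.H3Cyc.Reduction
import Groth.Agent.S1863
import Mathlib

/-!
# Classes vanishing on an open are supported on its complement; relative form of the product lemma
-/

set_option autoImplicit false
set_option linter.style.haveILetI false
set_option linter.unusedSectionVars false
set_option backward.isDefEq.respectTransparency.types false
universe u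

open CategoryTheory CategoryTheory.Limits AlgebraicGeometry
open Groth.Agent.H3Cyc.Tot

noncomputable section

namespace Groth.Agent.H3Cyc.OpenSupp

variable {X Y : Scheme.{u}} {δ : X → ℤ} {δY : Y → ℤ}

theorem deltaCompat_unique (f : Y ⟶ X) {δ₁ δ₂ : Y → ℤ} (h₁ : Cyc.DeltaCompat f δ₁ δ) (h₂ : Cyc.DeltaCompat f δ₂ δ) :
    δ₁ = δ₂ := funext fun y => by
  obtain ⟨n, hn, e⟩ := h₁ y
  obtain ⟨m, hm, e'⟩ := h₂ y
  rw [e, e', show n = m from Nat.cast_injective (R := Cardinal) (hn.symm.trans hm)]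

theorem pullFun_openImmersion (i : Y ⟶ X) [IsOpenImmersion i] (δ : X → ℤ) (α : X → ℤ) (y : Y) :
    Cyc.pullFun i (fun y => δ (i y)) δ 0 α y = α (i y) := by
  simp only [Cyc.pullFun, add_zero, if_true]
  have hm : Ideal.map (i.stalkMap y).hom (IsLocalRing.maximalIdeal (X.presheaf.stalk (i y))) =
      IsLocalRing.maximalIdeal (Y.presheaf.stalk y) :=
    le_antisymm (IsLocalRing.map_maximalIdeal_le _) fun z hz => by
      obtain ⟨w, rfl⟩ := i.stalkMap_surjective y z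
      exact Ideal.mem_map_of_mem _ fun hw => hz (hw.map _)
  rw [hm]
  haveI : IsSimpleModule (Y.presheaf.stalk y) (Y.presheaf.stalk y ⧸ IsLocalRing.maximalIdeal (Y.presheaf.stalk y)) :=
    isSimpleModule_iff_isCoatom.mpr (IsLocalRing.maximalIdeal.isMaximal _).out
  rw [show Module.length (Y.presheaf.stalk y)
    (Y.presheaf.stalk y ⧸ IsLocalRing.maximalIdeal (Y.presheaf.stalk y)) = 1 from Module.length_eq_one _ _]
  show α (i y) * 1 = α (i y)
  ring

theorem maxDim_immersion (i : Y ⟶ X) (δ : X → ℤ) : FlatRat.MaxDim i (fun y => δ (i y)) δ 0 :=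
  fun y _ => (add_zero _).symm

/-- A class which pulls back to zero on an open is supported on the complement. -/
theorem supp_of_pull_eq_zero (hX : Cyc.IsSetup X δ) (i : Y ⟶ X) [IsOpenImmersion i]
    (hY : Cyc.IsSetup Y (fun y => δ (i y))) (f : T X δ)
    (h0 : Tot.Pull i hY hX (maxDim_immersion i δ) f = 0) (k : ℤ) : Filt.Supp (Set.range i)ᶜ (f k) := by
  haveI := hX.1
  let U := i.opensRange
  let e := i.isoOpensRange
  have hU : Cyc.IsSetup (↑U : Scheme.{u}) (fun v => δ (U.ι v)) :=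
    isSetup_of_locallyOfFiniteType U.ι hX (Reduction.deltaCompat_immersion U.ι δ)
  have hei : ∀ y, δ (U.ι (e.hom y)) = δ (i y) := fun y => by
    rw [← Scheme.Hom.comp_apply, Scheme.Hom.isoOpensRange_hom_ι]
  have he : FlatRat.MaxDim e.hom (fun y => δ (i y)) (fun v => δ (U.ι v)) 0 := fun y _ => by
    show δ (i y) = δ (U.ι (e.hom y)) + 0
    rw [hei, add_zero]
  have hc : FlatRat.MaxDim (e.hom ≫ U.ι) (fun y => δ (i y)) δ (0 + 0) := fun y _ => by
    show δ (i y) = δ ((e.hom ≫ U.ι) y) + (0 + 0)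
    rw [Scheme.Hom.isoOpensRange_hom_ι, zero_add, add_zero]
  have hd : Cyc.DeltaCompat e.hom (fun y => δ (i y)) (fun v => δ (U.ι v)) := by
    have := Reduction.deltaCompat_immersion e.hom (fun v => δ (U.ι v))
    simp only [hei] at this
    exact this
  have key : ∀ (φ : Y ⟶ X) (_ : Flat φ) (s : ℤ) (hs : FlatRat.MaxDim φ (fun y => δ (i y)) δ s), φ = i → s = 0 →
      Tot.Pull φ hY hX hs f = 0 := by
    rintro φ _ s hs rfl rfl
    exact h0
  have h1 : Tot.Pull U.ι hU hX (maxDim_immersion U.ι δ) f = 0 := by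
    refine (Tower.Tower.iso e.hom).Pull_injective hU hY hd he rfl ?_
    rw [map_zero, Tot.Pull_Pull e.hom hY hU he U.ι hX (maxDim_immersion U.ι δ) hc]
    exact key _ inferInstance _ hc (Scheme.Hom.isoOpensRange_hom_ι i) (add_zero _)
  obtain ⟨α, hα, e⟩ := Chow.exists_cl (f k)
  obtain ⟨αU, hαU, hαU'⟩ := C1Api.exists_pullFun_cycle U.ι hU hX (maxDim_immersion U.ι δ) k α hα
  rw [add_zero] at hαU'
  have h2 := congrFun h1 k
  rw [Tot.Pull_apply U.ι hU hX (maxDim_immersion U.ι δ) f (show k = k + 0 by ring), ← e,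
    Chow.pull_cl U.ι hU hX (maxDim_immersion U.ι δ) _ α hα αU hαU' hαU] at h2
  have h3 : Cyc.RatEquiv (fun v => δ (U.ι v)) k αU 0 :=
    (Chow.cl_eq_iff hαU' (ChowOps.zk _ _ k).zero_mem).mp
      (h2.trans (map_zero (ChowOps.clHom (↑U : Scheme.{u}) (fun v => δ (U.ι v)) k)).symm)
  obtain ⟨c, hc, hcU, hrat⟩ := Groth.Agent.S1863.result X δ hX U k α 0 hα (ChowOps.zk X δ k).zero_mem αU 0
    (fun v => (congrFun hαU v).trans (pullFun_openImmersion U.ι δ _ v)) (fun v => rfl) h3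
  rw [zero_add] at hrat
  refine ⟨c, hc, fun x hx => hcU x ?_, ?_⟩
  · exact Set.notMem_compl_iff.mp hx
  · exact ((Chow.cl_eq_iff hα hc).mpr hrat).symm.trans e

/-- Pullback of classes supported on a set. -/
theorem supp_pull (g : Y ⟶ X) [Flat g] (hX : Cyc.IsSetup X δ) (hY : Cyc.IsSetup Y δY) {r : ℤ}
    (hr : FlatRat.MaxDim g δY δ r) {S : Set X} {f : T X δ} (hf : ∀ k, Filt.Supp S (f k)) (k : ℤ) :
    Filt.Supp (g ⁻¹' S) (Tot.Pull g hY hX hr f k) := by
  haveI := hX.1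
  haveI := hY.1
  obtain ⟨j, rfl⟩ : ∃ j, k = j + r := ⟨k - r, by ring⟩
  obtain ⟨α, hα, hs, e⟩ := hf j
  obtain ⟨β, hβf, hβ⟩ := C1Api.exists_pullFun_cycle g hY hX hr j α hα
  refine ⟨β, hβ, fun y hy => ?_, ?_⟩
  · rw [hβf]
    simp only [Cyc.pullFun]
    rw [hs (g y) hy, zero_mul, ite_self]
  · rw [Tot.Pull_apply g hY hX hr f rfl, ← e, Chow.pull_cl g hY hX hr rfl α hα β hβ hβf]

/-- `c₁(N) ∩ α - c₁(C) ∩ α` is supported on the zero locus of `φ` inside the support. -/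
theorem exists_step' {B C N : X.Modules} (b : B ⟶ C) (φ : B ⟶ N) (hC : PicF.IsInvertible C)
    (hN : PicF.IsInvertible N) (hX : Cyc.IsSetup X δ) (S : Set X) (hS : ∀ {ξ x : X}, ξ ⤳ x → ξ ∈ S → x ∈ S)
    (hker : ∀ x ∈ S, ∀ v, Filt.fmap b x v = 0 → Filt.fmap φ x v = 0) {j k : ℤ} (h : j = k + 1)
    (α : AlgebraicCycle X ℤ) (hα : α ∈ Cyc.Zk X δ j) (hsupp : ∀ x, x ∉ S → α x = 0) :
    ∃ (β : AlgebraicCycle X ℤ) (hβ : β ∈ Cyc.Zk X δ k), (∀ x, x ∉ S ∩ Filt.zeroSet φ → β x = 0) ∧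
      ChowOps.cl β hβ = Chow.c1 hX hN h (ChowOps.cl α hα) - Chow.c1 hX hC h (ChowOps.cl α hα) := by
  haveI := hX.1
  choose s t hs ht hst using Filt.exists_sections b φ hC hN δ S @hS hker
  obtain ⟨f, hff, hf⟩ := C1Api.exists_c1Cap_cycle hX.2.2 hN k α (h ▸ hα) s hs
  obtain ⟨g, hgf, hg⟩ := C1Api.exists_c1Cap_cycle hX.2.2 hC k α (h ▸ hα) t ht
  refine ⟨f - g, Chow.zk_sub hf hg, fun x hx => ?_, ?_⟩
  · show f x - g x = 0
    rw [hff, hgf, sub_eq_zero]
    refine finsum_congr fun ξ => ?_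
    by_cases hξ : ξ ∈ S
    · by_cases hsp : ξ ⤳ x
      · rw [hst ξ hξ x fun hz => hx ⟨hS hsp hξ, hz⟩]
      · simp only [Cyc.secDivFun]
        rw [dif_neg fun hh => hsp hh.1, dif_neg fun hh => hsp hh.1]
    · rw [hsupp ξ hξ, zero_mul, zero_mul]
  · rw [Chow.c1_cl hX hN h α hα s hs f hf hff, Chow.c1_cl hX hC h α hα t ht g hg hgf]
    exact map_sub (ChowOps.clHom X δ k) ⟨f, hf⟩ ⟨g, hg⟩

/-- `∏ (c₁(N) - c₁(Lᵢ))` moves classes supported on `S` to the zero locus inside `S`. -/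
theorem supp_prod (hX : Cyc.IsSetup X δ) {E : X.Modules} {ls : List X.Modules} (hF : Filt.Filt E ls) {N : X.Modules}
    (hN : PicF.IsInvertible N) (φ : E ⟶ N) {S : Set X} (hS : ∀ {ξ x : X}, ξ ⤳ x → ξ ∈ S → x ∈ S) (f : T X δ)
    (hf : ∀ k, Filt.Supp S (f k)) :
    ∀ k, Filt.Supp (S ∩ Filt.zeroSet φ) ((ls.map fun L => Filt.cc hX N - Filt.cc hX L).prod f k) := by
  induction hF with
  | @zero E h =>
    have e : Filt.zeroSet φ = Set.univ := Set.eq_univ_of_forall fun x v => by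
      rw [Filt.fmap_apply, h.eq_of_src φ 0, Filt.sl, Functor.map_zero]
      rfl
    rw [e, Set.inter_univ]
    exact hf
  | @cons M E L ls a b w hex hb hL hM ih =>
    intro k
    rw [List.map_cons, List.prod_cons]
    obtain ⟨α, hα, hs, e⟩ := ih (a ≫ φ) (k + 1)
    obtain ⟨β, hβ, hβs, hβe⟩ := exists_step' b φ hL hN hX (S ∩ Filt.zeroSet (a ≫ φ))
      (fun hsp hξ => ⟨hS hsp hξ.1, Filt.zeroSet_spec (a ≫ φ) hN hsp hξ.2⟩)
      (fun x hx v hv => Filt.fmap_eq_zero_of_exact hex hb φ x hx.2 v hv) (rfl : k + 1 = k + 1) α hα hs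
    exact ⟨β, hβ, fun x hx => hβs x fun h' => hx ⟨h'.1.1, h'.2⟩,
      by rw [hβe, e, Filt.cc_eq hX hN, Filt.cc_eq hX hL]; rfl⟩

end Groth.Agent.H3Cyc.OpenSupp
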