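import Groth.Agent.H3Cyc.GysinTot
import Groth.Agent.H3Cyc.ChowCompat
import Groth.Agent.H3Cyc.OpenSupp
import Groth.Agent.H13CInt.Spread
import Groth.Agent.H17.LrsScheme
import Mathlib

/-!
# Gysin maps under isomorphisms of the module and of the zero scheme
-/

set_option autoImplicit false
set_option linter.style.haveILetI false
set_option backward.isDefEq.respectTransparency.types false
universe u

open CategoryTheory CategoryTheory.Limits AlgebraicGeometry IsLocalRing Opposite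
open Groth.Agent.H11Tilde (IsGen)

noncomputable section

namespace Groth.Agent.H3Cyc.GysOps

variable {X D : Scheme.{u}} {L N : X.Modules}

theorem germ_map_iso (ψ : L ≅ N) {V : X.Opens} {x : X} (hx : x ∈ V) (m : Γ(L, V)) :
    ((KDev.st x).map ψ.hom).hom (L.presheaf.germ V x hx m) = N.presheaf.germ V x hx (ψ.hom.app V m) :=
  DerSch.stalkFunctor_map_germ x ψ.hom V hx m

/-- A zero scheme of a section is one of the corresponding section of an isomorphic module. -/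
theorem isZero_map_iso (ψ : L ≅ N) (hL : PicF.IsInvertible L) {s : L.presheaf.obj (op ⊤)} {i : D ⟶ X}
    (hD : Cyc.IsZeroSchemeOf i L s) : Cyc.IsZeroSchemeOf i N (ψ.hom.app ⊤ s) := by
  have key : ∀ x : X, ∃ (V : X.Opens) (hx : x ∈ V) (e : Γ(L, V)) (a : X.presheaf.stalk x), IsGen L e ∧
      L.presheaf.germ ⊤ x trivial s = a • L.presheaf.germ V x hx e ∧
      N.presheaf.germ ⊤ x trivial (ψ.hom.app ⊤ s) = a • N.presheaf.germ V x hx (ψ.hom.app V e) := fun x => by
    obtain ⟨V, e, hx, he⟩ := H11Ample.exists_gen hL x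
    obtain ⟨a, ha⟩ := (he x hx).2 (L.presheaf.germ ⊤ x trivial s)
    refine ⟨V, hx, e, a, he, ha.symm, ?_⟩
    rw [← germ_map_iso ψ, ← germ_map_iso ψ, ← ha]
    exact ((KDev.st x).map ψ.hom).hom.map_smul a _
  refine ⟨?_, fun d => ?_⟩
  · rw [hD.1]
    ext x
    obtain ⟨V, hx, e, a, he, ha, ha'⟩ := key x
    show (Submodule.Quotient.mk _ : Cyc.secFibre L x) = 0 ↔ (Submodule.Quotient.mk _ : Cyc.secFibre N x) = 0
    rw [ha, ha', Submodule.Quotient.mk_smul, Submodule.Quotient.mk_smul, ← not_iff_not]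
    exact (C1Api.residue_ne_zero_iff he hx a).trans (C1Api.residue_ne_zero_iff (he.map_iso ψ) hx a).symm
  · obtain ⟨V, hx, e, a, he, ha, ha'⟩ := key (i d)
    refine ⟨_, a, Submodule.eq_top_iff'.mpr fun w =>
      Submodule.mem_span_singleton.mpr (((he.map_iso ψ) _ hx).2 w), ha', ?_⟩
    rw [← Gysin.ker_eq_span_gen hD he d rfl hx a ha]
    simp

/-- A zero scheme composed with an isomorphism is a zero scheme. -/
theorem isZero_iso_comp {D' : Scheme.{u}} (e : D' ⟶ D) [IsIso e] {s : L.presheaf.obj (op ⊤)} {i : D ⟶ X}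
    (hD : Cyc.IsZeroSchemeOf i L s) : Cyc.IsZeroSchemeOf (e ≫ i) L s := by
  refine ⟨?_, fun d => ?_⟩
  · rw [← hD.1]
    ext x
    exact ⟨fun ⟨d, hd⟩ => ⟨e d, hd⟩, fun ⟨d, hd⟩ => by
      obtain ⟨d', rfl⟩ := (Scheme.homeoOfIso (asIso e)).surjective d
      exact ⟨d', hd⟩⟩
  · obtain ⟨t, f, ht, hs, hk⟩ := hD.2 (e d)
    refine ⟨t, f, ht, hs, ?_⟩
    rw [Scheme.Hom.stalkMap_comp]
    show RingHom.ker ((e.stalkMap d).hom.comp (i.stalkMap (e d)).hom) = _
    exact (RingHom.ker_comp_of_injective _ (ConcreteCategory.bijective_of_isIso (e.stalkMap d)).1).trans hk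

/-- Two zero schemes of the same section are isomorphic over the ambient scheme. -/
theorem exists_iso_zero (hL : PicF.IsInvertible L) {s : L.presheaf.obj (op ⊤)} {D' : Scheme.{u}} {i : D ⟶ X}
    {i' : D' ⟶ X} [IsClosedImmersion i] [IsClosedImmersion i'] (hD : Cyc.IsZeroSchemeOf i L s)
    (hD' : Cyc.IsZeroSchemeOf i' L s) : ∃ e : D' ≅ D, e.hom ≫ i = i' := by
  have hne : ∀ {C : Scheme.{u}} (k : C ⟶ X) [IsClosedImmersion k] (W : X.affineOpens) (y : X) (hy : y ∈ W.1),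
      y ∉ Set.range k → (k.ker.ideal W).map (X.presheaf.germ W.1 y hy).hom = ⊤ := fun {C} k _ W y hy hk => by
    by_contra hne
    refine hk ?_
    rw [← k.isClosedEmbedding.isClosed_range.closure_eq, ← Scheme.Hom.support_ker, SetLike.mem_coe,
      Scheme.IdealSheafData.mem_support_iff_of_mem (U := W) hy, Scheme.mem_zeroLocus_iff]
    intro f hf hfv
    rw [Scheme.mem_basicOpen _ _ _ hy] at hfv
    exact hne (Ideal.eq_top_of_isUnit_mem _ (Ideal.mem_map_of_mem _ hf) hfv)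
  have key : ∀ (W : X.affineOpens) (y : X) (hy : y ∈ W.1),
      (i.ker.ideal W).map (X.presheaf.germ W.1 y hy).hom = (i'.ker.ideal W).map (X.presheaf.germ W.1 y hy).hom := by
    intro W y hy
    by_cases hr : y ∈ Set.range i
    · obtain ⟨d, rfl⟩ := hr
      obtain ⟨d', hd'⟩ : i d ∈ Set.range i' := by rw [hD'.1, ← hD.1]; exact ⟨d, rfl⟩
      obtain ⟨V, e, hxV, he⟩ := H11Ample.exists_gen hL (i d)
      obtain ⟨a, ha⟩ := (he (i d) hxV).2 (L.presheaf.germ ⊤ (i d) trivial s)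
      have h1 := Gysin.ker_eq_span_gen hD he d rfl hxV a ha.symm
      simp at h1
      rw [← H13CInt.ker_stalkMap i d W hy, h1]
      have h2 : ∀ (y : X) (hy : y ∈ W.1) (hyV : y ∈ V) (a : X.presheaf.stalk y) (_ : y = i' d')
          (_ : L.presheaf.germ ⊤ y trivial s = a • L.presheaf.germ V y hyV e),
          Ideal.span {a} = (i'.ker.ideal W).map (X.presheaf.germ W.1 y hy).hom := by
        rintro y hy hyV a rfl hay
        have h3 := Gysin.ker_eq_span_gen hD' he d' rfl hyV a hay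
        simp at h3
        rw [← H13CInt.ker_stalkMap i' d' W hy, h3]
      exact h2 _ hy hxV a hd'.symm ha.symm
    · rw [hne i W y hy hr, hne i' W y hy (by rwa [hD'.1, ← hD.1])]
  have hker : i.ker = i'.ker := by
    refine Scheme.IdealSheafData.ext (funext fun W => le_antisymm (fun a ha => ?_) fun a ha => ?_)
    · exact H17.Lrs.mem_of_germ_mem W.2 _ a fun y hy => key W y hy ▸ Ideal.mem_map_of_mem _ ha
    · exact H17.Lrs.mem_of_germ_mem W.2 _ a fun y hy => (key W y hy).symm ▸ Ideal.mem_map_of_mem _ ha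
  refine ⟨⟨IsClosedImmersion.lift i i' hker.le, IsClosedImmersion.lift i' i hker.ge, ?_, ?_⟩,
    IsClosedImmersion.lift_fac _ _ _⟩
  · rw [← cancel_mono i', Category.assoc, IsClosedImmersion.lift_fac, IsClosedImmersion.lift_fac, Category.id_comp]
  · rw [← cancel_mono i, Category.assoc, IsClosedImmersion.lift_fac, IsClosedImmersion.lift_fac, Category.id_comp]

/-- The divisor of the image of a nonvanishing value of a section under an isomorphism. -/
theorem secDiv_map_iso (ψ : L ≅ N) (hL : PicF.IsInvertible L) {δ : X → ℤ} {ξ : X}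
    (s : L.presheaf.obj (op ⊤)) (hs : (Submodule.Quotient.mk (L.presheaf.germ ⊤ ξ trivial s) : Cyc.secFibre L ξ) ≠ 0)
    (x : X) :
    Cyc.secDivFun δ N ξ (Submodule.Quotient.mk (N.presheaf.germ ⊤ ξ trivial (ψ.hom.app ⊤ s))) x =
      Cyc.secDivFun δ L ξ (Submodule.Quotient.mk (L.presheaf.germ ⊤ ξ trivial s)) x := by
  by_cases hx : ξ ⤳ x
  · obtain ⟨V, e, hxV, he⟩ := H11Ample.exists_gen hL x
    have hξ := hx.mem_open V.2 hxV
    obtain ⟨φ, hφ⟩ := (he ξ hξ).2 (L.presheaf.germ ⊤ ξ trivial s)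
    have hm : φ • L.presheaf.germ V ξ hξ e = L.presheaf.germ ⊤ ξ trivial s := hφ
    have hne : X.residue ξ φ ≠ 0 := (C1Api.residue_ne_zero_iff he hξ φ).mp (by
      rw [C1Api.fib, ← Submodule.Quotient.mk_smul, hm]; exact hs)
    rw [← germ_map_iso ψ, ← hm, show ((KDev.st ξ).map ψ.hom).hom (φ • L.presheaf.germ V ξ hξ e) =
        φ • N.presheaf.germ V ξ hξ (ψ.hom.app V e) from
          (((KDev.st ξ).map ψ.hom).hom.map_smul φ _).trans (congrArg (φ • ·) (germ_map_iso ψ hξ e)),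
      Submodule.Quotient.mk_smul, Submodule.Quotient.mk_smul]
    show Cyc.secDivFun δ N ξ (φ • C1Api.fib N ξ hξ _) x = Cyc.secDivFun δ L ξ (φ • C1Api.fib L ξ hξ _) x
    rw [C1Api.secDivFun_gen (he.map_iso ψ) δ _ φ hne hxV, C1Api.secDivFun_gen he δ _ φ hne hxV]
  · simp only [Cyc.secDivFun]
    rw [dif_neg fun hh => hx hh.1, dif_neg fun hh => hx hh.1]

theorem gysin_mem {δ : X → ℤ} (hX : Cyc.IsSetup X δ) (hL : PicF.IsInvertible L) {s : L.presheaf.obj (op ⊤)}
    (i : D ⟶ X) [IsClosedImmersion i] (k : ℤ) (α : AlgebraicCycle X ℤ) (hα : α ∈ Cyc.Zk X δ (k + 1))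
    (t : (ξ : X) → Cyc.secFibre L ξ) (ht : ∀ ξ, t ξ ≠ 0) (γ : AlgebraicCycle D ℤ)
    (hγ : ∀ d, γ d = Cyc.c1CapFun δ L ⇑α (Cyc.gysinChoice L s t) (i d)) :
    γ ∈ Cyc.Zk D (fun d => δ (i d)) k := fun d hd => by
  obtain ⟨c, hc, hcm⟩ := GysinTot.exists_gysin_cycle (s := s) (i := i) hX hL k α hα t ht
  rw [hγ, ← hc]
  exact hcm d hd

/-- Gysin images of equivalent cycles under corresponding sections of isomorphic modules. -/
theorem gys_compare {δ : X → ℤ} (hX : Cyc.IsSetup X δ) (ψ : L ≅ N) (hL : PicF.IsInvertible L)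
    (hN : PicF.IsInvertible N) {s : L.presheaf.obj (op ⊤)} {s' : N.presheaf.obj (op ⊤)} (hs : ψ.hom.app ⊤ s = s')
    (i : D ⟶ X) [IsClosedImmersion i] (hD : Cyc.IsZeroSchemeOf i L s) (k : ℤ) (α α' : AlgebraicCycle X ℤ)
    (hα : α ∈ Cyc.Zk X δ (k + 1)) (hα' : α' ∈ Cyc.Zk X δ (k + 1)) (h : Cyc.RatEquiv δ (k + 1) α α')
    (t : (ξ : X) → Cyc.secFibre L ξ) (ht : ∀ ξ, t ξ ≠ 0) (t' : (ξ : X) → Cyc.secFibre N ξ) (ht' : ∀ ξ, t' ξ ≠ 0)
    (γ γ' : AlgebraicCycle D ℤ) (hγ : ∀ d, γ d = Cyc.c1CapFun δ L ⇑α (Cyc.gysinChoice L s t) (i d))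
    (hγ' : ∀ d, γ' d = Cyc.c1CapFun δ N ⇑α' (Cyc.gysinChoice N s' t') (i d)) :
    Cyc.RatEquiv (fun d => δ (i d)) k γ γ' := by
  classical
  haveI := hX.1
  subst hs
  have hD' := isZero_map_iso ψ hL hD
  obtain ⟨c, hc, hcm⟩ := GysinTot.exists_gysin_cycle (s := ψ.hom.app ⊤ s) (i := i) hX hN k α hα t' ht'
  have hγm := gysin_mem hX hL i k α hα t ht γ hγ
  have hγ'm := gysin_mem hX hN i k α' hα' t' ht' γ' hγ'
  rw [← Chow.cl_eq_iff hγm hγ'm]
  refine Eq.trans (b := ChowOps.cl c hcm) ((Chow.cl_eq_iff _ _).mpr ?_) ?_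
  · have htr : ∀ ξ, ∃ v : Cyc.secFibre N ξ, v ≠ 0 ∧
        (∀ x, Cyc.secDivFun δ N ξ v x = Cyc.secDivFun δ L ξ (Cyc.gysinChoice L s t ξ) x) ∧
        (ξ ∉ Set.range i → v = Submodule.Quotient.mk (N.presheaf.germ ⊤ ξ trivial (ψ.hom.app ⊤ s))) := fun ξ => by
      by_cases hξ : ξ ∈ Set.range i
      · obtain ⟨v, hv, hv'⟩ := Chow.exists_sec_iso (δ := δ) ψ hL _ (Gysin.gysinChoice_ne_zero L s t ht ξ)
        exact ⟨v, hv, hv', fun h => absurd hξ h⟩
      · refine ⟨_, (Gysin.notMem_range_iff hD' ξ).mp hξ, fun x => ?_, fun _ => rfl⟩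
        rw [secDiv_map_iso ψ hL s ((Gysin.notMem_range_iff hD ξ).mp hξ), Cyc.gysinChoice,
          if_pos ((Gysin.notMem_range_iff hD ξ).mp hξ)]
    choose v hv hvdiv hvoff using htr
    refine Gysin.gysin_congr i hN k α hα v _ hv (fun ξ => Gysin.gysinChoice_ne_zero N _ t' ht' ξ)
      (fun ξ hξ d _ => ?_) γ c (fun d => ?_) hc
    · rw [hvoff ξ hξ, Cyc.gysinChoice, if_pos ((Gysin.notMem_range_iff hD' ξ).mp hξ)]
    · rw [hγ]
      exact finsum_congr fun ξ => by rw [hvdiv]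
  · rw [← GysinTot.gys_cl hX hN hD' k α hα t' ht' c hcm hc, ← GysinTot.gys_cl hX hN hD' k α' hα' t' ht' γ' hγ'm hγ',
      (Chow.cl_eq_iff hα hα').mpr h]

/-- Rational equivalence is carried along isomorphisms. -/
theorem ratEquiv_iso {δ : X → ℤ} (hX : Cyc.IsSetup X δ) (e : D ≅ X) (k : ℤ) (a b : AlgebraicCycle X ℤ)
    (h : Cyc.RatEquiv δ k a b) (a' b' : AlgebraicCycle D ℤ) (ha : ∀ d, a' d = a (e.hom d))
    (hb : ∀ d, b' d = b (e.hom d)) : Cyc.RatEquiv (fun d => δ (e.hom d)) k a' b' := by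
  haveI := hX.1
  haveI : IsLocallyNoetherian D := LocallyOfFiniteType.isLocallyNoetherian e.hom
  have hS : Cyc.IsSetup D (fun d => δ (e.hom d)) :=
    isSetup_of_locallyOfFiniteType e.hom hX (Reduction.deltaCompat_immersion e.hom δ)
  simpa using FlatRat.ratEquiv_pullFun e.hom hS hX (OpenSupp.maxDim_immersion e.hom δ) k a b h a' b'
    (funext fun d => by rw [OpenSupp.pullFun_openImmersion]; exact ha d)
    (funext fun d => by rw [OpenSupp.pullFun_openImmersion]; exact hb d)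

/-- A cycle on the target of an isomorphism is trivial when it is so on the source. -/
theorem ratEquivZero_iso {δ : X → ℤ} (hX : Cyc.IsSetup X δ) (e : D ≅ X) (k : ℤ) (a : AlgebraicCycle X ℤ)
    (a' : AlgebraicCycle D ℤ) (ha : ∀ d, a' d = a (e.hom d))
    (h : Cyc.RatEquivZero (fun d => δ (e.hom d)) k a') : Cyc.RatEquivZero δ k a := by
  haveI := hX.1
  haveI : IsLocallyNoetherian D := LocallyOfFiniteType.isLocallyNoetherian e.hom
  have hS : Cyc.IsSetup D (fun d => δ (e.hom d)) :=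
    isSetup_of_locallyOfFiniteType e.hom hX (Reduction.deltaCompat_immersion e.hom δ)
  haveI := hS.1
  have h1 := ratEquiv_iso hS e.symm k a' 0 (by unfold Cyc.RatEquiv; rwa [sub_zero]) a 0 (fun x => by
    rw [ha]; simp [← Scheme.Hom.comp_apply]) fun _ => rfl
  unfold Cyc.RatEquiv at h1
  rw [sub_zero] at h1
  convert h1 using 1
  funext x
  simp [← Scheme.Hom.comp_apply]

end Groth.Agent.H3Cyc.GysOps
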