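import Groth.Agent.H10Coh.SheafHom.Pullback
import Groth.Agent.H10Coh.FlatBC.Transpose
import Groth.Agent.H17.PrinOmega
import Groth.Agent.H17.PullSect
import Groth.Agent.H8Props.FinLocFree.Sheaf
import Mathlib.RingTheory.TensorProduct.IsBaseChangeHom

/-!
# The sheaf Hom out of a finite locally free module commutes with inverse images
-/

set_option autoImplicit false
set_option linter.style.haveILetI false
set_option linter.unusedSectionVars false

universe u

open CategoryTheory CategoryTheory.Limits AlgebraicGeometry Opposite TopologicalSpace TensorProduct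

namespace Groth.Agent.H3Cyc.HomPull

open Groth.Agent Groth.Agent.H10Coh Groth.Agent.H10Coh.SheafHom
open Groth.Agent.H29Ref Groth.Agent.H10Coh.FBC H8Props.PullSections

variable {X X' : Scheme.{u}} {F G : X.Modules}

variable (q : X' ⟶ X)

variable [F.IsQuasicoherent] [G.IsQuasicoherent]

/-- Base change of a section of the sheaf Hom over an affine open, to an affine open. -/
theorem existsUnique_bcAff {U : X.Opens} (hU : IsAffineOpen U) (f : Γ(RefHull.homSh F G, U)) {U' : X'.Opens}
    (hU' : IsAffineOpen U') (h : U' ≤ q ⁻¹ᵁ U) :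
    ∃! g : Γ(RefHull.homSh (qP q F) (qP q G), U'),
      ∀ m, toLin g (pullLin q F h m) = pullLin q G h (toLin f m) := by
  have hq := H29Fitt.isQCoh_pullback q F inferInstance
  letI := (q.appLE U _ h).hom.toAlgebra
  letI := Module.compHom Γ(qP q F, U') (q.appLE U _ h).hom
  letI := Module.compHom Γ(qP q G, U') (q.appLE U _ h).hom
  haveI : IsScalarTower Γ(X, U) Γ(X', U') Γ(qP q F, U') := .of_algebraMap_smul fun _ _ => rfl
  haveI : IsScalarTower Γ(X, U) Γ(X', U') Γ(qP q G, U') := .of_algebraMap_smul fun _ _ => rfl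
  have j := isBaseChange_pullLin q F h inferInstance hU hU'
  obtain ⟨g, hg⟩ := (bijective_toLinₗ (qP q F) (qP q G) hq hU').2
    (IsBaseChange.linearMapLeftRightHom j (pullLin q G h) (toLin f))
  refine ⟨g, fun m => ?_, fun g' hg' => (bijective_toLinₗ (qP q F) (qP q G) hq hU').1
    (ext_pullLin q hU hU' h _ _ fun m => ?_)⟩
  · exact (LinearMap.congr_fun hg _).trans (IsBaseChange.linearMapLeftRightHom_comp_apply j _ _ m)
  · rw [hg, IsBaseChange.linearMapLeftRightHom_comp_apply]
    exact hg' m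

theorem germ_pullLin {U : X.Opens} {U' : X'.Opens} (h : U' ≤ q ⁻¹ᵁ U) (H : X.Modules) (m : Γ(H, U)) (z : X')
    (hz : z ∈ U') : (qP q H).presheaf.germ U' z hz (pullLin q H h m) =
      (qP q H).presheaf.germ (q ⁻¹ᵁ U) z (h hz) (OmegaSh.pullSect q H U m) :=
  (qP q H).presheaf.germ_res_apply (homOfLE h) z hz _

/-- Sections of the sheaf Hom agreeing on pulled back sections are equal. -/
theorem eq_of_pullLin {U : X.Opens} (hU : IsAffineOpen U) {V : X'.Opens} (h : V ≤ q ⁻¹ᵁ U)
    (g g' : Γ(RefHull.homSh (qP q F) (qP q G), V))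
    (he : ∀ m, toLin g (pullLin q F h m) = toLin g' (pullLin q F h m)) : g = g' := by
  refine Subtype.ext (funext fun y => ?_)
  obtain ⟨W, hW, hyW, hWle⟩ := exists_isAffineOpen_mem_and_subset (U := V) (x := y.1) y.2
  have e : W ≤ V := fun a ha => hWle ha
  have key : (RefHull.homSh (qP q F) (qP q G)).presheaf.map (homOfLE e).op g =
      (RefHull.homSh (qP q F) (qP q G)).presheaf.map (homOfLE e).op g' := by
    refine (bijective_toLinₗ (qP q F) (qP q G) (H29Fitt.isQCoh_pullback q F inferInstance) hW).1 ?_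
    refine ext_pullLin q hU hW (e.trans h) _ _ fun m => sec_ext _ fun z hz => ?_
    show (qP q G).presheaf.germ W z hz (toLin _ _) = (qP q G).presheaf.germ W z hz (toLin _ _)
    rw [germ_toLin _ _ ⟨z, hz⟩, germ_toLin _ _ ⟨z, hz⟩, germ_pullLin, ← germ_pullLin q h F m z (e hz)]
    exact (germ_toLin g _ ⟨z, e hz⟩).symm.trans
      ((congrArg ((qP q G).presheaf.germ V z (e hz)) (he m)).trans (germ_toLin g' _ ⟨z, e hz⟩))
  exact congrFun (congrArg Subtype.val key) ⟨y.1, hyW⟩

/-- Base change of a section of the sheaf Hom over an affine open. -/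
theorem existsUnique_bcHom {U : X.Opens} (hU : IsAffineOpen U) (f : Γ(RefHull.homSh F G, U)) :
    ∃! g : Γ(RefHull.homSh (qP q F) (qP q G), q ⁻¹ᵁ U),
      ∀ m, toLin g (OmegaSh.pullSect q F U m) = OmegaSh.pullSect q G U (toLin f m) := by
  have hres : ∀ {V W : X'.Opens} (hW : IsAffineOpen W) (h : V ≤ q ⁻¹ᵁ U) (e : W ≤ V)
      (g : Γ(RefHull.homSh (qP q F) (qP q G), V)),
      (∀ m, toLin g (pullLin q F h m) = pullLin q G h (toLin f m)) →
      (existsUnique_bcAff q hU f hW (e.trans h)).choose =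
        (RefHull.homSh (qP q F) (qP q G)).presheaf.map (homOfLE e).op g := by
    intro V W hW h e g hg
    refine ((existsUnique_bcAff q hU f hW (e.trans h)).choose_spec.2 _ fun m => ?_).symm
    refine sec_ext _ fun z hz => ?_
    rw [germ_toLin _ _ ⟨z, hz⟩, germ_pullLin, germ_pullLin, ← germ_pullLin q h F m z (e hz),
      ← germ_pullLin q h G (toLin f m) z (e hz), ← hg m, germ_toLin g _ ⟨z, e hz⟩]
    rfl
  have hcov : ∀ y : (q ⁻¹ᵁ U : X'.Opens), ∃ V : X'.Opens, IsAffineOpen V ∧ y.1 ∈ V ∧ V ≤ q ⁻¹ᵁ U := fun y => by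
    obtain ⟨V, hV, hy, hle⟩ := exists_isAffineOpen_mem_and_subset y.2
    exact ⟨V, hV, hy, hle⟩
  choose V hV hyV hle using hcov
  let s := fun y => (existsUnique_bcAff q hU f (hV y) (hle y)).choose
  have hs := fun y => (existsUnique_bcAff q hU f (hV y) (hle y)).choose_spec.1
  have hagree : ∀ (y y' : (q ⁻¹ᵁ U : X'.Opens)) (z : X') (hz : z ∈ V y) (hz' : z ∈ V y'),
      (s y).1 ⟨z, hz⟩ = (s y').1 ⟨z, hz'⟩ := fun y y' z hz hz' => by
    obtain ⟨W, hW, hzW, hWle⟩ := exists_isAffineOpen_mem_and_subset (U := V y ⊓ V y') (x := z) ⟨hz, hz'⟩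
    have e1 : W ≤ V y := fun a ha => (hWle ha).1
    have e2 : W ≤ V y' := fun a ha => (hWle ha).2
    have e := (hres hW (hle y) e1 (s y) (hs y)).symm.trans (hres hW (hle y') e2 (s y') (hs y'))
    exact congrFun (congrArg Subtype.val e) ⟨z, hzW⟩
  let g₀ : ∀ y : (q ⁻¹ᵁ U : X'.Opens), RefHull.StalkHom (qP q F) (qP q G) y.1 := fun y => (s y).1 ⟨y.1, hyV y⟩
  have hg₀ : (RefHull.homLoc (qP q F) (qP q G)).pred g₀ := (RefHull.homLoc _ _).locality g₀ fun y => by
    refine ⟨V y, hyV y, homOfLE (hle y), ?_⟩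
    convert (s y).2 using 1
    funext z
    exact hagree _ y z.1 _ _
  let g : Γ(RefHull.homSh (qP q F) (qP q G), q ⁻¹ᵁ U) := ⟨g₀, hg₀⟩
  refine ⟨g, fun m => sec_ext _ fun z hz => ?_, fun g' hg' => Subtype.ext (funext fun y => ?_)⟩
  · rw [germ_toLin g _ ⟨z, hz⟩]
    show (s ⟨z, hz⟩).1 ⟨z, hyV _⟩ _ = _
    rw [← germ_pullLin q (hle ⟨z, hz⟩) F m z (hyV _), ← germ_pullLin q (hle ⟨z, hz⟩) G _ z (hyV _),
      ← hs ⟨z, hz⟩ m, germ_toLin (s ⟨z, hz⟩) _ ⟨z, hyV _⟩]
  · have e := hres (hV y) (le_refl (q ⁻¹ᵁ U)) (hle y) g' fun m => by rw [pullLin_self, pullLin_self]; exact hg' m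
    exact (congrFun (congrArg Subtype.val e) ⟨y.1, hyV y⟩).symm

/-- The base change of sections, on affine opens. -/
noncomputable def bcSec {U : X.Opens} (hU : IsAffineOpen U) :
    Γ(RefHull.homSh F G, U) →ₗ[Γ(X, U)]
      Γ((Scheme.Modules.pushforward q).obj (RefHull.homSh (qP q F) (qP q G)), U) where
  toFun f := (existsUnique_bcHom q hU f).choose
  map_add' f f' := ((existsUnique_bcHom q hU (f + f')).choose_spec.2 _ fun m => by
    show toLinₗ (qP q F) (qP q G) _
      ((existsUnique_bcHom q hU f).choose + (existsUnique_bcHom q hU f').choose) _ = _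
    rw [map_add, LinearMap.add_apply]
    show toLin _ _ + toLin _ _ = OmegaSh.pullSect q G U (toLinₗ F G U (f + f') m)
    rw [(existsUnique_bcHom q hU f).choose_spec.1, (existsUnique_bcHom q hU f').choose_spec.1, map_add,
      LinearMap.add_apply, map_add]
    rfl).symm
  map_smul' r f := ((existsUnique_bcHom q hU (r • f)).choose_spec.2 _ fun m => by
    show toLinₗ (qP q F) (qP q G) _ (q.app U r • (existsUnique_bcHom q hU f).choose) _ = _
    rw [map_smul, LinearMap.smul_apply]
    show q.app U r • toLin _ _ = OmegaSh.pullSect q G U (toLinₗ F G U (r • f) m)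
    rw [(existsUnique_bcHom q hU f).choose_spec.1, map_smul, LinearMap.smul_apply, OmegaSh.pullSect_smul]
    rfl).symm

theorem bcSec_spec {U : X.Opens} (hU : IsAffineOpen U) (f : Γ(RefHull.homSh F G, U)) (m : Γ(F, U)) :
    toLin (F := qP q F) (G := qP q G) (U := q ⁻¹ᵁ U) (bcSec q hU f) (OmegaSh.pullSect q F U m) =
      OmegaSh.pullSect q G U (toLin f m) :=
  (existsUnique_bcHom q hU f).choose_spec.1 m

/-- `q^* 𝓗om(F, G) ≅ 𝓗om(q^* F, q^* G)`, compatibly with morphisms. -/
theorem exists_pullIso (hF : FlatMod.IsFinLocFree F) :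
    ∃ c : qP q (RefHull.homSh F G) ≅ RefHull.homSh (qP q F) (qP q G), ∀ φ : F ⟶ G,
      c.hom.app ⊤ (OmegaSh.pullSect q (RefHull.homSh F G) ⊤ (RefHull.ofHom φ ⊤)) =
        RefHull.ofHom ((Scheme.Modules.pullback q).map φ) ⊤ := by
  have hq := H29Fitt.isQCoh_pullback q F inferInstance
  obtain ⟨τ, hτ⟩ := H17.PrinOmega.exists_hom_of_basis (RefHull.homSh F G)
    ((Scheme.Modules.pushforward q).obj (RefHull.homSh (qP q F) (qP q G))) (FreeOn F) (exists_freeOn hF)
    (fun U hU => bcSec q hU.1) fun U U' hU hU' e f => by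
      refine eq_of_pullLin q hU.1 (fun y hy => e hy) _ _ fun m => ?_
      show toLin _ ((qP q F).presheaf.map _ (OmegaSh.pullSect q F U m)) =
        toLin ((RefHull.homSh (qP q F) (qP q G)).presheaf.map _ (bcSec q hU.1 f))
          ((qP q F).presheaf.map _ (OmegaSh.pullSect q F U m))
      refine Eq.trans ?_ (toLin_res (F := qP q F) (G := qP q G) (fun y hy => e hy) _ _).symm
      refine Eq.trans ?_ (congrArg ((qP q G).presheaf.map (homOfLE (fun y hy => e hy : q ⁻¹ᵁ U' ≤ q ⁻¹ᵁ U)).op)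
        (bcSec_spec q hU.1 f m)).symm
      refine (congrArg (toLin (F := qP q F) (G := qP q G) (U := q ⁻¹ᵁ U')
        (bcSec q hU'.1 ((RefHull.homSh F G).presheaf.map (homOfLE e).op f)))
        (OmegaSh.pullSect_map q F e m).symm).trans ?_
      refine (bcSec_spec q hU'.1 _ _).trans ?_
      exact (congrArg (OmegaSh.pullSect q G U') (toLin_res e f m)).trans (OmegaSh.pullSect_map q G e _)
  let ψ := ((Scheme.Modules.pullbackPushforwardAdjunction q).homEquiv (RefHull.homSh F G)
    (RefHull.homSh (qP q F) (qP q G))).symm τ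
  have hψ : (Scheme.Modules.pullbackPushforwardAdjunction q).unit.app (RefHull.homSh F G) ≫
      (Scheme.Modules.pushforward q).map ψ = τ :=
    ((Scheme.Modules.pullbackPushforwardAdjunction q).homEquiv_unit _ _ ψ).symm.trans (Equiv.apply_symm_apply _ τ)
  have hψs : ∀ (V : X.Opens) (f : Γ(RefHull.homSh F G, V)),
      ψ.app (q ⁻¹ᵁ V) (OmegaSh.pullSect q _ V f) = τ.app V f := fun V f =>
    congr($(congrArg (fun k => Scheme.Modules.Hom.app k V) hψ) f)
  haveI : IsIso ψ := by
    haveI : IsIso ((shF X').map ψ) := by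
      refine TopCat.Sheaf.isIso_iff_isIso_basis
        (B := fun i : {V' : X'.Opens // IsAffineOpen V' ∧ ∃ V : X.Opens, FreeOn F V ∧ V' ≤ q ⁻¹ᵁ V} => i.1)
        ?_ fun ⟨V', hV', V, ⟨hV, hfree, hfin⟩, hle⟩ => (ConcreteCategory.isIso_iff_bijective _).2 ?_
      · rw [Opens.isBasis_iff_nbhd]
        intro W x hx
        obtain ⟨V, hV, hxV, -⟩ := exists_freeOn hF ⊤ (q.base x) trivial
        obtain ⟨V', hV', hxV', hle⟩ := exists_isAffineOpen_mem_and_subset (U := q ⁻¹ᵁ V ⊓ W) (x := x) ⟨hxV, hx⟩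
        exact ⟨V', ⟨⟨V', hV', V, hV, fun y hy => (hle hy).1⟩, rfl⟩, hxV', fun y hy => (hle hy).2⟩
      letI := (q.appLE V V' hle).hom.toAlgebra
      letI := Module.compHom Γ(qP q F, V') (q.appLE V V' hle).hom
      letI := Module.compHom Γ(qP q G, V') (q.appLE V V' hle).hom
      letI := Module.compHom Γ(qP q (RefHull.homSh F G), V') (q.appLE V V' hle).hom
      haveI : IsScalarTower Γ(X, V) Γ(X', V') Γ(qP q F, V') := .of_algebraMap_smul fun _ _ => rfl
      haveI : IsScalarTower Γ(X, V) Γ(X', V') Γ(qP q G, V') := .of_algebraMap_smul fun _ _ => rfl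
      haveI : IsScalarTower Γ(X, V) Γ(X', V') Γ(qP q (RefHull.homSh F G), V') :=
        .of_algebraMap_smul fun _ _ => rfl
      haveI := hfree
      haveI := hfin
      have jH := isBaseChange_pullLin q (RefHull.homSh F G) hle
        (isQCoh_homSh F G (H8Props.FinLocFree.isFP_of_isFinLocFree F hF) inferInstance) hV hV'
      have jF := isBaseChange_pullLin q F hle inferInstance hV hV'
      have k := isBaseChange_pullLin q G hle inferInstance hV hV'
      have L := IsBaseChange.linearMapLeftRight jF k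
      let e₀ : (Γ(X', V') ⊗[Γ(X, V)] Γ(RefHull.homSh F G, V)) ≃ₗ[Γ(X', V')]
          (Γ(X', V') ⊗[Γ(X, V)] (Γ(F, V) →ₗ[Γ(X, V)] Γ(G, V))) :=
        (LinearEquiv.ofBijective _ (bijective_toLinₗ F G inferInstance hV)).baseChange _ Γ(X', V') _ _
      have key : ∀ z, toLinₗ (qP q F) (qP q G) V' (ψ.app V' (jH.equiv z)) = L.equiv (e₀ z) := fun z => by
        induction z using TensorProduct.induction_on with
        | zero => simp
        | add a b ha hb =>
          refine Eq.trans (b := toLinₗ (qP q F) (qP q G) V' (ψ.app V' (jH.equiv a)) +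
            toLinₗ (qP q F) (qP q G) V' (ψ.app V' (jH.equiv b))) ?_ ?_
          · rw [map_add, map_add]
            exact map_add _ _ _
          · rw [ha, hb, map_add, map_add]
        | tmul b f =>
          rw [IsBaseChange.equiv_tmul, Scheme.Modules.Hom.app_smul,
            show e₀ (b ⊗ₜ f) = b ⊗ₜ toLin f from rfl, IsBaseChange.equiv_tmul, map_smul]
          refine congrArg (b • ·) (ext_pullLin q hV hV' hle _ _ fun m => ?_)
          rw [IsBaseChange.linearMapLeftRightHom_comp_apply]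
          show toLin (ψ.app V' ((qP q _).presheaf.map (homOfLE hle).op (OmegaSh.pullSect q _ V f)))
              ((qP q F).presheaf.map (homOfLE hle).op (OmegaSh.pullSect q F V m)) =
            (qP q G).presheaf.map (homOfLE hle).op (OmegaSh.pullSect q G V (toLin f m))
          rw [H11Tilde.app_map_apply ψ hle, hψs V f, hτ V ⟨hV, hfree, hfin⟩ f]
          exact (toLin_res (F := qP q F) (G := qP q G) hle _ _).trans
            (congrArg ((qP q G).presheaf.map (homOfLE hle).op) (bcSec_spec q hV f m))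
      have hb : Function.Bijective fun z => toLinₗ (qP q F) (qP q G) V' (ψ.app V' (jH.equiv z)) := by
        rw [funext key]
        exact L.equiv.bijective.comp e₀.bijective
      exact (Function.Bijective.of_comp_iff' (bijective_toLinₗ (qP q F) (qP q G) hq hV') _).1
        ((Function.Bijective.of_comp_iff _ jH.equiv.bijective).1 hb)
    exact isIso_of_reflects_iso ψ (shF X')
  refine ⟨asIso ψ, fun φ => ?_⟩
  refine Subtype.ext (funext fun y => ?_)
  obtain ⟨U, hU, hxU, -⟩ := exists_freeOn hF ⊤ (q.base y.1) trivial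
  have h1 : (RefHull.homSh (qP q F) (qP q G)).presheaf.map (homOfLE (le_top : q ⁻¹ᵁ U ≤ ⊤)).op
      (ψ.app ⊤ (OmegaSh.pullSect q _ ⊤ (RefHull.ofHom φ ⊤))) =
      RefHull.ofHom ((Scheme.Modules.pullback q).map φ) (q ⁻¹ᵁ U) := by
    refine (H11Tilde.app_map_apply ψ (le_top : q ⁻¹ᵁ U ≤ ⊤) _).symm.trans ?_
    refine (congrArg (ψ.app (q ⁻¹ᵁ U))
      (OmegaSh.pullSect_map q _ (le_top : U ≤ ⊤) _).symm).trans ?_
    refine ((hψs U _).trans (hτ U hU _)).trans ?_
    refine ((existsUnique_bcHom q hU.1 _).choose_spec.2 _ fun m => ?_).symm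
    rw [toLin_ofHom, ← H17.PullSect.pullSect_natural]
    exact congrArg (OmegaSh.pullSect q G U) (toLin_ofHom φ U m).symm
  exact congrFun (congrArg Subtype.val h1) ⟨y.1, hxU⟩

end Groth.Agent.H3Cyc.HomPull
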