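import Groth.Agent.H3Cyc.KDev
import Groth.Agent.H06Mod.StalkPullback
import Groth.Agent.H17.Primary
import Mathlib

/-!
# Images in skyscraper modules
-/

set_option autoImplicit false
set_option linter.style.haveILetI false
set_option linter.unusedSectionVars false
universe u v

open CategoryTheory CategoryTheory.Limits AlgebraicGeometry TopologicalSpace Opposite
open Groth.Agent.H16Derived.KFlat.Stalk

noncomputable section

namespace Groth.Agent.H3Cyc.KSky

section Algebra

variable {A : Type u} [CommRing A] {M : Type v} [AddCommGroup M] [Module A M]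

/-- A chain of submodules with quotients of lengths `0, 1, …`. -/
theorem exists_chain (hM : IsFiniteLength A M) :
    ∃ C : ℕ → Submodule A M, (∀ j, C (j + 1) ≤ C j) ∧
      (∀ j ≤ (Module.length A M).toNat, Module.length A (M ⧸ C j) = j) ∧
      C (Module.length A M).toNat = ⊥ ∧ C 0 = ⊤ := by
  obtain ⟨hN, hA⟩ := isFiniteLength_iff_isNoetherian_isArtinian.mp hM
  have hfin : Module.length A M ≠ ⊤ := Module.length_ne_top_iff.mpr hM
  have hex : ∀ P : Submodule A M, ∃ P' : Submodule A M, P' ≤ P ∧ (P ≠ ⊥ → P' ⋖ P) := by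
    intro P
    by_cases hP : P = ⊥
    · exact ⟨P, le_rfl, fun h => absurd hP h⟩
    · obtain ⟨P', -, h⟩ := exists_le_covBy_of_lt (bot_lt_iff_ne_bot.mpr hP)
      exact ⟨P', h.le, fun _ => h⟩
  choose next hle hcov using hex
  let C : ℕ → Submodule A M := fun j => next^[j] ⊤
  have hstep : ∀ j, C (j + 1) = next (C j) := fun j => Function.iterate_succ_apply' next j ⊤
  have key : ∀ j : ℕ, (j : ℕ∞) ≤ Module.length A M → Module.length A (M ⧸ C j) = j := by
    intro j
    induction j with
    | zero =>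
      intro _
      haveI : Subsingleton (M ⧸ C 0) := Submodule.Quotient.subsingleton_iff.mpr (by rfl)
      simp [Module.length_eq_zero_iff]
    | succ j ih =>
      intro hj
      have hj' := ih (le_trans (by exact_mod_cast Nat.le_succ j) hj)
      have hne : C j ≠ ⊥ := fun h => by
        rw [(Submodule.quotEquivOfEqBot _ h).length_eq] at hj'
        rw [hj'] at hj
        exact absurd (Nat.cast_le.mp hj) (by omega)
      have hc : C (j + 1) ⋖ C j := (hstep j).symm ▸ hcov _ hne
      haveI : IsSimpleModule A (↥(C j) ⧸ Submodule.comap (C j).subtype (C (j + 1))) :=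
        (covBy_iff_quot_is_simple hc.le).mp hc
      let g : (M ⧸ C (j + 1)) →ₗ[A] M ⧸ C j := Submodule.factor hc.le
      let f : (↥(C j) ⧸ Submodule.comap (C j).subtype (C (j + 1))) →ₗ[A] M ⧸ C (j + 1) :=
        Submodule.mapQ _ _ (C j).subtype le_rfl
      have hf : Function.Injective f := by
        rw [← LinearMap.ker_eq_bot, eq_bot_iff]
        intro z hz
        obtain ⟨z, rfl⟩ := Submodule.Quotient.mk_surjective _ z
        rw [LinearMap.mem_ker, Submodule.mapQ_apply, Submodule.Quotient.mk_eq_zero] at hz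
        exact (Submodule.Quotient.mk_eq_zero _).mpr hz
      have hfg : Function.Exact f g := by
        intro z
        obtain ⟨z, rfl⟩ := Submodule.Quotient.mk_surjective _ z
        constructor
        · intro hz
          exact ⟨Submodule.Quotient.mk ⟨z, (Submodule.Quotient.mk_eq_zero _).mp hz⟩, rfl⟩
        · rintro ⟨w, hw⟩
          obtain ⟨w, rfl⟩ := Submodule.Quotient.mk_surjective _ w
          rw [← hw]
          exact (Submodule.Quotient.mk_eq_zero _).mpr w.2
      rw [Module.length_eq_add_of_exact f g hf (Submodule.factor_surjective hc.le) hfg, hj',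
        Module.length_eq_one_iff.mpr ‹_›]
      push_cast
      ring
  refine ⟨C, fun j => (hstep j).le.trans (hle _), fun j hj => key j (le_of_le_of_eq (Nat.cast_le.mpr hj) (ENat.coe_toNat hfin)), ?_, rfl⟩
  have h := key _ (ENat.coe_toNat hfin).le
  rw [ENat.coe_toNat hfin] at h
  have h2 := Module.length_eq_add_of_exact (C (Module.length A M).toNat).subtype
    (C (Module.length A M).toNat).mkQ (Submodule.injective_subtype _) (Submodule.mkQ_surjective _)
    (LinearMap.exact_subtype_mkQ _)
  rw [h] at h2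
  have h0 : Module.length A (C (Module.length A M).toNat) = 0 :=
    (WithTop.add_right_cancel hfin ((zero_add _).trans h2)).symm
  exact Submodule.subsingleton_iff_eq_bot.mp (Module.length_eq_zero_iff.mp h0)

/-- Modules of length one over a local ring are isomorphic. -/
theorem equiv_of_length_one [IsLocalRing A] {M' : Type v} [AddCommGroup M'] [Module A M']
    (h : Module.length A M = 1) (h' : Module.length A M' = 1) : Nonempty (M ≃ₗ[A] M') := by
  obtain ⟨m, hm, ⟨e⟩⟩ := isSimpleModule_iff_quot_maximal.mp (Module.length_eq_one_iff.mp h)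
  obtain ⟨m', hm', ⟨e'⟩⟩ := isSimpleModule_iff_quot_maximal.mp (Module.length_eq_one_iff.mp h')
  exact ⟨e.trans ((Submodule.quotEquivOfEq _ _
    ((IsLocalRing.eq_maximalIdeal hm).trans (IsLocalRing.eq_maximalIdeal hm').symm)).trans e'.symm)⟩

/-- A module of finite length over a local ring is killed by a power of the maximal ideal. -/
theorem exists_pow_smul_eq_zero [IsLocalRing A] (hM : IsFiniteLength A M) :
    ∃ k, ∀ a ∈ IsLocalRing.maximalIdeal A ^ k, ∀ v : M, a • v = 0 := by
  obtain ⟨hN, hA⟩ := isFiniteLength_iff_isNoetherian_isArtinian.mp hM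
  obtain ⟨k, hk⟩ := IsArtinian.monotone_stabilizes
    ⟨fun k => OrderDual.toDual ((IsLocalRing.maximalIdeal A ^ k) • (⊤ : Submodule A M)),
      fun i j hij => Submodule.smul_mono_left (Ideal.pow_le_pow_right hij)⟩
  have hk1 : (IsLocalRing.maximalIdeal A ^ k) • (⊤ : Submodule A M) =
      (IsLocalRing.maximalIdeal A ^ (k + 1)) • (⊤ : Submodule A M) := hk (k + 1) k.le_succ
  have h0 : (IsLocalRing.maximalIdeal A ^ k) • (⊤ : Submodule A M) = ⊥ := by
    refine Submodule.eq_bot_of_le_smul_of_le_jacobson_bot (IsLocalRing.maximalIdeal A) _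
      (IsNoetherian.noetherian _) ?_ (IsLocalRing.maximalIdeal_le_jacobson _)
    rw [← Submodule.mul_smul, ← pow_succ', ← hk1]
  exact ⟨k, fun a ha v => by
    rw [← Submodule.mem_bot A, ← h0]
    exact Submodule.smul_mem_smul ha trivial⟩

end Algebra

variable {X : Scheme.{u}}

/-- The stalk map as a linear map. -/
abbrev sl {F G : X.Modules} (φ : F ⟶ G) (x : X) :
    F.presheaf.stalk x →ₗ[X.presheaf.stalk x] G.presheaf.stalk x := ((KDev.st x).map φ).hom

theorem sl_comp {F G H : X.Modules} (φ : F ⟶ G) (ψ : G ⟶ H) (x : X) :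
    sl (φ ≫ ψ) x = (sl ψ x).comp (sl φ x) :=
  congrArg ModuleCat.Hom.hom ((KDev.st x).map_comp φ ψ)

theorem sl_injective {F G : X.Modules} (φ : F ⟶ G) [Mono φ] (x : X) : Function.Injective (sl φ x) :=
  (ModuleCat.mono_iff_injective ((KDev.st x).map φ)).mp ((KDev.st x).map_mono φ)

theorem sl_surjective {F G : X.Modules} (φ : F ⟶ G) [Epi φ] (x : X) : Function.Surjective (sl φ x) :=
  (ModuleCat.epi_iff_surjective ((KDev.st x).map φ)).mp ((KDev.st x).map_epi φ)

section Sky

open H06Mod

variable {x : X} {N : Type u} [AddCommGroup N] [Module (X.presheaf.stalk x) N]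
  {N' : Type u} [AddCommGroup N'] [Module (X.presheaf.stalk x) N']

/-- The linear map on the stalk of a map to a skyscraper. -/
def stLin {F : X.Modules} (φ : F ⟶ sky x N) : F.presheaf.stalk x →ₗ[X.presheaf.stalk x] N where
  toFun := stalkOfHom φ
  map_add' := map_add _
  map_smul' := stalkOfHom_smul φ

theorem stLin_comp {F G : X.Modules} (g : G ⟶ F) (φ : F ⟶ sky x N) :
    stLin (g ≫ φ) = (stLin φ).comp (sl g x) := by
  ext a
  obtain ⟨U, h, a, rfl⟩ := G.presheaf.exists_germ_eq a
  show stalkOfHom (g ≫ φ) (G.presheaf.germ U x h a) = stalkOfHom φ ((KDev.st x).map g (G.presheaf.germ U x h a))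
  rw [stalkOfHom_germ, DerSch.stalkFunctor_map_germ, stalkOfHom_germ]
  rfl

theorem stLin_homOfStalk {F : X.Modules} (q : F.presheaf.stalk x →ₗ[X.presheaf.stalk x] N) :
    stLin (homOfStalk q) = q := by
  ext a
  obtain ⟨U, h, a, rfl⟩ := F.presheaf.exists_germ_eq a
  show stalkOfHom (homOfStalk q) (F.presheaf.germ U x h a) = q (F.presheaf.germ U x h a)
  rw [stalkOfHom_germ, skyEval_homOfStalk]

theorem sky_hom_ext {F : X.Modules} {φ ψ : F ⟶ sky x N} (h : stLin φ = stLin ψ) : φ = ψ := by
  apply Scheme.Modules.hom_ext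
  intro U
  ext a
  refine skyEval_ext x N fun hx => ?_
  rw [← stalkOfHom_germ φ U hx a, ← stalkOfHom_germ ψ U hx a]
  exact LinearMap.congr_fun h _

theorem injective_stLin_id : Function.Injective (stLin (𝟙 (sky x N))) := by
  rw [← LinearMap.ker_eq_bot, eq_bot_iff]
  intro a ha
  obtain ⟨U, h, a, rfl⟩ := (sky x N).presheaf.exists_germ_eq a
  have h1 : skyEval x N U h a = 0 := (stalkOfHom_germ (𝟙 (sky x N)) U h a).symm.trans ha
  have h2 : a = 0 := skyEval_ext x N fun _ => h1.trans (map_zero _).symm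
  rw [Submodule.mem_bot, h2, map_zero]

theorem stLin_injective {F : X.Modules} (φ : F ⟶ sky x N) [Mono φ] : Function.Injective (stLin φ) := by
  rw [← Category.comp_id φ, stLin_comp, LinearMap.coe_comp]
  exact injective_stLin_id.comp (sl_injective φ x)

theorem support_sky {y : X} (hy : y ∈ CohB1.support (sky x N)) : x ⤳ y := by
  by_contra hn
  refine hy ⟨fun a b => ?_⟩
  obtain ⟨O, hO, hyO, hxO⟩ := not_specializes_iff_exists_open.1 hn
  have key : ∀ c : (sky x N).presheaf.stalk y, c = 0 := by
    intro c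
    obtain ⟨U, hU, c, rfl⟩ := (sky x N).presheaf.exists_germ_eq c
    let W : X.Opens := U ⊓ ⟨O, hO⟩
    rw [← (sky x N).presheaf.germ_res_apply (homOfLE (inf_le_left : W ≤ U)) y ⟨hU, hyO⟩ c,
      show (sky x N).presheaf.map (homOfLE (inf_le_left : W ≤ U)).op c = 0 from
        skyEval_ext x N fun h => absurd h.2 hxO, map_zero]
  rw [key a, key b]

/-- The image of a module in a skyscraper. -/
def img {F : X.Modules} (q : F.presheaf.stalk x →ₗ[X.presheaf.stalk x] N) : X.Modules :=
  Abelian.coimage (homOfStalk q)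

/-- The projection to the image. -/
def imgπ {F : X.Modules} (q : F.presheaf.stalk x →ₗ[X.presheaf.stalk x] N) : F ⟶ img q :=
  Abelian.coimage.π (homOfStalk q)

/-- The inclusion of the image. -/
def imgι {F : X.Modules} (q : F.presheaf.stalk x →ₗ[X.presheaf.stalk x] N) : img q ⟶ sky x N :=
  Abelian.factorThruCoimage (homOfStalk q)

instance {F : X.Modules} (q : F.presheaf.stalk x →ₗ[X.presheaf.stalk x] N) : Mono (imgι q) :=
  inferInstanceAs (Mono (Abelian.factorThruCoimage (homOfStalk q)))

instance {F : X.Modules} (q : F.presheaf.stalk x →ₗ[X.presheaf.stalk x] N) : Epi (imgπ q) :=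
  inferInstanceAs (Epi (Abelian.coimage.π (homOfStalk q)))

theorem imgπ_ι {F : X.Modules} (q : F.presheaf.stalk x →ₗ[X.presheaf.stalk x] N) :
    imgπ q ≫ imgι q = homOfStalk q :=
  Abelian.coimage.fac _

variable {F : X.Modules} (q : F.presheaf.stalk x →ₗ[X.presheaf.stalk x] N)

theorem stLin_imgι : (stLin (imgι q)).comp (sl (imgπ q) x) = q := by
  rw [← stLin_comp, imgπ_ι, stLin_homOfStalk]

theorem isCoh_img [IsLocallyNoetherian X] (hF : Coh.IsCoh F) {k : ℕ}
    (hN : ∀ a ∈ IsLocalRing.maximalIdeal (X.presheaf.stalk x) ^ k, ∀ v : N, a • v = 0) : Coh.IsCoh (img q) :=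
  H10Coh.isCoh_cokernel (kernel.ι (homOfStalk q))
    (@H10Coh.isQuasicoherent_kernel _ _ _ (homOfStalk q) hF.1 (H17.Primary.isQCoh_sky x N k hN)) hF

theorem support_img {y : X} (hy : y ∈ CohB1.support (img q)) : x ⤳ y ∧ y ∈ CohB1.support F :=
  ⟨support_sky (LeadDev.support_subset_of_mono (imgι q) hy), LeadDev.support_subset_of_epi (imgπ q) hy⟩

/-- The stalk of the image of a surjection. -/
def imgEquiv (hq : Function.Surjective q) : (img q).presheaf.stalk x ≃ₗ[X.presheaf.stalk x] N :=
  LinearEquiv.ofBijective (stLin (imgι q)) ⟨stLin_injective _, fun v => by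
    obtain ⟨a, rfl⟩ := hq v
    exact ⟨sl (imgπ q) x a, LinearMap.congr_fun (stLin_imgι q) a⟩⟩

theorem exists_imgMap (q' : F.presheaf.stalk x →ₗ[X.presheaf.stalk x] N')
    (π : N →ₗ[X.presheaf.stalk x] N') (h : π.comp q = q') :
    ∃ g : img q ⟶ img q', Epi g ∧ imgπ q ≫ g = imgπ q' := by
  let π' : sky x N ⟶ sky x N' := homOfStalk (π.comp (stLin (𝟙 (sky x N))))
  have hπ : homOfStalk q ≫ π' = homOfStalk q' := sky_hom_ext (by
    rw [stLin_comp, stLin_homOfStalk, stLin_homOfStalk, LinearMap.comp_assoc, ← stLin_comp, Category.comp_id,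
      stLin_homOfStalk, h])
  have hk : kernel.ι (homOfStalk q) ≫ imgπ q' = 0 := by
    rw [← cancel_mono (imgι q'), Category.assoc, imgπ_ι, zero_comp, ← hπ, kernel.condition_assoc, zero_comp]
  refine ⟨cokernel.desc (kernel.ι (homOfStalk q)) (imgπ q') hk, ?_, cokernel.π_desc _ _ _⟩
  exact epi_of_epi_fac (cokernel.π_desc (kernel.ι (homOfStalk q)) (imgπ q') hk)

end Sky

end Groth.Agent.H3Cyc.KSky
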