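import Groth.Agent.H3Cyc.TopChern
import Groth.Agent.H3Cyc.KSky
import Groth.Agent.H3CAlg.ChiPull
import Groth.Agent.H3CAlg.ChiMain
import Mathlib

/-!
# Products of first Chern classes capped with the cycle of a coherent module
-/

set_option autoImplicit false
set_option linter.style.haveILetI false
set_option linter.unusedSectionVars false
set_option backward.isDefEq.respectTransparency.types false
universe u

open CategoryTheory CategoryTheory.Limits AlgebraicGeometry IsLocalRing Opposite RingTheory.Sequence TensorProduct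
open Groth.Agent.H11Tilde (IsGen)
open Groth.Agent.H3Cyc.Tot
open Groth.Agent.H3Cyc.SplitChern (sg sg_congr)
open scoped Pointwise

noncomputable section

namespace Groth.Agent.H3Cyc.TopChern

variable {X : Scheme.{u}}

/-- Near `x` the function `α` is `c` times the cycle of the top dimensional part of `F`. -/
def FundF (δ : X → ℤ) (k : ℤ) (α : X → ℤ) (c : ℤ) (F : X.Modules) (x : X) : Prop :=
  ∀ ξ, ξ ⤳ x → α ξ = c * Cyc.sheafFun δ k F ξ ∧ (Nontrivial (F.presheaf.stalk ξ) → δ ξ ≤ k)

/-- Any `q` generators of the ideal form a regular sequence on the module. -/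
def RegGen {R : Type u} [CommRing R] (I : Ideal R) (M : Type u) [AddCommGroup M] [Module R M] (q : ℕ) : Prop :=
  ∀ g : Fin q → R, Ideal.span (Set.range g) = I → IsWeaklyRegular M (List.ofFn g)

/-- A regular element stays regular at generizations. -/
theorem smulRegular_specializes (F : X.Modules) (hF : Coh.IsQCoh F) {x z : X} (h : z ⤳ x) {a : X.presheaf.stalk x}
    (ha : IsSMulRegular (F.presheaf.stalk x) a) :
    IsSMulRegular (F.presheaf.stalk z) (X.presheaf.stalkSpecializes h a) := by
  refine (isSMulRegular_iff_right_eq_zero_of_smul).mpr fun b hb => ?_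
  obtain ⟨U, hU, hxU, -⟩ := exists_isAffineOpen_mem_and_subset (X := X) (x := x) (U := ⊤) trivial
  have hzU := h.mem_open U.2 hxU
  letI := TopCat.Presheaf.algebra_section_stalk X.presheaf (⟨x, hxU⟩ : U)
  letI := TopCat.Presheaf.algebra_section_stalk X.presheaf (⟨z, hzU⟩ : U)
  haveI := hU.isLocalization_stalk ⟨x, hxU⟩
  haveI := hU.isLocalization_stalk ⟨z, hzU⟩
  letI := Module.compHom (F.presheaf.stalk z) (algebraMap Γ(X, U) (X.presheaf.stalk z))
  haveI : IsScalarTower Γ(X, U) (X.presheaf.stalk z) (F.presheaf.stalk z) :=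
    IsScalarTower.of_algebraMap_smul fun _ _ => rfl
  haveI := Groth.Agent.H29Fitt.isLocalizedModule_germLin F hF hU (⟨z, hzU⟩ : U)
  let g := Groth.Agent.H29Fitt.germLin F (⟨z, hzU⟩ : U)
  have hg : ∀ σ, g σ = F.presheaf.germ U z hzU σ := fun σ => rfl
  obtain ⟨⟨σ, t⟩, ht⟩ := IsLocalizedModule.surj (hU.primeIdealOf ⟨z, hzU⟩).asIdeal.primeCompl g b
  obtain ⟨⟨r, s⟩, hrs⟩ := IsLocalization.surj (hU.primeIdealOf ⟨x, hxU⟩).asIdeal.primeCompl a
  have hspec : ∀ c : Γ(X, U), X.presheaf.stalkSpecializes h (X.presheaf.germ U x hxU c) = X.presheaf.germ U z hzU c :=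
    fun c => TopCat.Presheaf.germ_stalkSpecializes_apply X.presheaf (U := U) hxU h c
  have h1 : g (r • σ) = 0 := by
    rw [map_smul, ← ht, Submonoid.smul_def]
    show X.presheaf.germ U z hzU r • X.presheaf.germ U z hzU (t : Γ(X, U)) • b = 0
    rw [← hspec r, show X.presheaf.germ U x hxU r = a * X.presheaf.germ U x hxU (s : Γ(X, U)) from hrs.symm, map_mul,
      smul_smul, show ∀ A B C : X.presheaf.stalk z, A * B * C = B * C * A from fun A B C => by ring, mul_smul, hb,
      smul_zero]
  obtain ⟨t', ht'⟩ := (IsLocalizedModule.eq_zero_iff (hU.primeIdealOf ⟨z, hzU⟩).asIdeal.primeCompl g).mp h1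
  have h2 : F.presheaf.germ U x hxU ((t' : Γ(X, U)) • σ) = 0 := by
    have h3 : X.presheaf.germ U x hxU r • F.presheaf.germ U x hxU ((t' : Γ(X, U)) • σ) = 0 := by
      rw [← Mero.germ_smul, smul_comm]
      exact (congrArg (F.presheaf.germ U x hxU) ht').trans (map_zero _)
    rw [show X.presheaf.germ U x hxU r = a * X.presheaf.germ U x hxU (s : Γ(X, U)) from hrs.symm, mul_smul] at h3
    exact ((IsLocalization.map_units (X.presheaf.stalk x) s).smul_eq_zero).mp
      ((isSMulRegular_iff_right_eq_zero_of_smul).mp ha _ h3)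
  have h4 : g ((t' : Γ(X, U)) • σ) = 0 := by
    rw [hg, ← TopCat.Presheaf.germ_stalkSpecializes_apply F.presheaf (U := U) hxU h, h2, map_zero]
  rw [map_smul, ← ht, Submonoid.smul_def] at h4
  have hu' := (IsLocalization.map_units (X.presheaf.stalk z) t')
  have hu := (IsLocalization.map_units (X.presheaf.stalk z) t)
  exact hu.smul_eq_zero.mp (hu'.smul_eq_zero.mp h4)

/-- At a generic point of the support a regular element is a unit. -/
theorem residue_ne_zero_of_regular [IsLocallyNoetherian X] (F : X.Modules) (hF : Coh.IsCoh F) {z : X}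
    (hgen : ∀ w : X, w ⤳ z → Nontrivial (F.presheaf.stalk w) → w = z) [Nontrivial (F.presheaf.stalk z)]
    {a : X.presheaf.stalk z} (ha : IsSMulRegular (F.presheaf.stalk z) a) :
    IsLocalRing.residue (X.presheaf.stalk z) a ≠ 0 := by
  intro h0
  rw [IsLocalRing.residue_eq_zero_iff] at h0
  have hlen := (H22Alg.CohSupport.length_stalk_lt_top F hF z fun w hw hwz => hgen w hwz hw).ne
  obtain ⟨n, hn⟩ := KSky.exists_pow_smul_eq_zero (Module.length_ne_top_iff.mp hlen)
  obtain ⟨v, hv⟩ := exists_ne (0 : F.presheaf.stalk z)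
  exact hv ((isSMulRegular_iff_right_eq_zero_of_smul).mp (ha.pow n) v (hn _ (Ideal.pow_mem_pow h0 n) v))

section pull

variable {D : Scheme.{u}} (i : D ⟶ X) [IsClosedImmersion i] (F : X.Modules) (d : D)

theorem length_pullback_closed :
    Module.length (D.presheaf.stalk d) (((Scheme.Modules.pullback i).obj F).presheaf.stalk d) =
      Module.length (X.presheaf.stalk (i d))
        (F.presheaf.stalk (i d) ⧸
          (RingHom.ker (i.stalkMap d).hom • (⊤ : Submodule (X.presheaf.stalk (i d)) (F.presheaf.stalk (i d))))) := by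
  letI := H06Mod.stalkAlgebra i d
  have hs : Function.Surjective (algebraMap (X.presheaf.stalk (i.base d)) (D.presheaf.stalk d)) :=
    i.stalkMap_surjective d
  rw [← (H06Mod.pullStalkEquiv i F d).length_eq, ← Module.length_eq_of_surjective (S := X.presheaf.stalk (i.base d))
    (R := D.presheaf.stalk d) hs]
  exact ((TensorProduct.congr (Ideal.quotientKerAlgEquivOfSurjective
    (f := Algebra.ofId (X.presheaf.stalk (i.base d)) (D.presheaf.stalk d)) hs).symm.toLinearEquiv
      (LinearEquiv.refl _ _)).trans (TensorProduct.quotTensorEquivQuotSMul _ _)).length_eq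

/-- Regular sequences transfer to the zero scheme of a regular element. -/
theorem regGen_pullback {a : X.presheaf.stalk (i d)} (hker : RingHom.ker (i.stalkMap d).hom = Ideal.span {a})
    {I : Ideal (X.presheaf.stalk (i d))} (haI : a ∈ I) {q : ℕ} (h : RegGen I (F.presheaf.stalk (i d)) (q + 1)) :
    RegGen (I.map (i.stalkMap d).hom) (((Scheme.Modules.pullback i).obj F).presheaf.stalk d) q := by
  letI := H06Mod.stalkAlgebra i d
  have hs : Function.Surjective (algebraMap (X.presheaf.stalk (i.base d)) (D.presheaf.stalk d)) :=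
    i.stalkMap_surjective d
  intro g'' hg''
  choose g hg using fun j => hs (g'' j)
  have hI : Ideal.span (Set.range (Fin.cons a g : Fin (q + 1) → X.presheaf.stalk (i d))) = I := by
    have e1 : I = (I.map (i.stalkMap d).hom).comap (i.stalkMap d).hom := by
      rw [Ideal.comap_map_of_surjective _ (i.stalkMap_surjective d), sup_eq_left.mpr]
      rw [← RingHom.ker_eq_comap_bot, hker, Ideal.span_singleton_le_iff_mem]
      exact haI
    rw [e1, ← hg'', show Ideal.span (Set.range g'') = (Ideal.span (Set.range g)).map (i.stalkMap d).hom by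
      rw [Ideal.map_span, ← Set.range_comp]
      exact congrArg Ideal.span (congrArg Set.range (funext hg).symm),
      Ideal.comap_map_of_surjective _ (i.stalkMap_surjective d), ← RingHom.ker_eq_comap_bot, hker, Fin.range_cons,
      Ideal.span_insert, sup_comm]
  have h1 := h _ hI
  rw [List.ofFn_succ] at h1
  simp only [Fin.cons_zero, Fin.cons_succ] at h1
  obtain ⟨-, h2⟩ := (isWeaklyRegular_cons_iff _ _ _).mp h1
  let e : QuotSMulTop a (F.presheaf.stalk (i.base d)) ≃ₗ[X.presheaf.stalk (i.base d)]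
      D.presheaf.stalk d ⊗[X.presheaf.stalk (i.base d)] F.presheaf.stalk (i.base d) :=
    (Submodule.quotEquivOfEq _ _ (by
      rw [← Submodule.ideal_span_singleton_smul a ⊤, ← hker]
      rfl)).trans
      ((TensorProduct.congr (Ideal.quotientKerAlgEquivOfSurjective
        (f := Algebra.ofId (X.presheaf.stalk (i.base d)) (D.presheaf.stalk d)) hs).symm.toLinearEquiv
          (LinearEquiv.refl _ _)).trans (TensorProduct.quotTensorEquivQuotSMul _ _)).symm
  rw [← (H06Mod.pullStalkEquiv i F d).isWeaklyRegular_congr]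
  have h3 := (isWeaklyRegular_map_algebraMap_iff (D.presheaf.stalk d)
    (D.presheaf.stalk d ⊗[X.presheaf.stalk (i.base d)] F.presheaf.stalk (i.base d)) (List.ofFn g)).mpr
      ((e.isWeaklyRegular_congr _).mp h2)
  rw [List.map_ofFn, show (algebraMap (X.presheaf.stalk (i.base d)) (D.presheaf.stalk d)) ∘ g = g'' from funext hg] at h3
  exact h3

/-- The quotient by the coordinates upstairs and on the zero scheme. -/
theorem length_quot_pullback {I : Ideal (X.presheaf.stalk (i d))} (hle : RingHom.ker (i.stalkMap d).hom ≤ I) :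
    Module.length (D.presheaf.stalk d) (((Scheme.Modules.pullback i).obj F).presheaf.stalk d ⧸
        (I.map (i.stalkMap d).hom • (⊤ : Submodule (D.presheaf.stalk d)
          (((Scheme.Modules.pullback i).obj F).presheaf.stalk d)))) =
      Module.length (X.presheaf.stalk (i d))
        (F.presheaf.stalk (i d) ⧸ (I • (⊤ : Submodule (X.presheaf.stalk (i d)) (F.presheaf.stalk (i d))))) := by
  letI := H06Mod.stalkAlgebra i d
  have hs : Function.Surjective (algebraMap (X.presheaf.stalk (i.base d)) (D.presheaf.stalk d)) :=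
    i.stalkMap_surjective d
  let J : Ideal (D.presheaf.stalk d) := I.map (algebraMap (X.presheaf.stalk (i.base d)) (D.presheaf.stalk d))
  let eQ := H06Mod.pullStalkEquiv i F d
  have h1 : Module.length (D.presheaf.stalk d) ((D.presheaf.stalk d ⧸ J) ⊗[D.presheaf.stalk d]
      (D.presheaf.stalk d ⊗[X.presheaf.stalk (i.base d)] F.presheaf.stalk (i.base d))) =
      Module.length (D.presheaf.stalk d) (((Scheme.Modules.pullback i).obj F).presheaf.stalk d ⧸
        (J • (⊤ : Submodule (D.presheaf.stalk d) _))) :=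
    ((TensorProduct.congr (LinearEquiv.refl _ _) eQ).trans (TensorProduct.quotTensorEquivQuotSMul _ _)).length_eq
  refine h1.symm.trans ?_
  rw [(TensorProduct.AlgebraTensorModule.cancelBaseChange (X.presheaf.stalk (i.base d)) (D.presheaf.stalk d)
    (D.presheaf.stalk d) (D.presheaf.stalk d ⧸ J) (F.presheaf.stalk (i.base d))).length_eq,
    ← Module.length_eq_of_surjective (S := X.presheaf.stalk (i.base d)) (R := D.presheaf.stalk d) hs]
  let f := (Ideal.Quotient.mkₐ (X.presheaf.stalk (i.base d)) J).comp (Algebra.ofId _ (D.presheaf.stalk d))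
  have hf : Function.Surjective f := Ideal.Quotient.mk_surjective.comp hs
  have hfk : RingHom.ker f = I := by
    show (RingHom.ker (Ideal.Quotient.mk J)).comap (algebraMap _ _) = _
    rw [Ideal.mk_ker, Ideal.comap_map_of_surjective _ hs, sup_eq_left]
    exact le_trans (le_of_eq (RingHom.ker_eq_comap_bot _).symm) hle
  exact ((TensorProduct.congr ((Ideal.quotientKerAlgEquivOfSurjective (f := f) hf).symm.trans
    (Ideal.quotientEquivAlgOfEq _ hfk)).toLinearEquiv (LinearEquiv.refl _ _)).trans
      (TensorProduct.quotTensorEquivQuotSMul _ _)).length_eq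

end pull

section step

variable {δ : X → ℤ} (hX : Cyc.IsSetup X δ) {L : X.Modules} (hL : PicF.IsInvertible L)
  {s : L.presheaf.obj (Opposite.op ⊤)} {D : Scheme.{u}} {i : D ⟶ X} [IsClosedImmersion i]
  (hD : Cyc.IsZeroSchemeOf i L s)

include hX hL hD in
theorem gysin_keyF (k : ℤ) (α : AlgebraicCycle X ℤ) (d : D) {V : X.Opens} {e : Γ(L, V)} (he : IsGen L e)
    (hxV : i d ∈ V) (a : X.presheaf.stalk (i d))
    (hsa : (L.presheaf.germ ⊤ (i d) trivial) s = a • L.presheaf.germ V (i d) hxV e)
    (c : ℤ) (F : X.Modules) (hF : Coh.IsCoh F)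
    (hrega : IsSMulRegular (F.presheaf.stalk (i d)) a) (hA : FundF δ (k + 1) ⇑α c F (i d))
    (w : (ξ : X) → Cyc.secFibre L ξ) :
    Cyc.c1CapFun δ L ⇑α (Cyc.gysinChoice L s w) (i d) =
        c * Cyc.sheafFun (fun d => δ (i d)) k ((Scheme.Modules.pullback i).obj F) d ∧
      (Nontrivial (((Scheme.Modules.pullback i).obj F).presheaf.stalk d) → δ (i d) ≤ k) := by
  haveI := hX.1
  classical
  let x : X := i d
  have htop : ∀ z, z ⤳ x → δ z = k + 1 → ∀ w : X, w ⤳ z → Nontrivial (F.presheaf.stalk w) → w = z :=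
    fun z hz hzd w hw hn => by
    by_contra hne
    have h1 := (hX.2.2 _ _ hw hne).1
    have h2 := (hA w (hw.trans hz)).2 hn
    omega
  have hres0 : ∀ z (hz : z ⤳ x), δ z = k + 1 → Nontrivial (F.presheaf.stalk z) →
      X.residue z (X.presheaf.stalkSpecializes hz a) ≠ 0 := fun z hz hzd hn =>
    haveI := hn
    residue_ne_zero_of_regular F hF (htop z hz hzd) (smulRegular_specializes F hF.1 hz hrega)
  have hsz : ∀ (z : X) (hz : z ⤳ x), (L.presheaf.germ ⊤ z trivial) s =
      X.presheaf.stalkSpecializes hz a • L.presheaf.germ V z (hz.mem_open V.2 hxV) e := fun z hz => by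
    rw [← TopCat.Presheaf.germ_stalkSpecializes_apply L.presheaf (U := ⊤) trivial hz s, hsa,
      C1Api.stalkSpecializes_smul, TopCat.Presheaf.germ_stalkSpecializes_apply]
  refine ⟨?_, fun hn => ?_⟩
  swap
  · have hn' : Nontrivial (F.presheaf.stalk x) := H3CAlg.ChiPull.nontrivial_of_pullback i F d hn
    by_contra hc
    have h2 := (hA x specializes_rfl).2 hn'
    have hd1 : δ x = k + 1 := by
      have h3 : ¬ δ x ≤ k := hc
      omega
    have h3 := hres0 x specializes_rfl hd1 hn'
    refine (Gysin.notMem_range_iff hD x).mpr ?_ ⟨d, rfl⟩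
    rw [hsz x specializes_rfl, Submodule.Quotient.mk_smul]
    exact (C1Api.residue_ne_zero_iff he hxV _).mpr h3
  have hsupp : ∀ ξ, α ξ * Cyc.secDivFun δ L ξ (Cyc.gysinChoice L s w ξ) x ≠ 0 →
      ∃ h : ξ ⤳ x, δ ξ = k + 1 ∧ Nontrivial (F.presheaf.stalk ξ) := fun ξ hne => by
    have h1 := C1Api.secDivFun_ne_zero (right_ne_zero_of_mul hne)
    have h0 := left_ne_zero_of_mul hne
    rw [(hA ξ h1).1] at h0
    exact ⟨h1, H3CAlg.ChiMain.nontrivial_of_sheafFun_ne_zero F δ (k + 1) (right_ne_zero_of_mul h0)⟩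
  by_cases hxd : δ x = k
  swap
  · rw [Cyc.sheafFun, if_neg hxd, mul_zero, Cyc.c1CapFun]
    refine finsum_eq_zero_of_forall_eq_zero fun ξ => ?_
    by_contra hne
    obtain ⟨-, h4, -⟩ := hsupp ξ hne
    refine right_ne_zero_of_mul hne ?_
    rw [Cyc.secDivFun, dif_neg fun hh => hxd (by have h3 := hh.2; show δ (i d) = k; omega)]
  rw [Cyc.sheafFun, if_pos hxd]
  have hd : ∀ z : X, z ⤳ x → z ≠ x → Nontrivial (F.presheaf.stalk z) → δ z = k + 1 := fun z hz hne hn => by
    have h1 := (hX.2.2 _ _ hz hne).1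
    have h2 := (hA z hz).2 hn
    omega
  have hgen : ∀ z : X, z ⤳ x → z ≠ x → Nontrivial (F.presheaf.stalk z) →
      ∀ w : X, w ⤳ z → Nontrivial (F.presheaf.stalk w) → w = z := fun z hz hne hn =>
    htop z hz (hd z hz hne hn)
  have hne : ∀ z (hz : z ⤳ x), z ≠ x → Nontrivial (F.presheaf.stalk z) → Cyc.specMap x z hz a ≠ 0 :=
    fun z hz hzx hn => hres0 z hz (hd z hz hzx hn) hn
  let T := (SheafLen.finite_gen F hF x hgen).toFinset
  have hT : ∀ z, z ∈ T ↔ z ⤳ x ∧ z ≠ x ∧ Nontrivial (F.presheaf.stalk z) :=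
    fun z => (SheafLen.finite_gen F hF x hgen).mem_toFinset
  have hlen : Module.length (D.presheaf.stalk d) (((Scheme.Modules.pullback i).obj F).presheaf.stalk d) =
      Module.length (X.presheaf.stalk x)
        (F.presheaf.stalk x ⧸ a • (⊤ : Submodule (X.presheaf.stalk x) (F.presheaf.stalk x))) := by
    have hker : RingHom.ker (i.stalkMap d).hom = Ideal.span {a} := by
      rw [← Gysin.ker_eq_span_gen hD he d rfl hxV a hsa]
      simp
    rw [length_pullback_closed i F d, hker]
    exact (Submodule.quotEquivOfEq _ _ (Submodule.ideal_span_singleton_smul a ⊤)).length_eq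
  rw [hlen, SheafLen.length_quot_smul_stalk F hF x hgen T hT a hrega hne, Cyc.c1CapFun, Finset.mul_sum,
    finsum_eq_sum_of_support_subset _ (s := T) ?_,
    ← Finset.sum_attach T (fun ξ => α ξ * Cyc.secDivFun δ L ξ (Cyc.gysinChoice L s w ξ) x)]
  · refine Finset.sum_congr rfl fun z _ => ?_
    obtain ⟨hz, hzx, hzn⟩ := (hT z.1).mp z.2
    have hzd := hd z.1 hz hzx hzn
    have hres : X.residue z.1 (X.presheaf.stalkSpecializes hz a) ≠ 0 := hne z.1 hz hzx hzn
    have hm : (Submodule.Quotient.mk ((L.presheaf.germ ⊤ z.1 trivial) s) : Cyc.secFibre L z.1) ≠ 0 := by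
      rw [hsz z.1 hz, Submodule.Quotient.mk_smul]
      exact (C1Api.residue_ne_zero_iff he (hz.mem_open V.2 hxV) _).mpr hres
    rw [(hA z.1 hz).1, Cyc.sheafFun, if_pos hzd, Cyc.gysinChoice, if_pos hm, hsz z.1 hz,
      Submodule.Quotient.mk_smul, C1Api.secDivFun_gen he δ (hz.mem_open V.2 hxV) (X.presheaf.stalkSpecializes hz a) hres hxV,
      Cyc.divFun, dif_pos ⟨hz, by have h3 : δ (i d) = k := hxd; show δ (i d) + 1 = δ z.1; omega⟩, mul_assoc]
    congr 2
    haveI := GenStalk.isPrime_ker x z.1 hz
    have hdimq : ringKrullDim (Cyc.LocQuot x z.1 hz) ≤ 1 := by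
      haveI : Module.Finite (X.presheaf.stalk x) (F.presheaf.stalk x) := H3CAlg.ChiStalk.finite_stalk F hF x
      refine le_trans ?_ (SheafLen.supportDim_le_one F hF x hgen)
      rw [ringKrullDim_quotient]
      refine Order.krullDim_le_of_strictMono (fun q => ⟨q.1, Module.mem_support_mono (?_ : _ ≤ q.1)
        ((SheafLen.mem_support_iff F hF x z.1 hz).mpr hzn)⟩) fun q q' hq => hq
      exact fun c hc => q.2 hc
    have h := FlatRat.ordAt_div' x z.1 hz hdimq a 1 (hne z.1 hz hzx hzn) (by rw [map_one]; exact one_ne_zero)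
    rw [map_one, div_one, map_one, Ring.ord_one, ENat.toNat_zero, Nat.cast_zero, sub_zero] at h
    exact h
  · intro ξ hξ
    obtain ⟨h1, h4, hn⟩ := hsupp ξ hξ
    refine Finset.mem_coe.mpr ((hT ξ).mpr ⟨h1, fun e => ?_, hn⟩)
    rw [e] at h4
    omega

include hX hL hD in
theorem fundF_gysin (k : ℤ) (α : AlgebraicCycle X ℤ) (d : D) {V : X.Opens} {e : Γ(L, V)} (he : IsGen L e)
    (hxV : i d ∈ V) (a : X.presheaf.stalk (i d))
    (hsa : (L.presheaf.germ ⊤ (i d) trivial) s = a • L.presheaf.germ V (i d) hxV e)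
    (c : ℤ) (F : X.Modules) (hF : Coh.IsCoh F)
    (hrega : IsSMulRegular (F.presheaf.stalk (i d)) a) (hA : FundF δ (k + 1) ⇑α c F (i d))
    (w : (ξ : X) → Cyc.secFibre L ξ) (γ : AlgebraicCycle D ℤ)
    (hγ : ∀ d, γ d = Cyc.c1CapFun δ L ⇑α (Cyc.gysinChoice L s w) (i d)) :
    FundF (fun d => δ (i d)) k ⇑γ c ((Scheme.Modules.pullback i).obj F) d := fun η hη => by
  have hz : i η ⤳ i d := hη.map i.continuous
  rw [hγ η]
  refine gysin_keyF hX hL hD k α η he (hz.mem_open V.2 hxV) (X.presheaf.stalkSpecializes hz a) ?_ c F hF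
    (smulRegular_specializes F hF.1 hz hrega) (fun ξ hξ => hA ξ (hξ.trans hz)) w
  rw [← TopCat.Presheaf.germ_stalkSpecializes_apply L.presheaf (U := ⊤) trivial hz s, hsa,
    C1Api.stalkSpecializes_smul, TopCat.Presheaf.germ_stalkSpecializes_apply]

end step

/-- The version for cycles of coherent modules. -/
theorem exists_topF : ∀ (q : ℕ) {X : Scheme.{u}} {δ : X → ℤ} (hX : Cyc.IsSetup X δ) {E : X.Modules}
    {ls : List X.Modules} (_ : Filt.SFilt E ls) (_ : ls.length = q) (s : E.presheaf.obj (op ⊤)) (k : ℤ)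
    (α : AlgebraicCycle X ℤ) (hα : α ∈ Cyc.Zk X δ k),
    ∃ (β : AlgebraicCycle X ℤ) (hβ : β ∈ Cyc.Zk X δ (k - q)),
      (∀ x, β x ≠ 0 → E.presheaf.germ ⊤ x trivial s ∈
        IsLocalRing.maximalIdeal (X.presheaf.stalk x) • (⊤ : Submodule (X.presheaf.stalk x) (E.presheaf.stalk x))) ∧
      sg β hβ = (ls.map (Filt.cc hX)).prod (sg α hα) ∧
      ∀ x, E.presheaf.germ ⊤ x trivial s ∈
          IsLocalRing.maximalIdeal (X.presheaf.stalk x) • (⊤ : Submodule (X.presheaf.stalk x) (E.presheaf.stalk x)) →
        δ x = k - q → ∀ (c₀ : ℤ) (F : X.Modules), Coh.IsCoh F → FundF δ k ⇑α c₀ F x →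
        RegGen (IDL s x) (F.presheaf.stalk x) q →
        β x = c₀ * ((Module.length (X.presheaf.stalk x)
          (F.presheaf.stalk x ⧸ (IDL s x • (⊤ : Submodule (X.presheaf.stalk x) (F.presheaf.stalk x))))).toNat : ℤ)
  | 0, X, δ, hX, E, ls, hF, hlen, s, k, α, hα => by
    obtain rfl := List.length_eq_zero_iff.mp hlen
    have hsub : ∀ x : X, Subsingleton (E.presheaf.stalk x) := fun x => by
      cases hF with
      | zero h => exact ModuleCat.subsingleton_of_isZero ((DerSch.stalkFunctor X x).map_isZero h)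
    refine ⟨α, by simpa using hα, fun x _ => ?_, ?_, fun x _ hxd c₀ F _ hA _ => ?_⟩
    · haveI := hsub x
      rw [Subsingleton.elim (E.presheaf.germ ⊤ x trivial s) 0]
      exact Submodule.zero_mem _
    · rw [List.map_nil, List.prod_nil]
      exact sg_congr _ _ (by simp) rfl
    · have h0 : IDL s x = ⊥ := by
        haveI := hsub x
        refine eq_bot_iff.mpr ?_
        rintro _ ⟨φ, rfl⟩
        rw [Subsingleton.elim (E.presheaf.germ ⊤ x trivial s) 0, map_zero]
        exact Submodule.zero_mem _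
      rw [(hA x specializes_rfl).1, Cyc.sheafFun, if_pos (by simpa using hxd), h0,
        (Submodule.quotEquivOfEqBot _ (Submodule.bot_smul _)).length_eq]
  | q + 1, X, δ, hX, E, ls, hF, hlen, s, k, α, hα => by
    cases hF with
    | zero h => simp at hlen
    | @cons M _ L ls a b w hex hL hM =>
      haveI := hX.1
      have hlen' : ls.length = q := by simpa using hlen
      let σ : L.presheaf.obj (op ⊤) := b.app ⊤ s
      obtain ⟨D, i, hi, hD⟩ := ZeroSch.exists_zeroScheme hL σ
      haveI := hi
      have hDs := GysinTot.isSetupD hX (i := i)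
      have hδi := Reduction.deltaCompat_immersion i δ
      let sD : ((Scheme.Modules.pullback i).obj E).presheaf.obj (op ⊤) := OmegaSh.pullSect i E ⊤ s
      let a' := (Scheme.Modules.pullback i).map a
      let b' := (Scheme.Modules.pullback i).map b
      have hex' := H22Alg.KModel.shortExact_pullback i hex (H22Alg.KPullLam.finLocFree_of_rank
        (H22Alg.PB.rank_one_of_isInvertible hL))
      have hgD : ∀ d : D, ((Scheme.Modules.pullback i).obj E).presheaf.germ ⊤ d trivial sD =
          H06Mod.pullStalk i E d (E.presheaf.germ ⊤ (i d) trivial s) := fun d =>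
        (H06Mod.pullStalk_germ i E d ⊤ trivial s).symm
      have hgσ : ∀ x : X, Filt.sl b x (E.presheaf.germ ⊤ x trivial s) = L.presheaf.germ ⊤ x trivial σ := fun x =>
        sl_germ b ⊤ x trivial s
      have hb0 : b'.app ⊤ sD = 0 := by
        refine TopCat.Presheaf.section_ext ⟨_, ((Scheme.Modules.pullback i).obj L).isSheaf⟩ ⊤ _ _ fun d _ => ?_
        obtain ⟨V, e, hV, he⟩ := H11Ample.exists_gen hL (i d)
        obtain ⟨c, hc⟩ := (he (i d) hV).2 (L.presheaf.germ ⊤ (i d) trivial σ)
        have hker := Gysin.ker_eq_span_gen hD he d rfl hV c hc.symm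
        have hc0 : i.stalkMap d c = 0 := by
          have : c ∈ RingHom.ker ((X.presheaf.stalkCongr (.of_eq (rfl : i d = i d))).hom ≫ i.stalkMap d).hom := by
            rw [hker]; exact Ideal.mem_span_singleton_self c
          simpa using this
        show ((Scheme.Modules.pullback i).obj L).presheaf.germ ⊤ d trivial (b'.app ⊤ sD) =
          ((Scheme.Modules.pullback i).obj L).presheaf.germ ⊤ d trivial 0
        rw [map_zero, show b'.app ⊤ sD = OmegaSh.pullSect i L ⊤ σ from (H17.PullSect.pullSect_natural i b ⊤ s).symm]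
        refine (H06Mod.pullStalk_germ i L d ⊤ trivial σ).symm.trans ?_
        show H06Mod.pullStalk i L d (L.presheaf.germ ⊤ (i d) trivial σ) = 0
        rw [← hc]
        refine (H06Mod.pullStalk_smul i L d c _).trans ?_
        rw [hc0, zero_smul]
      haveI := hex'.mono_f
      let φ := H29Fitt.homSec ((Scheme.Modules.pullback i).obj E) sD
      have hφ : φ ≫ b' = 0 := by
        refine Scheme.Modules.hom_ext _ _ fun U => ?_
        ext r
        show b'.app U (φ.app U r) = 0
        rw [H29Fitt.homSec_app, Scheme.Modules.Hom.app_smul, H11Tilde.app_map_apply, hb0, map_zero, smul_zero]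
      let s' : ((Scheme.Modules.pullback i).obj M).presheaf.obj (op ⊤) :=
        (hex'.exact.lift φ hφ).app ⊤ (show Γ(Coh.structureModule D, ⊤) from (1 : Γ(D, ⊤)))
      have hs' : a'.app ⊤ s' = sD := by
        show ((hex'.exact.lift φ hφ) ≫ a').app ⊤ _ = sD
        rw [show hex'.exact.lift φ hφ ≫ a' = φ from hex'.exact.lift_f φ hφ]
        refine (H29Fitt.homSec_app _ sD ⊤ _).trans ?_
        rw [show ((1 : Γ(D, ⊤)) : Γ(D, ⊤)) • _ = _ from one_smul _ _]
        exact congr($((congrArg _ (Subsingleton.elim _ (𝟙 _))).trans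
          (((Scheme.Modules.pullback i).obj E).presheaf.map_id _)) sD)
      have hidl' : ∀ d : D, IDL s' d = (IDL s (i d)).map (i.stalkMap d).hom := fun d => by
        obtain ⟨bX⟩ := SecIdeal.exists_basis (Filt.SFilt.cons a b w hex hL hM) (i d)
        have h1 := SecIdeal.idl_pullStalk i E d bX (E.presheaf.germ ⊤ (i d) trivial s)
        rw [← hgD d] at h1
        obtain ⟨V, e, hdV, he⟩ := H11Ample.exists_gen (H11Ample.isInvertible_pullback i hL) d
        have hT := hex'.map_of_exact (DerSch.stalkFunctor D d)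
        obtain ⟨m', ε, hm, hid⟩ := SecIdeal.idl_cons (Filt.sl a' d) (Filt.sl b' d) hT.moduleCat_injective_f
          hT.exact.moduleCat_range_eq_ker hT.moduleCat_surjective_g (SecIdeal.stalkEquiv he d hdV)
          (((Scheme.Modules.pullback i).obj E).presheaf.germ ⊤ d trivial sD)
        have hz : Filt.sl b' d (((Scheme.Modules.pullback i).obj E).presheaf.germ ⊤ d trivial sD) = 0 := by
          rw [sl_germ, hb0, map_zero]
        rw [hz, map_zero] at hm hid
        rw [zero_smul, add_zero] at hm
        rw [Ideal.span_singleton_eq_bot.mpr rfl, bot_sup_eq] at hid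
        have hm' : m' = ((Scheme.Modules.pullback i).obj M).presheaf.germ ⊤ d trivial s' :=
          hT.moduleCat_injective_f (hm.symm.trans ((congrArg _ hs'.symm).trans (sl_germ a' ⊤ d trivial s').symm))
        rw [hm'] at hid
        exact hid.symm.trans h1
      obtain ⟨γ, hγf, hγ⟩ := GysinTot.exists_gysin_cycle (s := σ) (i := i) hX hL (k - 1) α
        (by rwa [sub_add_cancel]) (Chow.sec hL) (Chow.sec_ne_zero hL)
      obtain ⟨β', hβ', hsupp, hcl, hcoef⟩ := exists_topF q hDs (hM.pullback i) (by simpa using hlen') s' (k - 1) γ hγ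
      have hk : k - 1 - (q : ℤ) = k - ((q + 1 : ℕ) : ℤ) := by push_cast; ring
      have hloc : ∀ x : X, E.presheaf.germ ⊤ x trivial s ∈
          IsLocalRing.maximalIdeal (X.presheaf.stalk x) • (⊤ : Submodule (X.presheaf.stalk x) (E.presheaf.stalk x)) →
          ∃ (V : X.Opens) (e : Γ(L, V)) (hV : x ∈ V) (c : X.presheaf.stalk x), IsGen L e ∧
            L.presheaf.germ ⊤ x trivial σ = c • L.presheaf.germ V x hV e ∧
            c ∈ IDL s x ∧ x ∈ Set.range i ∧ ∃ g : Fin q → X.presheaf.stalk x,
              IDL s x = Ideal.span {c} ⊔ Ideal.span (Set.range g) := fun x hx => by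
        obtain ⟨bX⟩ := SecIdeal.exists_basis (Filt.SFilt.cons a b w hex hL hM) x
        obtain ⟨bM⟩ := SecIdeal.exists_basis hM x
        obtain ⟨V, e, hV, he⟩ := H11Ample.exists_gen hL x
        have hT := hex.map_of_exact (DerSch.stalkFunctor X x)
        obtain ⟨m', ε, hm, hid⟩ := SecIdeal.idl_cons (Filt.sl a x) (Filt.sl b x) hT.moduleCat_injective_f
          hT.exact.moduleCat_range_eq_ker hT.moduleCat_surjective_g (SecIdeal.stalkEquiv he x hV)
          (E.presheaf.germ ⊤ x trivial s)
        rw [hgσ x] at hid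
        obtain ⟨c, hc⟩ := (he x hV).2 (L.presheaf.germ ⊤ x trivial σ)
        have hcc : SecIdeal.stalkEquiv he x hV (L.presheaf.germ ⊤ x trivial σ) = c := by
          rw [← hc]; exact SecIdeal.stalkEquiv_smul he x hV c
        rw [hcc] at hid
        have hcI : c ∈ IDL s x := by rw [IDL, hid]; exact Ideal.mem_sup_left (Ideal.mem_span_singleton_self c)
        refine ⟨V, e, hV, c, he, hc.symm, hcI, ?_, fun j => bM.repr m' (Fin.cast hlen'.symm j), ?_⟩
        · by_contra hn
          have h1 := (Gysin.notMem_range_iff hD x).mp hn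
          rw [← hc, Submodule.Quotient.mk_smul] at h1
          refine (C1Api.residue_ne_zero_iff he hV c).mp h1 ((IsLocalRing.residue_eq_zero_iff c).mpr ?_)
          exact (SecIdeal.mem_smul_top_iff bX _ _).mp hx hcI
        · refine hid.trans (congrArg _ ((SecIdeal.idl_eq_span bM m').trans (congrArg Ideal.span ?_)))
          exact ((finCongr hlen'.symm).surjective.range_comp fun l => bM.repr m' l).symm
      refine ⟨AlgebraicCycle.map i (fun d => δ (i d)) δ β',
        hk ▸ Chow.map_mem (δ := fun d => δ (i d)) i β' hβ', fun x hx => ?_, ?_, fun x hx hxd c₀ F hF hA hreg => ?_⟩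
      · by_cases hxr : x ∈ Set.range i
        swap
        · exact absurd (Gysin.map_immersion_eq_zero i δ β' x hxr) hx
        obtain ⟨d, rfl⟩ := hxr
        rw [Gysin.map_immersion_apply] at hx
        obtain ⟨bX⟩ := SecIdeal.exists_basis (Filt.SFilt.cons a b w hex hL hM) (i d)
        obtain ⟨bD⟩ := SecIdeal.exists_basis (hM.pullback i) d
        have h1 := (SecIdeal.mem_smul_top_iff bD _ _).mp (hsupp d hx)
        rw [SecIdeal.mem_smul_top_iff bX]
        refine le_trans ((Ideal.map_le_iff_le_comap).mp ((hidl' d).symm.le.trans h1)) ?_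
        exact IsLocalRing.le_maximalIdeal (Ideal.comap_ne_top _ (IsLocalRing.maximalIdeal.isMaximal _).ne_top)
      · refine Eq.trans (sg_congr _ (Chow.map_mem (δ := fun d => δ (i d)) i β' hβ') hk.symm rfl) ?_
        rw [← Push_sg i hDs hX hδi β' hβ', hcl, Push_prod i hDs hX hδi ls (invertible_of_sfilt hM), Push_sg i hDs hX hδi,
          map_gysin hX hL hD (k - 1) α (by rwa [sub_add_cancel]) _ (Chow.sec_ne_zero hL) γ hγf,
          show sg α (q := k - 1 + 1) (by rwa [sub_add_cancel]) = sg α hα from sg_congr _ hα (by ring) rfl,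
          List.map_cons, List.prod_cons]
        have hcom : Commute (Filt.cc hX L) (ls.map (Filt.cc hX)).prod := Commute.list_prod_right _ _ fun y hy => by
          obtain ⟨N, -, rfl⟩ := List.mem_map.mp hy
          exact Filt.cc_comm hX L N
        exact congr($(hcom.symm.eq) (sg α hα))
      · obtain ⟨V, e, hV, c, he, hc, hcI, ⟨d, rfl⟩, g, hg⟩ := hloc x hx
        obtain ⟨bX⟩ := SecIdeal.exists_basis (Filt.SFilt.cons a b w hex hL hM) (i d)
        obtain ⟨bD⟩ := SecIdeal.exists_basis (hM.pullback i) d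
        have hker : RingHom.ker (i.stalkMap d).hom = Ideal.span {c} := by
          rw [← Gysin.ker_eq_span_gen hD he d rfl hV c hc]; simp
        have hle : RingHom.ker (i.stalkMap d).hom ≤ IDL s (i d) := by
          rw [hker, Ideal.span_singleton_le_iff_mem]; exact hcI
        have hcreg : IsSMulRegular (F.presheaf.stalk (i d)) c := by
          have h1 := hreg (Fin.cons c g) (by rw [hg, Fin.range_cons, Ideal.span_insert])
          rw [List.ofFn_succ] at h1
          simp only [Fin.cons_zero, Fin.cons_succ] at h1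
          exact ((isWeaklyRegular_cons_iff _ _ _).mp h1).1
        have hmax : ((IDL s (i d)).map (i.stalkMap d).hom) ≤ IsLocalRing.maximalIdeal (D.presheaf.stalk d) :=
          (Ideal.map_mono ((SecIdeal.mem_smul_top_iff bX _ _).mp hx)).trans
            (IsLocalRing.map_maximalIdeal_of_surjective _ (i.stalkMap_surjective d)).le
        rw [Gysin.map_immersion_apply,
          hcoef d ((SecIdeal.mem_smul_top_iff bD _ _).mpr ((hidl' d).le.trans hmax))
            (show δ (i d) = k - 1 - (q : ℤ) by omega) c₀ _ (H3CAlg.ChiPull.isCoh_pullback i F hF)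
            (fundF_gysin hX hL hD (k - 1) α d he hV c hc c₀ F hF hcreg (by rwa [sub_add_cancel]) _ γ hγf)
            (by rw [hidl' d]; exact regGen_pullback i F d hker hcI hreg),
          hidl' d, length_quot_pullback i F d hle]

end Groth.Agent.H3Cyc.TopChern
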