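import Groth.Agent.H3Cyc.SymSplit
import Groth.Agent.H3Cyc.HomPull
import Groth.Agent.H3Cyc.TopChernF
import Groth.Agent.H10Inj.SheafExt.RelExt
import Groth.Agent.H29Ref.DualStalk
import Mathlib

/-!
# The tautological section over a vector bundle
-/

set_option autoImplicit false
set_option linter.style.haveILetI false
set_option linter.unusedSectionVars false
set_option backward.isDefEq.respectTransparency.types false
universe u

open CategoryTheory CategoryTheory.Limits AlgebraicGeometry Opposite TopologicalSpace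
open Groth.Agent Groth.Agent.H11Sym

noncomputable section

namespace Groth.Agent.H3Cyc.SymSection

theorem idl_congr {R : Type u} [CommRing R] {M N : Type u} [AddCommGroup M] [Module R M] [AddCommGroup N] [Module R N]
    (e : M ≃ₗ[R] N) (m : M) : SecIdeal.idl R (e m) = SecIdeal.idl R m :=
  le_antisymm (by rintro _ ⟨φ, rfl⟩; exact ⟨φ.comp e.toLinearMap, rfl⟩)
    (by rintro _ ⟨φ, rfl⟩; exact ⟨φ.comp e.symm.toLinearMap, congrArg φ (e.symm_apply_apply m)⟩)

theorem idl_functional {R : Type u} [CommRing R] {M : Type u} [AddCommGroup M] [Module R M] [Module.IsReflexive R M]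
    (θ : Module.Dual R M) : SecIdeal.idl R θ = LinearMap.range θ :=
  le_antisymm (by
    rintro _ ⟨ψ, rfl⟩
    obtain ⟨m, rfl⟩ := (Module.bijective_dual_eval R M).2 ψ
    exact ⟨m, rfl⟩) (by rintro _ ⟨m, rfl⟩; exact ⟨Module.Dual.eval R M m, rfl⟩)

variable {X : Scheme.{u}} (A : RelSpec.QCAlg X)

/-- The algebra as the direct image of the structure module of its spectrum. -/
theorem exists_toPush : ∃ ι : A.toModule ⟶ (Scheme.Modules.pushforward A.π).obj (Coh.structureModule A.spec),
    ∀ (U : X.Opens) (hU : IsAffineOpen U) (m : A.presheaf.obj (op U)),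
      A.gammaAff U hU (ι.app U m : Γ(A.spec, A.π ⁻¹ᵁ U)) = m := by
  haveI := H11RelSpec.isIso_gammaMap A
  have hstr : A.str ≫ inv A.gammaMap = A.π.c := by rw [IsIso.comp_inv_eq, A.π_c_gammaMap]
  refine ⟨⟨PresheafOfModules.homMk
    { app := fun U => AddCommGrpCat.ofHom ((inv A.gammaMap).app U).hom.toAddMonoidHom
      naturality := fun U V i => by
        ext m
        exact ConcreteCategory.congr_hom ((inv A.gammaMap).naturality i) m }
    fun U r m => ?_⟩, fun U hU m => ?_⟩
  · refine (map_mul ((inv A.gammaMap).app U).hom _ _).trans ?_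
    exact congrArg (fun z => z * _) (ConcreteCategory.congr_hom (NatTrans.congr_app hstr U) r)
  · rw [← A.gammaMap_app U hU]
    exact ConcreteCategory.congr_hom (NatTrans.congr_app (IsIso.inv_hom_id A.gammaMap) (op U)) m

variable {A} {Q E : X.Modules} (j : Q ⟶ A.toModule)

/-- The tautological section. -/
theorem exists_section (hE : FlatMod.IsFinLocFree E) (u : RefHull.dual E ⟶ Q) :
    ∃ σ : ((Scheme.Modules.pullback A.π).obj E).presheaf.obj (op ⊤),
      ∀ (U : X.Opens) (hU : IsAffineOpen U) (e : ℕ) (k : Module.Basis (Fin e) Γ(X, U) Γ(RefHull.dual E, U))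
        (x : Fin e → Γ(A.spec, A.π ⁻¹ᵁ U)), (∀ l, A.gammaAff U hU (x l) = japp j U (u.app U (k l))) →
        ∀ (v : A.spec) (hv : v ∈ A.π ⁻¹ᵁ U),
          TopChern.IDL σ v = Ideal.span (Set.range fun l => A.spec.presheaf.germ _ v hv (x l)) := by
  obtain ⟨ι, hι⟩ := exists_toPush A
  let D := RefHull.dual E
  have hD : FlatMod.IsFinLocFree D := H10Inj.SheafExt.isFinLocFree_dual hE
  let t : (Scheme.Modules.pullback A.π).obj D ⟶ Coh.structureModule A.spec :=
    ((Scheme.Modules.pullbackPushforwardAdjunction A.π).homEquiv D _).symm (u ≫ j ≫ ι)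
  haveI := H10Inj.SheafExt.isIso_bidualMap hE
  haveI := (H16Derived.KFlat.Stalk.isCoh_of_isFinLocFree hD).1
  haveI := (H16Derived.KFlat.Stalk.isCoh_of_isFinLocFree (H8Props.RelPC.isFinLocFree_structure X)).1
  obtain ⟨c, -⟩ := HomPull.exists_pullIso A.π (G := Coh.structureModule X) hD
  let Θ : RefHull.dual ((Scheme.Modules.pullback A.π).obj D) ≅ (Scheme.Modules.pullback A.π).obj E :=
    (RefFun.homFunctor _).mapIso (H16Derived.KFlat.Stalk.structurePullbackIso A.π).symm ≪≫ c.symm ≪≫
      (Scheme.Modules.pullback A.π).mapIso (asIso (RefHull.bidualMap E)).symm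
  refine ⟨Θ.hom.app ⊤ (RefHull.ofHom t ⊤), fun U hU e k x hx v hv => ?_⟩
  have hP : FlatMod.IsFinLocFree ((Scheme.Modules.pullback A.π).obj D) :=
    H16Derived.KFlat.Stalk.isFinLocFree_pullback A.π hD
  have hFP := H8Props.FinLocFree.isFP_of_isFinLocFree _ hP
  obtain ⟨n, ⟨bv⟩⟩ := H22Alg.KExists.stalk_free hP v
  haveI := Module.Free.of_basis bv
  haveI := Module.Finite.of_basis bv
  let eΘ : (RefHull.dual ((Scheme.Modules.pullback A.π).obj D)).presheaf.stalk v ≃ₗ[A.spec.presheaf.stalk v]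
      ((Scheme.Modules.pullback A.π).obj E).presheaf.stalk v :=
    LinearEquiv.ofBijective (RefHull.stalkMapₗ Θ.hom v) ((H29Ref.isIso_iff_bijective_stalk Θ.hom).mp inferInstance v)
  have h1 : TopChern.IDL (Θ.hom.app ⊤ (RefHull.ofHom t ⊤)) v = SecIdeal.idl (A.spec.presheaf.stalk v)
      (H29Ref.dualEquiv _ hFP v ((RefHull.dual ((Scheme.Modules.pullback A.π).obj D)).presheaf.germ ⊤ v trivial
        (RefHull.ofHom t ⊤))) := by
    rw [idl_congr, ← idl_congr eΘ]
    exact congrArg _ (RefHull.stalkMapₗ_germ Θ.hom (U := ⊤) v trivial _).symm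
  rw [h1, idl_functional]
  letI := TopCat.Presheaf.algebra_section_stalk X.presheaf (⟨A.π v, hv⟩ : U)
  haveI := hU.isLocalization_stalk ⟨A.π v, hv⟩
  letI := Module.compHom (D.presheaf.stalk (A.π v)) (algebraMap Γ(X, U) (X.presheaf.stalk (A.π v)))
  haveI : IsScalarTower Γ(X, U) (X.presheaf.stalk (A.π v)) (D.presheaf.stalk (A.π v)) :=
    IsScalarTower.of_algebraMap_smul fun _ _ => rfl
  haveI := H29Fitt.isLocalizedModule_germLin D (H8Props.FinLocFree.isQCoh_of_isFinLocFree D hD) hU (⟨A.π v, hv⟩ : U)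
  let b := k.ofIsLocalizedModule (X.presheaf.stalk (A.π v)) (hU.primeIdealOf ⟨A.π v, hv⟩).asIdeal.primeCompl
    (H29Fitt.germLin D (⟨A.π v, hv⟩ : U))
  letI := H06Mod.stalkAlgebra A.π v
  let B := (b.baseChange (A.spec.presheaf.stalk v)).map (H06Mod.pullStalkEquiv A.π D v)
  rw [LinearMap.range_eq_map, ← B.span_eq, Submodule.map_span, ← Set.range_comp]
  refine congrArg (Submodule.span _) (congrArg Set.range (funext fun l => ?_))
  rw [Function.comp_apply, Module.Basis.map_apply, Module.Basis.baseChange_apply, H29Ref.dualEquiv_apply,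
    RefHull.evalStalk_germ, RefHull.ofHom_apply]
  have h2 : b l = D.presheaf.germ U (A.π v) hv (k l) := k.ofIsLocalizedModule_apply _ _ _ l
  have h3 : H06Mod.pullStalkEquiv A.π D v (1 ⊗ₜ b l) =
      ((Scheme.Modules.pullback A.π).obj D).presheaf.germ (A.π ⁻¹ᵁ U) v hv (OmegaSh.pullSect A.π D U (k l)) := by
    refine (H06Mod.pullStalkLin_tmul A.π D v 1 (b l)).trans ?_
    rw [one_smul, h2]
    exact H06Mod.pullStalk_germ A.π D v U hv (k l)
  rw [h3, RefHull.stalkMapₗ_germ, LinearEquiv.symm_apply_eq]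
  have h4 : t.app (A.π ⁻¹ᵁ U) (OmegaSh.pullSect A.π D U (k l)) = x l := by
    rw [← H06Mod.homEquiv_app, Equiv.apply_symm_apply]
    haveI := H11RelSpec.isIso_gammaAff A U hU
    exact (ConcreteCategory.bijective_of_isIso (A.gammaAff U hU)).1 ((hι U hU _).trans (hx l).symm)
  rw [h4]
  exact H29Ref.germ_unit_eq_smul v hv (x l)

end Groth.Agent.H3Cyc.SymSection
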