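import Groth.Agent.H3Cyc.SplitChern
import Mathlib

/-!
# Chern caps after a flat base change of finite type which splits the bundle
-/

set_option autoImplicit false
set_option linter.style.haveILetI false
set_option linter.unusedSectionVars false
set_option backward.isDefEq.respectTransparency.types false
universe u

open CategoryTheory CategoryTheory.Limits AlgebraicGeometry
open Groth.Agent.H3Cyc.Tot

noncomputable section

namespace Groth.Agent.H3Cyc.SplitChern

open PBundle

/-- Chern caps become elementary symmetric functions after splitting, for any bundle of projective spaces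
with a surjection from a pullback. -/
theorem master_bundle_flat {X : Scheme.{u}} {δ : X → ℤ} (hX : Cyc.IsSetup X δ) {n : ℕ} {E : X.Modules}
    {P : Scheme.{u}} {p : P ⟶ X} {O1 : P.Modules} (hB : Bundle n p O1)
    (q : (Scheme.Modules.pullback p).obj E ⟶ O1) [Epi q] {δP : P → ℤ}
    (hPs : Cyc.IsSetup P δP) (hδ : Cyc.DeltaCompat p δP δ) {k : ℤ} {α : AlgebraicCycle X ℤ}
    (hα : α ∈ Cyc.Zk X δ k) {γ : Fin (n + 1 + 1) → AlgebraicCycle X ℤ} (hγ : Cyc.IsChernCap p δ δP O1 (n + 1) k α γ)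
    {Y : Scheme.{u}} (π : Y ⟶ X) [Flat π] [LocallyOfFiniteType π] {δY : Y → ℤ} (hY : Cyc.IsSetup Y δY)
    (hπ : Cyc.DeltaCompat π δY δ) {d : ℕ} (hrel : Cyc.HasRelDim π d) (hd : FlatRat.MaxDim π δY δ (d : ℤ))
    {ls : List Y.Modules} (hF : Filt.Filt ((Scheme.Modules.pullback π).obj E) ls) (hlen : ls.length = n + 1)
    (j : Fin (n + 1 + 1)) {q' : ℤ} (hq : q' = k - ((j : ℕ) : ℤ)) (hm : γ j ∈ Cyc.Zk X δ q') :
    Tot.Pull π hY hX hd (Pi.single q' (ChowOps.cl (γ j) hm)) =
      ESym.es (ls.map (Filt.cc hY)) (j : ℕ) (Tot.Pull π hY hX hd (Pi.single k (ChowOps.cl α hα))) := by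
  haveI := hB.flat
  haveI := hB.isProper
  let P' := pullback p π
  have hsq : IsPullback (pullback.fst p π) (pullback.snd p π) p π := IsPullback.of_hasPullback _ _
  haveI : Flat (pullback.fst p π) := MorphismProperty.pullback_fst _ _ inferInstance
  haveI : IsProper (pullback.snd p π) := MorphismProperty.pullback_snd _ _ inferInstance
  obtain ⟨δP', hp'⟩ := SpFun.exists_deltaCompat (pullback.snd p π) δY
  have hP' := isSetup_of_locallyOfFiniteType _ hY hp'
  haveI : LocallyOfFiniteType (pullback.fst p π) := MorphismProperty.pullback_fst _ _ inferInstance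
  have hg : Cyc.DeltaCompat (pullback.fst p π) δP' δP := BCPush.deltaCompat_cancel _ p hδ (by
    rw [hsq.w]; exact BCPush.deltaCompat_comp _ π hp' hπ)
  have hc' : FlatRat.MaxDim (pullback.fst p π) δP' δP (d : ℤ) :=
    FlatRat.maxDim_of_hasRelDim _ (hasRelDim_of_isPullback hsq.flip hrel) hg
  let q'' : (Scheme.Modules.pullback (pullback.snd p π)).obj ((Scheme.Modules.pullback π).obj E) ⟶
      (Scheme.Modules.pullback (pullback.fst p π)).obj O1 :=
    ((Scheme.Modules.pullbackComp (pullback.snd p π) π).app E ≪≫ (Scheme.Modules.pullbackCongr hsq.w.symm).app E ≪≫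
      ((Scheme.Modules.pullbackComp (pullback.fst p π) p).app E).symm).hom ≫
      (Scheme.Modules.pullback (pullback.fst p π)).map q
  haveI : Epi ((Scheme.Modules.pullback (pullback.fst p π)).map q) := by
    haveI := (Scheme.Modules.pullbackPushforwardAdjunction (pullback.fst p π)).isLeftAdjoint
    infer_instance
  haveI : Epi q'' := epi_comp _ _
  have hes := ChernTot.cT_eq_es (hB.baseChange hsq) hY hP' hp' (q := q'') hF hlen (j : ℕ)
  rw [← hes, cT_pull hB hX hPs hδ π hY hd hsq hP' hp' hc']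
  congr 1
  funext l
  by_cases hl : l = q'
  · subst hl
    rw [Tot.single_apply, ← ChernTot.cl_eq' hB hX hPs hδ hα hγ j hq hm _ (Tot.single_apply _ _)]
  · rw [Pi.single_eq_of_ne hl]
    have h0 := ChernTot.cT_congr hB hX hPs hδ (j : ℕ) (f := Pi.single k (ChowOps.cl α hα)) (g := (0 : T X δ))
      (l := l) (by rw [Pi.single_eq_of_ne (by omega)]; rfl)
    rw [h0, map_zero]
    rfl

/-- Chern caps become elementary symmetric functions after splitting. -/
theorem master_flat {X : Scheme.{u}} {δ : X → ℤ} (hX : Cyc.IsSetup X δ) {r : ℕ} {E : X.Modules}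
    (hE : FlatMod.IsFinLocFreeOfRank r E) {P : Scheme.{u}} {p : P ⟶ X} {O1 : P.Modules}
    {q : (Scheme.Modules.pullback p).obj E ⟶ O1} (hP : KRR.IsProjBundle p E O1 q) {δP : P → ℤ}
    (hPs : Cyc.IsSetup P δP) (hδ : Cyc.DeltaCompat p δP δ) {k : ℤ} {α : AlgebraicCycle X ℤ}
    (hα : α ∈ Cyc.Zk X δ k) {γ : Fin (r + 1) → AlgebraicCycle X ℤ} (hγ : Cyc.IsChernCap p δ δP O1 r k α γ)
    {Y : Scheme.{u}} (π : Y ⟶ X) [Flat π] [LocallyOfFiniteType π] {δY : Y → ℤ} (hY : Cyc.IsSetup Y δY)
    (hπ : Cyc.DeltaCompat π δY δ) {d : ℕ} (hrel : Cyc.HasRelDim π d) (hd : FlatRat.MaxDim π δY δ (d : ℤ)) {ls : List Y.Modules}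
    (hF : Filt.Filt ((Scheme.Modules.pullback π).obj E) ls) (hlen : ls.length = r) (j : Fin (r + 1)) {q' : ℤ}
    (hq : q' = k - ((j : ℕ) : ℤ)) (hm : γ j ∈ Cyc.Zk X δ q') :
    Tot.Pull π hY hX hd (Pi.single q' (ChowOps.cl (γ j) hm)) =
      ESym.es (ls.map (Filt.cc hY)) (j : ℕ) (Tot.Pull π hY hX hd (Pi.single k (ChowOps.cl α hα))) := by
  cases r with
  | zero =>
    obtain rfl : j = 0 := Subsingleton.elim (α := Fin 1) _ _
    obtain rfl : q' = k := by simpa using hq
    show _ = ESym.es (ls.map (Filt.cc hY)) 0 _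
    rw [ESym.es_zero, Chow.cl_congr hm hα (congrArg _ hγ.1)]
    rfl
  | succ n =>
    haveI := hP.epi
    exact master_bundle_flat hX (PBundle.of_isProjBundle hE hP) q hPs hδ hα hγ π hY hπ hrel hd hF hlen j hq hm

end Groth.Agent.H3Cyc.SplitChern
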