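import Groth.Agent.H3Cyc.FiltDef
import Groth.Agent.H3Cyc.ChowCompat
import Mathlib

/-!
# Chern classes of two invertible modules agree modulo the locus where a comparison vanishes
-/

set_option autoImplicit false
set_option linter.style.haveILetI false
set_option linter.unusedSectionVars false
set_option backward.isDefEq.respectTransparency.types false
universe u

open CategoryTheory CategoryTheory.Limits AlgebraicGeometry
open Groth.Agent.H11Tilde (IsGen)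

noncomputable section

namespace Groth.Agent.H3Cyc.Filt

variable {X : Scheme.{u}}

theorem fmap_germ {M N : X.Modules} (φ : M ⟶ N) (x : X) (V : X.Opens) (hx : x ∈ V) (v : Γ(M, V)) :
    fmap φ x (M.presheaf.germ V x hx v) = C1Api.fib N x hx (φ.app V v) :=
  congrArg Submodule.Quotient.mk (DerSch.stalkFunctor_map_germ x φ V hx v)

/-- A section with nonzero value at `x` generates near `x`. -/
theorem exists_isGen_of_fib_ne_zero {N : X.Modules} (hN : PicF.IsInvertible N) {V : X.Opens} (s : Γ(N, V)) {x : X}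
    (hx : x ∈ V) (h : C1Api.fib N x hx s ≠ 0) :
    ∃ (W : X.Opens) (hW : W ≤ V), x ∈ W ∧ IsGen N (N.presheaf.map (homOfLE hW).op s) := by
  obtain ⟨U, e₀, hxU, he₀⟩ := H11Ample.exists_gen hN x
  have he := he₀.res (inf_le_left : U ⊓ V ≤ U)
  obtain ⟨c, hc⟩ := (H11Tilde.IsGen.bijective he (le_refl (U ⊓ V))).2 (N.presheaf.map (homOfLE inf_le_right).op s)
  simp only [H10Coh.mres_self] at hc
  have hxW : x ∈ U ⊓ V := ⟨hxU, hx⟩
  have hgerm : X.presheaf.germ (U ⊓ V) x hxW c •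
      N.presheaf.germ (U ⊓ V) x hxW (N.presheaf.map (homOfLE inf_le_left).op e₀) = N.presheaf.germ V x hx s := by
    have h2 := congrArg (N.presheaf.germ (U ⊓ V) x hxW) hc
    rw [TopCat.Presheaf.germ_res_apply] at h2
    rw [← h2]
    exact (H06Mod.germ_smul N (U ⊓ V) hxW c _).symm
  have hu : IsUnit (X.presheaf.germ (U ⊓ V) x hxW c) := by
    rw [← IsLocalRing.residue_ne_zero_iff_isUnit]
    refine (C1Api.residue_ne_zero_iff he hxW _).mp ?_
    rw [C1Api.fib, ← Submodule.Quotient.mk_smul, hgerm]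
    exact h
  refine ⟨X.basicOpen c, (X.basicOpen_le c).trans inf_le_right, (X.mem_basicOpen c x hxW).mpr hu, ?_⟩
  have hg := H11Ample.isGen_res he (X.basicOpen_le c) (RingedSpace.isUnit_res_basicOpen _ c)
  convert hg using 1
  have e := congrArg (N.presheaf.map (homOfLE (X.basicOpen_le c)).op) hc
  rw [Scheme.Modules.map_smul] at e
  refine Eq.trans ?_ e.symm
  rw [← ConcreteCategory.comp_apply, ← N.presheaf.map_comp]
  rfl

theorem exists_gen_section {M N : X.Modules} (φ : M ⟶ N) (hN : PicF.IsInvertible N) {x : X} (hx : x ∉ zeroSet φ) :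
    ∃ (W : X.Opens) (v : Γ(M, W)), x ∈ W ∧ IsGen N (φ.app W v) := by
  obtain ⟨v, hv⟩ := not_forall.mp hx
  obtain ⟨V, hxV, m, rfl⟩ := M.presheaf.exists_germ_eq v
  rw [fmap_germ] at hv
  obtain ⟨W, hW, hxW, hg⟩ := exists_isGen_of_fib_ne_zero hN _ hxV hv
  refine ⟨W, M.presheaf.map (homOfLE hW).op m, hxW, ?_⟩
  rwa [H11Tilde.app_map_apply φ hW m]

theorem fib_ne_zero {N : X.Modules} {W : X.Opens} {e : Γ(N, W)} (he : IsGen N e) {z : X} (hz : z ∈ W) :
    C1Api.fib N z hz e ≠ 0 := by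
  have := (C1Api.residue_ne_zero_iff he hz 1).mpr (by rw [map_one]; exact one_ne_zero)
  rwa [one_smul] at this

theorem zeroSet_spec {M N : X.Modules} (φ : M ⟶ N) (hN : PicF.IsInvertible N) {ξ x : X} (h : ξ ⤳ x)
    (hξ : ξ ∈ zeroSet φ) : x ∈ zeroSet φ := by
  by_contra hx
  obtain ⟨W, v, hxW, hg⟩ := exists_gen_section φ hN hx
  refine fib_ne_zero hg (h.mem_open W.2 hxW) ?_
  rw [← fmap_germ]
  exact hξ _

/-- The divisors of corresponding sections of `C` and `N` agree away from the zero locus of `φ`. -/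
theorem exists_sections {B C N : X.Modules} (b : B ⟶ C) (φ : B ⟶ N) (hC : PicF.IsInvertible C)
    (hN : PicF.IsInvertible N) (δ : X → ℤ) (S : Set X) (hS : ∀ {ξ x : X}, ξ ⤳ x → ξ ∈ S → x ∈ S)
    (hker : ∀ x ∈ S, ∀ v, fmap b x v = 0 → fmap φ x v = 0) (ξ : X) :
    ∃ (s : Cyc.secFibre N ξ) (t : Cyc.secFibre C ξ), s ≠ 0 ∧ t ≠ 0 ∧
      (ξ ∈ S → ∀ x, x ∉ zeroSet φ → Cyc.secDivFun δ N ξ s x = Cyc.secDivFun δ C ξ t x) := by
  classical
  by_cases hξ : ξ ∈ S ∧ ξ ∉ zeroSet φ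
  swap
  · refine ⟨Chow.sec hN ξ, Chow.sec hC ξ, Chow.sec_ne_zero _ _, Chow.sec_ne_zero _ _, fun hS' x hx => ?_⟩
    have hn : ¬ ξ ⤳ x := fun h => hx (zeroSet_spec φ hN h (by_contra fun h0 => hξ ⟨hS', h0⟩))
    simp only [Cyc.secDivFun]
    rw [dif_neg fun hh => hn hh.1, dif_neg fun hh => hn hh.1]
  obtain ⟨v₀, hv₀⟩ := not_forall.mp hξ.2
  refine ⟨fmap φ ξ v₀, fmap b ξ v₀, hv₀, fun h => hv₀ (hker ξ hξ.1 v₀ h), fun _ x hx => ?_⟩
  by_cases hs : ξ ⤳ x
  swap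
  · simp only [Cyc.secDivFun]
    rw [dif_neg fun hh => hs hh.1, dif_neg fun hh => hs hh.1]
  obtain ⟨W, v, hxW, hg⟩ := exists_gen_section φ hN hx
  have hbv : C1Api.fib C x hxW (b.app W v) ≠ 0 := fun h0 => fib_ne_zero hg hxW (by
    rw [← fmap_germ]
    exact hker x (hS hs hξ.1) _ (by rw [fmap_germ]; exact h0))
  obtain ⟨W', hW', hxW', hg'⟩ := exists_isGen_of_fib_ne_zero hC _ hxW hbv
  let v' := B.presheaf.map (homOfLE hW').op v
  have hgb : IsGen C (b.app W' v') := by rwa [H11Tilde.app_map_apply b hW' v]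
  have hgφ : IsGen N (φ.app W' v') := by
    rw [H11Tilde.app_map_apply φ hW' v]; exact hg.res hW'
  have hξW : ξ ∈ W' := hs.mem_open W'.2 hxW'
  obtain ⟨c, hc⟩ := C1Api.exists_smul_fib hgb hξW (fmap b ξ v₀)
  have hc' : fmap φ ξ v₀ = c • C1Api.fib N ξ hξW (φ.app W' v') := by
    have := hker ξ hξ.1 (v₀ - c • B.presheaf.germ W' ξ hξW v') (by
      rw [map_sub, map_smul, fmap_germ, ← hc, sub_self])
    rwa [map_sub, map_smul, fmap_germ, sub_eq_zero] at this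
  have hc0 : X.residue ξ c ≠ 0 := (C1Api.residue_ne_zero_iff hgφ hξW c).mp (hc' ▸ hv₀)
  rw [hc', hc, C1Api.secDivFun_gen hgφ δ hξW c hc0 hxW', C1Api.secDivFun_gen hgb δ hξW c hc0 hxW']

/-- `c₁(N) ∩ α - c₁(C) ∩ α` is supported on the zero locus of `φ`. -/
theorem exists_step {B C N : X.Modules} (b : B ⟶ C) (φ : B ⟶ N) (hC : PicF.IsInvertible C)
    (hN : PicF.IsInvertible N) {δ : X → ℤ} (hX : Cyc.IsSetup X δ) (S : Set X)
    (hS : ∀ {ξ x : X}, ξ ⤳ x → ξ ∈ S → x ∈ S)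
    (hker : ∀ x ∈ S, ∀ v, fmap b x v = 0 → fmap φ x v = 0) {j k : ℤ} (h : j = k + 1) (α : AlgebraicCycle X ℤ)
    (hα : α ∈ Cyc.Zk X δ j) (hsupp : ∀ x, x ∉ S → α x = 0) :
    ∃ (β : AlgebraicCycle X ℤ) (hβ : β ∈ Cyc.Zk X δ k), (∀ x, x ∉ zeroSet φ → β x = 0) ∧
      ChowOps.cl β hβ = Chow.c1 hX hN h (ChowOps.cl α hα) - Chow.c1 hX hC h (ChowOps.cl α hα) := by
  haveI := hX.1
  choose s t hs ht hst using exists_sections b φ hC hN δ S @hS hker
  obtain ⟨f, hff, hf⟩ := C1Api.exists_c1Cap_cycle hX.2.2 hN k α (h ▸ hα) s hs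
  obtain ⟨g, hgf, hg⟩ := C1Api.exists_c1Cap_cycle hX.2.2 hC k α (h ▸ hα) t ht
  refine ⟨f - g, Chow.zk_sub hf hg, fun x hx => ?_, ?_⟩
  · show f x - g x = 0
    rw [hff, hgf, sub_eq_zero]
    refine finsum_congr fun ξ => ?_
    by_cases hξ : ξ ∈ S
    · rw [hst ξ hξ x hx]
    · rw [hsupp ξ hξ, zero_mul, zero_mul]
  · rw [Chow.c1_cl hX hN h α hα s hs f hf hff, Chow.c1_cl hX hC h α hα t ht g hg hgf]
    exact map_sub (ChowOps.clHom X δ k) ⟨f, hf⟩ ⟨g, hg⟩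

end Groth.Agent.H3Cyc.Filt
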