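import Groth.Agent.H3Cyc.Tower
import Groth.Agent.H3Cyc.FiltStep
import Groth.Agent.H11QMap.ConeImm
import Groth.Agent.H11Sym.VBundle
import Groth.Agent.H11Aff.RelSpecUniv
import Groth.Agent.H10Coh.QCohExt
import Groth.Agent.H16Derived.KFlat.StrictPerfCone
import Mathlib

/-!
# The projective completion of a vector bundle
-/

set_option autoImplicit false
set_option linter.style.haveILetI false
set_option linter.unusedSectionVars false
set_option backward.isDefEq.respectTransparency.types false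
universe u

open CategoryTheory CategoryTheory.Limits AlgebraicGeometry TopologicalSpace Opposite
open Groth.Agent.H11Tilde (IsGen)
open Groth.Agent.H11Sym

noncomputable section

namespace Groth.Agent.H3Cyc.VBComp

variable {X : Scheme.{u}}

theorem specMap_id (A : RelSpec.QCAlg X) : RelSpec.QCAlg.specMap (𝟙 A) = 𝟙 A.spec :=
  H11Aff.RelSpecUniv.hom_ext (fun _ => True)
    (fun x => (exists_isAffineOpen_mem_and_subset (X := X) (x := x) (U := ⊤) trivial).imp
      fun U h => ⟨h.1, trivial, h.2.1⟩)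
    fun U hU _ => by
      rw [RelSpec.QCAlg.ι_specMap, Category.comp_id]
      exact (congrArg (· ≫ A.ι U hU) (Spec.map_id _)).trans (Category.id_comp _)

theorem specMap_comp {A B C : RelSpec.QCAlg X} (φ : A ⟶ B) (ψ : B ⟶ C) :
    RelSpec.QCAlg.specMap (φ ≫ ψ) = RelSpec.QCAlg.specMap ψ ≫ RelSpec.QCAlg.specMap φ :=
  H11Aff.RelSpecUniv.hom_ext (fun _ => True)
    (fun x => (exists_isAffineOpen_mem_and_subset (X := X) (x := x) (U := ⊤) trivial).imp
      fun U h => ⟨h.1, trivial, h.2.1⟩)
    fun U hU _ => by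
      rw [RelSpec.QCAlg.ι_specMap, reassoc_of% (RelSpec.QCAlg.ι_specMap U hU ψ), RelSpec.QCAlg.ι_specMap,
        ← Spec.map_comp_assoc]
      rfl

/-- Two symmetric algebras of a module have isomorphic spectra over the base. -/
theorem exists_spec_iso {E : X.Modules} {A B : RelSpec.QCAlg X} {j : E ⟶ A.toModule} {k : E ⟶ B.toModule}
    (hA : RelSpec.IsSymAlg E A j) (hB : RelSpec.IsSymAlg E B k) :
    ∃ e : A.spec ≅ B.spec, e.hom ≫ B.π = A.π := by
  obtain ⟨a, ha, -⟩ := hA B k
  obtain ⟨b, hb, -⟩ := hB A j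
  have hab : a ≫ b = 𝟙 A := by
    refine (hA A j).unique ?_ ?_
    · refine modHom_ext fun U hU x => ?_
      show (b.hom.app (op U)).hom ((a.hom.app (op U)).hom (japp j U x)) = japp j U x
      rw [show (a.hom.app (op U)).hom (japp j U x) = japp k U x from congrArg (fun q : E ⟶ B.toModule => japp q U x) ha]
      exact congrArg (fun q : E ⟶ A.toModule => japp q U x) hb
    · exact modHom_ext fun U hU x => rfl
  have hba : b ≫ a = 𝟙 B := by
    refine (hB B k).unique ?_ ?_
    · refine modHom_ext fun U hU x => ?_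
      show (a.hom.app (op U)).hom ((b.hom.app (op U)).hom (japp k U x)) = japp k U x
      rw [show (b.hom.app (op U)).hom (japp k U x) = japp j U x from congrArg (fun q : E ⟶ A.toModule => japp q U x) hb]
      exact congrArg (fun q : E ⟶ B.toModule => japp q U x) ha
    · exact modHom_ext fun U hU x => rfl
  exact ⟨⟨RelSpec.QCAlg.specMap b, RelSpec.QCAlg.specMap a, by rw [← specMap_comp, hab, specMap_id],
    by rw [← specMap_comp, hba, specMap_id]⟩, RelSpec.QCAlg.specMap_π b⟩

/-- The sum with the structure sheaf. -/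
abbrev plusOne (E : X.Modules) : X.Modules := E ⊞ Coh.structureModule X

variable {E : X.Modules}

theorem isQCoh_plusOne (hq : Coh.IsQCoh E) : Coh.IsQCoh (plusOne E) :=
  @H10Coh.isQuasicoherent_X₂ _ _
    ((ShortComplex.Splitting.ofHasBinaryBiproduct E (Coh.structureModule X)).shortExact) hq
    (H8Props.FinLocFree.isQCoh_of_isFinLocFree _
      (H22Alg.KPullLam.finLocFree_of_rank (H22Alg.PB.rank_one_of_isInvertible H11Ample.isInvertible_structureModule)))

theorem ofRank_plusOne {r : ℕ} (hE : FlatMod.IsFinLocFreeOfRank r E) : FlatMod.IsFinLocFreeOfRank (r + 1) (plusOne E) := by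
  have hO := H22Alg.PB.rank_one_of_isInvertible (H11Ample.isInvertible_structureModule (X := X))
  have hE' := H22Alg.KPullLam.finLocFree_of_rank hE
  have hO' := H22Alg.KPullLam.finLocFree_of_rank hO
  refine Filt.ofRank_of_rk (H16Derived.KFlat.Stalk.isFinLocFree_biprod hE' hO') fun x => ?_
  have h1 := H22Alg.KExists.rk_add
    (ShortComplex.Splitting.ofHasBinaryBiproduct E (Coh.structureModule X)).shortExact hE' hO' x
  rw [H22Alg.KExists.rk_of_rank hE, H22Alg.KExists.rk_of_rank hO] at h1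
  exact h1

/-- The constant section `1` of the extra summand. -/
def one' (U : X.Opens) : Γ(plusOne E, U) :=
  (biprod.inr (X := E) (Y := Coh.structureModule X)).app U (1 : Γ(X, U))

theorem one'_res {U V : X.Opens} (i : V ≤ U) : (plusOne E).presheaf.map (homOfLE i).op (one' U) = one' V :=
  (H11Tilde.app_map_apply (biprod.inr (X := E) (Y := Coh.structureModule X)) i (1 : Γ(X, U))).symm.trans
    (congrArg ((biprod.inr (X := E) (Y := Coh.structureModule X)).app V) (map_one (X.presheaf.map (homOfLE i).op).hom))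

theorem decomp {U : X.Opens} (p : Γ(plusOne E, U)) :
    p = (biprod.inl (X := E) (Y := Coh.structureModule X)).app U ((biprod.fst (X := E) (Y := Coh.structureModule X)).app U p) +
      (show Γ(X, U) from (biprod.snd (X := E) (Y := Coh.structureModule X)).app U p) • one' U := by
  refine (congrArg (fun φ => Scheme.Modules.Hom.app φ U p)
    (biprod.total (X := E) (Y := Coh.structureModule X))).symm.trans ?_
  show _ + (biprod.inr (X := E) (Y := Coh.structureModule X)).app U _ = _
  refine congrArg (fun z : Γ(plusOne E, U) => (biprod.inl (X := E) (Y := Coh.structureModule X)).app U ((biprod.fst (X := E) (Y := Coh.structureModule X)).app U p) + z) ?_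
  rw [one', ← Scheme.Modules.Hom.app_smul]
  exact congrArg _ (mul_one (show Γ(X, U) from (biprod.snd (X := E) (Y := Coh.structureModule X)).app U p)).symm

section poly

variable {𝒮 𝒯 : RelProj.QCGrAlg X} {jS : E ⟶ 𝒮.toModule} {jT : plusOne E ⟶ 𝒯.toModule}

/-- The degree one variable. -/
def zT (jT : plusOne E ⟶ 𝒯.toModule) : 𝒯.presheaf.obj (op ⊤) := japp (B := 𝒯.toQCAlg) jT ⊤ (one' ⊤)

theorem restrictTop_zT (U : X.Opens) : RelCone.restrictTop 𝒯 (zT jT) U = japp (B := 𝒯.toQCAlg) jT U (one' U) := by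
  rw [← one'_res (le_top : U ≤ ⊤), japp_res]
  rfl

theorem exists_poly (hq : Coh.IsQCoh E) (hS : RelProj.IsGrSymAlg E 𝒮 jS) (hT : RelProj.IsGrSymAlg (plusOne E) 𝒯 jT) :
    ∃ ι : 𝒮.toQCAlg ⟶ 𝒯.toQCAlg, RelCone.IsPolyOver 𝒮 𝒯 ι (zT jT) ∧
      ∀ (U : X.Opens) (m : Γ(E, U)), (ι.hom.app (op U)).hom (japp (B := 𝒮.toQCAlg) jS U m) =
        japp (B := 𝒯.toQCAlg) jT U ((biprod.inl (X := E) (Y := Coh.structureModule X)).app U m) := by
  obtain ⟨ι, hι, -⟩ := hS.1 𝒯.toQCAlg ((biprod.inl (X := E) (Y := Coh.structureModule X)) ≫ jT)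
  have hιj : ∀ (U : X.Opens) (m : Γ(E, U)), (ι.hom.app (op U)).hom (japp (B := 𝒮.toQCAlg) jS U m) =
      japp (B := 𝒯.toQCAlg) jT U ((biprod.inl (X := E) (Y := Coh.structureModule X)).app U m) :=
    fun U m => congrArg (fun q : E ⟶ 𝒯.toQCAlg.toModule => japp (B := 𝒯.toQCAlg) q U m) hι
  have hqp := isQCoh_plusOne hq
  refine ⟨ι, ⟨isGradedHom_of_one hq hS ι fun U hU m => ?_, fun U hU => ?_, fun U hU => ?_⟩, hιj⟩
  · rw [hιj U m]
    exact japp_mem hT hU _
  · rw [restrictTop_zT]
    exact japp_mem hT hU _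
  · rw [restrictTop_zT]
    have hstr : ∀ r, (ι.hom.app (op U)).hom (astr 𝒮.toQCAlg U r) = astr 𝒯.toQCAlg U r := fun r =>
      ConcreteCategory.congr_hom (NatTrans.congr_app ι.comm (op U)) r
    set F := Polynomial.eval₂RingHom (ι.hom.app (op U)).hom (japp (B := 𝒯.toQCAlg) jT U (one' U)) with hF
    let fst := (biprod.fst (X := E) (Y := Coh.structureModule X)).app U
    let snd := fun p => (show Γ(X, U) from (biprod.snd (X := E) (Y := Coh.structureModule X)).app U p)
    obtain ⟨G, hG₀, hG₁⟩ := (hT.1.isAffSym hqp).exists_lift hU (Polynomial.C.comp (astr 𝒮.toQCAlg U))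
      (AddMonoidHom.mk' (fun p => Polynomial.C (japp (B := 𝒮.toQCAlg) jS U (fst p)) +
          Polynomial.C (astr 𝒮.toQCAlg U (snd p)) * Polynomial.X) fun a b => by
        simp only [fst, snd]
        rw [map_add, japp_add, map_add, map_add ((biprod.snd (X := E) (Y := Coh.structureModule X)).app U).hom]
        erw [map_add (astr 𝒮.toQCAlg U), map_add]
        ring) fun r m => by
      simp only [AddMonoidHom.mk'_apply, RingHom.comp_apply, fst, snd]
      rw [Scheme.Modules.Hom.app_smul, japp_smul, Scheme.Modules.Hom.app_smul]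
      erw [map_mul, map_mul (astr 𝒮.toQCAlg U) r, map_mul]
      ring
    have h1 : G.comp F = RingHom.id _ := by
      refine Polynomial.ringHom_ext (fun a => ?_) ?_
      · show G (F (Polynomial.C a)) = Polynomial.C a
        rw [hF, Polynomial.coe_eval₂RingHom, Polynomial.eval₂_C]
        refine RingHom.congr_fun ((hS.1.isAffSym hq).ringHom_ext hU
          (φ := G.comp (ι.hom.app (op U)).hom) (ψ := Polynomial.C) (fun r => ?_) fun m => ?_) a
        · rw [RingHom.comp_apply, hstr, hG₀]; rfl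
        · rw [RingHom.comp_apply, hιj, hG₁]
          have e₁ : fst ((biprod.inl (X := E) (Y := Coh.structureModule X)).app U m) = m :=
            congrArg (fun φ => Scheme.Modules.Hom.app φ U m) (biprod.inl_fst (X := E) (Y := Coh.structureModule X))
          have e₂ : snd ((biprod.inl (X := E) (Y := Coh.structureModule X)).app U m) = 0 :=
            congrArg (fun φ => Scheme.Modules.Hom.app φ U m) (biprod.inl_snd (X := E) (Y := Coh.structureModule X))
          simp only [AddMonoidHom.mk'_apply, e₁, e₂, map_zero, zero_mul, add_zero]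
      · show G (F Polynomial.X) = Polynomial.X
        rw [hF, Polynomial.coe_eval₂RingHom, Polynomial.eval₂_X, hG₁]
        have e₁ : fst (one' U) = 0 :=
          congrArg (fun φ => Scheme.Modules.Hom.app φ U (1 : Γ(X, U))) (biprod.inr_fst (X := E) (Y := Coh.structureModule X))
        have e₂ : snd (one' U) = 1 :=
          congrArg (fun φ => Scheme.Modules.Hom.app φ U (1 : Γ(X, U))) (biprod.inr_snd (X := E) (Y := Coh.structureModule X))
        have e₃ : japp (B := 𝒮.toQCAlg) jS U (0 : Γ(E, U)) = 0 := map_zero (jS.app U).hom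
        simp only [AddMonoidHom.mk'_apply, e₁, e₂, e₃, map_zero, map_one, one_mul, zero_add]
    have h2 : F.comp G = RingHom.id _ := by
      refine (hT.1.isAffSym hqp).ringHom_ext hU (fun r => ?_) fun p => ?_
      · rw [RingHom.comp_apply, hG₀]
        simp [hF, hstr]
      · rw [RingHom.comp_apply, hG₁]
        simp only [hF, AddMonoidHom.mk'_apply, map_add, map_mul, Polynomial.coe_eval₂RingHom, Polynomial.eval₂_C,
          Polynomial.eval₂_X, hstr, hιj, RingHom.id_apply]
        rw [← japp_smul, ← japp_add, ← decomp]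
    exact ⟨Function.LeftInverse.injective (g := G) (fun x => RingHom.congr_fun h1 x),
      Function.RightInverse.surjective (g := G) (fun x => RingHom.congr_fun h2 x)⟩

end poly

/-- A vector bundle is open in a bundle of projective spaces, with the summand `E` not vanishing outside. -/
theorem exists_completion {r : ℕ} (hq : Coh.IsQCoh E) (hE : FlatMod.IsFinLocFreeOfRank r E) (A : RelSpec.QCAlg X)
    (j : E ⟶ A.toModule) (hA : RelSpec.IsSymAlg E A j) :
    ∃ (Q : Scheme.{u}) (p : Q ⟶ X) (O1 : Q.Modules) (i : A.spec ⟶ Q) (φ : (Scheme.Modules.pullback p).obj E ⟶ O1),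
      PBundle.Bundle r p O1 ∧ IsOpenImmersion i ∧ i ≫ p = A.π ∧ Filt.zeroSet φ ⊆ Set.range i := by
  obtain ⟨𝒮, jS, hS⟩ := exists_isGrSymAlg E hq
  have hqp := isQCoh_plusOne hq
  obtain ⟨𝒯, jT, hT⟩ := exists_isGrSymAlg (plusOne E) hqp
  obtain ⟨ι, hz, hιj⟩ := exists_poly hq hS hT
  obtain ⟨Q, p, chart, hP⟩ := H11Proj.exists_isRelProj 𝒯
  obtain ⟨O1, lam, hL⟩ := H11Tilde.exists_isRelTwist hP 1
  obtain ⟨ψ, hψ⟩ := exists_canon hqp hT hP hL
  have hPB : KRR.IsProjBundle p (plusOne E) O1
      (((Scheme.Modules.pullbackPushforwardAdjunction p).homEquiv (plusOne E) O1).symm ψ) :=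
    ⟨H22Alg.PB.rank_one_of_isInvertible (isInvertible_twist_one hqp hT hP hL),
      epi_homEquiv_symm_of_spans (spans_of_eq_ks hqp hT hL hψ), fun T g L hL' s hs =>
        existsUnique_toBundle hqp hT hP hL hψ g L (H22Alg.PB.isInvertible_of_rank_one hL') s hs⟩
  obtain ⟨i, hi, -⟩ := H11QMap.ConeImm.exists_coneImm hz hP
  obtain ⟨e, he⟩ := exists_spec_iso hA hS.1
  haveI := H11QMap.ConeImm.isOpenImmersion hz hi hP
  refine ⟨Q, p, O1, e.hom ≫ i, ((Scheme.Modules.pullbackPushforwardAdjunction p).homEquiv E O1).symm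
    (biprod.inl ≫ ψ), PBundle.of_isProjBundle (ofRank_plusOne hE) hPB, inferInstance, ?_, fun x hx => ?_⟩
  · rw [Category.assoc, H11QMap.ConeRetrRel.coneImm_over hz hP hi, he]
  by_contra hxr
  have hxi : x ∉ Set.range i.base := fun ⟨w, hw⟩ => hxr ⟨e.inv w, by
    rw [← Scheme.Hom.comp_apply, Iso.inv_hom_id_assoc]; exact hw⟩
  obtain ⟨U, hU, hxU, -⟩ := exists_isAffineOpen_mem_and_subset (X := X) (x := p x) (U := ⊤) trivial
  rw [H11QMap.ConeImm.mem_cb_z_iff hz hi hP x U hU hxU] at hxi
  obtain ⟨y, rfl⟩ := H11QMap.exists_emb_eq (chart := chart) hU hxU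
  obtain ⟨a, ha, hay⟩ := H11Tilde.exists_degOne_notMem (𝒯.deg U hU) (isGenDegOne hqp hT U hU) y
  obtain ⟨m, rfl⟩ := (mem_deg_one hqp hT hU).1 ha
  have hzy : japp (B := 𝒯.toQCAlg) jT U (one' U) ∈ y.asHomogeneousIdeal := by
    by_contra hzy
    exact hxi (by rw [restrictTop_zT]; exact ⟨y, hzy, rfl⟩)
  set n := (biprod.fst (X := E) (Y := Coh.structureModule X)).app U m with hn
  set m' := (biprod.inl (X := E) (Y := Coh.structureModule X)).app U n with hm'
  have hm'y : japp (B := 𝒯.toQCAlg) jT U m' ∉ y.asHomogeneousIdeal := by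
    intro h
    apply hay
    rw [decomp m, japp_add, japp_smul]
    exact Ideal.add_mem _ h (Ideal.mul_mem_left _ _ hzy)
  have hgen : RelProj.emb p chart U hU y ∈ H11Proj.genAt O1 (ks hT hL hU m') := by
    rw [genAt_ks hqp hT hL hU m']
    exact ⟨y, hm'y, rfl⟩
  have hle : dOpen (𝒯 := 𝒯) (j := jT) (chart := chart) hU m' ≤ p ⁻¹ᵁ U := dOpen_le hU m'
  refine absurd (hx (((Scheme.Modules.pullback p).obj E).presheaf.germ (p ⁻¹ᵁ U) _ hxU
    (OmegaSh.pullSect p E U n))) ?_
  rw [Filt.fmap_germ, ← homEquiv_app_apply, Equiv.apply_symm_apply]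
  have hval : uSec (biprod.inl ≫ ψ) n = ks hT hL hU m' := hψ U hU m'
  rw [hval]
  have hg := (H11Proj.isGen_genAt (ks hT hL hU m')).res (inf_le_left :
    H11Proj.genAt O1 (ks hT hL hU m') ⊓ (p ⁻¹ᵁ U) ≤ _)
  have h1 := Filt.fib_ne_zero hg (z := RelProj.emb p chart U hU y) ⟨hgen, hxU⟩
  intro h2
  apply h1
  rw [← h2]
  simp only [C1Api.fib]
  refine congrArg Submodule.Quotient.mk ?_
  simp only [H11Proj.resS, TopCat.Presheaf.germ_res_apply]

end Groth.Agent.H3Cyc.VBComp
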