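import Groth.Agent.H3Cyc.RelCartier
import Groth.Agent.H3Cyc.SymSection
import Groth.Agent.S12674
import Groth.Agent.H11Sym.VBundle
import Groth.Agent.H17.LrsScheme
import Groth.Agent.H22Alg.PB.Local
import Mathlib

/-!
# The total space of an invertible module with its tautological section
-/

set_option autoImplicit false
set_option linter.style.haveILetI false
set_option backward.isDefEq.respectTransparency.types false
universe u

open CategoryTheory CategoryTheory.Limits AlgebraicGeometry TopologicalSpace Opposite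
open Groth.Agent.H11Sym
open Groth.Agent.H11Tilde (IsGen)

noncomputable section

namespace Groth.Agent.H3Cyc.TotLine

variable {X : Scheme.{u}}

theorem isIso_unit_π : IsIso (RelSpec.QCAlg.unit X).π := by
  let A := RelSpec.QCAlg.unit X
  show IsIso A.π
  rw [← MorphismProperty.isomorphisms.iff]
  refine (IsZariskiLocalAtTarget.iff_of_iSup_eq_top (P := MorphismProperty.isomorphisms Scheme.{u})
    (fun U : X.affineOpens => U.1) (iSup_affineOpens_eq_top X)).2 fun U => ?_
  haveI : IsIso (A.str.app (op U.1)) := inferInstanceAs (IsIso ((𝟙 X.presheaf : _ ⟶ _).app (op U.1)))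
  have e : Arrow.mk (Spec.map (A.str.app (op U.1))) ≅ Arrow.mk (A.π ∣_ U.1) :=
    Arrow.isoMk ((A.ι U.1 U.2).isoOpensRange ≪≫ A.spec.isoOfEq (A.π_preimage U.1 U.2).symm) U.2.isoSpec.symm (by
      rw [← cancel_mono U.1.ι]
      simp [RelSpec.QCAlg.ι_π, IsAffineOpen.isoSpec_inv_ι])
  exact (MorphismProperty.arrow_mk_iso_iff _ e).1 (show IsIso _ from inferInstance)

theorem exists_polyEval {Q : X.Modules} {A : RelSpec.QCAlg X} {j : Q ⟶ A.toModule} (hA : IsAffSym j) {U : X.Opens}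
    (hU : IsAffineOpen U) (k : Module.Basis (Fin 1) Γ(X, U) Γ(Q, U)) :
    ∃ η : A.presheaf.obj (op U) ≃+* Polynomial Γ(X, U),
      (∀ r, η (astr A U r) = Polynomial.C r) ∧ η (japp j U (k 0)) = Polynomial.X := by
  obtain ⟨g, hg₀, hg₁⟩ := hA.exists_lift hU (Polynomial.C : Γ(X, U) →+* _)
    (AddMonoidHom.mk' (fun q : Γ(Q, U) => Polynomial.C (k.repr q 0) * Polynomial.X) fun q q' => by
      rw [map_add, Finsupp.add_apply, map_add, add_mul]) (fun c q => by
      simp only [AddMonoidHom.mk'_apply, map_smul, Finsupp.smul_apply, smul_eq_mul, map_mul, mul_assoc])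
  simp only [AddMonoidHom.mk'_apply] at hg₁
  let f : Polynomial Γ(X, U) →+* A.presheaf.obj (op U) := Polynomial.eval₂RingHom (A.str.app (op U)).hom (japp j U (k 0))
  have hx : g (japp j U (k 0)) = Polynomial.X := by
    rw [hg₁, k.repr_self, Finsupp.single_eq_same, map_one, one_mul]
  have hfg : f.comp g = RingHom.id _ := hA.ringHom_ext hU (fun c => by
      rw [RingHom.comp_apply, hg₀, RingHom.id_apply]
      exact Polynomial.eval₂_C _ _) fun q => by
      rw [RingHom.comp_apply, hg₁, RingHom.id_apply, map_mul,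
        show f (Polynomial.C _) = _ from Polynomial.eval₂_C _ _, show f Polynomial.X = _ from Polynomial.eval₂_X _ _]
      refine (japp_smul j U _ _).symm.trans (congrArg (japp j U) ?_)
      conv_rhs => rw [← k.sum_repr q, Fin.sum_univ_one]
  have hgf : g.comp f = RingHom.id _ := Polynomial.ringHom_ext (fun c => by
      rw [RingHom.comp_apply, show f (Polynomial.C c) = _ from Polynomial.eval₂_C _ _]
      exact hg₀ c) (by
      rw [RingHom.comp_apply, show f Polynomial.X = _ from Polynomial.eval₂_X _ _]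
      exact hx)
  exact ⟨RingEquiv.ofRingHom g f hgf hfg, hg₀, hx⟩

/-- The total space of an invertible module with its tautological section, the zero section, and polynomial
charts. -/
theorem exists_totalSpace₁ {L : X.Modules} (hL : PicF.IsInvertible L) :
    ∃ (V : Scheme.{u}) (π : V ⟶ X) (_ : Flat π) (_ : LocallyOfFiniteType π) (_ : IsAffineHom π)
      (t : ((Scheme.Modules.pullback π).obj L).presheaf.obj (op ⊤)) (X₀ : Scheme.{u}) (z : X₀ ⟶ V)
      (_ : IsClosedImmersion z), IsIso (z ≫ π) ∧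
      Cyc.IsZeroSchemeOf z ((Scheme.Modules.pullback π).obj L) t ∧ Cyc.HasRelDim π 1 ∧
      ∀ x : X, ∃ (U : X.Opens) (_ : IsAffineOpen U) (_ : x ∈ U) (e : Γ(L, U)) (a : Γ(V, π ⁻¹ᵁ U)),
        IsGen L e ∧
        (∀ (v : V) (hv : v ∈ π ⁻¹ᵁ U), ((Scheme.Modules.pullback π).obj L).presheaf.germ ⊤ v trivial t =
          V.presheaf.germ _ v hv a •
            ((Scheme.Modules.pullback π).obj L).presheaf.germ (π ⁻¹ᵁ U) v hv (OmegaSh.pullSect π L U e)) ∧
        RelCartier.RegAll (π.app U).hom a ∧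
        ∃ χ : Polynomial Γ(X, U) ≃+* Γ(V, π ⁻¹ᵁ U), ∀ r, χ (Polynomial.C r) = π.app U r := by
  have hL1 := H22Alg.PB.rank_one_of_isInvertible hL
  have hLf := H22Alg.KPullLam.finLocFree_of_rank hL1
  let D := RefHull.dual L
  have hD1 : FlatMod.IsFinLocFreeOfRank 1 D := S12674.ofRank_dual hL1
  have hq : Coh.IsQCoh D := H8Props.FinLocFree.isQCoh_of_isFinLocFree D (H10Inj.SheafExt.isFinLocFree_dual hLf)
  obtain ⟨A, j, hj⟩ := H11Sym.exists_affSym D hq
  have hA := hj.isSymAlg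
  obtain ⟨hflat, hlft, hrel⟩ := S12674.hasRelDim_pi hq hD1 A j hA
  obtain ⟨σ, hσ⟩ := SymSection.exists_section j hLf (𝟙 D)
  obtain ⟨ψ, hψ, -⟩ := hA (RelSpec.QCAlg.unit X) 0
  have hψ0 : ∀ (U : X.Opens) (q : Γ(D, U)), (ψ.hom.app (op U)).hom (japp j U q) = 0 := fun U q =>
    (congrArg (fun f : D ⟶ (RelSpec.QCAlg.unit X).toModule => japp f U q) hψ).trans rfl
  have hψ1 : ∀ (U : X.Opens) (r : Γ(X, U)), (ψ.hom.app (op U)).hom (astr A U r) = r := fun U r =>
    ConcreteCategory.congr_hom (NatTrans.congr_app ψ.comm (op U)) r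
  haveI hcl : IsClosedImmersion (RelSpec.QCAlg.specMap ψ) :=
    H11Sym.isClosedImmersion_specMap ψ fun U _ r => ⟨astr A U r, hψ1 U r⟩
  set z := RelSpec.QCAlg.specMap ψ with hz
  have hdata : ∀ x : X, ∃ (U : X.Opens) (_ : IsAffineOpen U) (_ : x ∈ U) (e : Γ(L, U)) (a : Γ(A.spec, A.π ⁻¹ᵁ U)),
      IsGen L e ∧
      (∀ (v : A.spec) (hv : v ∈ A.π ⁻¹ᵁ U), ((Scheme.Modules.pullback A.π).obj L).presheaf.germ ⊤ v trivial σ =
        A.spec.presheaf.germ _ v hv a •
          ((Scheme.Modules.pullback A.π).obj L).presheaf.germ (A.π ⁻¹ᵁ U) v hv (OmegaSh.pullSect A.π L U e)) ∧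
      RelCartier.RegAll (A.π.app U).hom a ∧
      (∃ χ : Polynomial Γ(X, U) ≃+* Γ(A.spec, A.π ⁻¹ᵁ U), ∀ r, χ (Polynomial.C r) = A.π.app U r) ∧
      ∀ hW : IsAffineOpen (A.π ⁻¹ᵁ U), z.ker.ideal ⟨A.π ⁻¹ᵁ U, hW⟩ = Ideal.span {a} := by
    intro x
    obtain ⟨U₁, e₁, hx₁, he₁⟩ := H11Ample.exists_gen hL x
    obtain ⟨U₂, hx₂, ⟨c₂⟩⟩ := hD1 x
    obtain ⟨U, hU, hxU, hle⟩ := exists_isAffineOpen_mem_and_subset (X := X) (U := U₁ ⊓ U₂) (x := x) ⟨hx₁, hx₂⟩
    obtain ⟨k⟩ := H8Props.FinLocFree.exists_basis_of_chart _ c₂ (V := U) fun y hy => (hle hy).2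
    let e : Γ(L, U) := L.presheaf.map (homOfLE (fun y hy => (hle hy).1 : U ≤ U₁)).op e₁
    have he : IsGen L e := he₁.res _
    have hW : IsAffineOpen (A.π ⁻¹ᵁ U) := hU.preimage A.π
    obtain ⟨η, hη₀, hη₁⟩ := exists_polyEval hj hU k
    haveI := H11RelSpec.isIso_gammaAff A U hU
    let γ : Γ(A.spec, A.π ⁻¹ᵁ U) ≃+* A.presheaf.obj (op U) :=
      (asIso (A.gammaAff U hU)).commRingCatIsoToRingEquiv
    let x₀ : Γ(A.spec, A.π ⁻¹ᵁ U) := γ.symm (japp j U (k 0))
    have hγπ : ∀ r, γ (A.π.app U r) = astr A U r := fun r => by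
      haveI := H11RelSpec.isIso_gammaMap A
      show A.gammaAff U hU (A.π.app U r) = _
      rw [← A.gammaMap_app U hU]
      exact ConcreteCategory.congr_hom (NatTrans.congr_app A.π_c_gammaMap (op U)) r
    -- regularity of the coordinate
    have hreg0 : RelCartier.RegAll (A.π.app U).hom x₀ := fun J g hg => by
      have hmap : ∀ w, w ∈ J.map (A.π.app U).hom → η (γ w) ∈ J.map (Polynomial.C : Γ(X, U) →+* Polynomial Γ(X, U)) := fun w hw => by
        refine (Ideal.map_le_iff_le_comap.2 (fun r hr => ?_) : J.map (A.π.app U).hom ≤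
          (J.map (Polynomial.C : Γ(X, U) →+* Polynomial Γ(X, U))).comap (γ.trans η).toRingHom) hw
        show η (γ (A.π.app U r)) ∈ J.map (Polynomial.C : Γ(X, U) →+* Polynomial Γ(X, U))
        rw [hγπ, hη₀]
        exact Ideal.mem_map_of_mem (Polynomial.C : Γ(X, U) →+* Polynomial Γ(X, U)) hr
      have h1 := hmap _ hg
      rw [map_mul, map_mul, γ.apply_symm_apply, hη₁, Ideal.mem_map_C_iff] at h1
      have h2 : η (γ g) ∈ J.map Polynomial.C := Ideal.mem_map_C_iff.2 fun n => by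
        have := h1 (n + 1)
        rwa [Polynomial.coeff_X_mul] at this
      have h3 : (γ.trans η).symm (η (γ g)) ∈ (J.map Polynomial.C).map (γ.trans η).symm.toRingHom :=
        Ideal.mem_map_of_mem _ h2
      rw [Ideal.map_map, show η (γ g) = (γ.trans η) g from rfl, RingEquiv.symm_apply_apply] at h3
      rwa [show ((γ.trans η).symm.toRingHom).comp Polynomial.C = (A.π.app U).hom from RingHom.ext fun r =>
        (γ.trans η).symm_apply_eq.2 (by rw [RingEquiv.trans_apply, hγπ, hη₀])] at h3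
    -- the coefficient
    let e' := OmegaSh.pullSect A.π L U e
    have he' : IsGen ((Scheme.Modules.pullback A.π).obj L) (V := A.π ⁻¹ᵁ U) e' := IsGen.pullSect A.π he
    obtain ⟨a, ha⟩ := (he'.bijective le_rfl).2
      (((Scheme.Modules.pullback A.π).obj L).presheaf.map (homOfLE (le_top : A.π ⁻¹ᵁ U ≤ ⊤)).op σ)
    have hgerm : ∀ (v : A.spec) (hv : v ∈ A.π ⁻¹ᵁ U),
        ((Scheme.Modules.pullback A.π).obj L).presheaf.germ ⊤ v trivial σ =
          A.spec.presheaf.germ _ v hv a • ((Scheme.Modules.pullback A.π).obj L).presheaf.germ (A.π ⁻¹ᵁ U) v hv e' := by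
      intro v hv
      rw [← H06Mod.germ_smul]
      have h := congrArg (((Scheme.Modules.pullback A.π).obj L).presheaf.germ (A.π ⁻¹ᵁ U) v hv) ha
      rw [TopCat.Presheaf.germ_res_apply] at h
      rw [← h]
      simp
    have hIDL : ∀ (v : A.spec) (hv : v ∈ A.π ⁻¹ᵁ U),
        Ideal.span {A.spec.presheaf.germ _ v hv a} = Ideal.span {A.spec.presheaf.germ _ v hv x₀} := by
      intro v hv
      have h1 := hσ U hU 1 k (fun _ => x₀) (fun l => by
        rw [Subsingleton.elim l 0]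
        exact γ.apply_symm_apply _) v hv
      rw [Set.range_const] at h1
      rw [← h1]
      let b : Module.Basis (Fin 1) (A.spec.presheaf.stalk v) (((Scheme.Modules.pullback A.π).obj L).presheaf.stalk v) :=
        (Module.Basis.singleton (Fin 1) _).map (LinearEquiv.ofBijective (LinearMap.toSpanSingleton _ _
          (((Scheme.Modules.pullback A.π).obj L).presheaf.germ (A.π ⁻¹ᵁ U) v hv e')) (he' v hv))
      show _ = SecIdeal.idl _ _
      rw [SecIdeal.idl_eq_span b, Set.range_unique]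
      refine congrArg Ideal.span (congrArg singleton ?_)
      rw [hgerm v hv]
      simp [b]
      have h2 := LinearEquiv.symm_apply_apply (LinearEquiv.ofBijective (LinearMap.toSpanSingleton _ _
        (((Scheme.Modules.pullback A.π).obj L).presheaf.germ (A.π ⁻¹ᵁ U) v hv e')) (he' v hv)) 1
      simp only [LinearEquiv.ofBijective_apply, LinearMap.toSpanSingleton_apply, one_smul] at h2
      rw [h2]
      simp
    have hxa : x₀ ∈ Ideal.span {a} := H17.Lrs.mem_of_germ_mem hW _ _ fun v hv => by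
      rw [Ideal.map_span, Set.image_singleton, ← (hIDL v hv).symm]
      exact Ideal.mem_span_singleton_self _
    have hax : a ∈ Ideal.span {x₀} := H17.Lrs.mem_of_germ_mem hW _ _ fun v hv => by
      rw [Ideal.map_span, Set.image_singleton, ← hIDL v hv]
      exact Ideal.mem_span_singleton_self _
    refine ⟨U, hU, hxU, e, a, he, hgerm, hreg0.of_dvd (Ideal.mem_span_singleton.1 hxa),
      ⟨η.symm.trans γ.symm, fun r => by
        rw [RingEquiv.trans_apply, RingEquiv.symm_apply_eq, RingEquiv.symm_apply_eq, hγπ, hη₀]⟩, fun _ => ?_⟩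
    rw [show Ideal.span {a} = Ideal.span {x₀} from le_antisymm
      ((Ideal.span_singleton_le_iff_mem _).2 hax) ((Ideal.span_singleton_le_iff_mem _).2 hxa)]
    -- the kernel of the zero section
    haveI := H11RelSpec.isIso_gammaAff (RelSpec.QCAlg.unit X) U hU
    have hiW : (RelSpec.QCAlg.unit X).π ⁻¹ᵁ U = z ⁻¹ᵁ (A.π ⁻¹ᵁ U) := by
      rw [← Scheme.Hom.comp_preimage, RelSpec.QCAlg.specMap_π]
    let γ' : Γ((RelSpec.QCAlg.unit X).spec, z ⁻¹ᵁ (A.π ⁻¹ᵁ U)) →+* (RelSpec.QCAlg.unit X).presheaf.obj (op U) :=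
      ((RelSpec.QCAlg.unit X).spec.presheaf.map (eqToHom hiW).op ≫ (RelSpec.QCAlg.unit X).gammaAff U hU).hom
    have hγ' : Function.Injective γ' := (ConcreteCategory.bijective_of_isIso
      ((RelSpec.QCAlg.unit X).spec.presheaf.map (eqToHom hiW).op ≫ (RelSpec.QCAlg.unit X).gammaAff U hU)).1
    have hev : ∀ w, (ψ.hom.app (op U)).hom w = (η w).eval 0 := fun w => by
      refine RingHom.congr_fun (f := (ψ.hom.app (op U)).hom) (g := (Polynomial.evalRingHom (0 : Γ(X, U))).comp η.toRingHom)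
        (hj.ringHom_ext hU (fun r => ?_) fun q => ?_) w
      · show _ = (η (astr A U r)).eval 0
        rw [hψ1, hη₀, Polynomial.eval_C]
      · show _ = (η (japp j U q)).eval 0
        rw [hψ0, ← k.sum_repr q, Fin.sum_univ_one, japp_smul, map_mul, hη₀, hη₁, Polynomial.eval_mul,
          Polynomial.eval_X, mul_zero]
        rfl
    have hnat : ∀ c, γ' (z.app (A.π ⁻¹ᵁ U) c) = (η (γ c)).eval 0 := fun c => by
      rw [← hev]
      refine Eq.trans ?_ (ConcreteCategory.congr_hom (SymSplit.gammaAff_specMap ψ U hU hiW.le) c)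
      rfl
    rw [Scheme.Hom.ker_apply]
    ext c
    rw [RingHom.mem_ker, ← hγ'.eq_iff, map_zero, hnat, ← Polynomial.coeff_zero_eq_eval_zero]
    refine (Polynomial.X_dvd_iff (f := η (γ c))).symm.trans ?_
    rw [Ideal.mem_span_singleton, ← hη₁]
    show η (japp j U (k 0)) ∣ η (γ c) ↔ _
    rw [map_dvd_iff η, ← γ.apply_symm_apply (japp j U (k 0)), map_dvd_iff γ]
  refine ⟨A.spec, A.π, hflat, hlft, inferInstance, σ, _, z, hcl, ?_, ?_, hrel, fun x => ?_⟩
  · rw [RelSpec.QCAlg.specMap_π]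
    exact isIso_unit_π
  · refine RelCartier.isZeroScheme_of_local z fun v => ?_
    obtain ⟨U, hU, hxU, e, a, he, hgerm, -, -, hker⟩ := hdata (A.π v)
    exact ⟨A.π ⁻¹ᵁ U, hU.preimage A.π, hxU, OmegaSh.pullSect A.π L U e, a, IsGen.pullSect A.π he, hgerm, hker _⟩
  · obtain ⟨U, hU, hxU, e, a, he, hgerm, hreg, hχ, -⟩ := hdata x
    exact ⟨U, hU, hxU, e, a, he, hgerm, hreg, hχ⟩

/-- The total space of an invertible module with its tautological section and the zero section. -/
theorem exists_totalSpace {L : X.Modules} (hL : PicF.IsInvertible L) :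
    ∃ (V : Scheme.{u}) (π : V ⟶ X) (_ : Flat π) (_ : LocallyOfFiniteType π) (_ : IsAffineHom π)
      (t : ((Scheme.Modules.pullback π).obj L).presheaf.obj (op ⊤)) (X₀ : Scheme.{u}) (z : X₀ ⟶ V)
      (_ : IsClosedImmersion z), IsIso (z ≫ π) ∧
      Cyc.IsZeroSchemeOf z ((Scheme.Modules.pullback π).obj L) t ∧ Cyc.HasRelDim π 1 ∧
      ∀ x : X, ∃ (U : X.Opens) (_ : IsAffineOpen U) (_ : x ∈ U) (e : Γ(L, U)) (a : Γ(V, π ⁻¹ᵁ U)),
        IsGen L e ∧
        (∀ (v : V) (hv : v ∈ π ⁻¹ᵁ U), ((Scheme.Modules.pullback π).obj L).presheaf.germ ⊤ v trivial t =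
          V.presheaf.germ _ v hv a •
            ((Scheme.Modules.pullback π).obj L).presheaf.germ (π ⁻¹ᵁ U) v hv (OmegaSh.pullSect π L U e)) ∧
        RelCartier.RegAll (π.app U).hom a := by
  obtain ⟨V, π, hf, hl, ha, t, X₀, z, hz, hiso, h0, hrel, hdata⟩ := exists_totalSpace₁ hL
  refine ⟨V, π, hf, hl, ha, t, X₀, z, hz, hiso, h0, hrel, fun x => ?_⟩
  obtain ⟨U, hU, hxU, e, a, he, hgerm, hreg, -⟩ := hdata x
  exact ⟨U, hU, hxU, e, a, he, hgerm, hreg⟩

end Groth.Agent.H3Cyc.TotLine
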