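import Groth.Agent.H3Cyc.FlatRat
import Mathlib

/-!
# Relative divisors on fibres
-/

set_option autoImplicit false
set_option linter.style.haveILetI false
universe u

open AlgebraicGeometry CategoryTheory IsLocalRing
open scoped Pointwise TensorProduct

namespace Groth.Agent.H3Cyc.RelDiv

open FlatDiv FlatRat

/-- A regular element with flat quotient stays regular modulo an ideal of the base. -/
theorem isSMulRegular_quot_of_flat {B A : Type u} [CommRing B] [CommRing A] [Algebra B A] (q : Ideal B) (b : A)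
    (hb : IsSMulRegular A b) [Module.Flat B (A ⧸ Ideal.span {b})] :
    IsSMulRegular (A ⧸ q.map (algebraMap B A)) b := by
  let g : A →ₗ[B] A := (LinearMap.mulLeft A b).restrictScalars B
  have hex : Function.Exact g ((Ideal.Quotient.mkₐ B (Ideal.span {b})).toLinearMap) := fun a => by
    show Ideal.Quotient.mk (Ideal.span {b}) a = 0 ↔ a ∈ Set.range g
    rw [Ideal.Quotient.eq_zero_iff_mem, Ideal.mem_span_singleton']
    exact ⟨fun ⟨c, hc⟩ => ⟨c, (mul_comm b c).trans hc⟩, fun ⟨c, hc⟩ => ⟨c, (mul_comm c b).trans hc⟩⟩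
  have hinj := LinearMap.lTensor_injective_of_exact_of_flat _ Ideal.Quotient.mk_surjective g hb hex (B ⧸ q)
  let e := (Algebra.TensorProduct.quotIdealMapEquivTensorQuot A q).toLinearEquiv
  let c := TensorProduct.comm B A (B ⧸ q)
  have key : ∀ t : A ⊗[B] (B ⧸ q), c (b • t) = g.lTensor (B ⧸ q) (c t) := fun t => by
    induction t with
    | zero => simp
    | tmul a r => rfl
    | add t₁ t₂ h₁ h₂ => rw [smul_add, map_add, map_add, map_add, h₁, h₂]
  intro u v huv
  refine e.injective (c.injective (hinj ?_))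
  rw [← key, ← key, ← map_smul, ← map_smul]
  exact congrArg c (congrArg e huv)

variable {X Y : Scheme.{u}} [IsLocallyNoetherian X] [IsLocallyNoetherian Y]

/-- The length of a fibre modulo an element regular on it, as a sum over the components through the point. -/
theorem fibre_identity (f : X ⟶ Y) (x : X)
    (hgen : ∀ z : X, z ⤳ x → z ≠ x → f z = f x → ∀ w : X, w ⤳ z → f w = f x → w = z)
    (T : Finset X) (hT : ∀ z, z ∈ T ↔ z ⤳ x ∧ z ≠ x ∧ f z = f x) (b : X.presheaf.stalk x)
    (hreg : IsSMulRegular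
      (X.presheaf.stalk x ⧸ (maximalIdeal (Y.presheaf.stalk (f x))).map (f.stalkMap x).hom) b)
    (hne : ∀ z (h : z ⤳ x), z ≠ x → f z = f x → Cyc.specMap x z h b ≠ 0) :
    ((Module.length (X.presheaf.stalk x) (X.presheaf.stalk x ⧸
        ((maximalIdeal (Y.presheaf.stalk (f x))).map (f.stalkMap x).hom ⊔ Ideal.span {b}))).toNat : ℤ) =
      ∑ z ∈ T.attach, (mult f z.1 : ℤ) *
        ((Ring.ord (Cyc.LocQuot x z.1 ((hT z.1).mp z.2).1) (Ideal.Quotient.mk _ b)).toNat : ℤ) := by
  classical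
  have hη : f x ⤳ f x := specializes_rfl
  haveI := GenStalk.isPrime_ker (f x) (f x) hη
  let B := Y.presheaf.stalk (f x)
  let A := X.presheaf.stalk x
  have hq : maximalIdeal B = RingHom.ker (Cyc.specMap (f x) (f x) hη) := by
    ext c
    rw [GenStalk.mem_ker_iff, TopCat.Presheaf.stalkSpecializes_refl]
    rfl
  rw [hq] at hreg ⊢
  set φ := (f.stalkMap x).hom
  set I : Ideal A := (RingHom.ker (Cyc.specMap (f x) (f x) hη)).map φ with hI
  have hpe : ∀ (w : X) (hw : w ⤳ x), I ≤ RingHom.ker (Cyc.specMap x w hw) ↔ f w = f x := fun w hw =>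
    ⟨fun hle => ((hw.map f.continuous).antisymm (prime_quot_ker' f x hη w hw hle)).eq,
      fun hfw => ker_le_of_eq f x w hw hfw hη⟩
  have hsupp : ∀ p : PrimeSpectrum A, p ∈ Module.support A (A ⧸ I) ↔ I ≤ p.asIdeal := fun p => by
    rw [Module.mem_support_iff_of_finite, Ideal.annihilator_quotient]
  have hcl : ∀ p : PrimeSpectrum A, X.fromSpecStalk x p = x → p.asIdeal = maximalIdeal A := fun p e =>
    congrArg PrimeSpectrum.asIdeal (show p = IsLocalRing.closedPoint A from
      (X.fromSpecStalk x).isEmbedding.injective (e.trans Scheme.fromSpecStalk_closedPoint.symm))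
  have hker : ∀ z (h : z ⤳ x), RingHom.ker (Cyc.specMap x z h) = maximalIdeal A → z = x := fun z h e => by
    have h2 := GenStalk.fromSpecStalk_eq x z h
    rw [show (⟨RingHom.ker (Cyc.specMap x z h), GenStalk.isPrime_ker x z h⟩ : PrimeSpectrum A) =
      IsLocalRing.closedPoint A from PrimeSpectrum.ext e, Scheme.fromSpecStalk_closedPoint] at h2
    exact h2.symm
  have hpt : ∀ p : PrimeSpectrum A, I ≤ p.asIdeal → p.asIdeal ≠ maximalIdeal A →
      X.fromSpecStalk x p ∈ T ∧ ∀ p' : PrimeSpectrum A, I ≤ p'.asIdeal → p' ≤ p → p' = p := fun p hp hne => by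
    obtain ⟨h, e⟩ := GenStalk.ker_specMap_fromSpecStalk x p
    have h1 : f (X.fromSpecStalk x p) = f x := (hpe _ h).mp (e ▸ hp)
    have h2 : X.fromSpecStalk x p ≠ x := fun e' => hne (hcl p e')
    refine ⟨(hT _).mpr ⟨h, h2, h1⟩, fun p' hp' hle => ?_⟩
    obtain ⟨h', e'⟩ := GenStalk.ker_specMap_fromSpecStalk x p'
    exact (X.fromSpecStalk x).isEmbedding.injective (hgen _ h h2 h1 _
      (((PrimeSpectrum.le_iff_specializes p' p).mp hle).map (X.fromSpecStalk x).continuous)
      ((hpe _ h').mp (e' ▸ hp')))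
  have h1 : Module.supportDim A (A ⧸ I) ≤ 1 := by
    refine Order.krullDim_le_one_iff.mpr fun p => ?_
    by_cases hm : p.1.asIdeal = maximalIdeal A
    · refine Or.inr fun p' hp' => ?_
      show p'.1.asIdeal ≤ p.1.asIdeal
      rw [hm]
      exact IsLocalRing.le_maximalIdeal p'.1.isPrime.ne_top
    · refine Or.inl fun p' hp' => ?_
      rw [show p' = p from Subtype.ext ((hpt p.1 ((hsupp _).mp p.2) hm).2 p'.1 ((hsupp _).mp p'.2) hp')]
  have hne' := hne
  have h0 : Module.supportDim A ((A ⧸ I) ⧸ b • (⊤ : Submodule A (A ⧸ I))) ≤ 0 := by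
    refine Order.krullDim_nonpos_iff_forall_isMax.mpr fun p => ?_
    have hp : p.1.asIdeal = maximalIdeal A := by
      by_contra hne
      have hsub : I ≤ p.1.asIdeal := (hsupp _).mp
        (Module.support_subset_of_surjective _ (Submodule.mkQ_surjective _) p.2)
      obtain ⟨h, e⟩ := GenStalk.ker_specMap_fromSpecStalk x p.1
      obtain ⟨-, hzx, hfz⟩ := (hT _).mp (hpt p.1 hsub hne).1
      refine hne' _ h hzx hfz (RingHom.mem_ker.mp ?_)
      rw [← e]
      have h3 := p.2
      rw [Module.mem_support_iff_of_finite] at h3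
      refine h3 (Module.mem_annihilator.mpr fun w => ?_)
      obtain ⟨v, rfl⟩ := Submodule.mkQ_surjective _ w
      exact (Submodule.Quotient.mk_eq_zero _).mpr (Submodule.smul_mem_pointwise_smul v _ _ trivial)
    intro p' _
    show p'.1.asIdeal ≤ p.1.asIdeal
    rw [hp]
    exact IsLocalRing.le_maximalIdeal p'.1.isPrime.ne_top
  have hlen := H22Alg.length_quot_smul_eq_finsum h1 h0
  rw [show LinearMap.ker (LinearMap.lsmul A (A ⧸ I) (b)) = ⊥ from
      LinearMap.ker_eq_bot.mpr hreg,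
    Module.length_bot, zero_add, finsum_mem_eq_finite_toFinset_sum _ (H22Alg.lowPrimes_finite h1)] at hlen
  have hsum : ∑ p ∈ (H22Alg.lowPrimes_finite h1).toFinset,
      Ring.ord (A ⧸ p.asIdeal) (Ideal.Quotient.mk p.asIdeal (b)) * H22Alg.locLen A (A ⧸ I) p =
      ∑ z ∈ T.attach, Ring.ord (Cyc.LocQuot x z.1 ((hT z.1).mp z.2).1) (Ideal.Quotient.mk _ (b)) *
        Module.length (X.presheaf.stalk z.1)
          (X.presheaf.stalk z.1 ⧸ (maximalIdeal (Y.presheaf.stalk (f z.1))).map (f.stalkMap z.1).hom) := by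
    refine Finset.sum_bij (fun p hp => ⟨X.fromSpecStalk x p, (hpt p ((hsupp _).mp ((Set.Finite.mem_toFinset _).mp hp).1)
        ((Set.Finite.mem_toFinset _).mp hp).2).1⟩) (fun p hp => Finset.mem_attach _ _)
      (fun p _ p' _ e => by
        have e' := congrArg Subtype.val e
        exact (X.fromSpecStalk x).isEmbedding.injective e') (fun z _ => ?_) (fun p hp => ?_)
    · obtain ⟨h, hne, hz⟩ := (hT z.1).mp z.2
      exact ⟨⟨RingHom.ker (Cyc.specMap x z.1 h), GenStalk.isPrime_ker x z.1 h⟩,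
        (Set.Finite.mem_toFinset _).mpr ⟨(hsupp _).mpr (ker_le_of_eq f x z.1 h hz hη), fun e => hne (hker _ h e)⟩,
        Subtype.ext (GenStalk.fromSpecStalk_eq x z.1 h)⟩
    · have key : ∀ (z : X) (h : z ⤳ x) (hz : f z = (f x)) (J : PrimeSpectrum A), J.asIdeal = RingHom.ker (Cyc.specMap x z h) →
          Ring.ord (A ⧸ J.asIdeal) (Ideal.Quotient.mk J.asIdeal (b)) * H22Alg.locLen A (A ⧸ I) J =
          Ring.ord (Cyc.LocQuot x z h) (Ideal.Quotient.mk _ (b)) *
            Module.length (X.presheaf.stalk z)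
              (X.presheaf.stalk z ⧸ (maximalIdeal (Y.presheaf.stalk (f z))).map (f.stalkMap z).hom) := by
        rintro z h hz ⟨p, hp⟩ (rfl : p = _)
        rw [show H22Alg.locLen A (A ⧸ I) ⟨_, hp⟩ = _ from locLen_fibre f x z h hz hη]
      obtain ⟨h, e⟩ := GenStalk.ker_specMap_fromSpecStalk x p
      exact key _ _ ((hT _).mp (hpt p ((hsupp _).mp ((Set.Finite.mem_toFinset _).mp hp).1)
        ((Set.Finite.mem_toFinset _).mp hp).2).1).2.2 p e
  have hfinT : ∀ z ∈ T.attach, Ring.ord (Cyc.LocQuot x z.1 ((hT z.1).mp z.2).1) (Ideal.Quotient.mk _ (b)) *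
      Module.length (X.presheaf.stalk z.1)
        (X.presheaf.stalk z.1 ⧸ (maximalIdeal (Y.presheaf.stalk (f z.1))).map (f.stalkMap z.1).hom) ≠ ⊤ := fun z _ => by
    obtain ⟨h, hne, hz⟩ := (hT z.1).mp z.2
    haveI := GenStalk.isPrime_ker x z.1 h
    have hIp : I ≤ RingHom.ker (Cyc.specMap x z.1 h) := ker_le_of_eq f x z.1 h hz hη
    haveI : Ring.KrullDimLE 1 (Cyc.LocQuot x z.1 h) := by
      refine Ring.krullDimLE_iff.mpr (le_trans ?_ h1)
      rw [Module.supportDim_quotient_eq_ringKrullDim]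
      exact ringKrullDim_le_of_surjective _ (Ideal.Quotient.factor_surjective hIp)
    refine WithTop.mul_ne_top (Ring.ord_ne_top (mem_nonZeroDivisors_of_ne_zero fun e =>
      hne' _ h hne hz (RingHom.mem_ker.mp (Ideal.Quotient.eq_zero_iff_mem.mp e)))) ?_
    exact mult_ne_top f z.1 fun w hw hfw => hgen z.1 h hne hz w hw (((hw.trans h).map f.continuous).antisymm (hz ▸ hfw)).eq
  rw [hsum] at hlen
  have hL : Module.length A ((A ⧸ I) ⧸ b • (⊤ : Submodule A (A ⧸ I))) = Module.length A (A ⧸ (I ⊔ Ideal.span {b})) := by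
    have e1 : (b • (⊤ : Submodule A (A ⧸ I))) = Submodule.map (Submodule.mkQ I) (I ⊔ Ideal.span {b}) := by
      ext w
      rw [Submodule.mem_smul_pointwise_iff_exists, Submodule.map_sup, Submodule.mkQ_map_self, bot_sup_eq,
        Submodule.mem_map]
      constructor
      · rintro ⟨v, -, rfl⟩
        obtain ⟨v, rfl⟩ := Submodule.mkQ_surjective _ v
        exact ⟨b * v, Ideal.mem_span_singleton.mpr (dvd_mul_right _ _), by rw [← map_smul]; rfl⟩
      · rintro ⟨v, hv, rfl⟩
        obtain ⟨c, rfl⟩ := Ideal.mem_span_singleton'.mp hv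
        exact ⟨Submodule.mkQ I c, trivial, by rw [← map_smul, smul_eq_mul, mul_comm]⟩
    rw [e1, LinearEquiv.length_eq (Submodule.quotientQuotientEquivQuotient I (I ⊔ Ideal.span {b}) le_sup_left)]
  rw [hL] at hlen
  have h := congrArg ENat.toNat hlen
  rw [ENat.toNat_sum hfinT] at h
  have h2 : ((_ : ℕ) : ℤ) = ((_ : ℕ) : ℤ) := congrArg Nat.cast h
  push_cast [ENat.toNat_mul] at h2
  rw [h2]
  exact Finset.sum_congr rfl fun z _ => mul_comm _ _

end Groth.Agent.H3Cyc.RelDiv
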