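import Groth.Agent.H3Cyc.SplitTools
import Groth.Agent.H3Cyc.Gysin
import Groth.Agent.H3Cyc.Reduction
import Groth.Agent.S1929
import Groth.Agent.S1933
import Groth.Agent.S6466
import Mathlib

/-!
# The Gysin map of a section on Chow groups
-/

set_option autoImplicit false
set_option linter.style.haveILetI false
set_option linter.unusedSectionVars false
set_option backward.isDefEq.respectTransparency.types false
universe u

open CategoryTheory CategoryTheory.Limits AlgebraicGeometry IsLocalRing Opposite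
open Groth.Agent.H11Tilde (IsGen)
open Groth.Agent.H3Cyc.Tot

noncomputable section

namespace Groth.Agent.H3Cyc.GysinTot

variable {X D : Scheme.{u}} {δ : X → ℤ} (hX : Cyc.IsSetup X δ) {L : X.Modules} (hL : PicF.IsInvertible L)
  {s : L.presheaf.obj (Opposite.op ⊤)} {i : D ⟶ X} [IsClosedImmersion i] (hD : Cyc.IsZeroSchemeOf i L s)

include hX in
theorem isSetupD : Cyc.IsSetup D (fun d => δ (i d)) :=
  isSetup_of_locallyOfFiniteType i hX (Reduction.deltaCompat_immersion i δ)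

include hX hL in
theorem exists_gysin_cycle (k : ℤ) (α : AlgebraicCycle X ℤ) (hα : α ∈ Cyc.Zk X δ (k + 1))
    (t : (ξ : X) → Cyc.secFibre L ξ) (ht : ∀ ξ, t ξ ≠ 0) :
    ∃ γ : AlgebraicCycle D ℤ, (∀ d, γ d = Cyc.c1CapFun δ L ⇑α (Cyc.gysinChoice L s t) (i d)) ∧
      γ ∈ Cyc.Zk D (fun d => δ (i d)) k := by
  haveI := hX.1
  obtain ⟨c, hcf, hc⟩ := C1Api.exists_c1Cap_cycle hX.2.2 hL k α hα (Cyc.gysinChoice L s t)
    (fun ξ => Gysin.gysinChoice_ne_zero L s t ht ξ)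
  refine ⟨⟨fun d => c (i d), by simp, fun d _ => ?_⟩, fun d => congrFun hcf (i d), fun d hd => hc (i d) hd⟩
  obtain ⟨T, hT, hfin⟩ := c.supportLocallyFiniteWithinDomain' (i d) trivial
  exact ⟨i ⁻¹' T, i.continuous.continuousAt.preimage_mem_nhds hT,
    (hfin.preimage i.isEmbedding.injective.injOn).subset fun z hz => hz⟩

/-- The cycle representing the Gysin image. -/
def gysRep (k : ℤ) (a : ↥(ChowOps.zk X δ (k + 1))) : ↥(ChowOps.zk D (fun d => δ (i d)) k) :=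
  ⟨(exists_gysin_cycle (s := s) (i := i) hX hL k a.1 a.2 (Chow.sec hL) (Chow.sec_ne_zero hL)).choose,
    (exists_gysin_cycle (s := s) (i := i) hX hL k a.1 a.2 (Chow.sec hL) (Chow.sec_ne_zero hL)).choose_spec.2⟩

theorem gysRep_apply (k : ℤ) (a : ↥(ChowOps.zk X δ (k + 1))) (d : D) :
    (gysRep (s := s) (i := i) hX hL k a).1 d = Cyc.c1CapFun δ L ⇑a.1 (Cyc.gysinChoice L s (Chow.sec hL)) (i d) :=
  (exists_gysin_cycle (s := s) (i := i) hX hL k a.1 a.2 (Chow.sec hL) (Chow.sec_ne_zero hL)).choose_spec.1 d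

/-- The Gysin map. -/
def gys (k : ℤ) : ChowOps.CH X δ (k + 1) →+ ChowOps.CH D (fun d => δ (i d)) k :=
  QuotientAddGroup.lift (ChowOps.ratTriv X δ (k + 1))
    ((ChowOps.clHom D (fun d => δ (i d)) k).comp (AddMonoidHom.mk' (gysRep (s := s) (i := i) hX hL k) fun a b => by
      haveI := hX.1
      refine Subtype.ext (DFunLike.coe_injective (funext fun d => ?_))
      show _ = (gysRep (s := s) (i := i) hX hL k a).1 d + (gysRep (s := s) (i := i) hX hL k b).1 d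
      rw [gysRep_apply, gysRep_apply, gysRep_apply]
      show Cyc.c1CapFun δ L ⇑(a.1 + b.1) _ (i d) = _
      rw [Chow.c1CapFun_add]
      rfl))
    fun a ha => by
      have h0 := (Chow.mem_ratTriv_iff a).mp ha
      exact (Chow.cl_eq_zero_iff (gysRep (s := s) (i := i) hX hL k a).2).mpr
        (Groth.Agent.S1929.result X D δ hX L hL s i hD k a.1 a.2 h0 (Chow.sec hL) (Chow.sec_ne_zero hL) _
          (gysRep_apply (s := s) (i := i) hX hL k a))

theorem gys_cl (k : ℤ) (α : AlgebraicCycle X ℤ) (hα : α ∈ Cyc.Zk X δ (k + 1)) (t : (ξ : X) → Cyc.secFibre L ξ)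
    (ht : ∀ ξ, t ξ ≠ 0) (γ : AlgebraicCycle D ℤ) (hγ : γ ∈ Cyc.Zk D (fun d => δ (i d)) k)
    (hfun : ∀ d, γ d = Cyc.c1CapFun δ L ⇑α (Cyc.gysinChoice L s t) (i d)) :
    gys hX hL hD k (ChowOps.cl α hα) = ChowOps.cl γ hγ := by
  haveI := hX.1
  show ChowOps.cl (gysRep (s := s) (i := i) hX hL k ⟨α, hα⟩).1 (gysRep (s := s) (i := i) hX hL k ⟨α, hα⟩).2 = _
  refine (Chow.cl_eq_iff _ _).mpr (Gysin.gysin_congr i hL k α hα _ _
    (fun ξ => Gysin.gysinChoice_ne_zero L s _ (Chow.sec_ne_zero hL) ξ)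
    (fun ξ => Gysin.gysinChoice_ne_zero L s t ht ξ) (fun ξ hξ d _ => ?_) _ γ
    (gysRep_apply (s := s) (i := i) hX hL k ⟨α, hα⟩) hfun)
  rw [Cyc.gysinChoice, if_pos ((Gysin.notMem_range_iff hD ξ).mp hξ), Cyc.gysinChoice,
    if_pos ((Gysin.notMem_range_iff hD ξ).mp hξ)]

/-- The Gysin map in all degrees. -/
def Gys : T X δ →+ T D (fun d => δ (i d)) :=
  AddMonoidHom.mk' (fun f k => gys hX hL hD k (f (k + 1))) fun _ _ => funext fun _ => map_add _ _ _

theorem Gys_sg {q : ℤ} (α : AlgebraicCycle X ℤ) (hα : α ∈ Cyc.Zk X δ q) (t : (ξ : X) → Cyc.secFibre L ξ)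
    (ht : ∀ ξ, t ξ ≠ 0) (γ : AlgebraicCycle D ℤ) (hγ : γ ∈ Cyc.Zk D (fun d => δ (i d)) (q - 1))
    (hfun : ∀ d, γ d = Cyc.c1CapFun δ L ⇑α (Cyc.gysinChoice L s t) (i d)) :
    Gys hX hL hD (SplitChern.sg α hα) = SplitChern.sg γ hγ := by
  funext l
  show gys hX hL hD l ((Pi.single q (ChowOps.cl α hα) : T X δ) (l + 1)) = _
  by_cases hl : l = q - 1
  · subst hl
    rw [Filt.single_cast (show q = q - 1 + 1 by ring), Tot.single_apply, Chow.cast_cl, SplitChern.sg, Tot.single_apply]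
    exact gys_cl hX hL hD _ α _ t ht γ hγ hfun
  · rw [SplitChern.sg, Pi.single_eq_of_ne hl, Pi.single_eq_of_ne (by omega), map_zero]

theorem Gys_cc {N : X.Modules} (hN : PicF.IsInvertible N) (f : T X δ) :
    Gys hX hL hD (Filt.cc hX N f) =
      Filt.cc (isSetupD hX (i := i)) ((Scheme.Modules.pullback i).obj N) (Gys hX hL hD f) := by
  haveI := hX.1
  have hDs := isSetupD hX (i := i)
  haveI := hDs.1
  have hN' := H11Ample.isInvertible_pullback i hN
  funext l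
  rw [Filt.cc_eq hX hN, Filt.cc_eq hDs hN']
  show gys hX hL hD l (C1 hX hN f (l + 1)) = C1 hDs hN' (Gys hX hL hD f) l
  rw [show C1 hX hN f (l + 1) = _ from Tot.C1_apply hX hN f (rfl : l + 1 + 1 = l + 1 + 1),
    show C1 hDs hN' (Gys hX hL hD f) l = _ from Tot.C1_apply hDs hN' _ (rfl : l + 1 = l + 1)]
  show _ = Chow.c1 hDs hN' rfl (gys hX hL hD (l + 1) (f (l + 1 + 1)))
  obtain ⟨α, hα, e⟩ := Chow.exists_cl (f (l + 1 + 1))
  obtain ⟨β, hβf, hβ⟩ := C1Api.exists_c1Cap_cycle hX.2.2 hN (l + 1) α hα (Chow.sec hN) (Chow.sec_ne_zero hN)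
  obtain ⟨ζ₁, h₁, hz₁⟩ := exists_gysin_cycle (s := s) (i := i) hX hL l β hβ (Chow.sec hL) (Chow.sec_ne_zero hL)
  obtain ⟨γ, hγf, hγ⟩ := exists_gysin_cycle (s := s) (i := i) hX hL (l + 1) α hα (Chow.sec hL) (Chow.sec_ne_zero hL)
  obtain ⟨ζ₂, hz₂f, hz₂⟩ := C1Api.exists_c1Cap_cycle hDs.2.2 hN' l γ hγ (Chow.sec hN') (Chow.sec_ne_zero hN')
  rw [← e, Chow.c1_cl hX hN rfl α hα _ (Chow.sec_ne_zero hN) β hβ hβf,
    gys_cl hX hL hD l β hβ _ (Chow.sec_ne_zero hL) ζ₁ hz₁ h₁,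
    gys_cl hX hL hD (l + 1) α hα _ (Chow.sec_ne_zero hL) γ hγ hγf,
    Chow.c1_cl hDs hN' rfl γ hγ _ (Chow.sec_ne_zero hN') ζ₂ hz₂ hz₂f, Chow.cl_eq_iff]
  have := Groth.Agent.S6466.result X D δ hX L N hL hN s i hD (l + 2) α
    (by rw [show l + 2 = l + 1 + 1 by ring]; exact hα) (Chow.sec hL) (Chow.sec_ne_zero hL) (Chow.sec hN)
    (Chow.sec_ne_zero hN) (Chow.sec hN') (Chow.sec_ne_zero hN') β hβf ⇑γ (funext hγf) ζ₁ ζ₂ h₁ hz₂f
  rwa [show l + 2 - 2 = l by ring] at this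

theorem Gys_es : ∀ (ls : List X.Modules) (_ : ∀ N ∈ ls, PicF.IsInvertible N) (j : ℕ) (f : T X δ),
    Gys hX hL hD (ESym.es (ls.map (Filt.cc hX)) j f) =
      ESym.es ((ls.map (Scheme.Modules.pullback i).obj).map (Filt.cc (isSetupD hX (i := i)))) j (Gys hX hL hD f)
  | ls, _, 0, f => by simp
  | [], _, j + 1, f => by
    simp only [List.map_nil, ESym.es_nil_succ]
    exact map_zero (Gys hX hL hD)
  | N :: ls, h, j + 1, f => by
    simp only [List.map_cons, ESym.es_cons_succ]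
    show Gys hX hL hD (ESym.es (ls.map (Filt.cc hX)) (j + 1) f + Filt.cc hX N (ESym.es (ls.map (Filt.cc hX)) j f)) = _
    rw [map_add, Gys_cc hX hL hD (h N List.mem_cons_self),
      Gys_es ls (fun M hM => h M (List.mem_cons_of_mem _ hM)) (j + 1) f,
      Gys_es ls (fun M hM => h M (List.mem_cons_of_mem _ hM)) j f]
    rfl

section pull

variable {Y : Scheme.{u}} (π : Y ⟶ X) {δY : Y → ℤ}

/-- The pulled back section. -/
def pullSec (L : X.Modules) (s : L.presheaf.obj (Opposite.op ⊤)) :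
    ((Scheme.Modules.pullback π).obj L).presheaf.obj (Opposite.op ⊤) :=
  OmegaSh.pullSect π L ⊤ s

include hL hD in
theorem isZeroScheme_pullSec : Cyc.IsZeroSchemeOf (pullback.fst π i) ((Scheme.Modules.pullback π).obj L) (pullSec π L s) := by
  have key : ∀ (y : Y), ∃ (V : X.Opens) (e : Γ(L, V)) (hy : π y ∈ V) (a : X.presheaf.stalk (π y)), IsGen L e ∧
      (L.presheaf.germ ⊤ (π y) trivial) s = a • L.presheaf.germ V (π y) hy e ∧
      (((Scheme.Modules.pullback π).obj L).presheaf.germ ⊤ y trivial) (pullSec π L s) =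
        π.stalkMap y a • ((Scheme.Modules.pullback π).obj L).presheaf.germ (π ⁻¹ᵁ V) y hy (OmegaSh.pullSect π L V e) := by
    intro y
    obtain ⟨V, e, hy, he⟩ := H11Ample.exists_gen hL (π y)
    obtain ⟨a, ha⟩ := (he (π y) hy).2 ((L.presheaf.germ ⊤ (π y) trivial) s)
    refine ⟨V, e, hy, a, he, ha.symm, ?_⟩
    rw [← H06Mod.pullStalk_germ, ← H06Mod.pullStalk_smul]
    refine Eq.trans (H06Mod.pullStalk_germ π L y ⊤ trivial s).symm (congrArg (H06Mod.pullStalk π L y) ha.symm)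
  refine ⟨?_, fun z => ?_⟩
  · ext y
    rw [Gysin.fst_mem_range_iff, hD.1]
    obtain ⟨V, e, hy, a, he, ha, ha'⟩ := key y
    show (Submodule.Quotient.mk _ : Cyc.secFibre L (π y)) = 0 ↔
      (Submodule.Quotient.mk _ : Cyc.secFibre ((Scheme.Modules.pullback π).obj L) y) = 0
    rw [ha, ha', Submodule.Quotient.mk_smul, Submodule.Quotient.mk_smul, ← not_iff_not,
      show (Submodule.Quotient.mk (L.presheaf.germ V (π y) hy e) : Cyc.secFibre L (π y)) = C1Api.fib L (π y) hy e from rfl]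
    refine (C1Api.residue_ne_zero_iff he hy a).trans (Iff.trans ?_
      (C1Api.residue_ne_zero_iff (IsGen.pullSect π he) (V := π ⁻¹ᵁ V) hy (π.stalkMap y a)).symm)
    show IsLocalRing.residue _ a ≠ 0 ↔ IsLocalRing.residue _ _ ≠ 0
    rw [IsLocalRing.residue_ne_zero_iff_isUnit, IsLocalRing.residue_ne_zero_iff_isUnit]
    exact (isUnit_map_iff (π.stalkMap y).hom a).symm
  · obtain ⟨V, e, hy, a, he, ha, ha'⟩ := key (pullback.fst π i z)
    refine ⟨_, _, Submodule.eq_top_iff'.mpr fun w =>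
      Submodule.mem_span_singleton.mpr ((IsGen.pullSect π he (pullback.fst π i z) hy).2 w), ha', ?_⟩
    have hsq := IsPullback.of_hasPullback π i
    rw [H8Props.NilThick.ker_stalkMap_eq hsq z, H8Props.NilThick.baseMap,
      Gysin.ker_eq_span_gen hD he (pullback.snd π i z) (H8Props.NilThick.base_eq hsq z) hy a ha, Ideal.map_span,
      Set.image_singleton]

theorem Gys_Pull [Flat π] [LocallyOfFiniteType π] {r : ℕ} (hr : Cyc.HasRelDim π r) (hδ : Cyc.DeltaCompat π δY δ)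
    (hY : Cyc.IsSetup Y δY) (hd : FlatRat.MaxDim π δY δ (r : ℤ))
    (hL' : PicF.IsInvertible ((Scheme.Modules.pullback π).obj L))
    [Flat (pullback.snd π i)] (hd' : FlatRat.MaxDim (pullback.snd π i) (fun z => δY (pullback.fst π i z)) (fun d => δ (i d)) (r : ℤ))
    (f : T X δ) :
    Tot.Pull (pullback.snd π i) (isSetupD hY (i := pullback.fst π i)) (isSetupD hX (i := i)) hd' (Gys hX hL hD f) =
      Gys hY hL' (isZeroScheme_pullSec hL hD π) (Tot.Pull π hY hX hd f) := by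
  haveI := hX.1
  haveI := hY.1
  haveI := (isSetupD hX (i := i)).1
  haveI := (isSetupD hY (i := pullback.fst π i)).1
  funext l
  obtain ⟨k, rfl⟩ : ∃ k, l = k + (r : ℤ) := ⟨l - r, by ring⟩
  rw [Tot.Pull_apply _ _ _ hd' _ (rfl : k + (r : ℤ) = k + r)]
  show _ = gys hY hL' (isZeroScheme_pullSec hL hD π) (k + r) (Tot.Pull π hY hX hd f (k + r + 1))
  rw [Tot.Pull_apply π hY hX hd f (show k + r + 1 = k + 1 + (r : ℤ) by ring)]
  show Chow.pull _ _ _ _ _ (gys hX hL hD k (f (k + 1))) = _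
  obtain ⟨α, hα, e⟩ := Chow.exists_cl (f (k + 1))
  obtain ⟨γ, hγf, hγ⟩ := exists_gysin_cycle (s := s) (i := i) hX hL k α hα (Chow.sec hL) (Chow.sec_ne_zero hL)
  obtain ⟨ζ₂, h₂, hz₂⟩ := C1Api.exists_pullFun_cycle (pullback.snd π i) (isSetupD hY (i := pullback.fst π i))
    (isSetupD hX (i := i)) hd' k γ hγ
  obtain ⟨β, hβf, hβ⟩ := C1Api.exists_pullFun_cycle π hY hX hd (k + 1) α hα
  rw [show k + 1 + (r : ℤ) = k + r + 1 by ring] at hβ
  obtain ⟨ζ₁, h₁, hz₁⟩ := exists_gysin_cycle (s := pullSec π L s) (i := pullback.fst π i) hY hL' (k + r) β hβ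
    (Chow.sec hL') (Chow.sec_ne_zero hL')
  rw [← e, gys_cl hX hL hD k α hα _ (Chow.sec_ne_zero hL) γ hγ hγf,
    Chow.pull_cl _ _ _ hd' rfl γ hγ ζ₂ hz₂ h₂, Chow.pull_cl π hY hX hd _ α hα β hβ hβf,
    gys_cl hY hL' (isZeroScheme_pullSec hL hD π) (k + r) β hβ _ (Chow.sec_ne_zero hL') ζ₁ hz₁ h₁, eq_comm,
    Chow.cl_eq_iff]
  refine Groth.Agent.S1933.result X Y D δ δY hX hY π r hr hδ L hL s i hD (pullSec π L s)
    (isZeroScheme_pullSec hL hD π) k α hα (Chow.sec hL) (Chow.sec_ne_zero hL) (Chow.sec hL') (Chow.sec_ne_zero hL')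
    ζ₁ ζ₂ (fun z => by rw [h₁ z, hβf]) ?_
  rw [h₂]
  exact congrArg _ (funext hγf)

end pull

end Groth.Agent.H3Cyc.GysinTot
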