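import Groth.Agent.H3Cyc.Tower
import Groth.Agent.H3Cyc.FiltList
import Mathlib

/-!
# Computing Chern classes after pulling back along a splitting tower
-/

set_option autoImplicit false
set_option linter.style.haveILetI false
set_option linter.unusedSectionVars false
set_option backward.isDefEq.respectTransparency.types false
universe u

open CategoryTheory CategoryTheory.Limits AlgebraicGeometry
open Groth.Agent.H3Cyc.Tot

noncomputable section

namespace Groth.Agent.H3Cyc.SplitChern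

open PBundle

theorem commute_es {R : Type*} [Semiring R] {y : R} : ∀ {l : List R} (_ : ∀ x ∈ l, Commute y x) (j : ℕ),
    Commute y (ESym.es l j)
  | l, _, 0 => by rw [ESym.es_zero]; exact Commute.one_right y
  | [], _, j + 1 => by rw [ESym.es_nil_succ]; exact Commute.zero_right y
  | x :: xs, h, j + 1 => by
    rw [ESym.es_cons_succ]
    exact (commute_es (fun z hz => h z (List.mem_cons_of_mem _ hz)) _).add_right
      ((h x List.mem_cons_self).mul_right (commute_es (fun z hz => h z (List.mem_cons_of_mem _ hz)) _))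

theorem commute_es_es {X : Scheme.{u}} {δ : X → ℤ} (hX : Cyc.IsSetup X δ) (l l' : List X.Modules) (i j : ℕ) :
    Commute (ESym.es (l.map (Filt.cc hX)) i) (ESym.es (l'.map (Filt.cc hX)) j) := by
  refine commute_es (fun y hy => (commute_es (fun x hx => ?_) i).symm) j
  obtain ⟨L, -, rfl⟩ := List.mem_map.mp hy
  obtain ⟨N, -, rfl⟩ := List.mem_map.mp hx
  exact Filt.cc_comm hX L N

section setting

variable {X Y : Scheme.{u}} {δ : X → ℤ} {δY : Y → ℤ} {hX : Cyc.IsSetup X δ} {hY : Cyc.IsSetup Y δY}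

theorem Pull_cc {f : Y ⟶ X} [Flat f] {r : ℤ} (hr : FlatRat.MaxDim f δY δ r) {L : X.Modules}
    (hL : PicF.IsInvertible L) (a : T X δ) :
    Tot.Pull f hY hX hr (Filt.cc hX L a) = Filt.cc hY ((Scheme.Modules.pullback f).obj L) (Tot.Pull f hY hX hr a) := by
  rw [Filt.cc_eq hX hL, Filt.cc_eq hY (H11Ample.isInvertible_pullback f hL)]
  exact Tot.Pull_C1 f hY hX hr hL _ a

end setting

/-- A splitting of finitely many bundles with everything needed. -/
theorem exists_setting {X : Scheme.{u}} {δ : X → ℤ} (hX : Cyc.IsSetup X δ) (m : ℕ) (E : Fin m → X.Modules)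
    (rk : Fin m → ℕ) (hE : ∀ i, FlatMod.IsFinLocFreeOfRank (rk i) (E i)) :
    ∃ (Y : Scheme.{u}) (π : Y ⟶ X) (δY : Y → ℤ) (hY : Cyc.IsSetup Y δY) (_ : Cyc.DeltaCompat π δY δ) (_ : IsProper π)
      (_ : Flat π) (d : ℕ) (_ : Cyc.HasRelDim π d) (hd : FlatRat.MaxDim π δY δ (d : ℤ)), Function.Injective (Tot.Pull π hY hX hd) ∧
      ∀ i, ∃ ls, Filt.SFilt ((Scheme.Modules.pullback π).obj (E i)) ls ∧ ls.length = rk i := by
  obtain ⟨Y, π, d, hT, -, hs⟩ := Tower.exists_split X m E rk hE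
  haveI := hT.isProper
  haveI := hT.flat
  obtain ⟨δY, hδY⟩ := SpFun.exists_deltaCompat π δ
  have hY := isSetup_of_locallyOfFiniteType π hX hδY
  exact ⟨Y, π, δY, hY, hδY, hT.isProper, hT.flat, d, hT.hasRelDim, hT.maxDim hδY, hT.Pull_injective hX hY hδY _ rfl, hs⟩

section natural

variable {X P : Scheme.{u}} {n : ℕ} {p : P ⟶ X} {O1 : P.Modules} (h : Bundle n p O1) {δ : X → ℤ} {δP : P → ℤ}
  (hX : Cyc.IsSetup X δ) (hP : Cyc.IsSetup P δP) (hδ : Cyc.DeltaCompat p δP δ)
variable {Y P' : Scheme.{u}} (f : Y ⟶ X) [Flat f] {δY : Y → ℤ} (hY : Cyc.IsSetup Y δY) {c : ℤ}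
  (hc : FlatRat.MaxDim f δY δ c) {p' : P' ⟶ Y} {g : P' ⟶ P} (hsq : IsPullback g p' p f) [Flat g] {δP' : P' → ℤ}
  (hP' : Cyc.IsSetup P' δP') (hp' : Cyc.DeltaCompat p' δP' δY) (hc' : FlatRat.MaxDim g δP' δP c)

include hc' in
theorem cT_pull (j : ℕ) (a : T X δ) : ChernTot.cT (h.baseChange hsq) hY hP' hp' j (Tot.Pull f hY hX hc a) =
    Tot.Pull f hY hX hc (ChernTot.cT h hX hP hδ j a) := by
  match j with
  | 0 => rfl
  | j + 1 =>
    by_cases hj : j < n + 1
    · rw [ChernTot.cT_succ _ hY hP' hp' hj, ChernTot.cT_succ h hX hP hδ hj]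
      show ((-1 : ℤ) ^ j) • ChernTot.opEnd _ _ _ _ _ _ = Tot.Pull f hY hX hc (((-1 : ℤ) ^ j) • _)
      rw [map_zsmul]
      congr 1
      funext l
      set i : Fin (n + 1) := ⟨n - j, by omega⟩ with hi
      have e : l = l + ((n + 1 : ℕ) - (i : ℕ)) + ((i : ℕ) - (n + 1 : ℕ)) := by ring
      have e' : l - c = l - c + ((n + 1 : ℕ) - (i : ℕ)) + ((i : ℕ) - (n + 1 : ℕ)) := by ring
      rw [Tot.Pull_apply f hY hX hc _ (show l = l - c + c by ring),
        ChernTot.opEnd_apply (h.baseChange hsq) hY hP' hp' i _ e,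
        Tot.Pull_apply f hY hX hc a (show l + ((n + 1 : ℕ) - (i : ℕ)) = l - c + ((n + 1 : ℕ) - (i : ℕ)) + c by ring)]
      exact (Chern.op_pull h hY hX hP hδ f hc hsq hP' hp' hc' i e' _ _ e _).trans
        (congrArg _ (ChernTot.opEnd_apply h hX hP hδ i a e').symm)
    · rw [ChernTot.cT_eq_zero _ hY hP' hp' (by omega), ChernTot.cT_eq_zero h hX hP hδ (by omega)]
      show 0 = Tot.Pull f hY hX hc 0
      rw [map_zero]

end natural

/-- Chern caps become elementary symmetric functions after splitting, for any bundle of projective spaces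
with a surjection from a pullback. -/
theorem master_bundle {X : Scheme.{u}} {δ : X → ℤ} (hX : Cyc.IsSetup X δ) {n : ℕ} {E : X.Modules}
    {P : Scheme.{u}} {p : P ⟶ X} {O1 : P.Modules} (hB : Bundle n p O1)
    (q : (Scheme.Modules.pullback p).obj E ⟶ O1) [Epi q] {δP : P → ℤ}
    (hPs : Cyc.IsSetup P δP) (hδ : Cyc.DeltaCompat p δP δ) {k : ℤ} {α : AlgebraicCycle X ℤ}
    (hα : α ∈ Cyc.Zk X δ k) {γ : Fin (n + 1 + 1) → AlgebraicCycle X ℤ} (hγ : Cyc.IsChernCap p δ δP O1 (n + 1) k α γ)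
    {Y : Scheme.{u}} (π : Y ⟶ X) [Flat π] [IsProper π] {δY : Y → ℤ} (hY : Cyc.IsSetup Y δY)
    (hπ : Cyc.DeltaCompat π δY δ) {d : ℕ} (hrel : Cyc.HasRelDim π d) (hd : FlatRat.MaxDim π δY δ (d : ℤ))
    {ls : List Y.Modules} (hF : Filt.Filt ((Scheme.Modules.pullback π).obj E) ls) (hlen : ls.length = n + 1)
    (j : Fin (n + 1 + 1)) {q' : ℤ} (hq : q' = k - ((j : ℕ) : ℤ)) (hm : γ j ∈ Cyc.Zk X δ q') :
    Tot.Pull π hY hX hd (Pi.single q' (ChowOps.cl (γ j) hm)) =
      ESym.es (ls.map (Filt.cc hY)) (j : ℕ) (Tot.Pull π hY hX hd (Pi.single k (ChowOps.cl α hα))) := by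
  haveI := hB.flat
  haveI := hB.isProper
  let P' := pullback p π
  have hsq : IsPullback (pullback.fst p π) (pullback.snd p π) p π := IsPullback.of_hasPullback _ _
  haveI : Flat (pullback.fst p π) := MorphismProperty.pullback_fst _ _ inferInstance
  haveI : IsProper (pullback.snd p π) := MorphismProperty.pullback_snd _ _ inferInstance
  obtain ⟨δP', hp'⟩ := SpFun.exists_deltaCompat (pullback.snd p π) δY
  have hP' := isSetup_of_locallyOfFiniteType _ hY hp'
  haveI : IsProper (pullback.fst p π) := MorphismProperty.pullback_fst _ _ inferInstance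
  have hg : Cyc.DeltaCompat (pullback.fst p π) δP' δP := BCPush.deltaCompat_cancel _ p hδ (by
    rw [hsq.w]; exact BCPush.deltaCompat_comp _ π hp' hπ)
  have hc' : FlatRat.MaxDim (pullback.fst p π) δP' δP (d : ℤ) :=
    FlatRat.maxDim_of_hasRelDim _ (hasRelDim_of_isPullback hsq.flip hrel) hg
  let q'' : (Scheme.Modules.pullback (pullback.snd p π)).obj ((Scheme.Modules.pullback π).obj E) ⟶
      (Scheme.Modules.pullback (pullback.fst p π)).obj O1 :=
    ((Scheme.Modules.pullbackComp (pullback.snd p π) π).app E ≪≫ (Scheme.Modules.pullbackCongr hsq.w.symm).app E ≪≫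
      ((Scheme.Modules.pullbackComp (pullback.fst p π) p).app E).symm).hom ≫
      (Scheme.Modules.pullback (pullback.fst p π)).map q
  haveI : Epi ((Scheme.Modules.pullback (pullback.fst p π)).map q) := by
    haveI := (Scheme.Modules.pullbackPushforwardAdjunction (pullback.fst p π)).isLeftAdjoint
    infer_instance
  haveI : Epi q'' := epi_comp _ _
  have hes := ChernTot.cT_eq_es (hB.baseChange hsq) hY hP' hp' (q := q'') hF hlen (j : ℕ)
  rw [← hes, cT_pull hB hX hPs hδ π hY hd hsq hP' hp' hc']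
  congr 1
  funext l
  by_cases hl : l = q'
  · subst hl
    rw [Tot.single_apply, ← ChernTot.cl_eq' hB hX hPs hδ hα hγ j hq hm _ (Tot.single_apply _ _)]
  · rw [Pi.single_eq_of_ne hl]
    have h0 := ChernTot.cT_congr hB hX hPs hδ (j : ℕ) (f := Pi.single k (ChowOps.cl α hα)) (g := (0 : T X δ))
      (l := l) (by rw [Pi.single_eq_of_ne (by omega)]; rfl)
    rw [h0, map_zero]
    rfl

/-- Chern caps become elementary symmetric functions after splitting. -/
theorem master {X : Scheme.{u}} {δ : X → ℤ} (hX : Cyc.IsSetup X δ) {r : ℕ} {E : X.Modules}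
    (hE : FlatMod.IsFinLocFreeOfRank r E) {P : Scheme.{u}} {p : P ⟶ X} {O1 : P.Modules}
    {q : (Scheme.Modules.pullback p).obj E ⟶ O1} (hP : KRR.IsProjBundle p E O1 q) {δP : P → ℤ}
    (hPs : Cyc.IsSetup P δP) (hδ : Cyc.DeltaCompat p δP δ) {k : ℤ} {α : AlgebraicCycle X ℤ}
    (hα : α ∈ Cyc.Zk X δ k) {γ : Fin (r + 1) → AlgebraicCycle X ℤ} (hγ : Cyc.IsChernCap p δ δP O1 r k α γ)
    {Y : Scheme.{u}} (π : Y ⟶ X) [Flat π] [IsProper π] {δY : Y → ℤ} (hY : Cyc.IsSetup Y δY)
    (hπ : Cyc.DeltaCompat π δY δ) {d : ℕ} (hrel : Cyc.HasRelDim π d) (hd : FlatRat.MaxDim π δY δ (d : ℤ)) {ls : List Y.Modules}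
    (hF : Filt.Filt ((Scheme.Modules.pullback π).obj E) ls) (hlen : ls.length = r) (j : Fin (r + 1)) {q' : ℤ}
    (hq : q' = k - ((j : ℕ) : ℤ)) (hm : γ j ∈ Cyc.Zk X δ q') :
    Tot.Pull π hY hX hd (Pi.single q' (ChowOps.cl (γ j) hm)) =
      ESym.es (ls.map (Filt.cc hY)) (j : ℕ) (Tot.Pull π hY hX hd (Pi.single k (ChowOps.cl α hα))) := by
  cases r with
  | zero =>
    obtain rfl : j = 0 := Subsingleton.elim (α := Fin 1) _ _
    obtain rfl : q' = k := by simpa using hq
    show _ = ESym.es (ls.map (Filt.cc hY)) 0 _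
    rw [ESym.es_zero, Chow.cl_congr hm hα (congrArg _ hγ.1)]
    rfl
  | succ n =>
    haveI := hP.epi
    exact master_bundle hX (PBundle.of_isProjBundle hE hP) q hPs hδ hα hγ π hY hπ hrel hd hF hlen j hq hm

end Groth.Agent.H3Cyc.SplitChern
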