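import Groth.Agent.H3Cyc.VBComp
import Groth.Agent.H11QMap.ConeAffineRel
import Groth.Agent.H17.PullSect
import Mathlib

/-!
# The affine bundle `σ = 1` inside a vector bundle is open in the projective bundle
-/

set_option autoImplicit false
set_option linter.style.haveILetI false
set_option linter.unusedSectionVars false
set_option backward.isDefEq.respectTransparency.types false
universe u

open CategoryTheory CategoryTheory.Limits AlgebraicGeometry TopologicalSpace Opposite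
open HomogeneousLocalization
open Groth.Agent.H11Tilde (IsGen)
open Groth.Agent.H11Sym

noncomputable section

namespace Groth.Agent.H3Cyc.AffComp

/-- For `f` of degree one the ring `A_(f)` is `A/(f - 1)`. -/
theorem bijective_dehom {A σ : Type u} [CommRing A] [SetLike σ A] [AddSubgroupClass σ A] (𝒜 : ℕ → σ)
    [GradedRing 𝒜] {f : A} (hf : f ∈ 𝒜 1) (l : Localization.Away f →+* A ⧸ Ideal.span {f - 1})
    (hl : ∀ a, l (algebraMap A (Localization.Away f) a) = Ideal.Quotient.mk _ a) :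
    Function.Bijective (l.comp (algebraMap (Away 𝒜 f) (Localization.Away f))) := by
  let ω : A ⧸ Ideal.span {f - 1} →+* Away 𝒜 f :=
    Ideal.Quotient.lift _ (H11Proj.awayProjHom 𝒜 hf) fun a ha => by
      obtain ⟨b, rfl⟩ := Ideal.mem_span_singleton'.mp ha
      rw [map_mul, map_sub, H11Proj.awayProjHom_self, map_one, sub_self, mul_zero]
  have hlf : l (algebraMap A (Localization.Away f) f) = 1 := by
    rw [hl, ← map_one (Ideal.Quotient.mk (Ideal.span {f - 1})), Ideal.Quotient.eq]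
    exact Ideal.mem_span_singleton_self _
  have hmk : ∀ (n : ℕ) (a : A) (ha : a ∈ 𝒜 (n • 1)),
      l.comp (algebraMap (Away 𝒜 f) (Localization.Away f)) (Away.mk 𝒜 hf n a ha) = Ideal.Quotient.mk _ a := by
    intro n a ha
    have e := congrArg l (IsLocalization.mk'_spec (M := Submonoid.powers f) (Localization.Away f) a
      ⟨f ^ n, pow_mem (Submonoid.mem_powers _) n⟩)
    rw [map_mul, map_pow, map_pow, hlf, one_pow, mul_one, hl] at e
    rw [RingHom.comp_apply, HomogeneousLocalization.algebraMap_apply, Away.val_mk, Localization.mk_eq_mk']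
    exact e
  refine ⟨Function.LeftInverse.injective (g := ω) fun c => ?_, fun c => ⟨ω c, ?_⟩⟩
  · obtain ⟨n, a, ha, rfl⟩ := Away.mk_surjective 𝒜 hf c
    rw [hmk, Ideal.Quotient.lift_mk, H11Proj.awayProjHom_mk 𝒜 hf ha]
  · obtain ⟨a, rfl⟩ := Ideal.Quotient.mk_surjective c
    refine H11Proj.eq_on_homogeneous 𝒜
      (g₁ := ((l.comp (algebraMap (Away 𝒜 f) (Localization.Away f))).comp (H11Proj.awayProjHom 𝒜 hf)).toAddMonoidHom)
      (g₂ := (Ideal.Quotient.mk (Ideal.span {f - 1})).toAddMonoidHom) (fun n b hb => ?_) a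
    have hb' : b ∈ 𝒜 (n • 1) := by rwa [smul_eq_mul, mul_one]
    change l.comp (algebraMap (Away 𝒜 f) (Localization.Away f)) (H11Proj.awayProjHom 𝒜 hf b) = _
    rw [H11Proj.awayProjHom_mk 𝒜 hf hb', hmk]
    rfl

variable {X : Scheme.{u}}

theorem smul_one_eq (U : X.Opens) (m : Γ(Coh.structureModule X, U)) :
    (show Γ(X, U) from m) • H11Ample.one U = m := mul_one (show Γ(X, U) from m)

theorem exists_completion_graded {n : ℕ} {E : X.Modules} (hq : Coh.IsQCoh E)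
    (hE : FlatMod.IsFinLocFreeOfRank (n + 1) E) {𝒯 : RelProj.QCGrAlg X} {jT : E ⟶ 𝒯.toModule}
    (hT : RelProj.IsGrSymAlg E 𝒯 jT) {A1 : RelSpec.QCAlg X} {j1 : Coh.structureModule X ⟶ A1.toModule}
    (hA1 : RelSpec.IsSymAlg (Coh.structureModule X) A1 j1) (σ : Coh.structureModule X ⟶ E) (ψ : A1 ⟶ 𝒯.toQCAlg)
    (hψ : j1 ≫ RelSpec.QCAlg.Hom.toModuleMap ψ = σ ≫ jT)
    (u : Coh.structureModule X ⟶ (RelSpec.QCAlg.unit X).toModule) [IsIso u] (ε : A1 ⟶ RelSpec.QCAlg.unit X)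
    (hε : j1 ≫ RelSpec.QCAlg.Hom.toModuleMap ε = u) {B : Scheme.{u}} {f₁ : B ⟶ 𝒯.toQCAlg.spec}
    {f₂ : B ⟶ (RelSpec.QCAlg.unit X).spec}
    (hsq : IsPullback f₁ f₂ (RelSpec.QCAlg.specMap ψ) (RelSpec.QCAlg.specMap ε)) :
    ∃ (Q : Scheme.{u}) (q : Q ⟶ X) (O1 : Q.Modules) (b : B ⟶ Q) (φ : (Scheme.Modules.pullback q).obj E ⟶ O1),
      PBundle.Bundle n q O1 ∧ IsOpenImmersion b ∧ b ≫ q = f₁ ≫ 𝒯.toQCAlg.π ∧ Epi φ ∧
        (Set.range b)ᶜ ⊆ Filt.zeroSet ((Scheme.Modules.pullback q).map σ ≫ φ) := by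
  classical
  have hAf := hT.1.isAffSym hq
  have hO : Coh.IsQCoh (Coh.structureModule X) := H8Props.FinLocFree.isQCoh_of_isFinLocFree _
    (H22Alg.KPullLam.finLocFree_of_rank (H22Alg.PB.rank_one_of_isInvertible H11Ample.isInvertible_structureModule))
  -- elements over opens
  have hc : ∀ U : X.Opens, IsUnit (show Γ(X, U) from u.app U (H11Ample.one U)) := fun U => by
    have h1 : u.app U ((inv u).app U (1 : Γ(X, U))) = (1 : Γ(X, U)) :=
      congrArg (fun φ => Scheme.Modules.Hom.app φ U (1 : Γ(X, U))) (IsIso.inv_hom_id u)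
    rw [← smul_one_eq U ((inv u).app U (1 : Γ(X, U))), Scheme.Modules.Hom.app_smul] at h1
    exact IsUnit.of_mul_eq_one_right _ h1
  let m : ∀ U : X.Opens, Γ(E, U) := fun U => ((hc U).unit⁻¹ : (Γ(X, U))ˣ).1 • σ.app U (H11Ample.one U)
  let f : ∀ U : X.Opens, 𝒯.presheaf.obj (op U) := fun U => japp (B := 𝒯.toQCAlg) jT U (m U)
  have hf : ∀ (U : X.Opens) (hU : IsAffineOpen U), f U ∈ 𝒯.deg U hU 1 := fun U hU => japp_mem hT hU _
  have hσ : ∀ U : X.Opens, japp (B := 𝒯.toQCAlg) jT U (σ.app U (H11Ample.one U)) =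
      astr 𝒯.toQCAlg U (u.app U (H11Ample.one U)) * f U := fun U => by
    simp only [f, m]
    rw [japp_smul, ← mul_assoc]
    erw [← map_mul (astr 𝒯.toQCAlg U)]
    rw [show (show Γ(X, U) from u.app U (H11Ample.one U)) * ((hc U).unit⁻¹ : (Γ(X, U))ˣ).1 = 1 from
      (hc U).mul_val_inv, map_one, one_mul]
  -- the cone machinery
  have hqp := VBComp.isQCoh_plusOne hq
  obtain ⟨𝒯h, jTh, hTh⟩ := exists_isGrSymAlg (VBComp.plusOne E) hqp
  obtain ⟨ι, hz, -⟩ := VBComp.exists_poly hq hT hTh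
  obtain ⟨PC, pC, chartC, hPC⟩ := H11Proj.exists_isRelProj 𝒯h
  obtain ⟨Q, q, chart, hP⟩ := H11Proj.exists_isRelProj 𝒯
  obtain ⟨O1, lam, hL⟩ := H11Tilde.exists_isRelTwist hP 1
  obtain ⟨φc, hφc⟩ := exists_canon hq hT hP hL
  have hPB : KRR.IsProjBundle q E O1 (((Scheme.Modules.pullbackPushforwardAdjunction q).homEquiv E O1).symm φc) :=
    ⟨H22Alg.PB.rank_one_of_isInvertible (isInvertible_twist_one hq hT hP hL),
      epi_homEquiv_symm_of_spans (spans_of_eq_ks hq hT hL hφc), fun T g L hL' s hs =>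
        existsUnique_toBundle hq hT hP hL hφc g L (H22Alg.PB.isInvertible_of_rank_one hL') s hs⟩
  obtain ⟨i, hi, -⟩ := H11QMap.ConeImm.exists_coneImm hz hPC
  obtain ⟨r, hr, -⟩ := H11QMap.ConeRetrRel.exists_retr hz hPC hP
  let i' : ((RelCone.pointedCone 𝒯 : 𝒯.toQCAlg.spec.Opens) : Scheme.{u}) ⟶
      ((RelCone.pointedProjCone 𝒯 hz pC chartC : PC.Opens) : Scheme.{u}) :=
    IsOpenImmersion.lift (RelCone.pointedProjCone 𝒯 hz pC chartC).ι ((RelCone.pointedCone 𝒯).ι ≫ i) (by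
      rw [Scheme.Opens.range_ι]
      rintro _ ⟨x, rfl⟩
      rw [Scheme.Hom.comp_apply]
      exact H11QMap.ConeRetrRel.pointedCone_le hz hPC hi x.2)
  have hi' : i' ≫ (RelCone.pointedProjCone 𝒯 hz pC chartC).ι = (RelCone.pointedCone 𝒯).ι ≫ i :=
    IsOpenImmersion.lift_fac _ _ _
  -- the charts of `B`
  let R' : X.Opens → CommRingCat.{u} := fun U => CommRingCat.of (𝒯.presheaf.obj (op U) ⧸ Ideal.span {f U - 1})
  let π' : ∀ U, 𝒯.presheaf.obj (op U) ⟶ R' U := fun U => CommRingCat.ofHom (Ideal.Quotient.mk _)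
  let s' : ∀ U, (RelSpec.QCAlg.unit X).presheaf.obj (op U) ⟶ R' U := fun U => 𝒯.str.app (op U) ≫ π' U
  have hf1 : ∀ U, (π' U).hom (f U) = 1 := fun U => by
    show Ideal.Quotient.mk _ (f U) = 1
    rw [← map_one (Ideal.Quotient.mk (Ideal.span {f U - 1})), Ideal.Quotient.eq]
    exact Ideal.mem_span_singleton_self _
  have hψ' : ∀ U x, (ψ.hom.app (op U)).hom (japp j1 U x) = japp (B := 𝒯.toQCAlg) jT U (σ.app U x) := fun U x =>
    congrArg (fun p : Coh.structureModule X ⟶ 𝒯.toQCAlg.toModule => japp (B := 𝒯.toQCAlg) p U x) hψ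
  have hε' : ∀ U x, (ε.hom.app (op U)).hom (japp j1 U x) = (show Γ(X, U) from u.app U x) := fun U x =>
    congrArg (fun p : Coh.structureModule X ⟶ (RelSpec.QCAlg.unit X).toModule => japp p U x) hε
  have hstrψ : ∀ U r, (ψ.hom.app (op U)).hom (astr A1 U r) = astr 𝒯.toQCAlg U r := fun U r =>
    ConcreteCategory.congr_hom (NatTrans.congr_app ψ.comm (op U)) r
  have hstrε : ∀ U r, (ε.hom.app (op U)).hom (astr A1 U r) = r := fun U r =>
    ConcreteCategory.congr_hom (NatTrans.congr_app ε.comm (op U)) r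
  have hpo : ∀ (U : X.Opens) (hU : IsAffineOpen U),
      IsPushout (ψ.hom.app (op U)) (ε.hom.app (op U)) (π' U) (s' U) := by
    intro U hU
    have w : ψ.hom.app (op U) ≫ π' U = ε.hom.app (op U) ≫ s' U := by
      refine CommRingCat.hom_ext ((hA1.isAffSym hO).ringHom_ext hU (fun r => ?_) fun x => ?_)
      · show (π' U).hom ((ψ.hom.app (op U)).hom (astr A1 U r)) =
          (π' U).hom (astr 𝒯.toQCAlg U ((ε.hom.app (op U)).hom (astr A1 U r)))
        rw [hstrψ, hstrε]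
      · show (π' U).hom ((ψ.hom.app (op U)).hom (japp j1 U x)) =
          (π' U).hom (astr 𝒯.toQCAlg U ((ε.hom.app (op U)).hom (japp j1 U x)))
        rw [hψ', hε', ← smul_one_eq U x, Scheme.Modules.Hom.app_smul, Scheme.Modules.Hom.app_smul, japp_smul, hσ,
          map_mul, map_mul, hf1, mul_one]
        refine ((map_mul (π' U).hom _ _).symm.trans (congrArg (π' U).hom ?_))
        exact (map_mul (astr 𝒯.toQCAlg U) _ _).symm
    refine ⟨⟨w⟩, ⟨PushoutCocone.IsColimit.mk _ (fun s => CommRingCat.ofHom (Ideal.Quotient.lift _ s.inl.hom ?_))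
      (fun s => ?_) (fun s => ?_) fun s g hg₁ _ => ?_⟩⟩
    · intro a ha
      obtain ⟨c, rfl⟩ := Ideal.mem_span_singleton'.mp ha
      have hsr : ∀ r : Γ(X, U), s.inl.hom (astr 𝒯.toQCAlg U r) = s.inr.hom r := fun r => by
        rw [← hstrψ]
        exact (ConcreteCategory.congr_hom s.condition _).trans (congrArg s.inr.hom (hstrε U r))
      have hsσ : s.inl.hom (japp (B := 𝒯.toQCAlg) jT U (σ.app U (H11Ample.one U))) =
          s.inr.hom (u.app U (H11Ample.one U)) := by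
        rw [← hψ']
        exact (ConcreteCategory.congr_hom s.condition _).trans (congrArg s.inr.hom (hε' U _))
      have h1 : s.inl.hom (f U) = 1 := by
        have hu1 : IsUnit (s.inr.hom (show Γ(X, U) from u.app U (H11Ample.one U))) := (hc U).map _
        refine hu1.mul_left_cancel ?_
        rw [mul_one, ← hsr, ← map_mul, ← hσ, hsσ]
        exact (hsr _).symm
      rw [map_mul, map_sub, h1, map_one, sub_self, mul_zero]
    · exact CommRingCat.hom_ext (RingHom.ext fun a => rfl)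
    · refine CommRingCat.hom_ext (RingHom.ext fun r => ?_)
      show s.inl.hom (astr 𝒯.toQCAlg U r) = s.inr.hom r
      rw [← hstrψ]
      exact (ConcreteCategory.congr_hom s.condition _).trans (congrArg s.inr.hom (hstrε U r))
    · refine CommRingCat.hom_ext (Ideal.Quotient.ringHom_ext (RingHom.ext fun a => ?_))
      exact ConcreteCategory.congr_hom hg₁ a
  have hκ : ∀ U : X.affineOpens, ∃ κ : Spec (R' U.1) ⟶ B,
      IsPullback (Spec.map (π' U.1)) κ (𝒯.toQCAlg.ι U.1 U.2) f₁ := by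
    rintro ⟨U, hU⟩
    have hu1 : IsPullback (Spec.map (ε.hom.app (op U))) ((RelSpec.QCAlg.unit X).ι U hU) (A1.ι U hU)
        (RelSpec.QCAlg.specMap ε) := by
      apply IsOpenImmersion.isPullback
      · exact (RelSpec.QCAlg.ι_specMap U hU ε)
      · rw [← A1.π_preimage U hU, ← (RelSpec.QCAlg.unit X).π_preimage U hU, ← Scheme.Hom.comp_preimage,
          RelSpec.QCAlg.specMap_π]
    have hbig := (isPullback_SpecMap_of_isPushout _ _ _ _ (hpo U hU)).paste_vert hu1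
    rw [← RelSpec.QCAlg.ι_specMap U hU ψ] at hbig
    let κ : Spec (R' U) ⟶ B := hsq.lift (Spec.map (π' U) ≫ 𝒯.toQCAlg.ι U hU)
      (Spec.map (s' U) ≫ (RelSpec.QCAlg.unit X).ι U hU) (by rw [Category.assoc]; exact hbig.w)
    refine ⟨κ, IsPullback.of_bot ?_ (hsq.lift_fst _ _ _).symm hsq⟩
    rw [hsq.lift_snd]
    exact hbig
  choose κ hκ using hκ
  haveI : ∀ U, IsOpenImmersion (κ U) := fun U => MorphismProperty.of_isPullback (hκ U) inferInstance
  have hκr : ∀ (U : X.affineOpens) (x : B), 𝒯.toQCAlg.π (f₁ x) ∈ U.1 → x ∈ Set.range (κ U) := by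
    intro U x hx
    obtain ⟨t, ht⟩ := (𝒯.toQCAlg.π_preimage U.1 U.2).le hx
    obtain ⟨z, -, hz'⟩ := Scheme.Pullback.exists_preimage_pullback t x ht
    exact ⟨(hκ U).isoPullback.inv z, by rw [← Scheme.Hom.comp_apply, (hκ U).isoPullback_inv_snd]; exact hz'⟩
  have hcover : ∀ x : B, ∃ U : X.affineOpens, x ∈ Set.range (κ U) := fun x => by
    obtain ⟨U, hU, hxU, -⟩ := exists_isAffineOpen_mem_and_subset (X := X) (x := 𝒯.toQCAlg.π (f₁ x)) (U := ⊤) trivial
    exact ⟨⟨U, hU⟩, hκr _ x hxU⟩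
  have hpt : Set.range f₁ ⊆ Set.range (RelCone.pointedCone 𝒯).ι := by
    rintro _ ⟨x, rfl⟩
    obtain ⟨U, y, rfl⟩ := hcover x
    rw [← Scheme.Hom.comp_apply, ← (hκ U).w, Scheme.Opens.range_ι]
    refine (H11QMap.ConeRetrRel.mem_pointedCone_iff _).2 ⟨U.1, U.2, 1, one_pos, f U.1, _, hf U.1 U.2, fun h => ?_,
      (Scheme.Hom.comp_apply _ _ _).symm⟩
    have h' : (π' U.1).hom (f U.1) ∈ y.asIdeal := h
    rw [hf1] at h'
    exact y.isPrime.ne_top (Ideal.eq_top_of_isUnit_mem _ h' isUnit_one)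
  let b : B ⟶ Q := IsOpenImmersion.lift (RelCone.pointedCone 𝒯).ι f₁ hpt ≫ i' ≫ r
  have hθ : ∀ U : X.affineOpens, ∃ θ : CommRingCat.of (Away (𝒯.deg U.1 U.2) (f U.1)) ⟶ R' U.1, IsIso θ ∧
      κ U ≫ b = Spec.map θ ≫ Proj.awayι (𝒯.deg U.1 U.2) (f U.1) (hf U.1 U.2) one_pos ≫
        RelProj.emb q chart U.1 U.2 := by
    intro U
    let l : Localization.Away (f U.1) →+* R' U.1 :=
      IsLocalization.Away.lift (f U.1) (g := (π' U.1).hom) (by rw [hf1]; exact isUnit_one)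
    have hl : ∀ a, l (algebraMap _ (Localization.Away (f U.1)) a) = (π' U.1).hom a :=
      fun a => IsLocalization.Away.lift_eq _ _ a
    have hbij := bijective_dehom (𝒯.deg U.1 U.2) (hf U.1 U.2) l hl
    refine ⟨CommRingCat.ofHom (l.comp (algebraMap (Away (𝒯.deg U.1 U.2) (f U.1)) (Localization.Away (f U.1)))),
      (ConcreteCategory.isIso_iff_bijective _).2 hbij, ?_⟩
    have hlift : κ U ≫ IsOpenImmersion.lift (RelCone.pointedCone 𝒯).ι f₁ hpt =
        Spec.map (CommRingCat.ofHom l) ≫ H11QMap.ConeRetrRel.echart U.1 U.2 one_pos (f U.1) (hf U.1 U.2) := by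
      rw [← cancel_mono (RelCone.pointedCone 𝒯).ι, Category.assoc, IsOpenImmersion.lift_fac, Category.assoc,
        H11QMap.ConeRetrRel.echart_ι, ← Spec.map_comp_assoc, ← (hκ U).w]
      refine congrArg (fun g => Spec.map g ≫ 𝒯.toQCAlg.ι U.1 U.2) (CommRingCat.hom_ext (RingHom.ext fun a => ?_))
      exact (hl a).symm
    rw [show κ U ≫ b = (κ U ≫ IsOpenImmersion.lift (RelCone.pointedCone 𝒯).ι f₁ hpt) ≫ i' ≫ r from
      (Category.assoc _ _ _).symm, hlift, Category.assoc,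
      ← (H11QMap.ConeRetrRel.isPullback_echart hz hPC hP hi hr hi' U.1 U.2 one_pos (f U.1) (hf U.1 U.2)).w,
      ← Spec.map_comp_assoc]
    rfl
  choose θ hθi hθe using hθ
  haveI := hθi
  haveI hoi : ∀ U, IsOpenImmersion (κ U ≫ b) := fun U => by rw [hθe U]; infer_instance
  have hbq : b ≫ q = f₁ ≫ 𝒯.toQCAlg.π := by
    show (_ ≫ i' ≫ r) ≫ q = _
    rw [Category.assoc, Category.assoc, H11QMap.ConeRetrRel.retr_over hz hPC hP hr, reassoc_of% hi',
      H11QMap.ConeRetrRel.coneImm_over hz hPC hi, IsOpenImmersion.lift_fac_assoc]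
  have hinj : Function.Injective b := by
    intro x y hxy
    obtain ⟨U, hU, hxU, -⟩ := exists_isAffineOpen_mem_and_subset (X := X) (x := 𝒯.toQCAlg.π (f₁ x)) (U := ⊤) trivial
    have hyU : 𝒯.toQCAlg.π (f₁ y) ∈ U := by
      rw [← Scheme.Hom.comp_apply, ← hbq, Scheme.Hom.comp_apply, ← hxy, ← Scheme.Hom.comp_apply, hbq]
      exact hxU
    obtain ⟨x', rfl⟩ := hκr ⟨U, hU⟩ x hxU
    obtain ⟨y', rfl⟩ := hκr ⟨U, hU⟩ y hyU
    rw [← Scheme.Hom.comp_apply, ← Scheme.Hom.comp_apply] at hxy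
    rw [(κ ⟨U, hU⟩ ≫ b).isOpenEmbedding.injective hxy]
  have hopen : IsOpenMap b := by
    intro W hW
    have : b '' W = ⋃ U : X.affineOpens, (κ U ≫ b) '' (κ U ⁻¹' W) := by
      ext z
      simp only [Set.mem_image, Set.mem_iUnion, Set.mem_preimage, Scheme.Hom.comp_apply]
      constructor
      · rintro ⟨x, hx, rfl⟩
        obtain ⟨U, y, rfl⟩ := hcover x
        exact ⟨U, y, hx, rfl⟩
      · rintro ⟨U, y, hy, rfl⟩
        exact ⟨_, hy, rfl⟩
    rw [this]
    exact isOpen_iUnion fun U => (κ U ≫ b).isOpenEmbedding.isOpenMap _ (hW.preimage (κ U).continuous)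
  haveI : ∀ x : B, IsIso (b.stalkMap x) := fun x => by
    obtain ⟨U, y, rfl⟩ := hcover x
    haveI : IsIso (b.stalkMap (κ U y) ≫ (κ U).stalkMap y) := by
      rw [← Scheme.Hom.stalkMap_comp]
      exact (IsOpenImmersion.iff_isIso_stalkMap.mp (hoi U)).2 y
    exact IsIso.of_isIso_comp_right _ ((κ U).stalkMap y)
  haveI hb : IsOpenImmersion b :=
    IsOpenImmersion.of_isIso_stalkMap b (.of_continuous_injective_isOpenMap b.continuous hinj hopen)
  refine ⟨Q, q, O1, b, ((Scheme.Modules.pullbackPushforwardAdjunction q).homEquiv E O1).symm φc,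
    PBundle.of_isProjBundle hE hPB, hb, hbq, hPB.epi, fun x hx v => ?_⟩
  obtain ⟨U, hU, hxU, -⟩ := exists_isAffineOpen_mem_and_subset (X := X) (x := q x) (U := ⊤) trivial
  obtain ⟨a, rfl⟩ := ((IsGen.pullSect q (H11Ample.isGen_one U)) x hxU).2 v
  rw [LinearMap.map_smul]
  refine (congrArg (fun z => a • z) ?_).trans (smul_zero a)
  rw [Filt.fmap_germ]
  show C1Api.fib O1 x hxU ((((Scheme.Modules.pullbackPushforwardAdjunction q).homEquiv E O1).symm φc).app (q ⁻¹ᵁ U)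
    (((Scheme.Modules.pullback q).map σ).app (q ⁻¹ᵁ U) (OmegaSh.pullSect q _ U (H11Ample.one U)))) = 0
  rw [← H17.PullSect.pullSect_natural q σ, ← homEquiv_app_apply, Equiv.apply_symm_apply,
    show uSec φc (σ.app U (H11Ample.one U)) = ks hT hL hU (σ.app U (H11Ample.one U)) from hφc U hU _]
  by_contra hne
  obtain ⟨W, hW, hxW, hg⟩ := Filt.exists_isGen_of_fib_ne_zero (isInvertible_twist_one hq hT hP hL) _ hxU hne
  obtain ⟨y, hy, hyx⟩ := (genAt_ks hq hT hL hU (σ.app U (H11Ample.one U))).le (H11Proj.le_genAt _ hW hg hxW)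
  have hfy : f U ∉ y.asHomogeneousIdeal := fun h => hy (by rw [hσ]; exact Ideal.mul_mem_left _ _ h)
  obtain ⟨w, hw⟩ := (Proj.opensRange_awayι (𝒯.deg U hU) (f U) (hf U hU) one_pos).ge hfy
  refine hx ⟨κ ⟨U, hU⟩ (inv (Spec.map (θ ⟨U, hU⟩)) w), ?_⟩
  rw [← Scheme.Hom.comp_apply, ← Scheme.Hom.comp_apply, hθe, IsIso.inv_hom_id_assoc, Scheme.Hom.comp_apply, hw]
  exact hyx

/-- The affine bundle `σ = 1` is open in the projective bundle, off the zero locus of `σ`. -/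
theorem exists_completion {n : ℕ} {E : X.Modules} (hq : Coh.IsQCoh E)
    (hE : FlatMod.IsFinLocFreeOfRank (n + 1) E) {A : RelSpec.QCAlg X} {j : E ⟶ A.toModule}
    (hA : RelSpec.IsSymAlg E A j) {A1 : RelSpec.QCAlg X} {j1 : Coh.structureModule X ⟶ A1.toModule}
    (hA1 : RelSpec.IsSymAlg (Coh.structureModule X) A1 j1) (σ : Coh.structureModule X ⟶ E) (ψ : A1 ⟶ A)
    (hψ : j1 ≫ RelSpec.QCAlg.Hom.toModuleMap ψ = σ ≫ j)
    (u : Coh.structureModule X ⟶ (RelSpec.QCAlg.unit X).toModule) [IsIso u] (ε : A1 ⟶ RelSpec.QCAlg.unit X)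
    (hε : j1 ≫ RelSpec.QCAlg.Hom.toModuleMap ε = u) :
    ∃ (Q : Scheme.{u}) (q : Q ⟶ X) (O1 : Q.Modules)
      (b : pullback (RelSpec.QCAlg.specMap ψ) (RelSpec.QCAlg.specMap ε) ⟶ Q)
      (φ : (Scheme.Modules.pullback q).obj E ⟶ O1),
      PBundle.Bundle n q O1 ∧ IsOpenImmersion b ∧
        b ≫ q = pullback.fst (RelSpec.QCAlg.specMap ψ) (RelSpec.QCAlg.specMap ε) ≫ A.π ∧ Epi φ ∧
        (Set.range b)ᶜ ⊆ Filt.zeroSet ((Scheme.Modules.pullback q).map σ ≫ φ) := by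
  obtain ⟨𝒯, jT, hT⟩ := exists_isGrSymAlg E hq
  obtain ⟨a, ha, -⟩ := hA 𝒯.toQCAlg jT
  obtain ⟨c, hc, -⟩ := hT.1 A j
  have hac : a ≫ c = 𝟙 A := by
    refine (hA A j).unique ?_ (modHom_ext fun U hU x => rfl)
    refine modHom_ext fun U hU x => ?_
    show (c.hom.app (op U)).hom ((a.hom.app (op U)).hom (japp j U x)) = japp j U x
    rw [show (a.hom.app (op U)).hom (japp j U x) = japp (B := 𝒯.toQCAlg) jT U x from
      congrArg (fun q : E ⟶ 𝒯.toQCAlg.toModule => japp (B := 𝒯.toQCAlg) q U x) ha]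
    exact congrArg (fun q : E ⟶ A.toModule => japp q U x) hc
  have hca : c ≫ a = 𝟙 𝒯.toQCAlg := by
    refine (hT.1 𝒯.toQCAlg jT).unique ?_ (modHom_ext fun U hU x => rfl)
    refine modHom_ext fun U hU x => ?_
    show (a.hom.app (op U)).hom ((c.hom.app (op U)).hom (japp (B := 𝒯.toQCAlg) jT U x)) = japp (B := 𝒯.toQCAlg) jT U x
    rw [show (c.hom.app (op U)).hom (japp (B := 𝒯.toQCAlg) jT U x) = japp j U x from
      congrArg (fun q : E ⟶ A.toModule => japp q U x) hc]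
    exact congrArg (fun q : E ⟶ 𝒯.toQCAlg.toModule => japp (B := 𝒯.toQCAlg) q U x) ha
  let e : A.spec ≅ 𝒯.toQCAlg.spec :=
    ⟨RelSpec.QCAlg.specMap c, RelSpec.QCAlg.specMap a, by rw [← VBComp.specMap_comp, hac, VBComp.specMap_id],
      by rw [← VBComp.specMap_comp, hca, VBComp.specMap_id]⟩
  have hψT : j1 ≫ RelSpec.QCAlg.Hom.toModuleMap (ψ ≫ a) = σ ≫ jT := by
    refine modHom_ext fun U hU x => ?_
    show (a.hom.app (op U)).hom ((ψ.hom.app (op U)).hom (japp j1 U x)) = japp (B := 𝒯.toQCAlg) jT U (σ.app U x)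
    rw [show (ψ.hom.app (op U)).hom (japp j1 U x) = japp j U (σ.app U x) from
      congrArg (fun q : Coh.structureModule X ⟶ A.toModule => japp q U x) hψ]
    exact congrArg (fun q : E ⟶ 𝒯.toQCAlg.toModule => japp (B := 𝒯.toQCAlg) q U (σ.app U x)) ha
  have hsq : IsPullback (pullback.fst (RelSpec.QCAlg.specMap ψ) (RelSpec.QCAlg.specMap ε) ≫ e.hom)
      (pullback.snd (RelSpec.QCAlg.specMap ψ) (RelSpec.QCAlg.specMap ε))
      (RelSpec.QCAlg.specMap (ψ ≫ a)) (RelSpec.QCAlg.specMap ε) := by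
    refine (IsPullback.of_hasPullback (RelSpec.QCAlg.specMap ψ) (RelSpec.QCAlg.specMap ε)).of_iso
      (Iso.refl _) e (Iso.refl _) (Iso.refl _) (by simp) (by simp) ?_ (by simp)
    rw [Iso.refl_hom, Category.comp_id, ← VBComp.specMap_comp]
    show _ = RelSpec.QCAlg.specMap ((ψ ≫ a) ≫ c)
    rw [Category.assoc, hac, Category.comp_id]
  obtain ⟨Q, q, O1, b, φ, hB, hb, hbq, hφ, hz⟩ := exists_completion_graded hq hE hT hA1 σ (ψ ≫ a) hψT u ε hε hsq
  refine ⟨Q, q, O1, b, φ, hB, hb, ?_, hφ, hz⟩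
  rw [hbq, Category.assoc]
  exact congrArg (fun g => _ ≫ g) (RelSpec.QCAlg.specMap_π c)

end Groth.Agent.H3Cyc.AffComp
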