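import Groth.Agent.H22Alg.FiniteDegree
import Groth.Agent.H22Alg.CycBasic
import Groth.Agent.H13CInt.FibreDim
import Groth.Agent.H3Cyc.GenStalk
import Groth.Agent.H27CurveDiv.Degree
import Mathlib

/-!
# Multiplicities in the fibres of a base change
-/

set_option autoImplicit false
set_option linter.style.haveILetI false
universe u

open AlgebraicGeometry CategoryTheory Limits IsLocalRing

namespace Groth.Agent.H3Cyc.BCFibre

open H22Alg.FiniteDegree (mult)

variable {X X' Y : Scheme.{u}}

theorem length_fiber_stalk (f : X' ⟶ X) (x : X) (w : f.fiber x) (z : X') (hz : f.fiberι x w = z) :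
    (Module.length ((f.fiber x).presheaf.stalk w) ((f.fiber x).presheaf.stalk w)).toNat = mult f z := by
  have hx : f z = x := by
    rw [← hz]
    exact (f.range_fiberι x).subset (Set.mem_range_self w)
  subst hx
  obtain rfl : w = f.asFiber z := (f.fiberι (f z)).isEmbedding.injective (hz.trans (f.fiberι_asFiber z).symm)
  unfold mult
  set I := (maximalIdeal (X.presheaf.stalk (f z))).map (f.stalkMap z).hom
  rw [show Module.length ((f.fiber (f z)).presheaf.stalk (f.asFiber z)) ((f.fiber (f z)).presheaf.stalk (f.asFiber z)) =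
      Module.length (X'.presheaf.stalk z ⧸ I) (X'.presheaf.stalk z ⧸ I) from
      (GenStalk.length_self_congr (H13CInt.fiberStalkEquiv f z)).symm,
    Module.length_eq_of_surjective (S := X'.presheaf.stalk z) (R := X'.presheaf.stalk z ⧸ I) (M := X'.presheaf.stalk z ⧸ I)
      Ideal.Quotient.mk_surjective]

set_option backward.isDefEq.respectTransparency.types false in
/-- **The fibre of a base change over a pair of points.** -/
theorem finsum_pair (f : Y ⟶ X) (p : X' ⟶ X) (y : Y) (x' : X') (hxy : p x' = f y)
    (hfin : (f.residueFieldMap y).hom.Finite) :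
    {y' : ↥(pullback f p) | pullback.fst f p y' = y ∧ pullback.snd f p y' = x'}.Finite ∧
    ∑ᶠ y' ∈ {y' : ↥(pullback f p) | pullback.fst f p y' = y ∧ pullback.snd f p y' = x'},
        mult (pullback.fst f p) y' * (pullback.snd f p).residueDegree y' =
      mult p x' * f.residueDegree y := by
  classical
  let Z := (pullback.fst f p).fiber y
  let C := p.fiber (f y)
  let ιy : Z ⟶ pullback f p := (pullback.fst f p).fiberι y
  let ιx : C ⟶ X' := p.fiberι (f y)
  let πy : Z ⟶ Spec (Y.residueField y) := (pullback.fst f p).fiberToSpecResidueField y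
  let πx : C ⟶ Spec (X.residueField (f y)) := p.fiberToSpecResidueField (f y)
  let c : Spec (Y.residueField y) ⟶ Spec (X.residueField (f y)) := Spec.map (f.residueFieldMap y)
  have hc : c ≫ X.fromSpecResidueField (f y) = Y.fromSpecResidueField y ≫ f := by simp [c]
  have sqZ : IsPullback ιy πy (pullback.fst f p) (Y.fromSpecResidueField y) := IsPullback.of_hasPullback _ _
  have sqC : IsPullback ιx πx p (X.fromSpecResidueField (f y)) := IsPullback.of_hasPullback _ _
  have big : IsPullback πy (ιy ≫ pullback.snd f p) (c ≫ X.fromSpecResidueField (f y)) p := by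
    rw [hc]
    exact sqZ.flip.paste_vert (IsPullback.of_hasPullback f p)
  let m : Z ⟶ C := sqC.lift (ιy ≫ pullback.snd f p) (πy ≫ c) (by rw [Category.assoc]; exact big.w.symm)
  have hm1 : m ≫ ιx = ιy ≫ pullback.snd f p := sqC.lift_fst _ _ _
  have hm2 : m ≫ πx = πy ≫ c := sqC.lift_snd _ _ _
  have sqm : IsPullback πy m c πx := IsPullback.of_bot (hm1 ▸ big) hm2.symm sqC.flip
  haveI : IsFinite c := (IsFinite.SpecMap_iff _).mpr hfin
  haveI : Flat c := by
    refine Flat.SpecMap_iff.mpr ?_
    letI := (f.residueFieldMap y).hom.toAlgebra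
    exact (inferInstance : Module.Flat (X.residueField (f y)) (Y.residueField y))
  haveI : IsFinite m := MorphismProperty.of_isPullback sqm inferInstance
  haveI : Flat m := MorphismProperty.of_isPullback sqm inferInstance
  obtain ⟨w, hw⟩ : x' ∈ Set.range ιx := (p.range_fiberι (f y)).ge hxy
  have hdeg : m.finrank w = f.residueDegree y := by
    rw [Scheme.Hom.finrank_of_isPullback _ _ _ _ sqm]
    letI := (f.residueFieldMap y).hom.toAlgebra
    haveI : Module.Finite (X.residueField (f y)) (Y.residueField y) := hfin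
    show Scheme.Hom.finrank (Spec.map (CommRingCat.ofHom (algebraMap (X.residueField (f y)) (Y.residueField y)))) _ = _
    rw [Scheme.Hom.finrank_SpecMap_algebraMap, Module.rankAtStalk_eq_finrank_of_free]
    rfl
  rw [← hdeg, ← H22Alg.FiniteDegree.finsum_fibre_eq_finrank m w]
  have hpt : ∀ z : Z, ιx (m z) = pullback.snd f p (ιy z) := fun z =>
    congrArg (fun g : Z ⟶ X' => g z) hm1
  have hset : {y' : ↥(pullback f p) | pullback.fst f p y' = y ∧ pullback.snd f p y' = x'} = ιy '' (m ⁻¹' {w}) := by
    ext y'
    constructor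
    · rintro ⟨h1, h2⟩
      obtain ⟨z, rfl⟩ := ((pullback.fst f p).range_fiberι y).ge h1
      exact ⟨z, ιx.isEmbedding.injective (by rw [hpt]; exact h2.trans hw.symm), rfl⟩
    · rintro ⟨z, hz, rfl⟩
      refine ⟨((pullback.fst f p).range_fiberι y).subset ⟨z, rfl⟩, ?_⟩
      rw [← hpt, show m z = w from hz, hw]
  have hmf : (m ⁻¹' {w}).Finite := Scheme.Hom.finite_preimage_singleton m w
  refine ⟨hset ▸ hmf.image ιy, ?_⟩
  rw [hset, finsum_mem_image ιy.isEmbedding.injective.injOn, finsum_mem_eq_finite_toFinset_sum _ hmf,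
    finsum_mem_eq_finite_toFinset_sum _ hmf, Finset.mul_sum]
  refine Finset.sum_congr rfl fun z hz' => ?_
  have hz : z ∈ m ⁻¹' {w} := hmf.mem_toFinset.mp hz'
  have hd : (pullback.snd f p).residueDegree (ιy z) = m.residueDegree z := by
    have h2 := H22Alg.CycBasic.residueDegree_comp ιy (pullback.snd f p) z
    have h3 := H22Alg.CycBasic.residueDegree_comp m ιx z
    have h4 : (m ≫ ιx).residueDegree z = (ιy ≫ pullback.snd f p).residueDegree z :=
      congrArg (fun g : Z ⟶ X' => g.residueDegree z) hm1
    rw [h2, h3, H27CurveDiv.residueDegree_immersion ιy, H27CurveDiv.residueDegree_immersion ιx] at h4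
    simpa using h4.symm
  have hmult : mult (pullback.fst f p) (ιy z) = mult p x' * mult m z := by
    rw [← length_fiber_stalk (pullback.fst f p) y z (ιy z) rfl,
      ← length_fiber_stalk p (f y) (m z) x' (by rw [show m z = w from hz]; exact hw)]
    have h := H22Alg.CycBasic.length_quot_map (m.stalkMap z).hom (Flat.stalkMap m z) ⊥
    rw [Ideal.map_bot, (Submodule.quotEquivOfEqBot _ rfl).length_eq,
      (Submodule.quotEquivOfEqBot _ rfl).length_eq] at h
    rw [h, ENat.toNat_mul]
    rfl
  rw [hd, hmult]
  ring

end Groth.Agent.H3Cyc.BCFibre
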