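import Groth.Agent.H3Cyc.GenStalk
import Groth.Agent.H22Alg.CycFlatDiv
import Groth.Agent.H22Alg.LengthFormula
import Mathlib

/-!
# Flat pullback of principal divisors, with multiplicities
-/

set_option autoImplicit false
set_option linter.style.haveILetI false
universe u

open AlgebraicGeometry CategoryTheory IsLocalRing
open scoped Pointwise

namespace Groth.Agent.H3Cyc.FlatDiv

variable {X Y : Scheme.{u}}

/-- The multiplicity of a generic point. -/
noncomputable abbrev mult (X : Scheme.{u}) (z : X) : ℕ :=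
  (Module.length (X.presheaf.stalk z) (X.presheaf.stalk z)).toNat

theorem residueFieldMap_specMap (f : X ⟶ Y) (x z : X) (h : z ⤳ x) (a : Y.presheaf.stalk (f x)) :
    f.residueFieldMap z (Cyc.specMap (f x) (f z) (h.map f.continuous) a) = Cyc.specMap x z h (f.stalkMap x a) := by
  refine (ConcreteCategory.congr_hom (Scheme.residue_residueFieldMap f z) _).trans ?_
  exact congrArg (X.residue z).hom (f.stalkSpecializes_stalkMap_apply z x h a)

/-- The image in `κ(ξ)` of an element of `κ(η)`, for a point `ξ` over `η`. -/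
noncomputable def liftVal (f : X ⟶ Y) {η : Y} (ξ : X) (h : f ξ = η) (g : Y.residueField η) : X.residueField ξ :=
  f.residueFieldMap ξ ((Y.residueFieldCongr h.symm).hom g)

theorem liftVal_specMap (f : X ⟶ Y) {η : Y} (x ξ : X) (h : ξ ⤳ x) (hf : f ξ = η) (hη : η ⤳ f x)
    (a : Y.presheaf.stalk (f x)) :
    liftVal f ξ hf (Cyc.specMap (f x) η hη a) = Cyc.specMap x ξ h (f.stalkMap x a) := by
  subst hf
  rw [liftVal, Scheme.residueFieldCongr_refl]
  exact residueFieldMap_specMap f x ξ h a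

theorem liftVal_div (f : X ⟶ Y) {η : Y} (ξ : X) (hf : f ξ = η) (g g' : Y.residueField η) :
    liftVal f ξ hf (g / g') = liftVal f ξ hf g / liftVal f ξ hf g' := by
  subst hf
  simp only [liftVal, Scheme.residueFieldCongr_refl]
  exact map_div₀ (f.residueFieldMap ξ).hom g g'

theorem liftVal_ne_zero (f : X ⟶ Y) {η : Y} (ξ : X) (hf : f ξ = η) (g : Y.residueField η) (hg : g ≠ 0) :
    liftVal f ξ hf g ≠ 0 := by
  subst hf
  simp only [liftVal, Scheme.residueFieldCongr_refl]
  exact fun e => hg ((f.residueFieldMap ξ).hom.injective (e.trans (map_zero _).symm))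

theorem ringKrullDim_stalk_le_one (x : X) (h : ∀ z : X, z ⤳ x → z ≠ x → ∀ w : X, w ⤳ z → w = z) :
    ringKrullDim (X.presheaf.stalk x) ≤ 1 := by
  rw [ringKrullDim_stalk_eq_coheight, show ((1 : WithBot ℕ∞)) = ((1 : ℕ∞) : WithBot ℕ∞) from rfl, WithBot.coe_le_coe]
  refine (Order.coheight_le_coe_iff (n := 1)).mpr fun y hy => ?_
  have hne : y ≠ x := fun e => hy.ne e.symm
  rw [Order.coheight_eq_zero.mpr fun w hw =>
    Scheme.le_iff_specializes.mpr (specializes_of_eq
      (h y (Scheme.le_iff_specializes.mp hy.le) hne w (Scheme.le_iff_specializes.mp hw)).symm)]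
  exact_mod_cast Nat.one_pos

/-- **The order identity.** -/
theorem ord_identity [IsIntegral Y] [IsLocallyNoetherian X] [IsLocallyNoetherian Y] (f : X ⟶ Y) [Flat f] (x : X)
    (hdimY : ringKrullDim (Y.presheaf.stalk (f x)) ≤ 1)
    (hgen : ∀ z : X, z ⤳ x → z ≠ x → (∀ w : X, w ⤳ z → w = z) ∧ f z = genericPoint Y)
    (hx : f x ≠ genericPoint Y) (T : Finset X) (hT : ∀ z, z ∈ T ↔ z ⤳ x ∧ z ≠ x)
    (a : Y.presheaf.stalk (f x)) (ha : a ≠ 0) :
    ((Ring.ord (Y.presheaf.stalk (f x)) a).toNat : ℤ) *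
        ((Module.length (X.presheaf.stalk x) (X.presheaf.stalk x ⧸ (maximalIdeal (Y.presheaf.stalk (f x))).map (f.stalkMap x).hom)).toNat : ℤ) =
      ∑ z ∈ T.attach, (mult X z.1 : ℤ) *
        ((Ring.ord (Cyc.LocQuot x z.1 ((hT z.1).mp z.2).1) (Ideal.Quotient.mk _ (f.stalkMap x a))).toNat : ℤ) := by
  classical
  obtain ⟨hinj, -⟩ := H22Alg.CycFlatDiv.isFractionRing_locQuot (X := Y) (f x)
  set A := X.presheaf.stalk x
  have hdimX : ringKrullDim A ≤ 1 := ringKrullDim_stalk_le_one x fun z h h' => (hgen z h h').1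
  have h1 : Module.supportDim A A ≤ 1 := by rwa [Module.supportDim_self_eq_ringKrullDim]
  set φ := (f.stalkMap x).hom
  have hkey : ∀ z (h : z ⤳ x), z ≠ x → φ a ∉ RingHom.ker (Cyc.specMap x z h) := fun z h hne hmem => by
    have h2 := liftVal_specMap f x z h (hgen z h hne).2 (genericPoint_specializes (f x)) a
    rw [show Cyc.specMap x z h (f.stalkMap x a) = 0 from RingHom.mem_ker.mp hmem] at h2
    exact liftVal_ne_zero f z (hgen z h hne).2 _ (fun e => ha (hinj (e.trans (map_zero _).symm))) h2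
  have hker : ∀ z (h : z ⤳ x), RingHom.ker (Cyc.specMap x z h) = maximalIdeal A → z = x := fun z h e => by
    have h2 := GenStalk.fromSpecStalk_eq x z h
    rw [show (⟨RingHom.ker (Cyc.specMap x z h), GenStalk.isPrime_ker x z h⟩ : PrimeSpectrum A) =
      IsLocalRing.closedPoint A from PrimeSpectrum.ext e, Scheme.fromSpecStalk_closedPoint] at h2
    exact h2.symm
  have hspan : φ a • (⊤ : Submodule A A) = (Ideal.span {φ a} : Ideal A) := by
    ext w
    rw [Submodule.mem_smul_pointwise_iff_exists, Ideal.mem_span_singleton']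
    exact ⟨fun ⟨v, _, hv⟩ => ⟨v, (mul_comm _ _).trans hv⟩, fun ⟨v, hv⟩ => ⟨v, trivial, (mul_comm _ _).trans hv⟩⟩
  have h0 : Module.supportDim A (A ⧸ φ a • (⊤ : Submodule A A)) ≤ 0 := by
    rw [hspan, Module.supportDim_quotient_eq_ringKrullDim]
    refine Ring.krullDimLE_iff.mp (Ring.krullDimLE_zero_iff.mpr fun I hI => ?_)
    have hmax : I.comap (Ideal.Quotient.mk (Ideal.span {φ a})) = maximalIdeal A := by
      by_contra hne
      obtain ⟨h, e⟩ := GenStalk.ker_specMap_fromSpecStalk x ⟨I.comap (Ideal.Quotient.mk _), hI.comap _⟩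
      refine hkey _ h (fun hzx => hne ?_) ?_
      · have h2 : (⟨I.comap (Ideal.Quotient.mk _), hI.comap _⟩ : PrimeSpectrum A) = IsLocalRing.closedPoint A :=
          (X.fromSpecStalk x).isEmbedding.injective (hzx.trans Scheme.fromSpecStalk_closedPoint.symm)
        exact congrArg PrimeSpectrum.asIdeal h2
      · rw [← e]
        show Ideal.Quotient.mk _ (φ a) ∈ I
        rw [Ideal.Quotient.eq_zero_iff_mem.mpr (Ideal.mem_span_singleton_self _)]
        exact I.zero_mem
    have h3 := Ideal.map_comap_of_surjective (Ideal.Quotient.mk (Ideal.span {φ a})) Ideal.Quotient.mk_surjective I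
    rw [← h3, hmax]
    exact (Ideal.map_eq_top_or_isMaximal_of_surjective _ Ideal.Quotient.mk_surjective
      (maximalIdeal.isMaximal A)).resolve_left (by rw [← hmax, h3]; exact hI.ne_top)
  haveI : IsLocalHom φ := inferInstanceAs (IsLocalHom (f.stalkMap x).hom)
  have hflat : φ.Flat := Flat.stalkMap f x
  have hreg : IsSMulRegular A (φ a) := by
    letI := φ.toAlgebra
    haveI : Module.Flat (Y.presheaf.stalk (f x)) A := hflat
    exact IsSMulRegular.of_flat (S := A) (show IsSMulRegular (Y.presheaf.stalk (f x)) a from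
      fun u v huv => mul_left_cancel₀ ha huv)
  have hlen : Ring.ord A (φ a) = ∑ z ∈ T.attach, Ring.ord (Cyc.LocQuot x z.1 ((hT z.1).mp z.2).1)
      (Ideal.Quotient.mk _ (φ a)) * Module.length (X.presheaf.stalk z.1) (X.presheaf.stalk z.1) := by
    show Module.length A (A ⧸ Ideal.span {φ a}) = _
    rw [show (Ideal.span {φ a} : Ideal A) = φ a • (⊤ : Submodule A A) from hspan.symm,
      H22Alg.length_quot_smul_eq_finsum h1 h0]
    have hk0 : LinearMap.ker (LinearMap.lsmul A A (φ a)) = ⊥ := LinearMap.ker_eq_bot.mpr hreg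
    rw [hk0, Module.length_bot, zero_add, finsum_mem_eq_finite_toFinset_sum _ (H22Alg.lowPrimes_finite h1)]
    have hmem : ∀ J : PrimeSpectrum A, J ∈ H22Alg.lowPrimes A A →
        X.fromSpecStalk x J ∈ T := fun J hJ => by
      obtain ⟨h, e⟩ := GenStalk.ker_specMap_fromSpecStalk x J
      refine (hT _).mpr ⟨h, fun hzx => hJ.2 ?_⟩
      have h2 : J = IsLocalRing.closedPoint A :=
        (X.fromSpecStalk x).isEmbedding.injective (hzx.trans Scheme.fromSpecStalk_closedPoint.symm)
      exact congrArg PrimeSpectrum.asIdeal h2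
    refine Finset.sum_bij (fun J hJ => ⟨X.fromSpecStalk x J, hmem J ((Set.Finite.mem_toFinset _).mp hJ)⟩)
      (fun J hJ => Finset.mem_attach _ _)
      (fun J _ J' _ e => by
        have e' := congrArg Subtype.val e
        exact (X.fromSpecStalk x).isEmbedding.injective e')
      (fun z _ => ?_) (fun J hJ => ?_)
    · obtain ⟨h, hne⟩ := (hT z.1).mp z.2
      refine ⟨⟨RingHom.ker (Cyc.specMap x z.1 h), GenStalk.isPrime_ker x z.1 h⟩,
        (Set.Finite.mem_toFinset _).mpr ⟨?_, fun e => hne (hker _ h e)⟩, Subtype.ext (GenStalk.fromSpecStalk_eq x z.1 h)⟩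
      rw [Module.mem_support_iff_of_finite, Module.annihilator_eq_bot.mpr inferInstance]
      exact bot_le
    · have key : ∀ (z : X) (h : z ⤳ x) (J : PrimeSpectrum A), J.asIdeal = RingHom.ker (Cyc.specMap x z h) →
          Ring.ord (A ⧸ J.asIdeal) (Ideal.Quotient.mk J.asIdeal (φ a)) * H22Alg.locLen A A J =
          Ring.ord (Cyc.LocQuot x z h) (Ideal.Quotient.mk _ (φ a)) *
            Module.length (X.presheaf.stalk z) (X.presheaf.stalk z) := by
        rintro z h ⟨p, hp⟩ (rfl : p = _)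
        rw [show H22Alg.locLen A A ⟨_, hp⟩ = _ from GenStalk.length_localizedModule_eq x z h]
      obtain ⟨h, e⟩ := GenStalk.ker_specMap_fromSpecStalk x J
      exact key _ _ J e
  have hfinT : ∀ z ∈ T.attach, Ring.ord (Cyc.LocQuot x z.1 ((hT z.1).mp z.2).1) (Ideal.Quotient.mk _ (φ a)) *
      Module.length (X.presheaf.stalk z.1) (X.presheaf.stalk z.1) ≠ ⊤ := fun z _ => by
    obtain ⟨h, hne⟩ := (hT z.1).mp z.2
    haveI := GenStalk.isPrime_ker x z.1 h
    haveI : Ring.KrullDimLE 1 (Cyc.LocQuot x z.1 h) :=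
      Ring.krullDimLE_iff.mpr ((ringKrullDim_quotient_le _).trans hdimX)
    refine WithTop.mul_ne_top (Ring.ord_ne_top (mem_nonZeroDivisors_of_ne_zero fun e =>
      hkey _ h hne (Ideal.Quotient.eq_zero_iff_mem.mp e))) ?_
    haveI : Ring.KrullDimLE 0 (X.presheaf.stalk z.1) := by
      refine Ring.krullDimLE_iff.mpr ?_
      rw [ringKrullDim_stalk_eq_coheight, Order.coheight_eq_zero.mpr fun w hw =>
        Scheme.le_iff_specializes.mpr (specializes_of_eq
          ((hgen z.1 h hne).1 w (Scheme.le_iff_specializes.mp hw)).symm)]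
      rfl
    haveI : IsArtinianRing (X.presheaf.stalk z.1) :=
      isArtinianRing_iff_isNoetherianRing_krullDimLE_zero.mpr ⟨inferInstance, inferInstance⟩
    exact Module.length_ne_top
  have h := congrArg ENat.toNat ((H22Alg.CycFlatDiv.ord_map φ hflat a).symm.trans hlen)
  rw [ENat.toNat_sum hfinT, ENat.toNat_mul] at h
  have h2 : ((_ : ℕ) : ℤ) = ((_ : ℕ) : ℤ) := congrArg Nat.cast h
  push_cast [ENat.toNat_mul] at h2
  rw [h2]
  exact Finset.sum_congr rfl fun z _ => mul_comm _ _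

theorem ordAt_div [IsLocallyNoetherian X] (x z : X) (h : z ⤳ x) (hdim : ringKrullDim (X.presheaf.stalk x) ≤ 1)
    (a b : X.presheaf.stalk x) (ha : Cyc.specMap x z h a ≠ 0) (hb : Cyc.specMap x z h b ≠ 0) :
    Cyc.ordAt x z h (Cyc.specMap x z h a / Cyc.specMap x z h b) =
      ((Ring.ord (Cyc.LocQuot x z h) (Ideal.Quotient.mk _ a)).toNat : ℤ) -
        ((Ring.ord (Cyc.LocQuot x z h) (Ideal.Quotient.mk _ b)).toNat : ℤ) := by
  haveI := GenStalk.isPrime_ker x z h
  haveI := GenStalk.isFractionRing_locQuot x z h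
  haveI : Ring.KrullDimLE 1 (Cyc.LocQuot x z h) :=
    Ring.krullDimLE_iff.mpr ((ringKrullDim_quotient_le _).trans hdim)
  have e : ∀ c, Cyc.specMap x z h c =
      algebraMap (Cyc.LocQuot x z h) (X.residueField z) (Ideal.Quotient.mk _ c) := fun c => rfl
  unfold Cyc.ordAt
  rw [e a, e b]
  refine H22Alg.cycOrdFrac_div (R := Cyc.LocQuot x z h) (X.residueField z)
    (mem_nonZeroDivisors_of_ne_zero fun e => ha (Ideal.Quotient.eq_zero_iff_mem.mp e))
    (mem_nonZeroDivisors_of_ne_zero fun e => hb (Ideal.Quotient.eq_zero_iff_mem.mp e))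

theorem ordAt_unit (x z : X) (h : z ⤳ x) (a b : X.presheaf.stalk x) (ha : IsUnit a) (hb : IsUnit b) :
    Cyc.ordAt x z h (Cyc.specMap x z h a / Cyc.specMap x z h b) = 0 := by
  have e : ∀ c, Cyc.specMap x z h c =
      algebraMap (Cyc.LocQuot x z h) (X.residueField z) (Ideal.Quotient.mk _ c) := fun c => rfl
  unfold Cyc.ordAt
  rw [e a, e b]
  exact H22Alg.CycDiv.ordFrac_eq_zero_of_isUnit (ha.map _) (hb.map _)

set_option maxHeartbeats 1000000 in
/-- **Flat pullback of a principal divisor.** -/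
theorem pullFun_divFun_eq_sum [IsIntegral Y] {δX : X → ℤ} {δY : Y → ℤ} (hX : Cyc.IsSetup X δX)
    (hY : Cyc.IsSetup Y δY) (f : X ⟶ Y) [Flat f] [LocallyOfFiniteType f] {r : ℕ} (hr : Cyc.HasRelDim f r)
    (hδ : Cyc.DeltaCompat f δX δY) (g : Y.residueField (genericPoint Y)) (hg : g ≠ 0) (x : X) :
    Cyc.pullFun f δX δY r (Cyc.divFun δY (genericPoint Y) g) x =
      ∑ᶠ ξ : {ξ : X // (∀ x' : X, x' ⤳ ξ → x' = ξ) ∧ f ξ = genericPoint Y},
        (mult X ξ.1 : ℤ) * Cyc.divFun δX ξ.1 (liftVal f ξ.1 ξ.2.2 g) x := by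
  classical
  haveI := hX.1
  haveI := hY.1
  let k := δY (genericPoint Y)
  have hξd : ∀ ξ : {ξ : X // (∀ x' : X, x' ⤳ ξ → x' = ξ) ∧ f ξ = genericPoint Y}, δX ξ.1 = k + r := fun ξ => by
    rw [H22Alg.CycBasic.delta_eq_of_maximal f hr hδ ξ.1 fun x' _ h => ξ.2.1 x' h, ξ.2.2]
  have hle := H22Alg.CycBasic.delta_le_of_hasRelDim f hr hδ
  have hgen0 : ∀ w : Y, genericPoint Y ⤳ w := genericPoint_specializes
  have hdeltaY : ∀ w : Y, w ≠ genericPoint Y → δY w < k := fun w hw => (hY.2.2 _ _ (hgen0 w) (Ne.symm hw)).1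
  have hdle : ∀ w : Y, δY w ≤ k := fun w => H22Alg.DeltaDim.delta_le hY.2.2 (hgen0 w)
  by_cases hx : δX x + 1 = k + r
  swap
  · have hR : ∀ ξ : {ξ : X // (∀ x' : X, x' ⤳ ξ → x' = ξ) ∧ f ξ = genericPoint Y},
        (mult X ξ.1 : ℤ) * Cyc.divFun δX ξ.1 (liftVal f ξ.1 ξ.2.2 g) x = 0 := fun ξ => by
      rw [Cyc.divFun, dif_neg (fun h => hx (h.2.trans (hξd ξ))), mul_zero]
    rw [finsum_congr hR, finsum_zero]
    simp only [Cyc.pullFun, Cyc.divFun]
    split_ifs with h1 h2
    · exact absurd (by have := h2.2; omega) hx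
    · rw [zero_mul]
    · rfl
  -- generizations of x
  have hgen : ∀ z : X, z ⤳ x → z ≠ x → (∀ w : X, w ⤳ z → w = z) ∧ f z = genericPoint Y := by
    intro z hz hne
    have h1 := (hX.2.2 _ _ hz hne).1
    have h2 := hle z
    have h3 := hdle (f z)
    refine ⟨fun w hw => ?_, ?_⟩
    · by_contra hwz
      have h4 := (hX.2.2 _ _ hw hwz).1
      have h5 := hle w
      have h6 := hdle (f w)
      omega
    · by_contra hfz
      have h4 := hdeltaY _ hfz
      omega
  -- the finite set of generic points through x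
  have hfin : {z : X | z ⤳ x ∧ z ≠ x}.Finite := by
    have h1 : Module.supportDim (X.presheaf.stalk x) (X.presheaf.stalk x) ≤ 1 := by
      rw [Module.supportDim_self_eq_ringKrullDim]
      exact ringKrullDim_stalk_le_one x fun z h h' => (hgen z h h').1
    refine ((H22Alg.lowPrimes_finite h1).image (X.fromSpecStalk x)).subset ?_
    rintro z ⟨hz, hne⟩
    refine ⟨⟨RingHom.ker (Cyc.specMap x z hz), GenStalk.isPrime_ker x z hz⟩, ⟨?_, fun e => hne ?_⟩,
      GenStalk.fromSpecStalk_eq x z hz⟩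
    · rw [Module.mem_support_iff_of_finite, Module.annihilator_eq_bot.mpr inferInstance]
      exact bot_le
    · rw [← GenStalk.fromSpecStalk_eq x z hz, show (⟨RingHom.ker (Cyc.specMap x z hz), GenStalk.isPrime_ker x z hz⟩ :
        PrimeSpectrum (X.presheaf.stalk x)) = IsLocalRing.closedPoint _ from PrimeSpectrum.ext e,
        Scheme.fromSpecStalk_closedPoint]
  let T := hfin.toFinset
  have hT : ∀ z, z ∈ T ↔ z ⤳ x ∧ z ≠ x := fun z => hfin.mem_toFinset
  let G : Finset {ξ : X // (∀ x' : X, x' ⤳ ξ → x' = ξ) ∧ f ξ = genericPoint Y} :=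
    T.attach.image fun z => ⟨z.1, hgen z.1 ((hT z.1).mp z.2).1 ((hT z.1).mp z.2).2⟩
  have hRHS : ∑ᶠ ξ : {ξ : X // (∀ x' : X, x' ⤳ ξ → x' = ξ) ∧ f ξ = genericPoint Y},
        (mult X ξ.1 : ℤ) * Cyc.divFun δX ξ.1 (liftVal f ξ.1 ξ.2.2 g) x =
      ∑ z ∈ T.attach, (mult X z.1 : ℤ) * Cyc.ordAt x z.1 ((hT z.1).mp z.2).1
        (liftVal f z.1 (hgen z.1 ((hT z.1).mp z.2).1 ((hT z.1).mp z.2).2).2 g) := by
    rw [finsum_eq_sum_of_support_subset _ (s := G) ?_, Finset.sum_image ?_]
    · refine Finset.sum_congr rfl fun z _ => ?_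
      congr 1
      rw [Cyc.divFun, dif_pos ⟨((hT z.1).mp z.2).1, by rw [hξd ⟨z.1, hgen z.1 ((hT z.1).mp z.2).1 ((hT z.1).mp z.2).2⟩]; exact hx⟩]
    · intro z _ z' _ e
      have e' := congrArg Subtype.val e
      exact Subtype.ext e'
    · intro ξ hξ
      have h2 : ξ.1 ⤳ x ∧ δX x + 1 = δX ξ.1 := by
        by_contra hne
        exact hξ (show (mult X ξ.1 : ℤ) * _ = 0 by rw [Cyc.divFun, dif_neg hne, mul_zero])
      have h3 : ξ.1 ≠ x := fun e => by rw [e] at h2; omega
      exact Finset.mem_coe.mpr (Finset.mem_image.mpr ⟨⟨ξ.1, (hT _).mpr ⟨h2.1, h3⟩⟩, Finset.mem_attach _ _, rfl⟩)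
  rw [hRHS]
  obtain ⟨hinj, hfr⟩ := H22Alg.CycFlatDiv.isFractionRing_locQuot (X := Y) (f x)
  by_cases hy : f x = genericPoint Y
  · have hdiv0 : Cyc.divFun δY (genericPoint Y) g (f x) = 0 := by
      rw [Cyc.divFun, dif_neg]
      intro h
      have := h.2
      rw [hy] at this
      omega
    have hL : Cyc.pullFun f δX δY r (Cyc.divFun δY (genericPoint Y) g) x = 0 := by
      simp only [Cyc.pullFun, hdiv0, zero_mul, ite_self]
    rw [hL]
    refine (Finset.sum_eq_zero fun z _ => ?_).symm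
    rw [mul_eq_zero]
    right
    have hloc : ∀ c : Y.presheaf.stalk (f x), Cyc.specMap (f x) (genericPoint Y) (genericPoint_specializes _) c ≠ 0 →
        IsUnit c := fun c hc => by
      by_contra hu
      refine hc ?_
      have key : ∀ (η : Y) (h : η ⤳ f x), f x = η → Cyc.specMap (f x) η h c = 0 := by
        rintro _ h rfl
        refine (IsLocalRing.residue_eq_zero_iff _).mpr ?_
        rw [TopCat.Presheaf.stalkSpecializes_refl]
        exact hu
      exact key _ _ hy
    haveI := hfr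
    obtain ⟨qa, qb, hqb, rfl⟩ := IsFractionRing.div_surjective (Cyc.LocQuot (f x) (genericPoint Y) (genericPoint_specializes _)) g
    obtain ⟨a, rfl⟩ := Ideal.Quotient.mk_surjective qa
    obtain ⟨b, rfl⟩ := Ideal.Quotient.mk_surjective qb
    have ha : Cyc.specMap (f x) (genericPoint Y) (genericPoint_specializes _) a ≠ 0 := fun e => hg (by
      show Cyc.specMap _ _ _ a / _ = 0
      rw [e, zero_div])
    have hb : Cyc.specMap (f x) (genericPoint Y) (genericPoint_specializes _) b ≠ 0 := fun e => hg (by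
      show _ / Cyc.specMap _ _ _ b = 0
      rw [e, div_zero])
    show Cyc.ordAt x z.1 _ (liftVal f z.1 _ (Cyc.specMap _ _ _ a / Cyc.specMap _ _ _ b)) = 0
    rw [liftVal_div, liftVal_specMap f x z.1 ((hT z.1).mp z.2).1, liftVal_specMap f x z.1 ((hT z.1).mp z.2).1]
    exact ordAt_unit x z.1 _ _ _ ((hloc a ha).map (f.stalkMap x).hom) ((hloc b hb).map (f.stalkMap x).hom)
  have hyd : δY (f x) + 1 = k := by
    have h1 := hdeltaY _ hy
    have h2 := hle x
    omega
  have hdimY : ringKrullDim (Y.presheaf.stalk (f x)) ≤ 1 :=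
    ((H22Alg.CycFlatDiv.dim_stalk_eq_one_iff hY.2.2 (f x)).mpr (by omega)).le
  haveI : Ring.KrullDimLE 1 (Y.presheaf.stalk (f x)) := Ring.krullDimLE_iff.mpr hdimY
  simp only [Cyc.pullFun, Cyc.divFun]
  rw [if_pos (by omega), dif_pos ⟨genericPoint_specializes _, hyd⟩]
  haveI := hfr
  obtain ⟨qa, qb, hqb, rfl⟩ := IsFractionRing.div_surjective (Cyc.LocQuot (f x) (genericPoint Y) (genericPoint_specializes _)) g
  obtain ⟨a, rfl⟩ := Ideal.Quotient.mk_surjective qa
  obtain ⟨b, rfl⟩ := Ideal.Quotient.mk_surjective qb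
  have ha : Cyc.specMap (f x) (genericPoint Y) (genericPoint_specializes _) a ≠ 0 := fun e => hg (by
    show Cyc.specMap _ _ _ a / _ = 0
    rw [e, zero_div])
  have hb : Cyc.specMap (f x) (genericPoint Y) (genericPoint_specializes _) b ≠ 0 := fun e => hg (by
    show _ / Cyc.specMap _ _ _ b = 0
    rw [e, div_zero])
  have hord : ∀ c, Ring.ord (Cyc.LocQuot (f x) (genericPoint Y) (genericPoint_specializes _)) (Ideal.Quotient.mk _ c) =
      Ring.ord (Y.presheaf.stalk (f x)) c := fun c => by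
    let e : Y.presheaf.stalk (f x) ≃+* Cyc.LocQuot (f x) (genericPoint Y) (genericPoint_specializes _) :=
      RingEquiv.ofBijective (Ideal.Quotient.mk _)
        ⟨by rw [RingHom.injective_iff_ker_eq_bot, Ideal.mk_ker]; exact (RingHom.injective_iff_ker_eq_bot _).mp hinj,
          Ideal.Quotient.mk_surjective⟩
    exact H22Alg.CycDiv.ord_ringEquiv e c
  have hterm : ∀ z ∈ T.attach, (mult X z.1 : ℤ) * Cyc.ordAt x z.1 ((hT z.1).mp z.2).1
      (liftVal f z.1 (hgen z.1 ((hT z.1).mp z.2).1 ((hT z.1).mp z.2).2).2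
        (Cyc.specMap (f x) (genericPoint Y) (genericPoint_specializes _) a /
          Cyc.specMap (f x) (genericPoint Y) (genericPoint_specializes _) b)) =
      (mult X z.1 : ℤ) * ((Ring.ord (Cyc.LocQuot x z.1 ((hT z.1).mp z.2).1) (Ideal.Quotient.mk _ (f.stalkMap x a))).toNat : ℤ) -
      (mult X z.1 : ℤ) * ((Ring.ord (Cyc.LocQuot x z.1 ((hT z.1).mp z.2).1) (Ideal.Quotient.mk _ (f.stalkMap x b))).toNat : ℤ) := fun z _ => by
    have hz := (hT z.1).mp z.2
    have hne : ∀ c, Cyc.specMap (f x) (genericPoint Y) (genericPoint_specializes _) c ≠ 0 →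
        Cyc.specMap x z.1 hz.1 (f.stalkMap x c) ≠ 0 := fun c hc => by
      rw [← liftVal_specMap f x z.1 hz.1 (hgen z.1 hz.1 hz.2).2 (genericPoint_specializes _)]
      exact liftVal_ne_zero f _ _ _ hc
    rw [liftVal_div, liftVal_specMap f x z.1 hz.1, liftVal_specMap f x z.1 hz.1,
      ordAt_div x z.1 hz.1 (ringKrullDim_stalk_le_one x fun w h h' => (hgen w h h').1) _ _ (hne a ha) (hne b hb), mul_sub]
  refine Eq.trans ?_ (Finset.sum_congr rfl hterm).symm
  rw [Finset.sum_sub_distrib,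
    ← ord_identity f x hdimY hgen hy T hT a (fun e => ha (by rw [e, map_zero])),
    ← ord_identity f x hdimY hgen hy T hT b (fun e => hb (by rw [e, map_zero]))]
  rw [← hord a, ← hord b, ← sub_mul]
  congr 1
  exact ordAt_div (f x) (genericPoint Y) (genericPoint_specializes _) hdimY a b ha hb

end Groth.Agent.H3Cyc.FlatDiv
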