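import Groth.Agent.H3Cyc.OrdNorm
import Groth.Agent.H22Alg.CycFlatDiv
import Groth.Agent.S1867
import Groth.Agent.H22Alg.FiniteDegree
import Mathlib

/-!
# Pushforward of principal divisors along generically finite proper maps
-/

set_option autoImplicit false
set_option linter.style.haveILetI false
universe u

open AlgebraicGeometry CategoryTheory IsLocalRing

namespace Groth.Agent.H3Cyc.PushDiv

variable {X Y : Scheme.{u}}

set_option backward.isDefEq.respectTransparency.types false in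
theorem restrict_of_le (f : X ⟶ Y) {W V : Y.Opens} (h : W ≤ V) [IsFinite (f ∣_ V)] : IsFinite (f ∣_ W) := by
  have e : V.ι ''ᵁ V.ι ⁻¹ᵁ W = W := by
    rw [Scheme.Hom.image_preimage_eq_opensRange_inf, Scheme.Opens.opensRange_ι]
    exact inf_eq_right.mpr h
  exact (MorphismProperty.arrow_mk_iso_iff (@IsFinite : MorphismProperty Scheme.{u})
    (morphismRestrictRestrict f V (V.ι ⁻¹ᵁ W) ≪≫ morphismRestrictEq f e)).mp inferInstance

/-- An affine neighbourhood over which `p` is finite. -/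
theorem exists_affine_finite (p : X ⟶ Y) {V₀ : Y.Opens} [IsFinite (p ∣_ V₀)] {y : Y} (hy : y ∈ V₀) :
    ∃ V : Y.Opens, IsAffineOpen V ∧ y ∈ V ∧ IsAffineOpen (p ⁻¹ᵁ V) ∧ (p.app V).hom.Finite := by
  obtain ⟨W, hW, hyW, hWV⟩ := exists_isAffineOpen_mem_and_subset (X := Y) (x := y) (U := V₀) hy
  haveI : IsFinite (p ∣_ W) := restrict_of_le p hWV
  haveI : IsAffine W := hW
  have e : W.ι ''ᵁ ⊤ = W := by rw [Scheme.Hom.image_top_eq_opensRange, Scheme.Opens.opensRange_ι]
  refine ⟨W.ι ''ᵁ ⊤, by rw [e]; exact hW, by rw [e]; exact hyW, ?_, ?_⟩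
  · rw [e]
    exact isAffine_of_isAffineHom (p ∣_ W)
  · have h := IsFinite.finite_app (p ∣_ W) ⊤ (isAffineOpen_top _)
    rw [morphismRestrict_app] at h
    exact (RingHom.finite_respectsIso.cancel_right_isIso _ _).mp h

theorem isFractionRing_specMap [IsIntegral Y] (y η : Y) (h : η ⤳ y) (hη : η = genericPoint Y) :
    Function.Injective (Cyc.specMap y η h) ∧
      (letI := (Cyc.specMap y η h).toAlgebra; IsFractionRing (Y.presheaf.stalk y) (Y.residueField η)) := by
  subst hη
  obtain ⟨hinj, hfr⟩ := H22Alg.CycFlatDiv.isFractionRing_locQuot y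
  refine ⟨hinj, ?_⟩
  letI := (Cyc.specMap y (genericPoint Y) h).toAlgebra
  haveI : FaithfulSMul (Y.presheaf.stalk y) (Y.residueField (genericPoint Y)) :=
    (faithfulSMul_iff_algebraMap_injective _ _).mpr hinj
  refine IsFractionRing.of_field _ _ fun z => ?_
  haveI := hfr
  obtain ⟨a, b, -, rfl⟩ := IsFractionRing.div_surjective (Cyc.LocQuot y (genericPoint Y) h) z
  obtain ⟨a, rfl⟩ := Ideal.Quotient.mk_surjective a
  obtain ⟨b, rfl⟩ := Ideal.Quotient.mk_surjective b
  exact ⟨a, b, rfl⟩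

/-- The quotient by the kernel of an injective specialisation map. -/
noncomputable def locQuotEquiv (y η : Y) (h : η ⤳ y) (hinj : Function.Injective (Cyc.specMap y η h)) :
    Y.presheaf.stalk y ≃+* Cyc.LocQuot y η h :=
  RingEquiv.ofBijective (Ideal.Quotient.mk (RingHom.ker (Cyc.specMap y η h)))
    ⟨by rw [RingHom.injective_iff_ker_eq_bot, Ideal.mk_ker]; exact (RingHom.injective_iff_ker_eq_bot _).mp hinj,
      Ideal.Quotient.mk_surjective⟩

theorem ordAt_eq_ordFrac (y η : Y) (h : η ⤳ y) (hinj : Function.Injective (Cyc.specMap y η h))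
    (g : Y.residueField η) : Cyc.ordAt y η h g =
      @CycAlg.ordFrac (Y.presheaf.stalk y) _ (Y.residueField η) _ (Cyc.specMap y η h).toAlgebra g :=
  @H22Alg.CycDiv.ordFrac_congr _ _ _ _ _ _ _ _ (Cyc.specMap y η h).toAlgebra _ (locQuotEquiv y η h hinj)
    (RingEquiv.refl _) (fun _ => rfl) g

theorem specMap_germ {W : X.Opens} {x η : X} (h : η ⤳ x) (hx : x ∈ W) (hη : η ∈ W) (s : Γ(X, W)) :
    Cyc.specMap x η h (X.presheaf.germ W x hx s) = X.evaluation W η hη s :=
  congrArg (X.residue η).hom (X.presheaf.germ_stalkSpecializes_apply hx h s)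

theorem ordAt_div [IsIntegral X] [IsLocallyNoetherian X] (x : X) (hx : ringKrullDim (X.presheaf.stalk x) ≤ 1)
    {W : X.Opens} (hxW : x ∈ W) (hη : genericPoint X ∈ W) (a b : Γ(X, W))
    (ha : X.evaluation W _ hη a ≠ 0) (hb : X.evaluation W _ hη b ≠ 0) :
    Cyc.ordAt x (genericPoint X) (genericPoint_specializes x)
        (X.evaluation W _ hη a / X.evaluation W _ hη b) =
      ((Ring.ord (X.presheaf.stalk x) (X.presheaf.germ W x hxW a)).toNat : ℤ) -
        ((Ring.ord (X.presheaf.stalk x) (X.presheaf.germ W x hxW b)).toNat : ℤ) := by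
  obtain ⟨hinj, hfr⟩ := isFractionRing_specMap x (genericPoint X) (genericPoint_specializes x) rfl
  letI := (Cyc.specMap x (genericPoint X) (genericPoint_specializes x)).toAlgebra
  haveI := hfr
  haveI : Ring.KrullDimLE 1 (X.presheaf.stalk x) := Ring.krullDimLE_iff.mpr hx
  rw [ordAt_eq_ordFrac _ _ _ hinj, ← specMap_germ (genericPoint_specializes x) hxW hη a,
    ← specMap_germ (genericPoint_specializes x) hxW hη b]
  refine H22Alg.cycOrdFrac_div _ (mem_nonZeroDivisors_of_ne_zero fun e => ha ?_)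
    (mem_nonZeroDivisors_of_ne_zero fun e => hb ?_)
  · rw [← specMap_germ (genericPoint_specializes x) hxW hη a, e, map_zero]
  · rw [← specMap_germ (genericPoint_specializes x) hxW hη b, e, map_zero]

/-- The orders of `f` over a codimension one point add up to the order of its norm. -/
theorem finsum_ordAt_fibre [IsIntegral X] [IsIntegral Y] [IsLocallyNoetherian X] [IsLocallyNoetherian Y]
    (p : X ⟶ Y) (hgen : p (genericPoint X) = genericPoint Y) {y : Y}
    (hy : ringKrullDim (Y.presheaf.stalk y) ≤ 1) {V : Y.Opens} (hV : IsAffineOpen V) (hyV : y ∈ V)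
    (hU : IsAffineOpen (p ⁻¹ᵁ V)) (hfinV : (p.app V).hom.Finite) (hs : p (genericPoint X) ⤳ y)
    (hfib : ∀ x, p x = y → ringKrullDim (X.presheaf.stalk x) ≤ 1)
    {g : X.residueField (genericPoint X)} (hg : g ≠ 0) :
    ∑ᶠ x ∈ p ⁻¹' {y}, Cyc.ordAt x (genericPoint X) (genericPoint_specializes x) g * (p.residueDegree x : ℤ) =
      Cyc.ordAt y (p (genericPoint X)) hs (Cyc.normGen p (genericPoint X) g) := by
  classical
  have hηV : p (genericPoint X) ∈ V := hs.mem_open V.2 hyV
  have hη : genericPoint X ∈ p ⁻¹ᵁ V := hηV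
  obtain ⟨a, b, hb, hfab⟩ := H22Alg.CycDiv.exists_frac hU hη g
  have ha : X.evaluation _ _ hη a ≠ 0 := fun h => hg (by rw [hfab, h, zero_div])
  obtain ⟨hinjA, hfrA⟩ := isFractionRing_specMap y (p (genericPoint X)) hs hgen
  rw [ordAt_eq_ordFrac _ _ _ hinjA]
  letI algAK := (Cyc.specMap y (p (genericPoint X)) hs).toAlgebra
  haveI := hfrA
  haveI : IsDomain (Y.presheaf.stalk y) := inferInstance
  haveI : Ring.KrullDimLE 1 (Y.presheaf.stalk y) := Ring.krullDimLE_iff.mpr hy
  letI algKL : Algebra (Y.residueField (p (genericPoint X))) (X.residueField (genericPoint X)) :=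
    (p.residueFieldMap (genericPoint X)).hom.toAlgebra
  letI algRS : Algebra Γ(Y, V) Γ(X, p ⁻¹ᵁ V) := (p.app V).hom.toAlgebra
  haveI : Module.Finite Γ(Y, V) Γ(X, p ⁻¹ᵁ V) := hfinV
  letI algRA : Algebra Γ(Y, V) (Y.presheaf.stalk y) := TopCat.Presheaf.algebra_section_stalk Y.presheaf (⟨y, hyV⟩ : V)
  set p₀ := (hV.primeIdealOf ⟨y, hyV⟩).asIdeal with hp₀
  haveI : IsLocalization.AtPrime (Y.presheaf.stalk y) p₀ := hV.isLocalization_stalk ⟨y, hyV⟩
  letI algSL : Algebra Γ(X, p ⁻¹ᵁ V) (X.residueField (genericPoint X)) := (X.evaluation _ _ hη).hom.toAlgebra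
  have hSL : Function.Injective (algebraMap Γ(X, p ⁻¹ᵁ V) (X.residueField (genericPoint X))) := by
    rw [injective_iff_map_eq_zero]
    intro s h0
    by_contra hne
    refine (X.evaluation_ne_zero_iff_mem_basicOpen (genericPoint X) hη s).mpr ?_ h0
    have hne' : (X.basicOpen s : Set X).Nonempty := by
      rw [Set.nonempty_iff_ne_empty]
      exact fun e => hne ((basicOpen_eq_bot_iff s).mp (TopologicalSpace.Opens.ext e))
    obtain ⟨z, hz⟩ := hne'
    exact (genericPoint_specializes z).mem_open (X.basicOpen s).2 hz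
  have hRK : ∀ r : Γ(Y, V), algebraMap (Y.presheaf.stalk y) (Y.residueField (p (genericPoint X)))
      (algebraMap Γ(Y, V) (Y.presheaf.stalk y) r) = Y.evaluation V _ hηV r := fun r => specMap_germ hs hyV hηV r
  have hRL : ∀ r : Γ(Y, V), algebraMap Γ(X, p ⁻¹ᵁ V) (X.residueField (genericPoint X))
      (algebraMap Γ(Y, V) Γ(X, p ⁻¹ᵁ V) r) =
      algebraMap (Y.residueField (p (genericPoint X))) (X.residueField (genericPoint X))
        (algebraMap (Y.presheaf.stalk y) (Y.residueField (p (genericPoint X)))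
          (algebraMap Γ(Y, V) (Y.presheaf.stalk y) r)) := fun r => by
    rw [hRK]
    exact (Scheme.evaluation_naturality_apply p (genericPoint X) hηV r).symm
  haveI : IsDomain Γ(X, p ⁻¹ᵁ V) := hSL.isDomain
  set M := Algebra.algebraMapSubmonoid Γ(X, p ⁻¹ᵁ V) p₀.primeCompl with hM
  have hM0 : M ≤ nonZeroDivisors Γ(X, p ⁻¹ᵁ V) := by
    rintro _ ⟨r, hr, rfl⟩
    refine mem_nonZeroDivisors_of_ne_zero fun e => ?_
    have hu := (IsLocalization.map_units (Y.presheaf.stalk y) (⟨r, hr⟩ : p₀.primeCompl))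
    have := (hu.map (algebraMap (Y.presheaf.stalk y) (Y.residueField (p (genericPoint X))))).map
      (algebraMap (Y.residueField (p (genericPoint X))) (X.residueField (genericPoint X)))
    rw [← hRL, e, map_zero] at this
    exact not_isUnit_zero this
  let B := Localization M
  letI algAB : Algebra (Y.presheaf.stalk y) B := localizationAlgebra p₀.primeCompl Γ(X, p ⁻¹ᵁ V)
  haveI : IsScalarTower Γ(Y, V) (Y.presheaf.stalk y) B := isScalarTower_localizationAlgebra _ _
  haveI : Module.Finite (Y.presheaf.stalk y) B :=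
    Module.Finite.of_isLocalization Γ(Y, V) Γ(X, p ⁻¹ᵁ V) p₀.primeCompl
  haveI : IsDomain B := IsLocalization.isDomain_localization hM0
  have hunit : ∀ s : M, IsUnit (algebraMap Γ(X, p ⁻¹ᵁ V) (X.residueField (genericPoint X)) s) := fun s =>
    isUnit_iff_ne_zero.mpr fun e => nonZeroDivisors.ne_zero (hM0 s.2) (hSL (e.trans (map_zero _).symm))
  letI algBL : Algebra B (X.residueField (genericPoint X)) := (IsLocalization.lift (S := B) hunit).toAlgebra
  haveI : IsScalarTower Γ(X, p ⁻¹ᵁ V) B (X.residueField (genericPoint X)) :=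
    IsScalarTower.of_algebraMap_eq fun s => (IsLocalization.lift_eq hunit s).symm
  haveI : FaithfulSMul Γ(X, p ⁻¹ᵁ V) (X.residueField (genericPoint X)) :=
    (faithfulSMul_iff_algebraMap_injective _ _).mpr hSL
  haveI : IsFractionRing Γ(X, p ⁻¹ᵁ V) (X.residueField (genericPoint X)) := IsFractionRing.of_field _ _ fun z => by
    obtain ⟨a', b', -, rfl⟩ := H22Alg.CycDiv.exists_frac hU hη z
    exact ⟨a', b', rfl⟩
  haveI : IsFractionRing B (X.residueField (genericPoint X)) :=
    IsFractionRing.isFractionRing_of_isDomain_of_isLocalization M B _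
  letI algAL : Algebra (Y.presheaf.stalk y) (X.residueField (genericPoint X)) :=
    ((algebraMap (Y.residueField (p (genericPoint X))) (X.residueField (genericPoint X))).comp
      (algebraMap (Y.presheaf.stalk y) (Y.residueField (p (genericPoint X))))).toAlgebra
  haveI : IsScalarTower (Y.presheaf.stalk y) (Y.residueField (p (genericPoint X))) (X.residueField (genericPoint X)) :=
    IsScalarTower.of_algebraMap_eq' rfl
  haveI : IsScalarTower (Y.presheaf.stalk y) B (X.residueField (genericPoint X)) :=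
    IsScalarTower.of_algebraMap_eq' (IsLocalization.ringHom_ext p₀.primeCompl (RingHom.ext fun r => by
      show algebraMap (Y.residueField (p (genericPoint X))) (X.residueField (genericPoint X))
        (algebraMap (Y.presheaf.stalk y) _ (algebraMap Γ(Y, V) _ r)) =
        algebraMap B _ (algebraMap (Y.presheaf.stalk y) B (algebraMap Γ(Y, V) (Y.presheaf.stalk y) r))
      rw [← hRL, ← IsScalarTower.algebraMap_apply Γ(Y, V) (Y.presheaf.stalk y) B,
        IsScalarTower.algebraMap_apply Γ(Y, V) Γ(X, p ⁻¹ᵁ V) B, ← IsScalarTower.algebraMap_apply Γ(X, p ⁻¹ᵁ V) B]))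
  have hinj : Function.Injective (algebraMap (Y.presheaf.stalk y) B) := by
    refine Function.Injective.of_comp (f := algebraMap B (X.residueField (genericPoint X))) ?_
    rw [← RingHom.coe_comp, ← IsScalarTower.algebraMap_eq]
    exact (RingHom.injective (algebraMap (Y.residueField (p (genericPoint X))) (X.residueField (genericPoint X)))).comp hinjA
  have haB : algebraMap Γ(X, p ⁻¹ᵁ V) B a ≠ 0 := fun e => ha (by
    show algebraMap Γ(X, p ⁻¹ᵁ V) (X.residueField (genericPoint X)) a = 0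
    rw [IsScalarTower.algebraMap_apply Γ(X, p ⁻¹ᵁ V) B, e, map_zero])
  have hbB : algebraMap Γ(X, p ⁻¹ᵁ V) B b ≠ 0 := fun e => hb (by
    show algebraMap Γ(X, p ⁻¹ᵁ V) (X.residueField (genericPoint X)) b = 0
    rw [IsScalarTower.algebraMap_apply Γ(X, p ⁻¹ᵁ V) B, e, map_zero])
  have hnorm : Cyc.normGen p (genericPoint X) g = Algebra.norm (Y.residueField (p (genericPoint X)))
      (algebraMap B (X.residueField (genericPoint X)) (algebraMap Γ(X, p ⁻¹ᵁ V) B a) /
        algebraMap B (X.residueField (genericPoint X)) (algebraMap Γ(X, p ⁻¹ᵁ V) B b)) := by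
    rw [← IsScalarTower.algebraMap_apply, ← IsScalarTower.algebraMap_apply, hfab]
    rfl
  rw [hnorm, ordFrac_norm hinj _ _ haB hbB, ← finsum_set_coe_eq_finsum_mem]
  -- the fibre is the set of maximal ideals of `B`
  let q : ↥(p ⁻¹' {y}) → Ideal Γ(X, p ⁻¹ᵁ V) := fun x =>
    (hU.primeIdealOf ⟨x.1, by show p x.1 ∈ V; rw [x.2]; exact hyV⟩).asIdeal
  have hover : ∀ x, (q x).comap (algebraMap Γ(Y, V) Γ(X, p ⁻¹ᵁ V)) = p₀ := fun x => by
    have h := (H22Alg.FiniteDegree.stalk_data p hV hU ⟨x.1, by show p x.1 ∈ V; rw [x.2]; exact hyV⟩).2.2.over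
    rw [hp₀]
    refine Eq.trans h.symm ?_
    obtain ⟨x, hx⟩ := x
    obtain rfl : p x = y := hx
    rfl
  have hdisj : ∀ x, Disjoint (M : Set Γ(X, p ⁻¹ᵁ V)) (q x : Set Γ(X, p ⁻¹ᵁ V)) := fun x => by
    rw [Set.disjoint_left]
    rintro _ ⟨r, hr, rfl⟩ hq
    exact hr (by rw [← hover x]; exact hq)
  haveI hqp : ∀ x, (q x).IsPrime := fun x => (hU.primeIdealOf _).2
  have hqB : ∀ x, ((q x).map (algebraMap Γ(X, p ⁻¹ᵁ V) B)).IsPrime := fun x =>
    IsLocalization.isPrime_of_isPrime_disjoint M B (q x) (hqp x) (hdisj x)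
  have hqback : ∀ x, ((q x).map (algebraMap Γ(X, p ⁻¹ᵁ V) B)).comap (algebraMap Γ(X, p ⁻¹ᵁ V) B) = q x := fun x =>
    IsLocalization.under_map_of_isPrime_disjoint M B (hqp x) (hdisj x)
  have hqmax : ∀ x, ((q x).map (algebraMap Γ(X, p ⁻¹ᵁ V) B)).IsMaximal := fun x => by
    haveI := hqB x
    refine Ideal.isMaximal_of_isIntegral_of_isMaximal_comap (R := Y.presheaf.stalk y) _ ?_
    have h2 : (((q x).map (algebraMap Γ(X, p ⁻¹ᵁ V) B)).comap (algebraMap (Y.presheaf.stalk y) B)).comap
        (algebraMap Γ(Y, V) (Y.presheaf.stalk y)) = p₀ := by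
      rw [Ideal.comap_comap, ← IsScalarTower.algebraMap_eq, IsScalarTower.algebraMap_eq Γ(Y, V) Γ(X, p ⁻¹ᵁ V) B,
        ← Ideal.comap_comap, hqback, hover]
    have h3 : ((q x).map (algebraMap Γ(X, p ⁻¹ᵁ V) B)).comap (algebraMap (Y.presheaf.stalk y) B) =
        maximalIdeal (Y.presheaf.stalk y) := by
      refine (IsLocalization.map_under p₀.primeCompl (Y.presheaf.stalk y) _).symm.trans ?_
      show Ideal.map _ (((q x).map (algebraMap Γ(X, p ⁻¹ᵁ V) B)).comap (algebraMap (Y.presheaf.stalk y) B) |>.comap _) = _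
      rw [h2]
      exact IsLocalization.AtPrime.map_eq_maximalIdeal p₀ _
    rw [h3]
    exact maximalIdeal.isMaximal _
  let e : ↥(p ⁻¹' {y}) → MaximalSpectrum B := fun x => ⟨_, hqmax x⟩
  refine finsum_eq_of_bijective e ⟨?_, ?_⟩ ?_
  · intro x₁ x₂ h
    have h' : q x₁ = q x₂ := by
      rw [← hqback x₁, ← hqback x₂]
      exact congrArg (fun n : MaximalSpectrum B => n.asIdeal.comap (algebraMap Γ(X, p ⁻¹ᵁ V) B)) h
    have := congrArg hU.fromSpec (PrimeSpectrum.ext h')
    rw [hU.fromSpec_primeIdealOf, hU.fromSpec_primeIdealOf] at this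
    exact Subtype.ext this
  · intro n
    let Q : PrimeSpectrum Γ(X, p ⁻¹ᵁ V) := ⟨n.asIdeal.comap (algebraMap Γ(X, p ⁻¹ᵁ V) B), inferInstance⟩
    have hQU : hU.fromSpec Q ∈ p ⁻¹ᵁ V := by rw [← SetLike.mem_coe, ← hU.range_fromSpec]; exact ⟨Q, rfl⟩
    have hpQ : hU.primeIdealOf ⟨hU.fromSpec Q, hQU⟩ = Q :=
      hU.fromSpec.isOpenEmbedding.injective (hU.fromSpec_primeIdealOf _)
    have h := (H22Alg.FiniteDegree.stalk_data p hV hU ⟨hU.fromSpec Q, hQU⟩).2.2.over
    rw [hpQ] at h
    have hQy : p (hU.fromSpec Q) = y := by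
      have h1 : hV.primeIdealOf ⟨p (hU.fromSpec Q), hQU⟩ = hV.primeIdealOf ⟨y, hyV⟩ := by
        refine PrimeSpectrum.ext (h.trans ?_)
        show (n.asIdeal.comap (algebraMap Γ(X, p ⁻¹ᵁ V) B)).comap (algebraMap Γ(Y, V) Γ(X, p ⁻¹ᵁ V)) = p₀
        rw [Ideal.comap_comap, ← IsScalarTower.algebraMap_eq, IsScalarTower.algebraMap_eq Γ(Y, V) (Y.presheaf.stalk y) B,
          ← Ideal.comap_comap, H3Cyc.over_maximal n]
        exact IsLocalization.AtPrime.under_maximalIdeal (Y.presheaf.stalk y) p₀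
      have := congrArg hV.fromSpec h1
      rwa [hV.fromSpec_primeIdealOf, hV.fromSpec_primeIdealOf] at this
    refine ⟨⟨hU.fromSpec Q, hQy⟩, MaximalSpectrum.ext ?_⟩
    show (hU.primeIdealOf ⟨hU.fromSpec Q, hQU⟩).asIdeal.map (algebraMap Γ(X, p ⁻¹ᵁ V) B) = n.asIdeal
    rw [hpQ]
    exact IsLocalization.map_under M B n.asIdeal
  -- the terms agree
  rintro ⟨x, hx⟩
  obtain rfl : p x = y := hx
  have hxU : x ∈ p ⁻¹ᵁ V := hyV
  set n := e ⟨x, rfl⟩
  have hn : n.asIdeal.comap (algebraMap Γ(X, p ⁻¹ᵁ V) B) = (hU.primeIdealOf ⟨x, hxU⟩).asIdeal := hqback ⟨x, rfl⟩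
  letI := TopCat.Presheaf.algebra_section_stalk X.presheaf (⟨x, hxU⟩ : ↥(p ⁻¹ᵁ V))
  haveI := hU.isLocalization_stalk ⟨x, hxU⟩
  haveI hloc : IsLocalization (hU.primeIdealOf ⟨x, hxU⟩).asIdeal.primeCompl (Localization.AtPrime n.asIdeal) := by
    have h := IsLocalization.isLocalization_isLocalization_atPrime_isLocalization M
      (Localization.AtPrime n.asIdeal) n.asIdeal
    simp only [IsLocalization.AtPrime] at h
    convert h using 2
    exact hn.symm
  let E : Localization.AtPrime n.asIdeal ≃+* X.presheaf.stalk x :=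
    (IsLocalization.algEquiv (hU.primeIdealOf ⟨x, hxU⟩).asIdeal.primeCompl (Localization.AtPrime n.asIdeal)
      (X.presheaf.stalk x)).toRingEquiv
  have hE : ∀ s, E (algebraMap B _ (algebraMap Γ(X, p ⁻¹ᵁ V) B s)) = X.presheaf.germ _ x hxU s := fun s => by
    rw [← IsScalarTower.algebraMap_apply]
    exact (IsLocalization.algEquiv (hU.primeIdealOf ⟨x, hxU⟩).asIdeal.primeCompl _ _).commutes s
  have hdeg : p.residueDegree x = resDeg (Y.presheaf.stalk (p x)) n := by
    letI := (p.residueFieldMap x).hom.toAlgebra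
    symm
    let e1 : Y.presheaf.stalk (p x) ⧸ n.asIdeal.comap (algebraMap (Y.presheaf.stalk (p x)) B) ≃+* Y.residueField (p x) :=
      Ideal.quotEquivOfEq (H3Cyc.over_maximal n)
    let e2 : B ⧸ n.asIdeal ≃+* X.residueField x :=
      (IsLocalization.AtPrime.equivQuotMaximalIdeal n.asIdeal (Localization.AtPrime n.asIdeal)).trans
        (IsLocalRing.ResidueField.mapEquiv E)
    refine Algebra.finrank_eq_of_equiv_equiv e1 e2 (RingHom.ext fun z => ?_)
    obtain ⟨z, rfl⟩ := Ideal.Quotient.mk_surjective z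
    show p.residueFieldMap x (Y.residue (p x) z) =
      X.residue x (E (algebraMap B _ (algebraMap (Y.presheaf.stalk (p x)) B z)))
    refine (ConcreteCategory.congr_hom (Scheme.residue_residueFieldMap p x) z).trans (congrArg (X.residue x).hom ?_)
    have key : (p.stalkMap x).hom = (E.toRingHom.comp (algebraMap B (Localization.AtPrime n.asIdeal))).comp
        (algebraMap (Y.presheaf.stalk (p x)) B) := IsLocalization.ringHom_ext p₀.primeCompl (RingHom.ext fun r => by
      show p.stalkMap x (algebraMap Γ(Y, V) (Y.presheaf.stalk (p x)) r) =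
        E (algebraMap B _ (algebraMap (Y.presheaf.stalk (p x)) B (algebraMap Γ(Y, V) (Y.presheaf.stalk (p x)) r)))
      rw [← IsScalarTower.algebraMap_apply Γ(Y, V) (Y.presheaf.stalk (p x)) B,
        IsScalarTower.algebraMap_apply Γ(Y, V) Γ(X, p ⁻¹ᵁ V) B, hE]
      exact Scheme.Hom.germ_stalkMap_apply p V x hxU r)
    exact RingHom.congr_fun key z
  have hord : ∀ s, Ring.ord (Localization.AtPrime n.asIdeal) (algebraMap B _ (algebraMap Γ(X, p ⁻¹ᵁ V) B s)) =
      Ring.ord (X.presheaf.stalk x) (X.presheaf.germ _ x hxU s) := fun s => by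
    rw [← H22Alg.CycDiv.ord_ringEquiv E, hE]
  show Cyc.ordAt x (genericPoint X) _ g * _ = _
  rw [hfab, ordAt_div x (hfib x rfl) hxU hη a b ha hb, hord, hord, ← hdeg, mul_comm]

/-- Pushforward of a principal divisor along a generically finite proper map of integral schemes. -/
theorem map_divFun [IsIntegral X] [IsIntegral Y] {δX : X → ℤ} {δY : Y → ℤ}
    (hX : Cyc.IsSetup X δX) (hY : Cyc.IsSetup Y δY) (p : X ⟶ Y) [IsProper p] (hδ : Cyc.DeltaCompat p δX δY)
    (hdom : p (genericPoint X) = genericPoint Y) (hn : δX (genericPoint X) = δY (genericPoint Y))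
    (g : X.residueField (genericPoint X)) (hg : g ≠ 0) (α : AlgebraicCycle X ℤ)
    (hα : ⇑α = Cyc.divFun δX (genericPoint X) g) :
    ⇑(AlgebraicCycle.map p δX δY α) = Cyc.divFun δY (p (genericPoint X)) (Cyc.normGen p (genericPoint X) g) := by
  classical
  haveI := hX.1
  haveI := hY.1
  funext y
  simp only [AlgebraicCycle.map, Function.locallyFinsupp.map_apply, hα]
  have hs : p (genericPoint X) ⤳ y := hdom ▸ genericPoint_specializes y
  by_cases hy : δY y + 1 = δY (genericPoint Y)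
  swap
  · simp only [Cyc.divFun]
    rw [dif_neg (c := p (genericPoint X) ⤳ y ∧ _) (fun h => hy (by rw [← hdom]; exact h.2))]
    refine finsum_mem_eq_zero_of_forall_eq_zero fun x hx => ?_
    obtain rfl : p x = y := hx
    by_cases h : δX x = δY (p x)
    · rw [dif_neg (fun hh => hy (by rw [← h, ← hn]; exact hh.2)), zero_mul]
    · rw [AlgebraicCycle.mapCoeff, if_neg h, Nat.cast_zero, mul_zero]
  have hpd : δY y + 1 = δY (p (genericPoint X)) := by rw [hdom]; exact hy
  simp only [Cyc.divFun]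
  rw [dif_pos (c := p (genericPoint X) ⤳ y ∧ _) ⟨hs, hpd⟩]
  have hdim : ringKrullDim (Y.presheaf.stalk y) = 1 :=
    (H22Alg.CycFlatDiv.dim_stalk_eq_one_iff hY.2.2 y).mpr (by omega)
  have hfibδ : ∀ x, p x = y → δX x + 1 = δX (genericPoint X) ∧ δX x = δY (p x) := fun x hx => by
    have h1 := H22Alg.CycBasic.delta_le p hδ x
    have hne : genericPoint X ≠ x := fun e => by
      subst e
      rw [hdom] at hx
      subst hx
      omega
    have h2 := (hX.2.2 _ _ (genericPoint_specializes x) hne).1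
    rw [hx] at h1 ⊢
    omega
  obtain ⟨V₀, hV₀, hfin⟩ := Groth.Agent.S1867.result X Y p hdom
    (H22Alg.CycBasic.finite_residueFieldMap_of_delta_eq p hδ (genericPoint X) (by rw [hdom]; exact hn)) y hdim
  obtain ⟨V, hV, hyV, hU, hfinV⟩ := exists_affine_finite p hV₀
  rw [← finsum_ordAt_fibre p hdom hdim.le hV hyV hU hfinV hs
    (fun x hx => ((H22Alg.CycFlatDiv.dim_stalk_eq_one_iff hX.2.2 x).mpr (by have := hfibδ x hx; omega)).le) hg]
  refine finsum_mem_congr rfl fun x hx => ?_
  obtain ⟨h1, h2⟩ := hfibδ x hx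
  rw [dif_pos ⟨genericPoint_specializes x, h1⟩, AlgebraicCycle.mapCoeff, if_pos h2]

end Groth.Agent.H3Cyc.PushDiv
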