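import Groth.Agent.S1860
import Groth.Agent.H3Cyc.PushDiv
import Groth.Agent.H8Props.FibreStalk
import Groth.Agent.H8Props.Reduced
import Groth.Agent.H17.Dim
import Groth.Agent.H17.Fibre
import Groth.Agent.H27CurveDiv.Degree
import Mathlib

/-!
# Pushforward of principal divisors, the case of a drop of dimension
-/

set_option autoImplicit false
set_option linter.style.haveILetI false
universe u

open AlgebraicGeometry CategoryTheory IsLocalRing Order

namespace Groth.Agent.H3Cyc.PushZero

/-- A space with a generic point all of whose other points are closed has dimension one. -/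
theorem dim_eq_one {α : Type u} [TopologicalSpace α] [QuasiSober α] [T0Space α] (w : α) (hw : ∀ z, w ⤳ z)
    (hcl : ∀ z, z ≠ w → IsClosed ({z} : Set α)) (z₁ : α) (hz₁ : z₁ ≠ w) : topologicalKrullDim α = 1 := by
  letI : PartialOrder α := specializationOrder α
  rw [H17.topologicalKrullDim_eq_krullDim_specialization]
  refine le_antisymm ?_ ?_
  · rw [krullDim_le_one_iff]
    intro z
    by_cases hz : z = w
    · exact Or.inr fun z' _ => by rw [hz]; exact hw z'
    · refine Or.inl fun z' h' => ?_
      have : z' ∈ ({z} : Set α) :=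
        (hcl z hz).closure_eq.le (specializes_iff_mem_closure.mp (h' : z ⤳ z'))
      rw [Set.mem_singleton_iff.mp this]
  · rw [one_le_krullDim_iff]
    exact ⟨z₁, w, lt_of_le_not_ge (hw z₁ : z₁ ≤ w) fun h => hz₁ (le_antisymm (hw z₁ : z₁ ≤ w) h)⟩

variable {X Y : Scheme.{u}} (p : X ⟶ Y)

theorem bijective_stalkMap_fiberι [IsIntegral Y] (y : Y) (hy : y = genericPoint Y) (z : p.fiber y) :
    Function.Bijective ((p.fiberι y).stalkMap z).hom := by
  have hx : p (p.fiberι y z) = y := (p.range_fiberι y).subset (Set.mem_range_self z)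
  have key : ∀ (y : Y) (z : p.fiber y) (x : X) (hz : p.fiberι y z = x), p x = y → y = genericPoint Y →
      Function.Bijective (H8Props.FibreStalk.toFibre p x y z hz).hom := by
    intro y z x hz hpx hy
    subst hpx
    refine ⟨(RingHom.injective_iff_ker_eq_bot _).mpr ?_, H8Props.FibreStalk.toFibre_surjective p x _ z hz⟩
    have hbot : maximalIdeal (Y.presheaf.stalk (p x)) = ⊥ := by
      rw [hy]
      exact IsLocalRing.isField_iff_maximalIdeal_eq.mp (Field.toIsField Y.functionField)
    rw [H8Props.FibreStalk.ker_toFibre, hbot, Ideal.map_bot]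
  have h := key y z _ rfl hx hy
  refine ⟨fun a b hab => ?_, (p.fiberι y).stalkMap_surjective z⟩
  refine h.1 ?_
  show (p.fiberι y).stalkMap z ((X.presheaf.stalkCongr _).hom a) =
    (p.fiberι y).stalkMap z ((X.presheaf.stalkCongr _).hom b)
  simp only [TopCat.Presheaf.stalkCongr_hom, TopCat.Presheaf.stalkSpecializes_refl]
  exact hab

variable [IsIntegral X] [IsIntegral Y]

theorem exists_over_generic (y : Y) (hy : y = genericPoint Y) (hdom : p (genericPoint X) = y) :
    ∃ _ : IsIntegral (p.fiber y), p.fiberι y (genericPoint (p.fiber y)) = genericPoint X := by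
  obtain ⟨z₀, hz₀⟩ := (p.range_fiberι y).ge hdom
  haveI : IsReduced (p.fiber y) := H8Props.isReduced_fiber_of_isGenericPoint p y fun y' h =>
    (h.antisymm (hy ▸ genericPoint_specializes y')).eq
  have hall : ∀ z : p.fiber y, z₀ ⤳ z := fun z =>
    (p.fiberι y).isEmbedding.isInducing.specializes_iff.mp (hz₀ ▸ genericPoint_specializes _)
  have hcl : closure ({z₀} : Set (p.fiber y)) = Set.univ :=
    Set.eq_univ_of_forall fun z => specializes_iff_mem_closure.mp (hall z)
  haveI : IrreducibleSpace (p.fiber y) := (irreducibleSpace_def _).mpr (by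
    rw [Set.top_eq_univ, ← hcl]
    exact isIrreducible_singleton.closure)
  haveI : IsIntegral (p.fiber y) := isIntegral_iff_irreducibleSpace_and_isReduced _ |>.mpr ⟨‹_›, ‹_›⟩
  refine ⟨inferInstance, ?_⟩
  rw [← ((hall _).antisymm (genericPoint_specializes z₀)).eq]
  exact hz₀

/-- The sum over the generic fibre. -/
theorem finsum_generic_fibre [IsProper p] {δX : X → ℤ} {δY : Y → ℤ} (hX : Cyc.IsSetup X δX)
    (hδ : Cyc.DeltaCompat p δX δY) (y : Y) (hy : y = genericPoint Y) [IsIntegral (p.fiber y)]
    (hgen : p.fiberι y (genericPoint (p.fiber y)) = genericPoint X)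
    (hn : δX (genericPoint X) = δY y + 1) (g : X.residueField (p.fiberι y (genericPoint (p.fiber y))))
    (hg : g ≠ 0) :
    ∑ᶠ x ∈ p ⁻¹' {y}, Cyc.divFun δX (p.fiberι y (genericPoint (p.fiber y))) g x *
      ((AlgebraicCycle.mapCoeff p δX δY x : ℕ) : ℤ) = 0 := by
  classical
  haveI := hX.1
  let ι := p.fiberι y
  let w := genericPoint (p.fiber y)
  have hgen' : ι w = genericPoint X := hgen
  let c := p.fiberToSpecResidueField y
  haveI : IsProper c := by
    show IsProper (Limits.pullback.snd p (Y.fromSpecResidueField y))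
    infer_instance
  have hfib : ∀ z, p (ι z) = y := fun z => (p.range_fiberι y).subset (Set.mem_range_self z)
  have hinjι : Function.Injective ι := ι.isEmbedding.injective
  have hδz : ∀ z, z ≠ w → δX (ι z) = δY y ∧ δX (ι z) + 1 = δX (ι w) := fun z hz => by
    have h1 := H22Alg.CycBasic.delta_le p hδ (ι z)
    have h2 := (hX.2.2 (ι w) (ι z) ((genericPoint_specializes z).map ι.continuous)
      (fun e => hz (hinjι e).symm)).1
    rw [hfib] at h1
    rw [hgen'] at h2 ⊢
    omega
  have hclosed : ∀ z, z ≠ w → IsClosed ({z} : Set (p.fiber y)) := fun z hz => by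
    refine closure_subset_iff_isClosed.mp fun z' hz' => ?_
    by_contra hne
    have hsp : z ⤳ z' := specializes_iff_mem_closure.mpr hz'
    have hne' : z ≠ z' := fun e => hne e.symm
    have h1 := H22Alg.CycBasic.delta_le p hδ (ι z')
    have h2 := (hX.2.2 (ι z) (ι z') (hsp.map ι.continuous) (fun e => hne' (hinjι e))).1
    have h3 := (hδz z hz).1
    rw [hfib] at h1
    omega
  have hnclosed : ¬ IsClosed ({w} : Set (p.fiber y)) := fun hcl => by
    have huniv : ({w} : Set (p.fiber y)) = Set.univ := by
      rw [← hcl.closure_eq]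
      exact (genericPoint_closure (p.fiber y))
    have hfin : (p.residueFieldMap (ι w)).hom.Finite := by
      refine H17.finite_residueFieldMap p (ι w) ?_
      have hsub : ∀ (y' : Y) (h : y' = y) (u : p.fiber y'), IsClosed ({u} : Set (p.fiber y')) := by
        intro y' h u
        subst h
        have hu : u = w := huniv.ge (Set.mem_univ u)
        rw [hu]; exact hcl
      exact hsub _ (hfib w) _
    obtain ⟨m, hm, hmδ⟩ := hδ (ι w)
    have hm0 : m = 0 := by
      letI := (p.residueFieldMap (ι w)).hom.toAlgebra
      haveI : Module.Finite (Y.residueField (p (ι w))) (X.residueField (ι w)) := hfin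
      rw [trdeg_eq_zero] at hm
      exact_mod_cast hm.symm
    rw [hfib, hgen'] at hmδ
    omega
  obtain ⟨z₁, hz₁⟩ : ∃ z : p.fiber y, z ≠ w := by
    by_contra h
    push Not at h
    refine hnclosed ?_
    rw [show ({w} : Set (p.fiber y)) = Set.univ from Set.eq_univ_of_forall h]
    exact isClosed_univ
  have hdim : topologicalKrullDim (p.fiber y) = 1 :=
    dim_eq_one w (fun z => genericPoint_specializes z) hclosed z₁ hz₁
  -- transport of the rational function
  let sE : ∀ z, X.presheaf.stalk (ι z) ≃+* (p.fiber y).presheaf.stalk z := fun z =>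
    RingEquiv.ofBijective (ι.stalkMap z).hom (bijective_stalkMap_fiberι p y hy z)
  have hres : Function.Bijective (X.residue (ι w)).hom := by
    refine ⟨?_, X.residue_surjective _⟩
    rw [RingHom.injective_iff_ker_eq_bot]
    refine IsLocalRing.ker_residue.trans ?_
    rw [← IsLocalRing.isField_iff_maximalIdeal_eq, hgen']
    exact Field.toIsField X.functionField
  let φ : X.residueField (ι w) ≃+* (p.fiber y).functionField :=
    (RingEquiv.ofBijective (X.residue (ι w)).hom hres).symm.trans (sE w)
  let F' := φ g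
  have hF : F' ≠ 0 := fun e => hg (φ.injective (e.trans (map_zero φ).symm))
  have key := Groth.Agent.S1860.result (Y.residueField y) (p.fiber y) c hdim F' hF
  have hord : ∀ z, Cyc.ordAt (ι z) (ι w) ((genericPoint_specializes z).map ι.continuous) g =
      CycAlg.ordFrac ((p.fiber y).presheaf.stalk z) (p.fiber y).functionField F' := fun z => by
    have hsp : ι w ⤳ ι z := (genericPoint_specializes z).map ι.continuous
    rw [PushDiv.ordAt_eq_ordFrac _ _ hsp (PushDiv.isFractionRing_specMap _ _ hsp hgen').1]
    letI := (Cyc.specMap (ι z) (ι w) hsp).toAlgebra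
    refine (H22Alg.CycDiv.ordFrac_congr (sE z) φ (fun r => ?_) g).symm
    show φ (X.residue (ι w) (X.presheaf.stalkSpecializes hsp r)) =
      (p.fiber y).presheaf.stalkSpecializes (genericPoint_specializes z) (ι.stalkMap z r)
    refine (congrArg (sE w) ((RingEquiv.ofBijective (X.residue (ι w)).hom hres).symm_apply_apply _)).trans ?_
    exact ι.stalkSpecializes_stalkMap_apply w z (genericPoint_specializes z) r
  have hdeg : ∀ z, p.residueDegree (ι z) = c.residueDegree z := fun z => by
    have h1 := H22Alg.CycBasic.residueDegree_comp ι p z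
    have h2 := H22Alg.CycBasic.residueDegree_comp c (Y.fromSpecResidueField y) z
    have h3 : (ι ≫ p).residueDegree z = (c ≫ Y.fromSpecResidueField y).residueDegree z :=
      congrArg (fun f : p.fiber y ⟶ Y => f.residueDegree z) (p.fiber_fac y)
    rw [h1, h2, H27CurveDiv.residueDegree_immersion ι z,
      H27CurveDiv.residueDegree_immersion (Y.fromSpecResidueField y), mul_one, one_mul] at h3
    exact h3
  rw [← p.range_fiberι y, finsum_mem_range hinjι]
  refine Eq.trans (finsum_congr fun z => ?_) key
  show Cyc.divFun δX (ι w) g (ι z) * ((AlgebraicCycle.mapCoeff p δX δY (ι z) : ℕ) : ℤ) = _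
  by_cases hz : z = w
  · subst hz
    rw [Cyc.divFun, dif_neg (fun h => by have := h.2; omega), zero_mul]
    rw [finsum_eq_if, if_neg hnclosed]
  · obtain ⟨h1, h2⟩ := hδz z hz
    rw [Cyc.divFun, dif_pos ⟨(genericPoint_specializes z).map ι.continuous, h2⟩, hord, AlgebraicCycle.mapCoeff,
      if_pos (by rw [hfib]; exact h1), hdeg, finsum_eq_if, if_pos (hclosed z hz), mul_comm]

/-- The pushforward vanishes when the dimension drops. -/
theorem map_divFun_eq_zero [IsProper p] {δX : X → ℤ} {δY : Y → ℤ}
    (hX : Cyc.IsSetup X δX) (hY : Cyc.IsSetup Y δY) (hδ : Cyc.DeltaCompat p δX δY)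
    (hdom : p (genericPoint X) = genericPoint Y) (hn : δX (genericPoint X) ≠ δY (genericPoint Y))
    (f : X.residueField (genericPoint X)) (hf : f ≠ 0) (α : AlgebraicCycle X ℤ)
    (hα : ⇑α = Cyc.divFun δX (genericPoint X) f) : AlgebraicCycle.map p δX δY α = 0 := by
  classical
  have hle := H22Alg.CycBasic.delta_le p hδ (genericPoint X)
  rw [hdom] at hle
  ext y
  simp only [AlgebraicCycle.map, Function.locallyFinsupp.map_apply, hα]
  by_cases hy : y = genericPoint Y ∧ δX (genericPoint X) = δY y + 1
  · obtain ⟨rfl, hn1⟩ := hy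
    obtain ⟨hint, hgen⟩ := exists_over_generic p (genericPoint Y) rfl hdom
    have key : ∀ (η : X) (_ : η = p.fiberι (genericPoint Y) (genericPoint (p.fiber (genericPoint Y))))
        (g : X.residueField η), g ≠ 0 → ∑ᶠ x ∈ p ⁻¹' {genericPoint Y}, Cyc.divFun δX η g x *
          ((AlgebraicCycle.mapCoeff p δX δY x : ℕ) : ℤ) = 0 := by
      rintro η rfl g hg
      exact finsum_generic_fibre p hX hδ (genericPoint Y) rfl hgen hn1 g hg
    exact key _ hgen.symm f hf
  · refine finsum_mem_eq_zero_of_forall_eq_zero fun x hx => ?_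
    obtain rfl : p x = y := hx
    by_cases h : δX x = δY (p x)
    · rw [Cyc.divFun, dif_neg, zero_mul]
      rintro ⟨-, h2⟩
      refine hy ⟨?_, by omega⟩
      by_contra hne
      have := (hY.2.2 _ _ (genericPoint_specializes (p x)) (Ne.symm hne)).1
      omega
    · rw [AlgebraicCycle.mapCoeff, if_neg h, Nat.cast_zero, mul_zero]

end Groth.Agent.H3Cyc.PushZero
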