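import Groth.Agent.H3Cyc.Reduction
import Groth.Agent.H3Cyc.FlatDiv
import Groth.Agent.H3Cyc.C1Api
import Groth.Agent.S1906
import Groth.Agent.S16921
import Groth.Agent.H22Alg.RedIntegral
import Mathlib

/-!
# Proper pushforward preserves rational equivalence
-/

set_option autoImplicit false
set_option linter.style.haveILetI false
universe u

open AlgebraicGeometry CategoryTheory IsLocalRing TopologicalSpace

namespace Groth.Agent.H3Cyc.PushRat

open Reduction

variable {X Y : Scheme.{u}} {δX : X → ℤ} {δY : Y → ℤ} (p : X ⟶ Y) [IsProper p]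

/-- The coefficient of the pushforward of the principal divisor of `g` on the closure of `ξ`. -/
noncomputable def pushDiv (δX : X → ℤ) (δY : Y → ℤ) (ξ : X) (g : X.residueField ξ) (y : Y) : ℤ :=
  ∑ᶠ x ∈ p ⁻¹' {y}, Cyc.divFun δX ξ g x * ((AlgebraicCycle.mapCoeff p δX δY x : ℕ) : ℤ)

theorem residueFieldMap_congr_hom {X Y : Scheme.{u}} {f g : X ⟶ Y} (h : f = g) (w : X) (hw : g w = f w)
    (c : Y.residueField (f w)) : f.residueFieldMap w c = FlatDiv.liftVal g w hw c := by
  subst h
  unfold FlatDiv.liftVal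
  rw [Scheme.residueFieldCongr_refl]
  rfl

theorem liftVal_comp {W X Y : Scheme.{u}} (i : W ⟶ X) (p : X ⟶ Y) (w : W) {y : Y} (h : (i ≫ p) w = y)
    (c : Y.residueField y) :
    FlatDiv.liftVal (i ≫ p) w h c = i.residueFieldMap w (FlatDiv.liftVal p (i w) h c) := by
  subst h
  unfold FlatDiv.liftVal
  rw [Scheme.residueFieldCongr_refl, Scheme.residueFieldMap_comp]
  rfl

/-- The key computation. -/
theorem exists_pushDiv_eq (hX : Cyc.IsSetup X δX) (hY : Cyc.IsSetup Y δY) (hδ : Cyc.DeltaCompat p δX δY)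
    (ξ : X) (g : X.residueField ξ) (hg : g ≠ 0) :
    (δX ξ ≠ δY (p ξ) → ∀ y, pushDiv p δX δY ξ g y = 0) ∧
    (δX ξ = δY (p ξ) → (∃ N : Y.residueField (p ξ), N ≠ 0 ∧
      ∀ y, pushDiv p δX δY ξ g y = Cyc.divFun δY (p ξ) N y) ∧
      ∀ (y₀ : Y) (hy₀ : p ξ = y₀) (c : Y.residueField y₀), g = FlatDiv.liftVal p ξ hy₀ c →
        ∀ y, pushDiv p δX δY ξ g y = (p.residueDegree ξ : ℤ) * Cyc.divFun δY y₀ c y) := by
  classical
  haveI := hX.1
  haveI := hY.1
  obtain ⟨Z, _, i, _, hiη⟩ : ∃ (Z : Scheme.{u}) (_ : IsIntegral Z) (i : Z ⟶ X) (_ : IsClosedImmersion i),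
      i (genericPoint Z) = ξ := by
    let J := Scheme.IdealSheafData.vanishingIdeal (⟨closure {ξ}, isClosed_closure⟩ : Closeds X)
    haveI : IsIntegral J.subscheme := H22Alg.isIntegral_vanishingIdeal_closure ξ
    have hr : Set.range J.subschemeι = closure {ξ} := H17.range_vanishingIdeal_subschemeι _
    obtain ⟨t, ht⟩ : ξ ∈ Set.range J.subschemeι := by rw [hr]; exact subset_closure rfl
    have h1 : ξ ⤳ J.subschemeι (genericPoint J.subscheme) := by
      rw [specializes_iff_mem_closure, ← hr]; exact Set.mem_range_self _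
    have h2 : J.subschemeι (genericPoint J.subscheme) ⤳ ξ :=
      ht ▸ (genericPoint_specializes t).map J.subschemeι.continuous
    exact ⟨J.subscheme, inferInstance, J.subschemeι, inferInstance, (h2.antisymm h1).eq⟩
  subst hiη
  let q := i ≫ p
  haveI : IsProper q := inferInstanceAs (IsProper (i ≫ p))
  let W' := q.image
  let j : W' ⟶ Y := q.imageι
  let p' : Z ⟶ W' := q.toImage
  haveI : QuasiCompact q := inferInstance
  haveI : IsSchemeTheoreticallyDominant p' := ⟨H17.ker_toImage q⟩
  haveI : IsReduced W' := IsSchemeTheoreticallyDominant.isReduced p'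
  haveI : IrreducibleSpace W' := by
    refine (irreducibleSpace_def _).2 (show IsIrreducible (Set.univ : Set W') from ?_)
    rw [← (Scheme.Hom.denseRange p').closure_eq, ← Set.image_univ]
    exact ((IrreducibleSpace.isIrreducible_univ Z).image _ (Scheme.Hom.continuous _).continuousOn).closure
  haveI : IsIntegral W' := isIntegral_of_irreducibleSpace_of_isReduced _
  haveI : IsProper (p' ≫ j) := by
    show IsProper (q.toImage ≫ q.imageι)
    rw [q.toImage_imageι]; infer_instance
  haveI : IsProper p' := IsProper.of_comp p' j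
  have hfac : p' ≫ j = i ≫ p := q.toImage_imageι
  have hpt : ∀ w, j (p' w) = p (i w) := fun w => congrArg (fun f : Z ⟶ Y => f w) hfac
  have hdom : p' (genericPoint Z) = genericPoint W' :=
    H22Alg.CycBasic.eq_genericPoint_of_denseRange p' (Scheme.Hom.denseRange p')
  let δW := fun w => δX (i w)
  let δW' := fun v => δY (j v)
  have hW := isSetup_closedImmersion i hX
  have hW' := isSetup_closedImmersion j hY
  have hδ' : Cyc.DeltaCompat p' δW δW' := deltaCompat_factor i p p' j hfac hδ
  let g' := i.residueFieldMap (genericPoint Z) g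
  have hg' : g' ≠ 0 := fun e => hg ((i.residueFieldMap (genericPoint Z)).hom.injective (e.trans (map_zero _).symm))
  haveI : IsLocallyNoetherian Z := hW.1
  let α : AlgebraicCycle Z ℤ := ⟨Cyc.divFun δW (genericPoint Z) g', by simp, fun w _ =>
    H22Alg.CycDiv.locallyFinite_divFun hW.2.2 (genericPoint Z) hg' w⟩
  have hzero : ∀ y, y ∉ Set.range j → pushDiv p δX δY (i (genericPoint Z)) g y = 0 := fun y hy => by
    refine finsum_mem_eq_zero_of_forall_eq_zero fun x hx => ?_
    obtain rfl : p x = y := hx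
    by_cases hxr : x ∈ Set.range i
    · obtain ⟨w, rfl⟩ := hxr
      exact absurd ⟨p' w, hpt w⟩ hy
    · rw [divFun_eq_zero_of_notMem i δX (genericPoint Z) g hxr, zero_mul]
  have hmap : ∀ v, pushDiv p δX δY (i (genericPoint Z)) g (j v) = AlgebraicCycle.map p' δW δW' α v := fun v => by
    simp only [AlgebraicCycle.map, Function.locallyFinsupp.map_apply]
    symm
    rw [pushDiv]
    refine Eq.trans ?_ (finsum_mem_inter_support _ _)
    rw [show p ⁻¹' {j v} ∩ Function.support (fun x => Cyc.divFun δX (i (genericPoint Z)) g x *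
        ((AlgebraicCycle.mapCoeff p δX δY x : ℕ) : ℤ)) = i '' (p' ⁻¹' {v}) ∩ Function.support
        (fun x => Cyc.divFun δX (i (genericPoint Z)) g x * ((AlgebraicCycle.mapCoeff p δX δY x : ℕ) : ℤ)) from ?_,
      finsum_mem_inter_support, finsum_mem_image i.isEmbedding.injective.injOn]
    · refine finsum_mem_congr rfl fun w hw => ?_
      show Cyc.divFun δW (genericPoint Z) g' w * _ = _
      rw [divFun_immersion i δX (genericPoint Z) g w]
      congr 1
      have h1 : δW' (p' w) = δY (p (i w)) := congrArg δY (hpt w)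
      by_cases h : δX (i w) = δY (p (i w))
      · rw [AlgebraicCycle.mapCoeff, AlgebraicCycle.mapCoeff, if_pos h, if_pos (show δW w = δW' (p' w) from h.trans h1.symm)]
        have h2 := H22Alg.CycBasic.residueDegree_comp i p w
        have h3 := H22Alg.CycBasic.residueDegree_comp p' j w
        have h4 : (p' ≫ j).residueDegree w = (i ≫ p).residueDegree w :=
          congrArg (fun f : Z ⟶ Y => f.residueDegree w) hfac
        rw [h2, h3, H27CurveDiv.residueDegree_immersion i w, H27CurveDiv.residueDegree_immersion j, one_mul, mul_one] at h4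
        rw [h4]
      · rw [AlgebraicCycle.mapCoeff, AlgebraicCycle.mapCoeff, if_neg h,
          if_neg (fun e : δW w = δW' (p' w) => h (e.trans h1))]
    · ext x
      simp only [Set.mem_inter_iff, Set.mem_preimage, Set.mem_singleton_iff, Function.mem_support, Set.mem_image]
      refine ⟨fun ⟨hx, hne⟩ => ?_, fun ⟨⟨w, hw, hwx⟩, hne⟩ => ⟨by rw [← hwx, ← hpt, hw], hne⟩⟩
      by_cases hxr : x ∈ Set.range i
      · obtain ⟨w, rfl⟩ := hxr
        exact ⟨⟨w, j.isEmbedding.injective ((hpt w).trans hx), rfl⟩, hne⟩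
      · exact absurd (by rw [divFun_eq_zero_of_notMem i δX (genericPoint Z) g hxr, zero_mul]) hne
  have hcmp : δW (genericPoint Z) = δW' (genericPoint W') ↔ δX (i (genericPoint Z)) = δY (p (i (genericPoint Z))) := by
    rw [← hdom]
    show δX (i (genericPoint Z)) = δY (j (p' (genericPoint Z))) ↔ _
    rw [hpt]
  refine ⟨fun hne y => ?_, fun heq => ?_⟩
  · by_cases hy : y ∈ Set.range j
    · obtain ⟨v, rfl⟩ := hy
      rw [hmap, Groth.Agent.S16921.result Z W' δW δW' hW hW' p' hδ' hdom
        (fun e => hne (hcmp.mp e)) g' hg' α rfl]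
      rfl
    · exact hzero y hy
  · have hmain := Groth.Agent.S1906.result Z W' δW δW' hW hW' p' hδ' hdom (hcmp.mpr heq) g' hg' α rfl
    have hn0 : Cyc.normGen p' (genericPoint Z) g' ≠ 0 := by
      letI := (p'.residueFieldMap (genericPoint Z)).hom.toAlgebra
      haveI : Module.Finite (W'.residueField (p' (genericPoint Z))) (Z.residueField (genericPoint Z)) :=
        H22Alg.CycBasic.finite_residueFieldMap_of_delta_eq p' hδ' (genericPoint Z) (by rw [hdom]; exact hcmp.mpr heq)
      exact fun e => hg' (Algebra.norm_eq_zero_iff.mp e)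
    obtain ⟨N₀, hN₀⟩ := (bijective_residueFieldMap j (p' (genericPoint Z))).2 (Cyc.normGen p' (genericPoint Z) g')
    have hall : ∀ y, pushDiv p δX δY (i (genericPoint Z)) g y = Cyc.divFun δY (j (p' (genericPoint Z))) N₀ y := fun y => by
      by_cases hy : y ∈ Set.range j
      · obtain ⟨v, rfl⟩ := hy
        rw [hmap, congrFun hmain v, ← hN₀, divFun_immersion j δY]
      · rw [hzero y hy, divFun_eq_zero_of_notMem j δY _ N₀ hy]
    refine ⟨?_, fun y₀ hy₀ c hgc y => ?_⟩
    · rw [← hpt (genericPoint Z)]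
      exact ⟨N₀, fun e => hn0 (by rw [← hN₀, e, map_zero]), hall⟩
    obtain rfl : y₀ = j (p' (genericPoint Z)) := hy₀.symm.trans (hpt _).symm
    have hc0 : c ≠ 0 := fun e => hg (by
      rw [hgc, e]
      exact map_zero (((Y.residueFieldCongr hy₀.symm).hom ≫ p.residueFieldMap _).hom))
    have hdeg : p'.residueDegree (genericPoint Z) = p.residueDegree (i (genericPoint Z)) := by
      have h2 := H22Alg.CycBasic.residueDegree_comp i p (genericPoint Z)
      have h3 := H22Alg.CycBasic.residueDegree_comp p' j (genericPoint Z)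
      have h4 : (p' ≫ j).residueDegree (genericPoint Z) = (i ≫ p).residueDegree (genericPoint Z) :=
        congrArg (fun f : Z ⟶ Y => f.residueDegree (genericPoint Z)) hfac
      rw [h2, h3, H27CurveDiv.residueDegree_immersion i, H27CurveDiv.residueDegree_immersion j, one_mul, mul_one] at h4
      exact h4
    have hg2 : g' = p'.residueFieldMap (genericPoint Z) (j.residueFieldMap (p' (genericPoint Z)) c) := by
      have e1 := residueFieldMap_congr_hom hfac (genericPoint Z) (hpt _).symm c
      rw [Scheme.residueFieldMap_comp] at e1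
      replace e1 := e1.trans (liftVal_comp i p (genericPoint Z) _ c)
      exact ((congrArg (i.residueFieldMap (genericPoint Z)) hgc).trans e1.symm)
    have hN : N₀ = c ^ p.residueDegree (i (genericPoint Z)) := by
      refine (bijective_residueFieldMap j (p' (genericPoint Z))).1 ?_
      rw [hN₀, map_pow, ← hdeg, Cyc.normGen, hg2]
      letI := (p'.residueFieldMap (genericPoint Z)).hom.toAlgebra
      exact Algebra.norm_algebraMap _
    rw [hall y, hN, ← zpow_natCast, C1Api.divFun_zpow δY _ hc0]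

/-- **Pushforward preserves rational equivalence.** -/
theorem ratEquiv_map (hX : Cyc.IsSetup X δX) (hY : Cyc.IsSetup Y δY) (hδ : Cyc.DeltaCompat p δX δY) (k : ℤ)
    (α β : AlgebraicCycle X ℤ) (h : Cyc.RatEquiv δX k α β) :
    Cyc.RatEquiv δY k (AlgebraicCycle.map p δX δY α) (AlgebraicCycle.map p δX δY β) := by
  classical
  haveI := hX.1
  haveI := hY.1
  obtain ⟨ι, ξ, f, hk, hf, hlf, hsum⟩ := h
  choose N hN0 hN using fun i : {i : ι // δX (ξ i) = δY (p (ξ i))} =>
    ((exists_pushDiv_eq p hX hY hδ (ξ i.1) (f i.1) (hf i.1)).2 i.2).1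
  -- only finitely many components meet the preimage of an affine open
  have hfinV : ∀ V : Y.Opens, IsAffineOpen V → {i | ξ i ∈ p ⁻¹ᵁ V}.Finite := fun V hV => by
    choose U hU hxU hUfin using hlf
    obtain ⟨t, ht⟩ := (p.isSpectralMap.2 V.isOpen hV.isCompact).elim_finite_subcover U hU
      fun x _ => Set.mem_iUnion.mpr ⟨x, hxU x⟩
    refine (t.finite_toSet.biUnion fun x _ => hUfin x).subset fun i hi => ?_
    obtain ⟨x, hx, hix⟩ := Set.mem_iUnion₂.mp (ht hi)
    exact Set.mem_biUnion hx (⟨ξ i, subset_closure rfl, hix⟩ : (closure {ξ i} ∩ U x).Nonempty)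
  refine ⟨{i : ι // δX (ξ i) = δY (p (ξ i))}, fun i => p (ξ i.1), N, fun i => by
    show δY (p (ξ i.1)) = k + 1
    rw [← i.2]; exact hk i.1, hN0, fun y => ?_, fun y => ?_⟩
  · obtain ⟨V, hV, hyV, -⟩ := exists_isAffineOpen_mem_and_subset (show y ∈ (⊤ : Y.Opens) from trivial)
    refine ⟨V, V.2, hyV, ((hfinV V hV).preimage Subtype.val_injective.injOn).subset ?_⟩
    rintro i ⟨z, hz, hzV⟩
    exact (specializes_iff_mem_closure.mpr hz).mem_open V.2 hzV
  · obtain ⟨V, hV, hyV, -⟩ := exists_isAffineOpen_mem_and_subset (show y ∈ (⊤ : Y.Opens) from trivial)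
    let I := (hfinV V hV).toFinset
    have hK : IsCompact (p ⁻¹' (V : Set Y)) := p.isSpectralMap.2 V.isOpen hV.isCompact
    have hsub : p ⁻¹' {y} ⊆ p ⁻¹' (V : Set Y) := fun x hx => by
      show p x ∈ V
      rw [show p x = y from hx]; exact hyV
    let w : X → ℤ := fun x => ((AlgebraicCycle.mapCoeff p δX δY x : ℕ) : ℤ)
    have hdfin : ∀ i, (p ⁻¹' {y} ∩ Function.support (Cyc.divFun δX (ξ i) (f i))).Finite := fun i => by
      let c : AlgebraicCycle X ℤ := ⟨Cyc.divFun δX (ξ i) (f i), by simp, fun x _ =>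
        H22Alg.CycDiv.locallyFinite_divFun hX.2.2 (ξ i) (hf i) x⟩
      exact (c.locallyFiniteSupport.finite_inter_support_of_isCompact hK).subset
        (Set.inter_subset_inter_left _ hsub)
    let S₀ : Set X := (p ⁻¹' {y} ∩ Function.support α) ∪ (p ⁻¹' {y} ∩ Function.support β) ∪
      ⋃ i ∈ I, p ⁻¹' {y} ∩ Function.support (Cyc.divFun δX (ξ i) (f i))
    have hS₀ : S₀.Finite := (((α.locallyFiniteSupport.finite_inter_support_of_isCompact hK).subset
      (Set.inter_subset_inter_left _ hsub)).union ((β.locallyFiniteSupport.finite_inter_support_of_isCompact hK).subset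
      (Set.inter_subset_inter_left _ hsub))).union (I.finite_toSet.biUnion fun i _ => hdfin i)
    let S := hS₀.toFinset
    have hSy : (S : Set X) ⊆ p ⁻¹' {y} := fun x hx => by
      rcases hS₀.mem_toFinset.mp hx with (h | h) | h
      · exact h.1
      · exact h.1
      · obtain ⟨i, -, hi⟩ := Set.mem_iUnion₂.mp h; exact hi.1
    have hred : ∀ φ : X → ℤ, (∀ x ∈ p ⁻¹' {y}, φ x ≠ 0 → x ∈ S₀) →
        ∑ᶠ x ∈ p ⁻¹' {y}, φ x * w x = ∑ x ∈ S, φ x * w x := fun φ hφ =>
      finsum_mem_eq_sum_of_subset _ (fun x hx => hS₀.mem_toFinset.mpr (hφ x hx.1 (left_ne_zero_of_mul hx.2))) hSy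
    have hinI : ∀ x ∈ p ⁻¹' {y}, ∀ i, Cyc.divFun δX (ξ i) (f i) x ≠ 0 → i ∈ I := fun x hx i hi =>
      (hfinV V hV).mem_toFinset.mpr (H22Alg.CycDiv.mem_of_divFun_ne_zero (p ⁻¹ᵁ V).2 (hsub hx) hi)
    have hrhs : ∑ᶠ i : {i : ι // δX (ξ i) = δY (p (ξ i))}, Cyc.divFun δY (p (ξ i.1)) (N i) y =
        ∑ i ∈ I, pushDiv p δX δY (ξ i) (f i) y := by
      simp only [← hN]
      refine (finsum_set_coe_eq_finsum_mem (s := {i : ι | δX (ξ i) = δY (p (ξ i))})
        (f := fun i => pushDiv p δX δY (ξ i) (f i) y)).trans ?_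
      refine finsum_mem_eq_sum_of_inter_support_eq _ (Set.ext fun i => ?_)
      simp only [Set.mem_inter_iff, Function.mem_support, Finset.mem_coe, Set.mem_setOf_eq]
      refine ⟨fun ⟨_, hne⟩ => ⟨?_, hne⟩, fun ⟨_, hne⟩ => ⟨?_, hne⟩⟩
      · obtain ⟨x, hx, hx'⟩ := exists_ne_zero_of_finsum_mem_ne_zero hne
        exact hinI x hx i (left_ne_zero_of_mul hx')
      · by_contra hne'
        exact hne ((exists_pushDiv_eq p hX hY hδ (ξ i) (f i) (hf i)).1 hne' y)
    rw [hrhs]
    show (∑ᶠ x ∈ p ⁻¹' {y}, α x * w x) - (∑ᶠ x ∈ p ⁻¹' {y}, β x * w x) = _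
    rw [hred α (fun x hx h => Or.inl (Or.inl ⟨hx, h⟩)), hred β (fun x hx h => Or.inl (Or.inr ⟨hx, h⟩)),
      ← Finset.sum_sub_distrib]
    have h1 : ∀ x ∈ S, α x * w x - β x * w x = ∑ i ∈ I, Cyc.divFun δX (ξ i) (f i) x * w x := fun x hx => by
      rw [← sub_mul, ← Finset.sum_mul]
      congr 1
      refine (hsum x).trans (finsum_eq_sum_of_support_subset _ fun i hi => Finset.mem_coe.mpr (hinI x (hSy hx) i hi))
    rw [Finset.sum_congr rfl h1, Finset.sum_comm]
    refine Finset.sum_congr rfl fun i hi => ?_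
    exact (hred _ fun x hx h => Or.inr (Set.mem_biUnion hi ⟨hx, h⟩)).symm

end Groth.Agent.H3Cyc.PushRat
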