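import Groth.Agent.H3Cyc.C1Pull
import Groth.Agent.H3Cyc.PushRat
import Mathlib

/-!
# Projection formula for `c₁(L) ∩`
-/

set_option autoImplicit false
set_option linter.style.haveILetI false
universe u

open AlgebraicGeometry CategoryTheory IsLocalRing Opposite
open Groth.Agent.H11Tilde (IsGen)

namespace Groth.Agent.H3Cyc.C1Api

variable {X Y : Scheme.{u}}

/-- The cycle `c₁(L) ∩ α`. -/
theorem exists_c1Cap_cycle [IsLocallyNoetherian X] {δ : X → ℤ} (hX : Cyc.IsDimFun X δ) {L : X.Modules}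
    (hL : PicF.IsInvertible L) (k : ℤ) (α : AlgebraicCycle X ℤ) (hα : α ∈ Cyc.Zk X δ (k + 1))
    (s : (ξ : X) → Cyc.secFibre L ξ) (hs : ∀ ξ, s ξ ≠ 0) :
    ∃ γ : AlgebraicCycle X ℤ, ⇑γ = Cyc.c1CapFun δ L ⇑α s ∧ γ ∈ Cyc.Zk X δ k := by
  classical
  refine ⟨⟨Cyc.c1CapFun δ L ⇑α s, by simp, fun x _ => ?_⟩, rfl, fun x hx => ?_⟩
  · obtain ⟨V, e, hxV, he⟩ := H11Ample.exists_gen hL x
    obtain ⟨W, hW, hxW, hWV⟩ := exists_isAffineOpen_mem_and_subset (U := V) (x := x) hxV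
    have hfin := α.locallyFiniteSupport.finite_inter_support_of_isCompact hW.isCompact
    choose φ hφ using fun (ξ : X) (h : ξ ∈ V) => exists_smul_fib he h (s ξ)
    refine ⟨W, W.2.mem_nhds hxW, (hfin.biUnion' (t := fun ξ hξ => (W : Set X) ∩
      Function.support (Cyc.divFun δ ξ (X.residue ξ (φ ξ (hWV hξ.1))))) fun ξ hξ =>
      H22Alg.CycDiv.finite_divFun_inter hX ξ (f := X.residue ξ (φ ξ (hWV hξ.1)))
        ((residue_ne_zero_iff he _ _).mp (hφ ξ (hWV hξ.1) ▸ hs ξ)) hW).subset ?_⟩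
    rintro z ⟨hzW, hz⟩
    obtain ⟨ξ, hξ⟩ := exists_ne_zero_of_finsum_mem_ne_zero
      (s := Set.univ) (f := fun ξ => α ξ * Cyc.secDivFun δ L ξ (s ξ) z) (by rwa [finsum_mem_univ])
    have hz' := secDivFun_ne_zero (right_ne_zero_of_mul hξ.2)
    have hξW : ξ ∈ W := hz'.mem_open W.2 hzW
    refine Set.mem_iUnion₂.mpr ⟨ξ, ⟨hξW, left_ne_zero_of_mul hξ.2⟩, hzW, ?_⟩
    have h0 := right_ne_zero_of_mul hξ.2
    rw [hφ ξ (hWV hξW), secDivFun_gen he δ (hWV hξW) _ ((residue_ne_zero_iff he _ _).mp (hφ ξ (hWV hξW) ▸ hs ξ)) (hWV hzW)] at h0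
    exact h0
  · show ∑ᶠ ξ, α ξ * Cyc.secDivFun δ L ξ (s ξ) x = 0
    refine (finsum_congr fun ξ => ?_).trans finsum_zero
    by_cases hξ : δ ξ = k + 1
    · rw [Cyc.secDivFun, dif_neg fun h => hx (by have := h.2; omega), mul_zero]
    · rw [hα ξ hξ, zero_mul]

open PushRat

variable {δX : X → ℤ} {δY : Y → ℤ} (p : X ⟶ Y) [IsProper p]

theorem push_secDiv (hX : Cyc.IsSetup X δX) (hY : Cyc.IsSetup Y δY) (hδ : Cyc.DeltaCompat p δX δY)
    {L : Y.Modules} (hL : PicF.IsInvertible L) (v : (η : Y) → Cyc.secFibre L η) (hv : ∀ η, v η ≠ 0) (ξ : X) (y : Y) :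
    (p ⁻¹' {y} ∩ Function.support fun x =>
        Cyc.secDivFun δX ((Scheme.Modules.pullback p).obj L) ξ (pullFib p L ξ (v (p ξ))) x *
          ((AlgebraicCycle.mapCoeff p δX δY x : ℕ) : ℤ)).Finite ∧
    ∑ᶠ x ∈ p ⁻¹' {y}, Cyc.secDivFun δX ((Scheme.Modules.pullback p).obj L) ξ (pullFib p L ξ (v (p ξ))) x *
        ((AlgebraicCycle.mapCoeff p δX δY x : ℕ) : ℤ) =
      ((AlgebraicCycle.mapCoeff p δX δY ξ : ℕ) : ℤ) * Cyc.secDivFun δY L (p ξ) (v (p ξ)) y := by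
  classical
  haveI := hX.1
  by_cases h : p ξ ⤳ y
  swap
  · have hz : ∀ x ∈ p ⁻¹' {y}, Cyc.secDivFun δX ((Scheme.Modules.pullback p).obj L) ξ (pullFib p L ξ (v (p ξ))) x = 0 :=
      fun x hx => by
        rw [Cyc.secDivFun, dif_neg]
        exact fun hh => h (hx ▸ hh.1.map p.continuous)
    refine ⟨Set.finite_empty.subset fun x hx => hx.2 (by simp only [hz x hx.1, zero_mul]), ?_⟩
    rw [show Cyc.secDivFun δY L (p ξ) (v (p ξ)) y = 0 by rw [Cyc.secDivFun, dif_neg fun hh => h hh.1], mul_zero]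
    exact finsum_mem_eq_zero_of_forall_eq_zero fun x hx => by rw [hz x hx, zero_mul]
  obtain ⟨V₀, e₀, hy₀, he₀⟩ := H11Ample.exists_gen hL y
  obtain ⟨V, hV, hy, hle⟩ := exists_isAffineOpen_mem_and_subset (U := V₀) (x := y) hy₀
  have he := he₀.res hle
  have hη : p ξ ∈ V := h.mem_open V.2 hy
  obtain ⟨φ, hφv⟩ := exists_smul_fib he hη (v (p ξ))
  have hφ := (residue_ne_zero_iff he hη φ).mp (hφv ▸ hv (p ξ))
  let g : X.residueField ξ := p.residueFieldMap ξ (Y.residue (p ξ) φ)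
  have hg : g ≠ 0 := fun e0 => hφ ((p.residueFieldMap ξ).hom.injective (e0.trans (map_zero _).symm))
  have hres : g = X.residue ξ (p.stalkMap ξ φ) :=
    ConcreteCategory.congr_hom (Scheme.residue_residueFieldMap p ξ) φ
  have hsec : ∀ x ∈ p ⁻¹' {y},
      Cyc.secDivFun δX ((Scheme.Modules.pullback p).obj L) ξ (pullFib p L ξ (v (p ξ))) x = Cyc.divFun δX ξ g x :=
    fun x hx => by
      rw [hφv, pullFib_smul_fib, hres]
      exact secDivFun_gen (IsGen.pullSect p he) (V := p ⁻¹ᵁ V) δX hη _ (hres ▸ hg)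
        (show p x ∈ V by rw [show p x = y from hx]; exact hy)
  have hK : IsCompact (p ⁻¹' (V : Set Y)) := p.isSpectralMap.2 V.isOpen hV.isCompact
  let c : AlgebraicCycle X ℤ := ⟨Cyc.divFun δX ξ g, by simp, fun x _ =>
    H22Alg.CycDiv.locallyFinite_divFun hX.2.2 ξ hg x⟩
  refine ⟨(c.locallyFiniteSupport.finite_inter_support_of_isCompact hK).subset fun x hx =>
    ⟨show p x ∈ V by rw [show p x = y from hx.1]; exact hy, ?_⟩, ?_⟩
  · have h2 := left_ne_zero_of_mul hx.2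
    rwa [hsec x hx.1] at h2
  rw [finsum_mem_congr rfl fun x hx => by rw [hsec x hx],
    show Cyc.secDivFun δY L (p ξ) (v (p ξ)) y = Cyc.divFun δY (p ξ) (Y.residue (p ξ) φ) y from by
      rw [hφv]; exact secDivFun_gen he δY hη φ hφ hy, AlgebraicCycle.mapCoeff]
  obtain ⟨h0, h1⟩ := exists_pushDiv_eq p hX hY hδ ξ g hg
  by_cases hd : δX ξ = δY (p ξ)
  · rw [if_pos hd]
    exact (h1 hd).2 (p ξ) rfl _ (by unfold FlatDiv.liftVal; rw [Scheme.residueFieldCongr_refl]; rfl) y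
  · rw [if_neg hd, Nat.cast_zero, zero_mul]
    exact h0 hd y

/-- The pushforward of `c₁(p^*L) ∩ α`, computed with pulled back sections. -/
theorem map_c1Cap_apply (hX : Cyc.IsSetup X δX) (hY : Cyc.IsSetup Y δY) (hδ : Cyc.DeltaCompat p δX δY)
    {L : Y.Modules} (hL : PicF.IsInvertible L) (α : AlgebraicCycle X ℤ)
    (v : (η : Y) → Cyc.secFibre L η) (hv : ∀ η, v η ≠ 0) (γ₀ : AlgebraicCycle X ℤ)
    (hγ₀ : ⇑γ₀ = Cyc.c1CapFun δX ((Scheme.Modules.pullback p).obj L) ⇑α fun ξ => pullFib p L ξ (v (p ξ))) (y : Y) :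
    AlgebraicCycle.map p δX δY γ₀ y = Cyc.c1CapFun δY L ⇑(AlgebraicCycle.map p δX δY α) v y := by
  classical
  haveI := hX.1
  haveI := hY.1
  let u₀ : (ξ : X) → Cyc.secFibre ((Scheme.Modules.pullback p).obj L) ξ := fun ξ => pullFib p L ξ (v (p ξ))
  show ∑ᶠ x ∈ p ⁻¹' {y}, γ₀ x * ((AlgebraicCycle.mapCoeff p δX δY x : ℕ) : ℤ) =
    ∑ᶠ η, (∑ᶠ x ∈ p ⁻¹' {η}, α x * ((AlgebraicCycle.mapCoeff p δX δY x : ℕ) : ℤ)) * Cyc.secDivFun δY L η (v η) y
  obtain ⟨V, hV, hyV, -⟩ := exists_isAffineOpen_mem_and_subset (show y ∈ (⊤ : Y.Opens) from trivial)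
  have hK : IsCompact (p ⁻¹' (V : Set Y)) := p.isSpectralMap.2 V.isOpen hV.isCompact
  let I : Finset X := (α.locallyFiniteSupport.finite_inter_support_of_isCompact hK).toFinset
  let w : X → ℤ := fun x => ((AlgebraicCycle.mapCoeff p δX δY x : ℕ) : ℤ)
  let σ : X → X → ℤ := fun ξ x => Cyc.secDivFun δX ((Scheme.Modules.pullback p).obj L) ξ (u₀ ξ) x
  have hin : ∀ x ∈ p ⁻¹' {y}, γ₀ x * w x = ∑ ξ ∈ I, α ξ * (σ ξ x * w x) := fun x hx => by
    rw [hγ₀, Cyc.c1CapFun, finsum_eq_sum_of_support_subset _ (s := I) ?_, Finset.sum_mul]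
    · exact Finset.sum_congr rfl fun ξ _ => mul_assoc _ _ _
    · intro ξ hξ
      rw [Finset.mem_coe, Set.Finite.mem_toFinset]
      refine ⟨(secDivFun_ne_zero (right_ne_zero_of_mul hξ)).mem_open (p ⁻¹ᵁ V).2 ?_, left_ne_zero_of_mul hξ⟩
      show p x ∈ V
      rw [show p x = y from hx]; exact hyV
  have hS : (⋃ ξ ∈ I, p ⁻¹' {y} ∩ Function.support fun x => σ ξ x * w x).Finite :=
    I.finite_toSet.biUnion fun ξ _ => (push_secDiv p hX hY hδ hL v hv ξ y).1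
  let S := hS.toFinset
  have hSy : (S : Set X) ⊆ p ⁻¹' {y} := fun x hx => by
    obtain ⟨ξ, -, hξ⟩ := Set.mem_iUnion₂.mp (hS.mem_toFinset.mp hx)
    exact hξ.1
  have hL1 : ∑ᶠ x ∈ p ⁻¹' {y}, γ₀ x * w x =
      ∑ ξ ∈ I, α ξ * (w ξ * Cyc.secDivFun δY L (p ξ) (v (p ξ)) y) := by
    rw [finsum_mem_eq_sum_of_subset _ (t := S) ?_ hSy, Finset.sum_congr rfl fun x hx => hin x (hSy hx), Finset.sum_comm]
    · refine Finset.sum_congr rfl fun ξ hξ => ?_
      rw [← Finset.mul_sum, ← (push_secDiv p hX hY hδ hL v hv ξ y).2]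
      congr 1
      exact (finsum_mem_eq_sum_of_subset _ (fun x hx => hS.mem_toFinset.mpr (Set.mem_biUnion hξ hx)) hSy).symm
    · rintro x ⟨hx, hne⟩
      simp only [Function.mem_support] at hne
      rw [hin x hx] at hne
      obtain ⟨ξ, hξ, hne'⟩ := Finset.exists_ne_zero_of_sum_ne_zero hne
      exact hS.mem_toFinset.mpr (Set.mem_biUnion hξ ⟨hx, right_ne_zero_of_mul hne'⟩)
  rw [hL1]
  have hR : ∀ η, η ⤳ y → ∑ᶠ x ∈ p ⁻¹' {η}, α x * w x = ∑ x ∈ I.filter (fun x => p x = η), α x * w x := fun η hη => by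
    refine finsum_mem_eq_sum_of_subset _ (fun x hx => ?_) (fun x hx => (Finset.mem_filter.mp hx).2)
    refine Finset.mem_coe.mpr (Finset.mem_filter.mpr ⟨?_, hx.1⟩)
    rw [Set.Finite.mem_toFinset]
    exact ⟨show p x ∈ V by rw [show p x = η from hx.1]; exact hη.mem_open V.2 hyV, left_ne_zero_of_mul hx.2⟩
  rw [finsum_eq_sum_of_support_subset _ (s := I.image p) ?_]
  · rw [← Finset.sum_fiberwise_of_maps_to (g := fun x => p x) (t := I.image p) fun x hx => Finset.mem_image_of_mem _ hx]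
    refine Finset.sum_congr rfl fun η _ => ?_
    by_cases hη : η ⤳ y
    · rw [hR η hη, Finset.sum_mul]
      refine Finset.sum_congr rfl fun ξ hξ => ?_
      obtain ⟨-, rfl⟩ := Finset.mem_filter.mp hξ
      ring
    · rw [show Cyc.secDivFun δY L η (v η) y = 0 by rw [Cyc.secDivFun, dif_neg fun hh => hη hh.1], mul_zero]
      refine Finset.sum_eq_zero fun ξ hξ => ?_
      obtain ⟨-, rfl⟩ := Finset.mem_filter.mp hξ
      rw [show Cyc.secDivFun δY L (p ξ) (v (p ξ)) y = 0 by rw [Cyc.secDivFun, dif_neg fun hh => hη hh.1]]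
      ring
  · intro η hη
    have hηy := secDivFun_ne_zero (right_ne_zero_of_mul hη)
    have h2 := left_ne_zero_of_mul hη
    rw [hR η hηy] at h2
    obtain ⟨ξ, hξ, -⟩ := Finset.exists_ne_zero_of_sum_ne_zero h2
    obtain ⟨h3, h4⟩ := Finset.mem_filter.mp hξ
    exact Finset.mem_coe.mpr (Finset.mem_image.mpr ⟨ξ, h3, h4⟩)

/-- **The projection formula for `c₁`.** -/
theorem map_c1Cap (hX : Cyc.IsSetup X δX) (hY : Cyc.IsSetup Y δY) (hδ : Cyc.DeltaCompat p δX δY)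
    {L : Y.Modules} (hL : PicF.IsInvertible L) (k : ℤ) (α : AlgebraicCycle X ℤ) (hα : α ∈ Cyc.Zk X δX (k + 1))
    (u : (ξ : X) → Cyc.secFibre ((Scheme.Modules.pullback p).obj L) ξ) (hu : ∀ ξ, u ξ ≠ 0)
    (v : (η : Y) → Cyc.secFibre L η) (hv : ∀ η, v η ≠ 0)
    (γ : AlgebraicCycle X ℤ) (hγ : ⇑γ = Cyc.c1CapFun δX ((Scheme.Modules.pullback p).obj L) ⇑α u)
    (γ' : AlgebraicCycle Y ℤ) (hγ' : ⇑γ' = Cyc.c1CapFun δY L ⇑(AlgebraicCycle.map p δX δY α) v) :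
    Cyc.RatEquiv δY k (AlgebraicCycle.map p δX δY γ) γ' := by
  classical
  haveI := hX.1
  haveI := hY.1
  let u₀ : (ξ : X) → Cyc.secFibre ((Scheme.Modules.pullback p).obj L) ξ := fun ξ => pullFib p L ξ (v (p ξ))
  have hu₀ : ∀ ξ, u₀ ξ ≠ 0 := fun ξ => pullFib_ne_zero p hL ξ _ (hv _)
  obtain ⟨γ₀, hγ₀, hγ₀k⟩ := exists_c1Cap_cycle hX.2.2 (isInvertible_pullback' p hL) k α hα u₀ hu₀
  have h1 := ratEquiv_map p hX hY hδ k γ γ₀
    (c1Cap_ratEquiv (isInvertible_pullback' p hL) k α hα u₀ u hu₀ hu γ₀ γ hγ₀ hγ)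
  suffices he : AlgebraicCycle.map p δX δY γ₀ = γ' by rwa [he] at h1
  refine DFunLike.coe_injective (funext fun y => ?_)
  rw [hγ']
  exact map_c1Cap_apply p hX hY hδ hL α v hv γ₀ hγ₀ y

end Groth.Agent.H3Cyc.C1Api
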