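import Groth.Agent.H3Cyc.C1Api
import Groth.Agent.H3Cyc.FlatRat
import Groth.Agent.H11Tilde.StalkGen
import Mathlib

/-!
# Flat pullback and `c₁(L) ∩`
-/

set_option autoImplicit false
set_option linter.style.haveILetI false
universe u

open AlgebraicGeometry CategoryTheory IsLocalRing Opposite
open Groth.Agent.H11Tilde (IsGen)

namespace Groth.Agent.H3Cyc.C1Api

variable {X Y : Scheme.{u}}

/-- Pullback of a rational section. -/
noncomputable def pullFib (f : X ⟶ Y) (L : Y.Modules) (z : X) (s : Cyc.secFibre L (f z)) :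
    Cyc.secFibre ((Scheme.Modules.pullback f).obj L) z :=
  Submodule.Quotient.mk (H06Mod.pullStalk f L z (Function.surjInv (Submodule.Quotient.mk_surjective _) s))

theorem pullFib_mk (f : X ⟶ Y) (L : Y.Modules) (z : X) (m : L.presheaf.stalk (f z)) :
    pullFib f L z (Submodule.Quotient.mk m) = Submodule.Quotient.mk (H06Mod.pullStalk f L z m) := by
  have h := Function.surjInv_eq (Submodule.Quotient.mk_surjective
    (maximalIdeal (Y.presheaf.stalk (f z)) • (⊤ : Submodule (Y.presheaf.stalk (f z)) (L.presheaf.stalk (f z)))))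
    (Submodule.Quotient.mk m)
  rw [Submodule.Quotient.eq] at h
  rw [pullFib, Submodule.Quotient.eq]
  have key : ∀ w ∈ (maximalIdeal (Y.presheaf.stalk (f z)) • (⊤ : Submodule (Y.presheaf.stalk (f z)) (L.presheaf.stalk (f z)))),
      H06Mod.pullStalk f L z w ∈ maximalIdeal (X.presheaf.stalk z) •
        (⊤ : Submodule (X.presheaf.stalk z) (((Scheme.Modules.pullback f).obj L).presheaf.stalk z)) := fun w hw => by
    refine Submodule.smul_induction_on hw (fun r hr n _ => ?_) fun a b ha hb => ?_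
    · rw [H06Mod.pullStalk_smul]
      refine Submodule.smul_mem_smul ?_ trivial
      haveI : IsLocalHom (f.stalkMap z).hom := inferInstance
      exact fun hu => hr ((isUnit_map_iff (f.stalkMap z).hom r).mp hu)
    · rw [map_add]; exact add_mem ha hb
  have h2 := key _ h
  rwa [map_sub] at h2

theorem pullFib_smul_fib (f : X ⟶ Y) {L : Y.Modules} {V : Y.Opens} (e : Γ(L, V)) (z : X) (hz : f z ∈ V)
    (φ : Y.presheaf.stalk (f z)) :
    pullFib f L z (φ • fib L (f z) hz e) =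
      f.stalkMap z φ • fib ((Scheme.Modules.pullback f).obj L) (V := f ⁻¹ᵁ V) z hz (OmegaSh.pullSect f L V e) := by
  rw [fib, ← Submodule.Quotient.mk_smul, pullFib_mk, H06Mod.pullStalk_smul, H06Mod.pullStalk_germ,
    Submodule.Quotient.mk_smul]

theorem pullFib_ne_zero (f : X ⟶ Y) {L : Y.Modules} (hL : PicF.IsInvertible L) (z : X)
    (s : Cyc.secFibre L (f z)) (hs : s ≠ 0) : pullFib f L z s ≠ 0 := by
  obtain ⟨V, e, hz, he⟩ := H11Ample.exists_gen hL (f z)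
  obtain ⟨φ, rfl⟩ := exists_smul_fib he hz s
  rw [pullFib_smul_fib, residue_ne_zero_iff (IsGen.pullSect f he) (V := f ⁻¹ᵁ V) hz]
  intro h0
  refine (residue_ne_zero_iff he hz φ).mp hs ((f.residueFieldMap z).hom.injective (Eq.trans ?_ (map_zero _).symm))
  exact (ConcreteCategory.congr_hom (Scheme.residue_residueFieldMap f z) φ).trans h0

theorem isInvertible_pullback' (f : X ⟶ Y) {L : Y.Modules} (hL : PicF.IsInvertible L) :
    PicF.IsInvertible ((Scheme.Modules.pullback f).obj L) := H11Ample.isInvertible_of_gen fun x => by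
  obtain ⟨V, e, hx, he⟩ := H11Ample.exists_gen hL (f x)
  exact ⟨f ⁻¹ᵁ V, _, hx, IsGen.pullSect f he⟩

open FlatRat

variable [IsLocallyNoetherian X] [IsLocallyNoetherian Y]

theorem pullFun_secDiv_eq (f : X ⟶ Y) [Flat f] {δX : X → ℤ} {δY : Y → ℤ}
    (hX : Cyc.IsSetup X δX) (hY : Cyc.IsSetup Y δY) {r : ℤ} (hr : MaxDim f δX δY r)
    {L : Y.Modules} (hL : PicF.IsInvertible L) (v : (η : Y) → Cyc.secFibre L η) (hv : ∀ η, v η ≠ 0) (η : Y) (x : X) :
    Cyc.pullFun f δX δY r (Cyc.secDivFun δY L η (v η)) x =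
      ∑ᶠ ξ : Comp f δX δY r η, (mult f ξ.1 : ℤ) *
        Cyc.secDivFun δX ((Scheme.Modules.pullback f).obj L) ξ.1 (pullFib f L ξ.1 (v (f ξ.1))) x := by
  by_cases h : η ⤳ f x
  swap
  · have h1 : Cyc.secDivFun δY L η (v η) (f x) = 0 := by rw [Cyc.secDivFun, dif_neg fun hh => h hh.1]
    simp only [Cyc.pullFun, h1, zero_mul, ite_self]
    refine ((finsum_congr fun ξ => ?_).trans finsum_zero).symm
    rw [Cyc.secDivFun, dif_neg fun hh => h (ξ.2.1 ▸ hh.1.map f.continuous), mul_zero]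
  obtain ⟨V, e, hy, he⟩ := H11Ample.exists_gen hL (f x)
  have hη : η ∈ V := h.mem_open V.2 hy
  obtain ⟨φ, hφv⟩ := exists_smul_fib he hη (v η)
  have hφ := (residue_ne_zero_iff he hη φ).mp (hφv ▸ hv η)
  have h1 : Cyc.secDivFun δY L η (v η) (f x) = Cyc.divFun δY η (Y.residue η φ) (f x) := by
    rw [hφv]; exact secDivFun_gen he δY hη φ hφ hy
  have h2 : Cyc.pullFun f δX δY r (Cyc.secDivFun δY L η (v η)) x =
      Cyc.pullFun f δX δY r (Cyc.divFun δY η (Y.residue η φ)) x := by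
    simp only [Cyc.pullFun, h1]
  rw [h2, pullFun_divFun_eq f hX hY hr η _ hφ x]
  refine finsum_congr fun ξ => ?_
  obtain ⟨ξ, hξη, hξd⟩ := ξ
  subst hξη
  rw [FlatDiv.liftVal, Scheme.residueFieldCongr_refl]
  show Cyc.divFun δX ξ (f.residueFieldMap ξ (Y.residue (f ξ) φ) ^ mult f ξ) x = _
  have hres : f.residueFieldMap ξ (Y.residue (f ξ) φ) = X.residue ξ (f.stalkMap ξ φ) :=
    ConcreteCategory.congr_hom (Scheme.residue_residueFieldMap f ξ) φ
  have hne : X.residue ξ (f.stalkMap ξ φ) ≠ 0 := by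
    rw [← hres]; exact fun e0 => hφ ((f.residueFieldMap ξ).hom.injective (e0.trans (map_zero _).symm))
  rw [hres, ← zpow_natCast, divFun_zpow δX ξ hne, hφv, pullFib_smul_fib,
    secDivFun_gen (IsGen.pullSect f he) (V := f ⁻¹ᵁ V) δX hη _ hne hy]

theorem pullFun_c1Cap_apply (f : X ⟶ Y) [Flat f] {δX : X → ℤ} {δY : Y → ℤ}
    (hX : Cyc.IsSetup X δX) (hY : Cyc.IsSetup Y δY) {r : ℤ} (hr : MaxDim f δX δY r)
    {L : Y.Modules} (hL : PicF.IsInvertible L) (α : AlgebraicCycle Y ℤ)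
    (v : (η : Y) → Cyc.secFibre L η) (hv : ∀ η, v η ≠ 0) (x : X) :
    Cyc.pullFun f δX δY r (Cyc.c1CapFun δY L ⇑α v) x =
      Cyc.c1CapFun δX ((Scheme.Modules.pullback f).obj L) (Cyc.pullFun f δX δY r ⇑α)
        (fun ξ => pullFib f L ξ (v (f ξ))) x := by
  classical
  let u₀ : (ξ : X) → Cyc.secFibre ((Scheme.Modules.pullback f).obj L) ξ := fun ξ => pullFib f L ξ (v (f ξ))
  obtain ⟨U, hU, hyU, -⟩ := exists_isAffineOpen_mem_and_subset (show f x ∈ (⊤ : Y.Opens) from trivial)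
  obtain ⟨W, hW, hxW, hWU⟩ := exists_isAffineOpen_mem_and_subset (U := f ⁻¹ᵁ U) (x := x) hyU
  let H : Finset Y := (α.locallyFiniteSupport.finite_inter_support_of_isCompact hU.isCompact).toFinset
  have hH : ∀ η, α η * Cyc.secDivFun δY L η (v η) (f x) ≠ 0 → η ∈ H := fun η h => by
    rw [Set.Finite.mem_toFinset]
    exact ⟨(secDivFun_ne_zero (right_ne_zero_of_mul h)).mem_open U.2 hyU, left_ne_zero_of_mul h⟩
  let C : Y → Finset X := fun η => (finite_comp_inter f hX hY hr η hW).toFinset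
  have hC : ∀ η ξ, ξ ∈ C η ↔ (f ξ = η ∧ δX ξ = δY η + r) ∧ ξ ∈ (W : Set X) := fun η ξ =>
    (Set.Finite.mem_toFinset _).trans Iff.rfl
  have hL1 : Cyc.pullFun f δX δY r (Cyc.c1CapFun δY L ⇑α v) x =
      ∑ η ∈ H, α η * Cyc.pullFun f δX δY r (Cyc.secDivFun δY L η (v η)) x := by
    simp only [Cyc.pullFun, Cyc.c1CapFun]
    rw [finsum_eq_sum_of_support_subset _ fun η h => Finset.mem_coe.mpr (hH η h)]
    split_ifs with h
    · rw [Finset.sum_mul]
      exact Finset.sum_congr rfl fun η _ => mul_assoc _ _ _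
    · simp
  rw [hL1]
  show _ = ∑ᶠ ξ, Cyc.pullFun f δX δY r (⇑α) ξ *
    Cyc.secDivFun δX _ ξ (u₀ ξ) x
  rw [finsum_eq_sum_of_support_subset _ (s := H.biUnion C) ?_, Finset.sum_biUnion ?_]
  · refine Finset.sum_congr rfl fun η _ => ?_
    rw [pullFun_secDiv_eq f hX hY hr hL v hv η x]
    rw [finsum_set_coe_eq_finsum_mem (s := Comp f δX δY r η)
      (f := fun ξ => (mult f ξ : ℤ) * Cyc.secDivFun δX _ ξ (u₀ ξ) x)]
    rw [finsum_mem_eq_sum_of_subset _ (t := C η) ?_ (show (C η : Set X) ⊆ Comp f δX δY r η from fun ξ hξ => ((hC η ξ).mp hξ).1), Finset.mul_sum]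
    · refine Finset.sum_congr rfl fun ξ hξ => ?_
      obtain ⟨⟨hfξ, hd⟩, -⟩ := (hC η ξ).mp hξ
      subst hfξ
      simp only [Cyc.pullFun]
      rw [if_pos hd, mul_assoc]
    · rintro ξ ⟨hξ, hne⟩
      exact (hC η ξ).mpr ⟨hξ, (secDivFun_ne_zero (right_ne_zero_of_mul hne)).mem_open W.2 hxW⟩
  · intro η _ η' _ hne
    exact Finset.disjoint_left.mpr fun ξ h h' => hne (((hC η ξ).mp h).1.1.symm.trans ((hC η' ξ).mp h').1.1)
  · intro ξ hξ
    have hξx := secDivFun_ne_zero (right_ne_zero_of_mul hξ)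
    have h0 := left_ne_zero_of_mul hξ
    simp only [Cyc.pullFun, ne_eq, ite_eq_right_iff, Classical.not_imp] at h0
    refine Finset.mem_coe.mpr (Finset.mem_biUnion.mpr ⟨f ξ, ?_, (hC _ ξ).mpr ⟨⟨rfl, h0.1⟩, hξx.mem_open W.2 hxW⟩⟩)
    rw [Set.Finite.mem_toFinset]
    exact ⟨(hξx.map f.continuous).mem_open U.2 hyU, left_ne_zero_of_mul h0.2⟩

/-- The pulled back cycle. -/
theorem exists_pullFun_cycle (f : X ⟶ Y) [Flat f] {δX : X → ℤ} {δY : Y → ℤ}
    (hX : Cyc.IsSetup X δX) (hY : Cyc.IsSetup Y δY) {r : ℤ} (hr : MaxDim f δX δY r) (k : ℤ)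
    (α : AlgebraicCycle Y ℤ) (hα : α ∈ Cyc.Zk Y δY k) :
    ∃ α' : AlgebraicCycle X ℤ, ⇑α' = Cyc.pullFun f δX δY r ⇑α ∧ α' ∈ Cyc.Zk X δX (k + r) := by
  classical
  have hlf : ∀ x : X, ∃ t ∈ nhds x, (t ∩ Function.support (Cyc.pullFun f δX δY r ⇑α)).Finite := fun x => by
    obtain ⟨U, hU, hyU, -⟩ := exists_isAffineOpen_mem_and_subset (show f x ∈ (⊤ : Y.Opens) from trivial)
    obtain ⟨W, hW, hxW, hWU⟩ := exists_isAffineOpen_mem_and_subset (U := f ⁻¹ᵁ U) (x := x) hyU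
    refine ⟨W, W.2.mem_nhds hxW, (((α.locallyFiniteSupport.finite_inter_support_of_isCompact hU.isCompact).biUnion
      fun η _ => finite_comp_inter f hX hY hr η hW)).subset fun z hz => ?_⟩
    obtain ⟨hzW, hz'⟩ := hz
    simp only [Function.mem_support, Cyc.pullFun, ne_eq, ite_eq_right_iff, Classical.not_imp] at hz'
    exact Set.mem_biUnion (x := f z) ⟨hWU hzW, left_ne_zero_of_mul hz'.2⟩ ⟨⟨rfl, hz'.1⟩, hzW⟩
  refine ⟨⟨Cyc.pullFun f δX δY r ⇑α, by simp, fun x _ => hlf x⟩, rfl, fun x hx => ?_⟩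
  show Cyc.pullFun f δX δY r (⇑α) x = 0
  simp only [Cyc.pullFun]
  split_ifs with h
  · rw [hα (f x) (by omega), zero_mul]
  · rfl

/-- **Flat pullback commutes with `c₁(L) ∩`.** -/
theorem pullFun_c1Cap (f : X ⟶ Y) [Flat f] {δX : X → ℤ} {δY : Y → ℤ}
    (hX : Cyc.IsSetup X δX) (hY : Cyc.IsSetup Y δY) {r : ℤ} (hr : MaxDim f δX δY r)
    {L : Y.Modules} (hL : PicF.IsInvertible L) (k : ℤ) (α : AlgebraicCycle Y ℤ) (hα : α ∈ Cyc.Zk Y δY k)
    (v : (η : Y) → Cyc.secFibre L η) (hv : ∀ η, v η ≠ 0)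
    (u : (ξ : X) → Cyc.secFibre ((Scheme.Modules.pullback f).obj L) ξ) (hu : ∀ ξ, u ξ ≠ 0)
    (γ₁ γ₂ : AlgebraicCycle X ℤ) (h₁ : ⇑γ₁ = Cyc.pullFun f δX δY r (Cyc.c1CapFun δY L ⇑α v))
    (h₂ : ⇑γ₂ = Cyc.c1CapFun δX ((Scheme.Modules.pullback f).obj L) (Cyc.pullFun f δX δY r ⇑α) u) :
    Cyc.RatEquiv δX (k + r - 1) γ₁ γ₂ := by
  classical
  -- the pulled back cycle
  have hlf : ∀ x : X, ∃ t ∈ nhds x, (t ∩ Function.support (Cyc.pullFun f δX δY r ⇑α)).Finite := fun x => by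
    obtain ⟨U, hU, hyU, -⟩ := exists_isAffineOpen_mem_and_subset (show f x ∈ (⊤ : Y.Opens) from trivial)
    obtain ⟨W, hW, hxW, hWU⟩ := exists_isAffineOpen_mem_and_subset (U := f ⁻¹ᵁ U) (x := x) hyU
    refine ⟨W, W.2.mem_nhds hxW, (((α.locallyFiniteSupport.finite_inter_support_of_isCompact hU.isCompact).biUnion
      fun η _ => finite_comp_inter f hX hY hr η hW)).subset fun z hz => ?_⟩
    obtain ⟨hzW, hz'⟩ := hz
    simp only [Function.mem_support, Cyc.pullFun, ne_eq, ite_eq_right_iff, Classical.not_imp] at hz'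
    exact Set.mem_biUnion (x := f z) ⟨hWU hzW, left_ne_zero_of_mul hz'.2⟩ ⟨⟨rfl, hz'.1⟩, hzW⟩
  let α' : AlgebraicCycle X ℤ := ⟨Cyc.pullFun f δX δY r ⇑α, by simp, fun x _ => hlf x⟩
  have hα' : α' ∈ Cyc.Zk X δX (k + r - 1 + 1) := fun x hx => by
    show Cyc.pullFun f δX δY r (⇑α) x = 0
    simp only [Cyc.pullFun]
    split_ifs with h
    · rw [hα (f x) (by omega), zero_mul]
    · rfl
  let u₀ : (ξ : X) → Cyc.secFibre ((Scheme.Modules.pullback f).obj L) ξ := fun ξ => pullFib f L ξ (v (f ξ))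
  refine c1Cap_ratEquiv (isInvertible_pullback' f hL) (k + r - 1) α' hα' u u₀ hu
    (fun ξ => pullFib_ne_zero f hL ξ _ (hv _)) γ₂ γ₁ h₂ ?_
  funext x
  rw [h₁]
  exact pullFun_c1Cap_apply f hX hY hr hL α v hv x

end Groth.Agent.H3Cyc.C1Api
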