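import Groth.Agent.H3Cyc.RatRel
import Groth.Agent.H3Cyc.Gysin
import Mathlib

/-!
# Reduction to integral closed subschemes
-/

set_option autoImplicit false
set_option linter.style.haveILetI false
set_option linter.unusedSectionVars false
universe u

open AlgebraicGeometry CategoryTheory TopologicalSpace

namespace Groth.Agent.H3Cyc.Transfer

open C1Api

variable {X : Scheme.{u}}

/-- The closure of a point as an integral closed subscheme. -/
theorem exists_integral_closed (ξ : X) : ∃ (Z : Scheme.{u}) (_ : IsIntegral Z) (i : Z ⟶ X) (_ : IsClosedImmersion i),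
    i (genericPoint Z) = ξ := by
  let J := Scheme.IdealSheafData.vanishingIdeal (⟨closure {ξ}, isClosed_closure⟩ : Closeds X)
  haveI : IsIntegral J.subscheme := H22Alg.isIntegral_vanishingIdeal_closure ξ
  have hr : Set.range J.subschemeι = closure {ξ} := H17.range_vanishingIdeal_subschemeι _
  obtain ⟨t, ht⟩ : ξ ∈ Set.range J.subschemeι := by rw [hr]; exact subset_closure rfl
  have h1 : ξ ⤳ J.subschemeι (genericPoint J.subscheme) := by
    rw [specializes_iff_mem_closure, ← hr]; exact Set.mem_range_self _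
  have h2 : J.subschemeι (genericPoint J.subscheme) ⤳ ξ :=
    ht ▸ (genericPoint_specializes t).map J.subschemeι.continuous
  exact ⟨J.subscheme, inferInstance, J.subschemeι, inferInstance, (h2.antisymm h1).eq⟩

theorem range_subset_closure {Z : Scheme.{u}} [IsIntegral Z] (i : Z ⟶ X) :
    Set.range i ⊆ closure {i (genericPoint Z)} := by
  rintro _ ⟨w, rfl⟩
  exact specializes_iff_mem_closure.mp ((genericPoint_specializes w).map i.continuous)

/-- A locally finite sum of classes rationally trivial on closed subschemes is rationally trivial. -/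
theorem ratEquivZero_family {δ : X → ℤ} {k : ℤ} {ι : Type u} (W : ι → Scheme.{u}) (i : (a : ι) → W a ⟶ X)
    (hi : ∀ a, IsClosedImmersion (i a))
    (hlf : ∀ x : X, ∃ U : Set X, IsOpen U ∧ x ∈ U ∧ {a | (Set.range (i a) ∩ U).Nonempty}.Finite)
    (G : ι → X → ℤ) (hG : ∀ a, ∀ x, x ∉ Set.range (i a) → G a x = 0)
    (β : (a : ι) → AlgebraicCycle (W a) ℤ) (hβ : ∀ a w, β a w = G a (i a w))
    (h : ∀ a, Cyc.RatEquivZero (fun w => δ (i a w)) k (β a))
    (γ : AlgebraicCycle X ℤ) (hγ : ∀ x, γ x = ∑ᶠ a, G a x) : Cyc.RatEquivZero δ k γ := by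
  classical
  haveI := hi
  choose J ξ f hk hf hlf' hsum using h
  choose f' hf' using fun (p : Σ a, J a) =>
    (Reduction.bijective_residueFieldMap (i p.1) (ξ p.1 p.2)).2 (f p.1 p.2)
  have hdiv : ∀ (p : Σ a, J a) (x : X), x ∉ Set.range (i p.1) → Cyc.divFun δ (i p.1 (ξ p.1 p.2)) (f' p) x = 0 :=
    fun p x hx => Reduction.divFun_eq_zero_of_notMem (i p.1) δ _ _ hx
  have hdiv' : ∀ (p : Σ a, J a) (w : W p.1),
      Cyc.divFun δ (i p.1 (ξ p.1 p.2)) (f' p) (i p.1 w) = Cyc.divFun (fun w => δ (i p.1 w)) (ξ p.1 p.2) (f p.1 p.2) w :=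
    fun p w => by rw [← Reduction.divFun_immersion, hf']
  have hloc : ∀ x : X, ∃ U : Set X, IsOpen U ∧ x ∈ U ∧
      {p : Σ a, J a | (closure {i p.1 (ξ p.1 p.2)} ∩ U).Nonempty}.Finite := by
    intro x
    obtain ⟨U, hU, hxU, hfin⟩ := hlf x
    have hone : ∀ a, ∃ V : Set X, IsOpen V ∧ x ∈ V ∧ {j : J a | i a (ξ a j) ∈ V}.Finite := fun a => by
      by_cases hx : x ∈ Set.range (i a)
      · obtain ⟨w, rfl⟩ := hx
        obtain ⟨U', hU', hwU', hfin'⟩ := hlf' a w
        obtain ⟨V, hV, rfl⟩ := (i a).isEmbedding.isInducing.isOpen_iff.mp hU'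
        exact ⟨V, hV, hwU', hfin'.subset fun j hj => ⟨ξ a j, subset_closure rfl, hj⟩⟩
      · exact ⟨(Set.range (i a))ᶜ, (i a).isClosedEmbedding.isClosed_range.isOpen_compl, hx,
          Set.finite_empty.subset fun j hj => (hj ⟨_, rfl⟩).elim⟩
    choose V hV hxV hVfin using hone
    refine ⟨U ∩ ⋂ a ∈ hfin.toFinset, V a, hU.inter (isOpen_biInter_finset fun a _ => hV a),
      ⟨hxU, Set.mem_iInter₂.mpr fun a _ => hxV a⟩, (hfin.toFinset.sigma fun a => (hVfin a).toFinset).finite_toSet.subset ?_⟩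
    rintro ⟨a, j⟩ ⟨z, hz, hzU, hzV⟩
    have hs : i a (ξ a j) ⤳ z := specializes_iff_mem_closure.mpr hz
    have ha : a ∈ hfin.toFinset := hfin.mem_toFinset.mpr ⟨i a (ξ a j), ⟨_, rfl⟩, hs.mem_open hU hzU⟩
    exact Finset.mem_coe.mpr (Finset.mem_sigma.mpr ⟨ha, (hVfin a).mem_toFinset.mpr
      (hs.mem_open (hV a) (Set.mem_iInter₂.mp hzV a ha))⟩)
  refine ⟨Σ a, J a, fun p => i p.1 (ξ p.1 p.2), f', fun p => hk p.1 p.2, fun p e => ?_, hloc, fun x => ?_⟩
  · exact hf p.1 p.2 (by rw [← hf' p, e, map_zero])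
  obtain ⟨U, hU, hxU, hfinU⟩ := hlf x
  have hfs : ∀ a, (Function.support fun j => Cyc.divFun δ (i a (ξ a j)) (f' ⟨a, j⟩) x).Finite := fun a => by
    by_cases hx : x ∈ Set.range (i a)
    · obtain ⟨w, rfl⟩ := hx
      simp only [hdiv' ⟨a, _⟩ w]
      exact RatRel.finite_family (δ := fun w => δ (i a w)) (hlf' a) (f a) w
    · refine Set.finite_empty.subset fun j hj => (hj (hdiv ⟨a, j⟩ x hx)).elim
  have hGx : ∀ a, G a x = ∑ j ∈ (hfs a).toFinset, Cyc.divFun δ (i a (ξ a j)) (f' ⟨a, j⟩) x := fun a => by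
    rw [← finsum_eq_sum _ (hfs a)]
    by_cases hx : x ∈ Set.range (i a)
    · obtain ⟨w, rfl⟩ := hx
      rw [← hβ, hsum a w]
      exact finsum_congr fun j => (hdiv' ⟨a, j⟩ w).symm
    · rw [hG a x hx]
      exact (finsum_eq_zero_of_forall_eq_zero fun j => hdiv ⟨a, j⟩ x hx).symm
  have hsupp : (Function.support fun a => G a x) ⊆ (hfinU.toFinset : Set ι) := fun a ha => by
    rw [Set.Finite.coe_toFinset]
    exact ⟨x, by_contra fun hn => ha (hG a x hn), hxU⟩
  rw [hγ x, finsum_eq_sum_of_support_subset _ hsupp, Finset.sum_congr rfl fun a _ => hGx a,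
    finsum_eq_sum_of_support_subset _ (s := hfinU.toFinset.sigma fun a => (hfs a).toFinset) ?_, Finset.sum_sigma]
  rintro ⟨a, j⟩ hp
  refine Finset.mem_coe.mpr (Finset.mem_sigma.mpr ⟨hfinU.mem_toFinset.mpr ⟨x, ?_, hxU⟩, (hfs a).mem_toFinset.mpr hp⟩)
  exact by_contra fun hn => hp (hdiv ⟨a, j⟩ x hn)

theorem finite_secDiv_support [IsLocallyNoetherian X] {δ : X → ℤ} {L : X.Modules} (F : X → ℤ) (s : (ξ : X) → Cyc.secFibre L ξ)
    (x : X) (hF : ∃ t ∈ nhds x, (t ∩ Function.support F).Finite) :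
    (Function.support fun ξ => F ξ * Cyc.secDivFun δ L ξ (s ξ) x).Finite := by
  obtain ⟨t, ht, hfin⟩ := hF
  obtain ⟨U, hUt, hU, hxU⟩ := mem_nhds_iff.mp ht
  exact hfin.subset fun ξ hξ =>
    ⟨hUt ((secDivFun_ne_zero (right_ne_zero_of_mul hξ)).mem_open hU hxU), left_ne_zero_of_mul hξ⟩

/-- `c₁(L) ∩` is additive for locally finite families supported on closed subschemes. -/
theorem c1CapFun_family [IsLocallyNoetherian X] {δ : X → ℤ} {L : X.Modules} {ι : Type u} (S : ι → Set X)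
    (hS : ∀ a, IsClosed (S a)) (F : ι → X → ℤ) (hF : ∀ a ξ, ξ ∉ S a → F a ξ = 0)
    (hFlf : ∀ a x, ∃ t ∈ nhds x, (t ∩ Function.support (F a)).Finite)
    (hlf : ∀ x : X, ∃ U : Set X, IsOpen U ∧ x ∈ U ∧ {a | (S a ∩ U).Nonempty}.Finite)
    (s : (ξ : X) → Cyc.secFibre L ξ) (α : X → ℤ) (hα : ∀ ξ, α ξ = ∑ᶠ a, F a ξ) (x : X) :
    Cyc.c1CapFun δ L α s x = ∑ᶠ a, Cyc.c1CapFun δ L (F a) s x := by
  classical
  obtain ⟨U, hU, hxU, hfin⟩ := hlf x
  have hI : ∀ a ξ, ξ ⤳ x → F a ξ ≠ 0 → a ∈ hfin.toFinset := fun a ξ h hne =>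
    hfin.mem_toFinset.mpr ⟨ξ, by_contra fun hn => hne (hF a ξ hn), h.mem_open hU hxU⟩
  have h1 : ∀ ξ, α ξ * Cyc.secDivFun δ L ξ (s ξ) x = ∑ a ∈ hfin.toFinset, F a ξ * Cyc.secDivFun δ L ξ (s ξ) x := by
    intro ξ
    by_cases h : ξ ⤳ x
    · rw [← Finset.sum_mul, hα, finsum_eq_sum_of_support_subset _ fun a ha => Finset.mem_coe.mpr (hI a ξ h ha)]
    · have h0 : Cyc.secDivFun δ L ξ (s ξ) x = 0 := by rw [Cyc.secDivFun, dif_neg fun hh => h hh.1]
      simp [h0]
  rw [Cyc.c1CapFun, finsum_congr h1, finsum_sum_comm _ _ fun a _ => finite_secDiv_support (F a) s x (hFlf a x)]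
  refine (finsum_eq_sum_of_support_subset _ fun a ha => ?_).symm
  by_contra hn
  refine ha (finsum_eq_zero_of_forall_eq_zero fun ξ => ?_)
  by_contra hne
  exact hn (Finset.mem_coe.mpr (hI a ξ (secDivFun_ne_zero (right_ne_zero_of_mul hne)) (left_ne_zero_of_mul hne)))

theorem c1CapFun_eq_zero_of_notMem {δ : X → ℤ} {L : X.Modules} {S : Set X} (hS : IsClosed S) (F : X → ℤ)
    (hF : ∀ ξ, ξ ∉ S → F ξ = 0) (s : (ξ : X) → Cyc.secFibre L ξ) {x : X} (hx : x ∉ S) :
    Cyc.c1CapFun δ L F s x = 0 :=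
  finsum_eq_zero_of_forall_eq_zero fun ξ => by
    by_contra hne
    exact hx ((secDivFun_ne_zero (right_ne_zero_of_mul hne)).mem_closed hS
      (by_contra fun hn => left_ne_zero_of_mul hne (hF ξ hn)))

end Groth.Agent.H3Cyc.Transfer
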