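import Groth.Agent.H3Cyc.Comm
import Groth.Agent.H3Cyc.Transfer
import Mathlib

/-!
# `c₁(L) ∩` preserves rational equivalence
-/

set_option autoImplicit false
set_option linter.style.haveILetI false
set_option linter.unusedSectionVars false
universe u

open AlgebraicGeometry CategoryTheory

namespace Groth.Agent.H3Cyc.C1Rat

open C1Api Comm

/-- `c₁(L) ∩ div(g)` is rationally trivial on an integral scheme. -/
theorem c1Cap_divFun {X : Scheme.{u}} [IsIntegral X] [IsLocallyNoetherian X] {δ : X → ℤ} {n : ℤ}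
    (hδ : Cyc.IsDimFun X δ) (hn : δ (genericPoint X) = n) {L : X.Modules} (hL : PicF.IsInvertible L)
    (g : X.residueField (genericPoint X)) (hg : g ≠ 0) (u : (ξ : X) → Cyc.secFibre L ξ) (hu : ∀ ξ, u ξ ≠ 0)
    (γ : AlgebraicCycle X ℤ) (hγ : ⇑γ = Cyc.c1CapFun δ L (Cyc.divFun δ (genericPoint X) g) u) :
    Cyc.RatEquivZero δ (n - 2) γ := by
  classical
  let O := Coh.structureModule X
  have hO : PicF.IsInvertible O :=
    H11Ample.isInvertible_of_gen fun x => ⟨⊤, H11Ample.one ⊤, trivial, H11Ample.isGen_one ⊤⟩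
  let one' : (ξ : X) → Cyc.secFibre O ξ := fun ξ => fib O ξ (V := ⊤) trivial (H11Ample.one ⊤)
  have hone : ∀ ξ, one' ξ ≠ 0 := fun ξ => by
    have h := (residue_ne_zero_iff (L := O) (H11Ample.isGen_one (X := X) ⊤) (z := ξ) trivial 1).mpr
      (by rw [map_one]; exact one_ne_zero)
    rwa [one_smul] at h
  obtain ⟨φ, hφ⟩ := X.residue_surjective (genericPoint X) g
  let t : Cyc.secFibre O (genericPoint X) := φ • one' (genericPoint X)
  have hφ0 : X.residue (genericPoint X) φ ≠ 0 := by rw [hφ]; exact hg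
  have ht : t ≠ 0 := (residue_ne_zero_iff (L := O) (H11Ample.isGen_one (X := X) ⊤) (z := genericPoint X) trivial φ).mpr hφ0
  have hdiv : Cyc.secDivFun δ O (genericPoint X) t = Cyc.divFun δ (genericPoint X) g := funext fun x => by
    rw [← hφ]
    exact secDivFun_gen (L := O) (H11Ample.isGen_one (X := X) ⊤) δ trivial φ hφ0 trivial
  have h0 : ∀ x, Cyc.c1CapFun δ O (Cyc.secDivFun δ L (genericPoint X) (u _)) one' x = 0 := fun x => by
    refine finsum_eq_zero_of_forall_eq_zero fun ξ => ?_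
    have h := secDivFun_gen (L := O) (H11Ample.isGen_one (X := X) ⊤) δ (ξ := ξ) trivial 1
      (by rw [map_one]; exact one_ne_zero) (x := x) trivial
    rw [one_smul] at h
    rw [show Cyc.secDivFun δ O ξ (one' ξ) x = _ from h, map_one]
    simp only [Cyc.divFun]
    split_ifs with hh
    · rw [ordAt_one, mul_zero]
    · rw [mul_zero]
  have h := c1_comm hδ hn hL hO (hu _) ht one' hone u hu 0 γ (funext fun x => (h0 x).symm) (by rw [hdiv]; exact hγ)
  have := RatRel.symm h
  rwa [Cyc.RatEquiv, sub_zero] at this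

/-- **`c₁(L) ∩` preserves rational equivalence.** -/
theorem c1Cap_ratEquivZero {X : Scheme.{u}} {δ : X → ℤ} (hX : Cyc.IsSetup X δ) {L : X.Modules}
    (hL : PicF.IsInvertible L) (k : ℤ) (α : AlgebraicCycle X ℤ) (h0 : Cyc.RatEquivZero δ (k + 1) α)
    (s : (ξ : X) → Cyc.secFibre L ξ) (hs : ∀ ξ, s ξ ≠ 0)
    (γ : AlgebraicCycle X ℤ) (hγ : ⇑γ = Cyc.c1CapFun δ L ⇑α s) : Cyc.RatEquivZero δ k γ := by
  classical
  haveI := hX.1
  obtain ⟨ι, ξ, f, hk, hf, hlf, hsum⟩ := h0
  choose W hW i hi hgen using fun a => Transfer.exists_integral_closed (ξ a)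
  choose g hg using fun a : ι => (⟨_, rfl⟩ : ∃ g, (i a).residueFieldMap (genericPoint (W a))
    ((X.residueFieldCongr (hgen a)).inv (f a)) = g)
  have hrange : ∀ a, Set.range (i a) ⊆ closure {ξ a} := fun a => hgen a ▸ Transfer.range_subset_closure (i a)
  have hlfi : ∀ x : X, ∃ U : Set X, IsOpen U ∧ x ∈ U ∧ {a | (Set.range (i a) ∩ U).Nonempty}.Finite := fun x => by
    obtain ⟨U, hU, hxU, hfin⟩ := hlf x
    exact ⟨U, hU, hxU, hfin.subset fun a ⟨z, hz, hzU⟩ => ⟨z, hrange a hz, hzU⟩⟩
  have hrw : ∀ a, ∃ h : X.residueField (i a (genericPoint (W a))), h ≠ 0 ∧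
      Cyc.divFun δ (ξ a) (f a) = Cyc.divFun δ (i a (genericPoint (W a))) h ∧
      g a = (i a).residueFieldMap _ h := by
    intro a
    refine ⟨_, ?_, ?_, (hg a).symm⟩
    · intro e
      exact hf a ((X.residueFieldCongr (hgen a)).inv.hom.injective (e.trans (map_zero _).symm))
    · have key : ∀ {p q : X} (e : p = q) (c : X.residueField q),
          Cyc.divFun δ q c = Cyc.divFun δ p ((X.residueFieldCongr e).inv c) := by
        rintro p q rfl c
        simp
      exact key (hgen a) (f a)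
  choose h₀ hh₀ hdiv hgh using hrw
  haveI := hi
  haveI := hW
  have hWs : ∀ a, Cyc.IsSetup (W a) (fun w => δ (i a w)) := fun a => Reduction.isSetup_closedImmersion (i a) hX
  have hzero : ∀ a x, x ∉ Set.range (i a) → Cyc.divFun δ (ξ a) (f a) x = 0 := fun a x hx => by
    rw [hdiv a]; exact Reduction.divFun_eq_zero_of_notMem (i a) δ _ _ hx
  have hne : ∀ a, g a ≠ 0 := fun a e => hh₀ a (((i a).residueFieldMap _).hom.injective
    ((hgh a).symm.trans (e.trans (map_zero _).symm)))
  haveI : ∀ a, IsLocallyNoetherian (W a) := fun a => (hWs a).1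
  let αW : (a : ι) → AlgebraicCycle (W a) ℤ := fun a => ⟨Cyc.divFun (fun w => δ (i a w)) (genericPoint (W a)) (g a),
    by simp, fun w _ => H22Alg.CycDiv.locallyFinite_divFun (hWs a).2.2 _ (hne a) w⟩
  let u : (a : ι) → (w : W a) → Cyc.secFibre ((Scheme.Modules.pullback (i a)).obj L) w :=
    fun a w => pullFib (i a) L w (s (i a w))
  have hu : ∀ a w, u a w ≠ 0 := fun a w => pullFib_ne_zero (i a) hL w _ (hs _)
  have hαk : ∀ a, αW a ∈ Cyc.Zk (W a) (fun w => δ (i a w)) (k + 1) := fun a w hw => by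
    show Cyc.divFun (fun v => δ (i a v)) (genericPoint (W a)) (g a) w = 0
    simp only [Cyc.divFun]
    rw [dif_neg fun hh => hw (by have h2 := hh.2; have h3 := hk a; rw [← hgen a] at h3; show δ (i a w) = k + 1; omega)]
  choose β hβ _ using fun a => exists_c1Cap_cycle (hWs a).2.2 (isInvertible_pullback' (i a) hL) k (αW a) (hαk a) (u a) (hu a)
  refine Transfer.ratEquivZero_family W i hi hlfi (fun a => Cyc.c1CapFun δ L (Cyc.divFun δ (ξ a) (f a)) s)
    (fun a x hx => Transfer.c1CapFun_eq_zero_of_notMem (i a).isClosedEmbedding.isClosed_range _ (hzero a) s hx) β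
    (fun a w => ?_) (fun a => ?_) γ (fun x => ?_)
  · rw [hβ a, Gysin.c1Cap_immersion (i a) hL δ _ (hzero a) s hs w]
    congr 1
    funext η
    show Cyc.divFun (fun v => δ (i a v)) (genericPoint (W a)) (g a) η = _
    rw [hdiv a, hgh a, Reduction.divFun_immersion]
  · have hn : δ (i a (genericPoint (W a))) = k + 2 := by rw [hgen a, hk a]; ring
    have := c1Cap_divFun (hWs a).2.2 hn (isInvertible_pullback' (i a) hL) (g a) (hne a) (u a) (hu a) (β a) (hβ a)
    rwa [show k + 2 - 2 = k by ring] at this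
  · rw [hγ]
    exact Transfer.c1CapFun_family (fun a => Set.range (i a)) (fun a => (i a).isClosedEmbedding.isClosed_range)
      (fun a => Cyc.divFun δ (ξ a) (f a)) hzero (fun a x => H22Alg.CycDiv.locallyFinite_divFun hX.2.2 _ (hf a) x)
      hlfi s ⇑α hsum x

end Groth.Agent.H3Cyc.C1Rat
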