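import Groth.Agent.H3Cyc.PBSpan
import Groth.Agent.H3Cyc.ChowCompat
import Mathlib

/-!
# Chern classes of a bundle as operators on Chow groups
-/

set_option autoImplicit false
set_option linter.style.haveILetI false
set_option linter.unusedSectionVars false
set_option backward.isDefEq.respectTransparency.types false
universe u

open CategoryTheory CategoryTheory.Limits AlgebraicGeometry

noncomputable section

namespace Groth.Agent.H3Cyc.Chern

open PBundle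

theorem bijective_Φ {X P : Scheme.{u}} {n : ℕ} {π : P ⟶ X} {O1 : P.Modules} (h : Bundle n π O1) {δ : X → ℤ}
    {δP : P → ℤ} (hX : Cyc.IsSetup X δ) (hP : Cyc.IsSetup P δP) (hδ : Cyc.DeltaCompat π δP δ) (k : ℤ) :
    Function.Bijective (PBSpan.Φ h hX hP hδ k) := by
  haveI := h.isProper
  refine ⟨(injective_iff_map_eq_zero _).mpr fun c hc => funext fun i => ?_, PBSpan.surjective h hX hP hδ k⟩
  rw [PBSpan.Φ_apply] at hc
  exact PBChow.independent h hX hP hδ c hc i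

section

variable {X P : Scheme.{u}} {n : ℕ} {π : P ⟶ X} {O1 : P.Modules} (h : Bundle n π O1) {δ : X → ℤ} {δP : P → ℤ}
  (hX : Cyc.IsSetup X δ) (hP : Cyc.IsSetup P δP) (hδ : Cyc.DeltaCompat π δP δ)

/-- The solution `g` of `Σ_{i ≤ n} c₁^i ∩ π^*g_i = c₁^{n+1} ∩ π^*a`. -/
def sol (k : ℤ) {j : ℤ} (hj : j = k + (n + 1 : ℕ)) :
    ChowOps.CH X δ j →+ ((i : Fin (n + 1)) → ChowOps.CH X δ (k + (i : ℕ))) :=
  (AddEquiv.ofBijective (PBSpan.Φ h hX hP hδ k) (bijective_Φ h hX hP hδ k)).symm.toAddMonoidHom.comp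
    (PBChow.T h hX hP hδ (n + 1) (j := j) (l := k + n) (by subst hj; ring))

theorem sol_spec (k : ℤ) {j : ℤ} (hj : j = k + (n + 1 : ℕ)) (a : ChowOps.CH X δ j) :
    PBSpan.Φ h hX hP hδ k (sol h hX hP hδ k hj a) =
      PBChow.T h hX hP hδ (n + 1) (j := j) (l := k + n) (by subst hj; ring) a :=
  (AddEquiv.ofBijective (PBSpan.Φ h hX hP hδ k) (bijective_Φ h hX hP hδ k)).apply_symm_apply _

theorem eq_sol {k j : ℤ} (hj : j = k + (n + 1 : ℕ)) (a : ChowOps.CH X δ j)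
    (g : (i : Fin (n + 1)) → ChowOps.CH X δ (k + (i : ℕ)))
    (hg : PBSpan.Φ h hX hP hδ k g = PBChow.T h hX hP hδ (n + 1) (j := j) (l := k + n) (by subst hj; ring) a) :
    g = sol h hX hP hδ k hj a :=
  (bijective_Φ h hX hP hδ k).1 (hg.trans (sol_spec h hX hP hδ k hj a).symm)

/-- The Chern class operator indexed by codegree. -/
def ch (k : ℤ) {j : ℤ} (hj : j = k + (n + 1 : ℕ)) (i : Fin (n + 1)) : ChowOps.CH X δ j →+ ChowOps.CH X δ (k + (i : ℕ)) :=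
  (Pi.evalAddMonoidHom (fun i : Fin (n + 1) => ChowOps.CH X δ (k + (i : ℕ))) i).comp (sol h hX hP hδ k hj)

end

section natural

variable {X P X' P' : Scheme.{u}} {n : ℕ} {π : P ⟶ X} {O1 : P.Modules} (h : Bundle n π O1) {δ : X → ℤ} {δP : P → ℤ}
  (hX : Cyc.IsSetup X δ) (hP : Cyc.IsSetup P δP) (hδ : Cyc.DeltaCompat π δP δ)
variable {π' : P' ⟶ X'} {O1' : P'.Modules} (h' : Bundle n π' O1') {δ' : X' → ℤ} {δP' : P' → ℤ}
  (hX' : Cyc.IsSetup X' δ') (hP' : Cyc.IsSetup P' δP') (hδ' : Cyc.DeltaCompat π' δP' δ')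

/-- Operations commuting with all `T i` commute with the Chern class operators. -/
theorem ch_natural {k k' d : ℤ} (hk : k' = k + d)
    (FX : ∀ {j l : ℤ}, l = j + d → (ChowOps.CH X δ j →+ ChowOps.CH X' δ' l))
    (FP : ChowOps.CH P δP (k + n) →+ ChowOps.CH P' δP' (k' + n))
    (hT : ∀ (i : ℕ) {j j' : ℤ} (hj : j' = j + d) (hi : j + n = k + n + i) (hi' : j' + n = k' + n + i)
      (a : ChowOps.CH X δ j), PBChow.T h' hX' hP' hδ' i hi' (FX hj a) = FP (PBChow.T h hX hP hδ i hi a))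
    {j j' : ℤ} (hj : j = k + (n + 1 : ℕ)) (hj' : j' = k' + (n + 1 : ℕ)) (a : ChowOps.CH X δ j) (i : Fin (n + 1)) :
    ch h' hX' hP' hδ' k' hj' i (FX (show j' = j + d by omega) a) =
      FX (show k' + (i : ℕ) = k + (i : ℕ) + d by omega) (ch h hX hP hδ k hj i a) := by
  refine (congrFun (eq_sol h' hX' hP' hδ' hj' (FX (show j' = j + d by omega) a)
    (fun i => FX (show k' + (i : ℕ) = k + (i : ℕ) + d by omega) (sol h hX hP hδ k hj a i)) ?_) i).symm
  rw [hT (n + 1) (show j' = j + d by omega) (show j + (n : ℤ) = k + n + (n + 1 : ℕ) by omega) (by omega), ← sol_spec h hX hP hδ k hj a, PBSpan.Φ_apply, PBSpan.Φ_apply, map_sum]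
  exact Finset.sum_congr rfl fun i _ => hT (i : ℕ) (show k' + (i : ℕ) = k + (i : ℕ) + d by omega)
    (show k + (i : ℕ) + (n : ℤ) = k + n + (i : ℕ) by omega) (show k' + (i : ℕ) + (n : ℤ) = k' + n + (i : ℕ) by omega) _

end natural

section chernCap

variable {X P : Scheme.{u}} {n : ℕ} {π : P ⟶ X} {O1 : P.Modules} (h : Bundle n π O1) {δ : X → ℤ} {δP : P → ℤ}
  (hX : Cyc.IsSetup X δ) (hP : Cyc.IsSetup P δP) (hδ : Cyc.DeltaCompat π δP δ)

/-- The index in the tuple of the `i`-th unknown. -/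
def idx (i : Fin (n + 1)) : Fin (n + 1 + 1) := Fin.rev i.castSucc

theorem idx_val (i : Fin (n + 1)) : ((idx i : Fin (n + 1 + 1)) : ℕ) = n + 1 - (i : ℕ) := by
  simp [idx, Fin.rev]

theorem of_isChernCap {k : ℤ} {α : AlgebraicCycle X ℤ} (hα : α ∈ Cyc.Zk X δ k)
    {γ : Fin (n + 1 + 1) → AlgebraicCycle X ℤ} (hγ : Cyc.IsChernCap π δ δP O1 (n + 1) k α γ) (i : Fin (n + 1))
    (hm : γ (idx i) ∈ Cyc.Zk X δ (k - (n + 1 : ℕ) + (i : ℕ))) :
    ChowOps.cl (γ (idx i)) hm = ((-1 : ℤ) ^ ((i : ℕ) + n)) •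
      ch h hX hP hδ (k - (n + 1 : ℕ)) (show k = k - (n + 1 : ℕ) + (n + 1 : ℕ) by ring) i (ChowOps.cl α hα) := by
  classical
  obtain ⟨h0, hdeg, hrel⟩ := hγ
  have hn1 : (((n + 1 : ℕ) : ℤ) - 1) = (n : ℤ) := by push_cast; ring
  set k' : ℤ := k - (n + 1 : ℕ) with hk'
  let t : ℕ → (ξ : P) → Cyc.secFibre O1 ξ := fun _ => Chow.sec h.invertible
  have ht : ∀ m ξ, t m ξ ≠ 0 := fun _ => Chow.sec_ne_zero _
  have hmem : ∀ i : Fin (n + 1 + 1), γ (Fin.rev i) ∈ Cyc.Zk X δ (k' + (i : ℕ)) := fun i => by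
    have e := hdeg (Fin.rev i)
    rw [Fin.val_rev] at e
    rwa [show k' + (i : ℕ) = k - ((n + 1 + 1 - ((i : ℕ) + 1) : ℕ) : ℤ) by have := i.2; omega]
  choose b hb hbf hbe using fun i : Fin (n + 1 + 1) =>
    PBChow.T_cl h hX hP hδ (i : ℕ) (l := k' + n) (by ring) (γ (Fin.rev i)) (hmem i) t ht
  have hS : (∑ i : Fin (n + 1 + 1), ((-1 : ℤ) ^ (i : ℕ)) • (⟨b i, hb i⟩ : ↥(ChowOps.zk P δP (k' + n)))).1 ∈
      Cyc.Zk P δP (k' + n) :=
    (∑ i : Fin (n + 1 + 1), ((-1 : ℤ) ^ (i : ℕ)) • (⟨b i, hb i⟩ : ↥(ChowOps.zk P δP (k' + n)))).2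
  have hzero := hrel t ht (∑ i : Fin (n + 1 + 1), ((-1 : ℤ) ^ (i : ℕ)) • b i) fun y => by
    rw [Function.locallyFinsuppWithin.coe_sum, Finset.sum_apply]
    refine Finset.sum_congr rfl fun i _ => ?_
    show (-1 : ℤ) ^ (i : ℕ) * b i y = _
    rw [hn1, hbf]
  rw [show k - 1 = k' + n by rw [hk']; push_cast; ring] at hzero
  have hrel' : ∑ i : Fin (n + 1 + 1), ((-1 : ℤ) ^ (i : ℕ)) •
      PBChow.T h hX hP hδ (i : ℕ) (l := k' + n) (by ring) (ChowOps.cl (γ (Fin.rev i)) (hmem i)) = 0 := by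
    refine Eq.trans (Finset.sum_congr rfl fun i _ => by rw [hbe i]) ?_
    show ∑ i : Fin (n + 1 + 1), ((-1 : ℤ) ^ (i : ℕ)) • ChowOps.clHom P δP (k' + n) ⟨b i, hb i⟩ = 0
    simp only [← map_zsmul, ← map_sum]
    refine (QuotientAddGroup.eq_zero_iff _).mpr ((Chow.mem_ratTriv_iff _).mpr ?_)
    convert hzero using 1
    simp [AddSubgroup.val_finsetSum]
  rw [Fin.sum_univ_castSucc] at hrel'
  have htop : PBChow.T h hX hP hδ ((Fin.last (n + 1) : Fin (n + 1 + 1)) : ℕ) (l := k' + n) (by ring)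
      (ChowOps.cl (γ (Fin.rev (Fin.last (n + 1)))) (hmem _)) =
      PBChow.T h hX hP hδ (n + 1) (l := k' + n) (by omega) (ChowOps.cl α hα) := by
    have key : ∀ (j : ℤ) (e : j = k) (hj : j + n = k' + n + (n + 1 : ℕ)) (β : AlgebraicCycle X ℤ)
        (hβ : β ∈ Cyc.Zk X δ j), β = α →
        PBChow.T h hX hP hδ (n + 1) (l := k' + n) hj (ChowOps.cl β hβ) =
          PBChow.T h hX hP hδ (n + 1) (l := k' + n) (by omega) (ChowOps.cl α hα) := by
      rintro j rfl hj β hβ rfl; rfl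
    exact key _ (by rw [Fin.val_last]; omega) _ _ _ (by rw [Fin.rev_last]; exact h0)
  have hg : (fun i : Fin (n + 1) => ((-1 : ℤ) ^ ((i : ℕ) + n)) • ChowOps.cl (γ (Fin.rev i.castSucc)) (hmem i.castSucc)) =
      sol h hX hP hδ k' (show k = k' + (n + 1 : ℕ) by omega) (ChowOps.cl α hα) := by
    refine eq_sol h hX hP hδ _ _ _ ?_
    rw [PBSpan.Φ_apply]
    have e1 : ((-1 : ℤ) ^ (n + 1)) • PBChow.T h hX hP hδ (n + 1) (l := k' + n) (by omega) (ChowOps.cl α hα) =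
        - ∑ i : Fin (n + 1), ((-1 : ℤ) ^ ((i.castSucc : Fin (n + 1 + 1)) : ℕ)) •
          PBChow.T h hX hP hδ ((i.castSucc : Fin (n + 1 + 1)) : ℕ) (l := k' + n) (by ring)
            (ChowOps.cl (γ (Fin.rev i.castSucc)) (hmem _)) := by
      rw [eq_neg_iff_add_eq_zero]
      rw [htop, Fin.val_last] at hrel'
      exact (add_comm _ _).trans hrel'
    have e2 := congrArg (fun z => ((-1 : ℤ) ^ (n + 1)) • z) e1
    simp only [smul_smul, ← mul_pow, neg_mul_neg, one_mul, one_pow, one_smul] at e2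
    rw [e2, zsmul_neg, Finset.smul_sum, ← Finset.sum_neg_distrib]
    refine Finset.sum_congr rfl fun i _ => ?_
    rw [map_zsmul, smul_smul, ← neg_smul]
    congr 1
    rw [Fin.val_castSucc, ← pow_add]
    ring
  have hi : ((-1 : ℤ) ^ ((i : ℕ) + n)) • ChowOps.cl (γ (Fin.rev i.castSucc)) (hmem i.castSucc) =
      ch h hX hP hδ k' (show k = k' + (n + 1 : ℕ) by omega) i (ChowOps.cl α hα) := congrFun hg i
  rw [← hi, smul_smul, ← mul_pow, neg_mul_neg, one_mul, one_pow, one_smul]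
  rfl

end chernCap

end Groth.Agent.H3Cyc.Chern
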