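import Groth.Agent.H3Cyc.Chern
import Mathlib

/-!
# Compatibilities of the Chern class operators
-/

set_option autoImplicit false
set_option linter.style.haveILetI false
set_option linter.unusedSectionVars false
set_option backward.isDefEq.respectTransparency.types false
universe u

open CategoryTheory CategoryTheory.Limits AlgebraicGeometry

noncomputable section

namespace Groth.Agent.H3Cyc.Chern

open PBundle

section op

variable {X P : Scheme.{u}} {n : ℕ} {π : P ⟶ X} {O1 : P.Modules} (h : Bundle n π O1) {δ : X → ℤ} {δP : P → ℤ}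
  (hX : Cyc.IsSetup X δ) (hP : Cyc.IsSetup P δP) (hδ : Cyc.DeltaCompat π δP δ)

/-- The operator `ch i`, with free indices. -/
def op (i : Fin (n + 1)) {j l : ℤ} (e : l = j + ((i : ℕ) - (n + 1 : ℕ))) : ChowOps.CH X δ j →+ ChowOps.CH X δ l :=
  (Chow.cast (show l - (i : ℕ) + (i : ℕ) = l by ring)).comp
    (ch h hX hP hδ (l - (i : ℕ)) (j := j) (by omega) i)

theorem ch_eq_op {k j : ℤ} (hj : j = k + (n + 1 : ℕ)) (i : Fin (n + 1)) (a : ChowOps.CH X δ j) :
    ch h hX hP hδ k hj i a = op h hX hP hδ i (l := k + (i : ℕ)) (by omega) a := by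
  have key : ∀ (k' : ℤ) (e : k' = k) (hj' : j = k' + (n + 1 : ℕ)),
      ch h hX hP hδ k hj i a = Chow.cast (show k' + (i : ℕ) = k + (i : ℕ) by omega) (ch h hX hP hδ k' hj' i a) := by
    rintro k' rfl hj'; rfl
  exact key _ (by ring) _

end op

section natural

variable {X P X' P' : Scheme.{u}} {n : ℕ} {π : P ⟶ X} {O1 : P.Modules} (h : Bundle n π O1) {δ : X → ℤ} {δP : P → ℤ}
  (hX : Cyc.IsSetup X δ) (hP : Cyc.IsSetup P δP) (hδ : Cyc.DeltaCompat π δP δ)
variable {π' : P' ⟶ X'} {O1' : P'.Modules} (h' : Bundle n π' O1') {δ' : X' → ℤ} {δP' : P' → ℤ}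
  (hX' : Cyc.IsSetup X' δ') (hP' : Cyc.IsSetup P' δP') (hδ' : Cyc.DeltaCompat π' δP' δ')

theorem op_natural {d : ℤ}
    (FX : ∀ {j l : ℤ}, l = j + d → (ChowOps.CH X δ j →+ ChowOps.CH X' δ' l))
    (FP : ∀ {j l : ℤ}, l = j + d → (ChowOps.CH P δP j →+ ChowOps.CH P' δP' l))
    (hT : ∀ (i : ℕ) {j j' l l' : ℤ} (hj : j' = j + d) (hl : l' = l + d) (hi : j + n = l + i) (hi' : j' + n = l' + i)
      (a : ChowOps.CH X δ j), PBChow.T h' hX' hP' hδ' i hi' (FX hj a) = FP hl (PBChow.T h hX hP hδ i hi a))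
    (i : Fin (n + 1)) {j j' l l' : ℤ} (e : l = j + ((i : ℕ) - (n + 1 : ℕ))) (hj : j' = j + d) (hl : l' = l + d)
    (e' : l' = j' + ((i : ℕ) - (n + 1 : ℕ))) (a : ChowOps.CH X δ j) :
    op h' hX' hP' hδ' i e' (FX hj a) = FX hl (op h hX hP hδ i e a) := by
  obtain ⟨k, rfl⟩ : ∃ k, l = k + (i : ℕ) := ⟨l - (i : ℕ), by ring⟩
  obtain ⟨k', rfl⟩ : ∃ k', l' = k' + (i : ℕ) := ⟨l' - (i : ℕ), by ring⟩
  rw [← ch_eq_op h hX hP hδ (k := k) (by omega), ← ch_eq_op h' hX' hP' hδ' (k := k') (by omega)]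
  exact ch_natural h hX hP hδ h' hX' hP' hδ' (show k' = k + d by omega) @FX
    (FP (show k' + n = k + n + d by omega)) (fun i j j' hj hi hi' a => hT i hj (by omega) hi hi' a) _ _ a i

end natural

section push

variable {X Y P P' : Scheme.{u}} {n : ℕ} {π : P ⟶ Y} {O1 : P.Modules} (h : Bundle n π O1) {δX : X → ℤ} {δY : Y → ℤ}
  {δP : P → ℤ} (hX : Cyc.IsSetup X δX) (hY : Cyc.IsSetup Y δY) (hP : Cyc.IsSetup P δP)
  (hπ : Cyc.DeltaCompat π δP δY) (f : X ⟶ Y) [IsProper f] (hf : Cyc.DeltaCompat f δX δY)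
  {π' : P' ⟶ X} {f' : P' ⟶ P} (hsq : IsPullback f' π' π f) {δP' : P' → ℤ} (hP' : Cyc.IsSetup P' δP')
  (hπ' : Cyc.DeltaCompat π' δP' δX)

include hsq hπ hπ' hf in
theorem deltaCompat_top : Cyc.DeltaCompat f' δP' δP :=
  BCPush.deltaCompat_cancel f' π hπ (by rw [hsq.w]; exact BCPush.deltaCompat_comp π' f hπ' hf)

theorem op_push (i : Fin (n + 1)) {j l : ℤ} (e : l = j + ((i : ℕ) - (n + 1 : ℕ))) (a : ChowOps.CH X δX j) :
    op h hY hP hπ i e (Chow.push f hX hY hf j a) =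
      Chow.push f hX hY hf l (op (h.baseChange hsq) hX hP' hπ' i e a) := by
  haveI : IsProper f' := MorphismProperty.of_isPullback (P := @IsProper) hsq.flip inferInstance
  haveI := h.flat
  haveI := (h.baseChange hsq).flat
  have hf' := deltaCompat_top hπ f hf hsq hπ'
  have := op_natural (h.baseChange hsq) hX hP' hπ' h hY hP hπ (d := 0)
    (fun {j l} e => (Chow.cast (show j = l by omega)).comp (Chow.push f hX hY hf j))
    (fun {j l} e => (Chow.cast (show j = l by omega)).comp (Chow.push f' hP' hP hf' j))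
    (fun i {j j' l l'} hj hl hi hi' a => ?_) i e (j' := j) (l' := l) (by ring) (by ring) e a
  · exact this
  obtain rfl : j = j' := by omega
  obtain rfl : l = l' := by omega
  show Chow.c1pow hP h.invertible i hi' (Chow.pull π hP hY _ rfl (Chow.push f hX hY hf j a)) =
    Chow.push f' hP' hP hf' l (Chow.c1pow hP' (h.baseChange hsq).invertible i hi
      (Chow.pull π' hP' hX (PBPush.maxDim (h.baseChange hsq) hπ') rfl a))
  rw [Chow.pull_push f π hsq hX hY hP hP' hf hf' (PBPush.maxDim h hπ) (PBPush.maxDim (h.baseChange hsq) hπ') rfl a,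
    Chow.push_c1pow f' hP' hP hf' h.invertible]

end push

section pull

variable {X Y P P' : Scheme.{u}} {n : ℕ} {π : P ⟶ Y} {O1 : P.Modules} (h : Bundle n π O1) {δX : X → ℤ} {δY : Y → ℤ}
  {δP : P → ℤ} (hX : Cyc.IsSetup X δX) (hY : Cyc.IsSetup Y δY) (hP : Cyc.IsSetup P δP)
  (hπ : Cyc.DeltaCompat π δP δY) (f : X ⟶ Y) [Flat f] {c : ℤ} (hc : FlatRat.MaxDim f δX δY c)
  {π' : P' ⟶ X} {f' : P' ⟶ P} (hsq : IsPullback f' π' π f) [Flat f'] {δP' : P' → ℤ} (hP' : Cyc.IsSetup P' δP')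
  (hπ' : Cyc.DeltaCompat π' δP' δX) (hc' : FlatRat.MaxDim f' δP' δP c)

include hc' hsq in
theorem op_pull (i : Fin (n + 1)) {j j' l l' : ℤ} (e : l = j + ((i : ℕ) - (n + 1 : ℕ))) (hj : j' = j + c)
    (hl : l' = l + c) (e' : l' = j' + ((i : ℕ) - (n + 1 : ℕ))) (a : ChowOps.CH Y δY j) :
    op (h.baseChange hsq) hX hP' hπ' i e' (Chow.pull f hX hY hc hj a) =
      Chow.pull f hX hY hc hl (op h hY hP hπ i e a) := by
  haveI := h.flat
  haveI := (h.baseChange hsq).flat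
  refine op_natural h hY hP hπ (h.baseChange hsq) hX hP' hπ' (d := c)
    (fun {j l} e => Chow.pull f hX hY hc e) (fun {j l} e => Chow.pull f' hP' hP hc' e)
    (fun i {j j' l l'} hj hl hi hi' a => ?_) i e hj hl e' a
  show Chow.c1pow hP' (h.baseChange hsq).invertible i hi' (Chow.pull π' hP' hX _ rfl (Chow.pull f hX hY hc hj a)) =
    Chow.pull f' hP' hP hc' hl (Chow.c1pow hP h.invertible i hi (Chow.pull π hP hY (PBPush.maxDim h hπ) rfl a))
  have h1 : FlatRat.MaxDim (π' ≫ f) δP' δY ((n : ℤ) + c) := by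
    rw [add_comm]; exact FlatRat.maxDim_comp π' f (PBPush.maxDim (h.baseChange hsq) hπ') hc
  have h2 : FlatRat.MaxDim (f' ≫ π) δP' δY ((n : ℤ) + c) := FlatRat.maxDim_comp f' π hc' (PBPush.maxDim h hπ)
  have h2' : FlatRat.MaxDim (f' ≫ π) δP' δY (c + n) := by rw [add_comm]; exact h2
  rw [Chow.pull_c1pow f' hP' hP hc' h.invertible (h.baseChange hsq).invertible i hi hl
      (i' := j' + n) (by omega) hi',
    Chow.pull_pull π' hP' hX _ f hY hc h1 hj rfl (by omega),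
    Chow.pull_pull f' hP' hP hc' π hY _ h2' rfl (by omega) (by omega)]
  have key : ∀ (g : P' ⟶ Y) (_ : Flat g) (r r' : ℤ) (hr : FlatRat.MaxDim g δP' δY r) (_ : r = r')
      (hr' : FlatRat.MaxDim (f' ≫ π) δP' δY r') (e : j' + n = j + r) (e' : j' + n = j + r'), g = f' ≫ π →
      Chow.pull g hP' hY hr e a = Chow.pull (f' ≫ π) hP' hY hr' e' a := by
    rintro g _ r _ hr rfl hr' e e' rfl; rfl
  rw [key (π' ≫ f) inferInstance _ _ h1 (add_comm _ _) h2' _ (by omega) hsq.w.symm]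

end pull

section c1

variable {X P : Scheme.{u}} {n : ℕ} {π : P ⟶ X} {O1 : P.Modules} (h : Bundle n π O1) {δ : X → ℤ} {δP : P → ℤ}
  (hX : Cyc.IsSetup X δ) (hP : Cyc.IsSetup P δP) (hδ : Cyc.DeltaCompat π δP δ)

theorem op_c1 {N : X.Modules} (hN : PicF.IsInvertible N) (i : Fin (n + 1)) {j j' l l' : ℤ}
    (e : l = j + ((i : ℕ) - (n + 1 : ℕ))) (hj : j = j' + 1) (hl : l = l' + 1)
    (e' : l' = j' + ((i : ℕ) - (n + 1 : ℕ))) (a : ChowOps.CH X δ j) :
    op h hX hP hδ i e' (Chow.c1 hX hN hj a) = Chow.c1 hX hN hl (op h hX hP hδ i e a) := by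
  haveI := h.flat
  have hN' : PicF.IsInvertible ((Scheme.Modules.pullback π).obj N) := H11Ample.isInvertible_pullback π hN
  refine op_natural h hX hP hδ h hX hP hδ (d := -1)
    (fun {j l} e => Chow.c1 hX hN (show j = l + 1 by omega))
    (fun {j l} e => Chow.c1 hP hN' (show j = l + 1 by omega))
    (fun i {j j' l l'} hj hl hi hi' a => ?_) i e (show j' = j + -1 by omega) (show l' = l + -1 by omega) e' a
  show Chow.c1pow hP h.invertible i hi' (Chow.pull π hP hX _ rfl (Chow.c1 hX hN _ a)) =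
    Chow.c1 hP hN' _ (Chow.c1pow hP h.invertible i hi (Chow.pull π hP hX (PBPush.maxDim h hδ) rfl a))
  rw [Chow.pull_c1 π hP hX _ hN hN' (i' := j + n) (show j = j' + 1 by omega) rfl rfl (by omega),
    Chow.c1_c1pow hP h.invertible hN' i hi (show l = l' + 1 by omega) (show j + (n : ℤ) = j' + n + 1 by omega) hi']

theorem op_c1pow {N : X.Modules} (hN : PicF.IsInvertible N) (i : Fin (n + 1)) :
    ∀ (m : ℕ) {j j' l l' : ℤ} (e : l = j + ((i : ℕ) - (n + 1 : ℕ))) (hj : j = j' + m) (hl : l = l' + m)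
      (e' : l' = j' + ((i : ℕ) - (n + 1 : ℕ))) (a : ChowOps.CH X δ j),
      op h hX hP hδ i e' (Chow.c1pow hX hN m hj a) = Chow.c1pow hX hN m hl (op h hX hP hδ i e a)
  | 0, j, j', l, l', e, hj, hl, e', a => by
    obtain rfl : j = j' := by simpa using hj
    obtain rfl : l = l' := by simpa using hl
    rfl
  | m + 1, j, j', l, l', e, hj, hl, e', a => by
    show op h hX hP hδ i e' (Chow.c1 hX hN _ (Chow.c1pow hX hN m _ a)) = Chow.c1 hX hN _ (Chow.c1pow hX hN m _ _)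
    rw [op_c1 h hX hP hδ hN i (l := l' + 1) (by omega) rfl rfl e',
      op_c1pow hN i m e _ (by push_cast at hl ⊢; omega)]

end c1

section comm

variable {X P Q : Scheme.{u}} {n m : ℕ} {π : P ⟶ X} {O1 : P.Modules} (h : Bundle n π O1) {π' : Q ⟶ X} {O1' : Q.Modules}
  (h' : Bundle m π' O1') {δ : X → ℤ} {δP : P → ℤ} {δQ : Q → ℤ}
  (hX : Cyc.IsSetup X δ) (hP : Cyc.IsSetup P δP) (hQ : Cyc.IsSetup Q δQ)
  (hδ : Cyc.DeltaCompat π δP δ) (hδ' : Cyc.DeltaCompat π' δQ δ)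

theorem op_comm (i : Fin (n + 1)) (i' : Fin (m + 1)) {j j₁ j₂ l : ℤ} (e₁ : j₁ = j + ((i : ℕ) - (n + 1 : ℕ)))
    (e₁' : l = j₁ + ((i' : ℕ) - (m + 1 : ℕ))) (e₂' : j₂ = j + ((i' : ℕ) - (m + 1 : ℕ)))
    (e₂ : l = j₂ + ((i : ℕ) - (n + 1 : ℕ))) (a : ChowOps.CH X δ j) :
    op h' hX hQ hδ' i' e₁' (op h hX hP hδ i e₁ a) = op h hX hP hδ i e₂ (op h' hX hQ hδ' i' e₂' a) := by
  haveI := h.flat
  haveI := h.isProper
  haveI := h'.isProper
  haveI := h'.flat
  -- the second bundle pulled back to the first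
  let R := pullback π' π
  have hsq : IsPullback (pullback.fst π' π) (pullback.snd π' π) π' π := IsPullback.of_hasPullback _ _
  haveI : Flat (pullback.fst π' π) := MorphismProperty.pullback_fst _ _ inferInstance
  haveI := (h'.baseChange hsq).isProper
  obtain ⟨δR, hδR⟩ := SpFun.exists_deltaCompat (pullback.snd π' π) δP
  have hR := isSetup_of_locallyOfFiniteType _ hP hδR
  have hcomp : Cyc.DeltaCompat (pullback.fst π' π) δR δQ := BCPush.deltaCompat_cancel _ π' hδ' (by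
    rw [hsq.w]; exact BCPush.deltaCompat_comp _ π hδR hδ)
  haveI : LocallyOfFiniteType (pullback.fst π' π) := MorphismProperty.pullback_fst _ _ inferInstance
  have hc' : FlatRat.MaxDim (pullback.fst π' π) δR δQ (n : ℤ) :=
    FlatRat.maxDim_of_hasRelDim _ (hasRelDim_of_isPullback hsq.flip h.hasRelDim) hcomp
  refine (op_natural h hX hP hδ h hX hP hδ (d := ((i' : ℕ) : ℤ) - (m + 1 : ℕ))
    (fun {j l} e => op h' hX hQ hδ' i' e) (fun {j l} e => op (h'.baseChange hsq) hP hR hδR i' e)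
    (fun q {j j' l l'} hj hl hi hi' a => ?_) i e₁ e₂' e₁' e₂ a).symm
  show Chow.c1pow hP h.invertible q hi' (Chow.pull π hP hX _ rfl (op h' hX hQ hδ' i' hj a)) =
    op (h'.baseChange hsq) hP hR hδR i' hl (Chow.c1pow hP h.invertible q hi (Chow.pull π hP hX (PBPush.maxDim h hδ) rfl a))
  rw [op_c1pow (h'.baseChange hsq) hP hR hδR h.invertible i' q (l := j' + n) (by omega) hi hi' hl,
    op_pull h' hP hX hQ hδ' π (PBPush.maxDim h hδ) hsq hR hδR hc' i' hj rfl rfl (by omega)]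

end comm

section cap

variable {X P : Scheme.{u}} {n : ℕ} {π : P ⟶ X} {O1 : P.Modules} (h : Bundle n π O1) {δ : X → ℤ} {δP : P → ℤ}
  (hX : Cyc.IsSetup X δ) (hP : Cyc.IsSetup P δP) (hδ : Cyc.DeltaCompat π δP δ)

/-- An index `≥ 1` comes from an unknown. -/
theorem exists_idx (j : Fin (n + 1 + 1)) (hj : j ≠ 0) : ∃ i : Fin (n + 1), idx i = j :=
  ⟨⟨n + 1 - (j : ℕ), by have := Fin.pos_iff_ne_zero.mpr hj; have : 0 < (j : ℕ) := this; omega⟩, Fin.ext (by
    rw [idx_val]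
    show n + 1 - (n + 1 - (j : ℕ)) = _
    have := j.2; omega)⟩

theorem cl_isChernCap {k : ℤ} {α : AlgebraicCycle X ℤ} (hα : α ∈ Cyc.Zk X δ k)
    {γ : Fin (n + 1 + 1) → AlgebraicCycle X ℤ} (hγ : Cyc.IsChernCap π δ δP O1 (n + 1) k α γ) (i : Fin (n + 1))
    {l : ℤ} (e : l = k + ((i : ℕ) - (n + 1 : ℕ))) (hm : γ (idx i) ∈ Cyc.Zk X δ l) :
    ChowOps.cl (γ (idx i)) hm = ((-1 : ℤ) ^ ((i : ℕ) + n)) • op h hX hP hδ i e (ChowOps.cl α hα) := by
  obtain rfl : l = k - (n + 1 : ℕ) + (i : ℕ) := by omega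
  rw [of_isChernCap h hX hP hδ hα hγ i hm, ch_eq_op]

end cap

end Groth.Agent.H3Cyc.Chern
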