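import Mathlib

/-!
# Elementary symmetric functions of lists in semirings of endomorphisms
-/

set_option autoImplicit false
universe u v w

namespace Groth.Agent.H3Cyc.ESym

/-- The elementary symmetric functions of a list. -/
def es {R : Type u} [Semiring R] : List R → ℕ → R
  | _, 0 => 1
  | [], _ + 1 => 0
  | x :: xs, j + 1 => es xs (j + 1) + x * es xs j

section semiring

variable {R : Type u} [Semiring R]

@[simp] theorem es_zero (l : List R) : es l 0 = 1 := by cases l <;> rfl

@[simp] theorem es_nil_succ (j : ℕ) : es ([] : List R) (j + 1) = 0 := rfl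

theorem es_cons_succ (x : R) (xs : List R) (j : ℕ) : es (x :: xs) (j + 1) = es xs (j + 1) + x * es xs j := rfl

theorem es_eq_zero : ∀ (l : List R) (j : ℕ), l.length < j → es l j = 0
  | l, 0, h => absurd h (Nat.not_lt_zero _)
  | [], _ + 1, _ => rfl
  | x :: xs, j + 1, h => by
    rw [es_cons_succ, es_eq_zero xs (j + 1) (by simp at h; omega), es_eq_zero xs j (by simpa using h)]
    simp

theorem es_one : ∀ l : List R, es l 1 = l.sum
  | [] => rfl
  | x :: xs => by rw [es_cons_succ, es_one xs, es_zero, mul_one, List.sum_cons, add_comm]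

theorem map_es {S : Type v} [Semiring S] (g : R →+* S) : ∀ (l : List R) (j : ℕ), g (es l j) = es (l.map g) j
  | l, 0 => by rw [es_zero, es_zero, map_one]
  | [], _ + 1 => map_zero g
  | x :: xs, j + 1 => by
    rw [es_cons_succ, map_add, map_mul, map_es g xs (j + 1), map_es g xs j]
    rfl

theorem es_zero_cons : ∀ (xs : List R) (j : ℕ), es ((0 : R) :: xs) j = es xs j
  | _, 0 => by simp
  | xs, j + 1 => by rw [es_cons_succ, zero_mul, add_zero]

theorem es_append : ∀ (l₁ l₂ : List R) (n : ℕ),
    es (l₁ ++ l₂) n = ∑ p ∈ Finset.HasAntidiagonal.antidiagonal n, es l₁ p.1 * es l₂ p.2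
  | [], l₂, n => by
    rw [Finset.sum_eq_single (0, n)]
    · simp
    · rintro ⟨a, b⟩ hab hne
      cases a with
      | zero => simp at hab; exact absurd (by rw [hab]) hne
      | succ a => simp
    · intro h; simp at h
  | x :: xs, l₂, 0 => by simp
  | x :: xs, l₂, n + 1 => by
    rw [List.cons_append, es_cons_succ, es_append xs l₂ (n + 1), es_append xs l₂ n,
      Finset.Nat.sum_antidiagonal_succ, Finset.Nat.sum_antidiagonal_succ]
    simp only [es_zero, one_mul, es_cons_succ, add_mul, Finset.sum_add_distrib, Finset.mul_sum, mul_assoc, add_assoc]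

end semiring

section comm

variable {R : Type u} [CommSemiring R]

theorem es_eq_esymm : ∀ (l : List R) (j : ℕ), es l j = (l : Multiset R).esymm j
  | l, 0 => by rw [es_zero, Multiset.esymm]; simp
  | [], _ + 1 => by rw [es_nil_succ, Multiset.esymm, Multiset.coe_nil, Multiset.powersetCard_zero_right]; rfl
  | x :: xs, j + 1 => by
    rw [es_cons_succ, es_eq_esymm xs (j + 1), es_eq_esymm xs j, ← Multiset.cons_coe, Multiset.esymm, Multiset.esymm,
      Multiset.esymm, Multiset.powersetCard_cons, Multiset.map_add, Multiset.sum_add, Multiset.map_map]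
    simp only [Function.comp_def, Multiset.prod_cons, ← Multiset.sum_map_mul_left]

end comm

section endo

variable {A : Type u} {B : Type v} [AddCommGroup A] [AddCommGroup B]

/-- Expanding `∏ (ζ - p xᵢ)` along an intertwiner. -/
theorem prod_sub_apply (P : A →+ B) (ζ : AddMonoid.End B) {ι : Type w} (x : ι → AddMonoid.End A)
    (y : ι → AddMonoid.End B) :
    ∀ (l : List ι) (_ : ∀ i ∈ l, (∀ a, P (x i a) = y i (P a)) ∧ Commute (y i) ζ) (f : A),
      (l.map fun i => ζ - y i).prod (P f) = ∑ j ∈ Finset.range (l.length + 1),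
        ((-1 : ℤ) ^ j) • (ζ ^ (l.length - j)) (P (es (l.map x) j f))
  | [], _, f => by simp
  | i :: l, h, f => by
    obtain ⟨hP, hc⟩ := h i List.mem_cons_self
    rw [List.map_cons, List.prod_cons]
    show (ζ - y i) ((l.map fun i => ζ - y i).prod (P f)) = _
    rw [prod_sub_apply P ζ x y l (fun i' hi' => h i' (List.mem_cons_of_mem _ hi')) f, map_sum]
    set n := l.length with hn
    have e1 : ∀ j ∈ Finset.range (n + 1),
        (ζ - y i) (((-1 : ℤ) ^ j) • (ζ ^ (n - j)) (P (es (l.map x) j f))) =
          ((-1 : ℤ) ^ j) • (ζ ^ (n + 1 - j)) (P (es (l.map x) j f)) +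
            ((-1 : ℤ) ^ (j + 1)) • (ζ ^ (n - j)) (P ((x i * es (l.map x) j) f)) := by
      intro j hj
      have : j ≤ n := Nat.lt_succ_iff.mp (Finset.mem_range.mp hj)
      rw [map_zsmul, AddMonoid.End.coe_mul, Function.comp_apply, hP]
      have h1 := congrArg (fun g : AddMonoid.End B => g (P (es (l.map x) j f))) (hc.pow_right (n - j)).eq
      simp only [AddMonoid.End.coe_mul, Function.comp_apply] at h1
      rw [← h1, show n + 1 - j = n - j + 1 by omega, pow_succ']
      show ((-1 : ℤ) ^ j) • (ζ _ - y i _) = ((-1 : ℤ) ^ j) • ζ _ + _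
      rw [smul_sub, pow_succ, mul_neg_one, neg_smul, sub_eq_add_neg]
      rfl
    rw [Finset.sum_congr rfl e1, Finset.sum_add_distrib]
    simp only [List.length_cons]
    rw [← hn, Finset.sum_range_succ' _ (n + 1)]
    simp only [List.map_cons, es_cons_succ, Nat.succ_sub_succ_eq_sub]
    have e2 : ∀ j, ((-1 : ℤ) ^ (j + 1)) • (ζ ^ (n - j)) (P ((es (l.map x) (j + 1) + x i * es (l.map x) j) f)) =
        ((-1 : ℤ) ^ (j + 1)) • (ζ ^ (n - j)) (P (es (l.map x) (j + 1) f)) +
        ((-1 : ℤ) ^ (j + 1)) • (ζ ^ (n - j)) (P ((x i * es (l.map x) j) f)) := fun j => by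
      rw [← smul_add, ← map_add, ← map_add]; rfl
    rw [Finset.sum_congr rfl fun j _ => e2 j, Finset.sum_add_distrib, add_right_comm]
    congr 1
    rw [Finset.sum_range_succ' _ n, Finset.sum_range_succ _ n, es_eq_zero (l.map x) (n + 1) (by simp [← hn])]
    simp only [es_zero, pow_zero, one_smul, Nat.sub_zero, AddMonoid.End.zero_apply, map_zero, smul_zero, add_zero]
    congr 1
    refine Finset.sum_congr rfl fun j hj => ?_
    rw [Nat.succ_sub_succ_eq_sub]

end endo

end Groth.Agent.H3Cyc.ESym
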