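import Groth.Agent.H3Cyc.ChernOps
import Mathlib

/-!
# The operations on the product of all Chow groups
-/

set_option autoImplicit false
set_option linter.style.haveILetI false
set_option linter.unusedSectionVars false
set_option backward.isDefEq.respectTransparency.types false
universe u

open CategoryTheory CategoryTheory.Limits AlgebraicGeometry

noncomputable section

namespace Groth.Agent.H3Cyc.Tot

/-- All degrees at once. -/
abbrev T (X : Scheme.{u}) (δ : X → ℤ) : Type u := ∀ k : ℤ, ChowOps.CH X δ k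

variable {X Y : Scheme.{u}} {δ : X → ℤ} {δY : Y → ℤ}

theorem apply_cast (f : T X δ) {j k : ℤ} (h : j = k) : Chow.cast h (f j) = f k := by subst h; rfl

theorem single_apply (k : ℤ) (a : ChowOps.CH X δ k) : (Pi.single k a : T X δ) k = a := Pi.single_eq_same _ _

theorem ext_single {A : Type*} [AddCommMonoid A] (F G : T X δ →+ A) (k : ℤ) (f : T X δ)
    (hF : ∀ g : T X δ, g k = f k → F g = F f) (hG : ∀ g : T X δ, g k = f k → G g = G f)
    (h : F (Pi.single k (f k)) = G (Pi.single k (f k))) : F f = G f := by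
  rw [← hF _ (single_apply k (f k)), ← hG _ (single_apply k (f k)), h]

section c1

variable (hX : Cyc.IsSetup X δ)

/-- `c₁(L)`. -/
def C1 {L : X.Modules} (hL : PicF.IsInvertible L) : AddMonoid.End (T X δ) :=
  AddMonoidHom.mk' (fun f k => Chow.c1 hX hL (j := k + 1) rfl (f (k + 1)))
    fun _ _ => funext fun _ => map_add _ _ _

theorem C1_apply {L : X.Modules} (hL : PicF.IsInvertible L) (f : T X δ) {j k : ℤ} (h : j = k + 1) :
    C1 hX hL f k = Chow.c1 hX hL h (f j) := by
  subst h; rfl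

theorem C1_comm {L N : X.Modules} (hL : PicF.IsInvertible L) (hN : PicF.IsInvertible N) :
    C1 hX hL * C1 hX hN = C1 hX hN * C1 hX hL :=
  AddMonoidHom.ext fun _ => funext fun _ => Chow.c1_comm hX hN hL rfl rfl rfl rfl _

theorem C1_congr {L N : X.Modules} (hL : PicF.IsInvertible L) (hN : PicF.IsInvertible N) (ψ : L ≅ N) :
    C1 hX hL = C1 hX hN :=
  AddMonoidHom.ext fun _ => funext fun _ => Chow.c1_congr hX hL hN ψ rfl _

theorem C1_pow_apply {L : X.Modules} (hL : PicF.IsInvertible L) (f : T X δ) :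
    ∀ (m : ℕ) {j k : ℤ} (h : j = k + m), (C1 hX hL ^ m) f k = Chow.c1pow hX hL m h (f j)
  | 0, j, k, h => (apply_cast f (show j = k by simpa using h)).symm
  | m + 1, j, k, h => by
    rw [pow_succ']
    show C1 hX hL ((C1 hX hL ^ m) f) k = Chow.c1 hX hL _ (Chow.c1pow hX hL m _ (f j))
    rw [C1_apply hX hL _ (rfl : k + 1 = k + 1), C1_pow_apply hL f m (j := j) (k := k + 1) (by push_cast at h; omega)]

end c1

section pull

variable (p : X ⟶ Y) [Flat p] (hX : Cyc.IsSetup X δ) (hY : Cyc.IsSetup Y δY) {r : ℤ}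
  (hr : FlatRat.MaxDim p δ δY r)

/-- Flat pullback. -/
def Pull : T Y δY →+ T X δ :=
  AddMonoidHom.mk' (fun f k => Chow.pull p hX hY hr (show k = k - r + r by ring) (f (k - r)))
    fun _ _ => funext fun _ => map_add _ _ _

theorem Pull_apply (f : T Y δY) {j k : ℤ} (h : k = j + r) :
    Pull p hX hY hr f k = Chow.pull p hX hY hr h (f j) := by
  obtain rfl : j = k - r := by omega
  rfl

theorem Pull_C1 {L : Y.Modules} (hL : PicF.IsInvertible L)
    (hL' : PicF.IsInvertible ((Scheme.Modules.pullback p).obj L)) (f : T Y δY) :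
    Pull p hX hY hr (C1 hY hL f) = C1 hX hL' (Pull p hX hY hr f) := funext fun k => by
  rw [C1_apply hX hL' _ (rfl : k + 1 = k + 1),
    Pull_apply p hX hY hr (C1 hY hL f) (show k = k - r + r by ring),
    Pull_apply p hX hY hr f (show k + 1 = k - r + 1 + r by ring),
    C1_apply hY hL f (rfl : k - r + 1 = k - r + 1), Chow.pull_c1 p hX hY hr hL hL']

theorem Pull_C1_pow {L : Y.Modules} (hL : PicF.IsInvertible L)
    (hL' : PicF.IsInvertible ((Scheme.Modules.pullback p).obj L)) :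
    ∀ (m : ℕ) (f : T Y δY), Pull p hX hY hr ((C1 hY hL ^ m) f) = (C1 hX hL' ^ m) (Pull p hX hY hr f)
  | 0, _ => rfl
  | m + 1, f => by
    rw [pow_succ', pow_succ']
    show Pull p hX hY hr (C1 hY hL ((C1 hY hL ^ m) f)) = _
    rw [Pull_C1 p hX hY hr hL hL', Pull_C1_pow hL hL' m]
    rfl

theorem Pull_Pull {Z : Scheme.{u}} {δZ : Z → ℤ} (q : Y ⟶ Z) [Flat q] (hZ : Cyc.IsSetup Z δZ) {s : ℤ}
    (hs : FlatRat.MaxDim q δY δZ s) (hrs : FlatRat.MaxDim (p ≫ q) δ δZ (r + s)) (f : T Z δZ) :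
    Pull p hX hY hr (Pull q hY hZ hs f) = Pull (p ≫ q) hX hZ hrs f := funext fun k => by
  rw [Pull_apply p hX hY hr _ (show k = k - r + r by ring),
    Pull_apply q hY hZ hs f (show k - r = k - (r + s) + s by ring),
    Pull_apply (p ≫ q) hX hZ hrs f (show k = k - (r + s) + (r + s) by ring), Chow.pull_pull]

theorem Pull_single (j : ℤ) (a : ChowOps.CH Y δY j) {k : ℤ} (h : k = j + r) :
    Pull p hX hY hr (Pi.single j a) k = Chow.pull p hX hY hr h a := by
  rw [Pull_apply p hX hY hr _ h, single_apply]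

end pull

section push

variable (p : X ⟶ Y) [IsProper p] (hX : Cyc.IsSetup X δ) (hY : Cyc.IsSetup Y δY) (hp : Cyc.DeltaCompat p δ δY)

/-- Proper pushforward. -/
def Push : T X δ →+ T Y δY :=
  AddMonoidHom.mk' (fun f k => Chow.push p hX hY hp k (f k)) fun _ _ => funext fun _ => map_add _ _ _

theorem Push_C1 {L : Y.Modules} (hL : PicF.IsInvertible L)
    (hL' : PicF.IsInvertible ((Scheme.Modules.pullback p).obj L)) (f : T X δ) :
    Push p hX hY hp (C1 hX hL' f) = C1 hY hL (Push p hX hY hp f) :=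
  funext fun k => Chow.push_c1 p hX hY hp hL hL' rfl _

theorem Push_Pull {Y' X' : Scheme.{u}} {δ' : X' → ℤ} {δY' : Y' → ℤ} {p' : X' ⟶ Y'} [IsProper p'] {g' : X' ⟶ X}
    [Flat g'] {g : Y' ⟶ Y} [Flat g] (hsq : IsPullback g' p' p g) (hX' : Cyc.IsSetup X' δ') (hY' : Cyc.IsSetup Y' δY')
    (hp' : Cyc.DeltaCompat p' δ' δY') {r : ℤ} (hr : FlatRat.MaxDim g δY' δY r) (hr' : FlatRat.MaxDim g' δ' δ r)
    (f : T X δ) : Pull g hY' hY hr (Push p hX hY hp f) = Push p' hX' hY' hp' (Pull g' hX' hX hr' f) :=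
  funext fun k => Chow.pull_push p g hsq.flip hX hY hY' hX' hp hp' hr hr' _ _

end push

end Groth.Agent.H3Cyc.Tot
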