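import Groth.Agent.H3Cyc.FiltStep
import Groth.Agent.H3Cyc.Tot
import Mathlib

/-!
# The product `∏ (c₁(N) - c₁(Lᵢ))` kills all classes when a filtered module surjects to `N`
-/

set_option autoImplicit false
set_option linter.style.haveILetI false
set_option linter.unusedSectionVars false
set_option backward.isDefEq.respectTransparency.types false
universe u

open CategoryTheory CategoryTheory.Limits AlgebraicGeometry
open Groth.Agent.H3Cyc.Tot

noncomputable section

namespace Groth.Agent.H3Cyc.Filt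

variable {X : Scheme.{u}} {δ : X → ℤ}

/-- A class represented by a cycle supported on `S`. -/
def Supp (S : Set X) {k : ℤ} (a : ChowOps.CH X δ k) : Prop :=
  ∃ (α : AlgebraicCycle X ℤ) (hα : α ∈ Cyc.Zk X δ k), (∀ x, x ∉ S → α x = 0) ∧ ChowOps.cl α hα = a

theorem supp_empty {k : ℤ} {a : ChowOps.CH X δ k} (h : Supp (∅ : Set X) a) : a = 0 := by
  obtain ⟨α, hα, hs, rfl⟩ := h
  obtain rfl : α = 0 := DFunLike.coe_injective (funext fun x => hs x (Set.notMem_empty x))
  exact map_zero (ChowOps.clHom X δ k)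

theorem supp_univ {k : ℤ} (a : ChowOps.CH X δ k) : Supp (Set.univ : Set X) a := by
  obtain ⟨α, hα, rfl⟩ := Chow.exists_cl a
  exact ⟨α, hα, fun x hx => (hx trivial).elim, rfl⟩

variable (hX : Cyc.IsSetup X δ)

open Classical in
/-- `c₁(L)` for any module (`0` if it is not invertible). -/
def cc (L : X.Modules) : AddMonoid.End (T X δ) :=
  if h : PicF.IsInvertible L then C1 hX h else 0

theorem cc_eq {L : X.Modules} (h : PicF.IsInvertible L) : cc hX L = C1 hX h := dif_pos h

theorem cc_comm (L N : X.Modules) : Commute (cc hX L) (cc hX N) := by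
  unfold cc
  split_ifs with h h'
  · exact C1_comm hX h h'
  · exact Commute.zero_right _
  · exact Commute.zero_left _
  · exact Commute.zero_left _

theorem cc_congr {L N : X.Modules} (ψ : L ≅ N) : cc hX L = cc hX N := by
  by_cases h : PicF.IsInvertible L
  · rw [cc_eq hX h, cc_eq hX (H11Tilde.isInvertible_of_iso ψ h)]
    exact C1_congr hX h _ ψ
  · rw [cc, cc, dif_neg h, dif_neg fun h' => h (H11Tilde.isInvertible_of_iso ψ.symm h')]

theorem supp_prod {E : X.Modules} {ls : List X.Modules} (hF : Filt E ls) {N : X.Modules} (hN : PicF.IsInvertible N)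
    (φ : E ⟶ N) (f : T X δ) : ∀ k, Supp (zeroSet φ) ((ls.map fun L => cc hX N - cc hX L).prod f k) := by
  induction hF with
  | @zero E h =>
    have e : zeroSet φ = Set.univ := Set.eq_univ_of_forall fun x v => by
      rw [fmap_apply, h.eq_of_src φ 0, sl, Functor.map_zero]
      rfl
    rw [e]
    exact fun k => supp_univ _
  | @cons M E L ls a b w hex hb hL hM ih =>
    intro k
    rw [List.map_cons, List.prod_cons]
    obtain ⟨α, hα, hs, e⟩ := ih (a ≫ φ) (k + 1)
    obtain ⟨β, hβ, hβs, hβe⟩ := exists_step b φ hL hN hX (zeroSet (a ≫ φ))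
      (fun hsp hξ => zeroSet_spec (a ≫ φ) hN hsp hξ)
      (fun x hx v hv => fmap_eq_zero_of_exact hex hb φ x hx v hv) (rfl : k + 1 = k + 1) α hα hs
    refine ⟨β, hβ, hβs, ?_⟩
    rw [hβe, e, cc_eq hX hN, cc_eq hX hL]
    rfl

theorem prod_eq_zero {E : X.Modules} {ls : List X.Modules} (hF : Filt E ls) {N : X.Modules} (hN : PicF.IsInvertible N)
    (φ : E ⟶ N) [Epi φ] (f : T X δ) : (ls.map fun L => cc hX N - cc hX L).prod f = 0 := funext fun k =>
  supp_empty (zeroSet_eq_empty_of_epi φ hN ▸ supp_prod hX hF hN φ f k)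

end Groth.Agent.H3Cyc.Filt
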