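import Groth.Agent.H3Cyc.Tot
import Groth.Agent.H3Cyc.FiltChow
import Groth.Agent.H3Cyc.ESym
import Mathlib

/-!
# Chern classes on the product of all Chow groups
-/

set_option autoImplicit false
set_option linter.style.haveILetI false
set_option linter.unusedSectionVars false
set_option backward.isDefEq.respectTransparency.types false
universe u

open CategoryTheory CategoryTheory.Limits AlgebraicGeometry
open Groth.Agent.H3Cyc.Tot

noncomputable section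

namespace Groth.Agent.H3Cyc.ChernTot

open PBundle

variable {X P : Scheme.{u}} {n : ℕ} {π : P ⟶ X} {O1 : P.Modules} (h : Bundle n π O1) {δ : X → ℤ} {δP : P → ℤ}
  (hX : Cyc.IsSetup X δ) (hP : Cyc.IsSetup P δP) (hδ : Cyc.DeltaCompat π δP δ)

/-- `π^*`. -/
def pl : T X δ →+ T P δP :=
  haveI := h.flat
  Tot.Pull π hP hX (PBPush.maxDim h hδ)

/-- `c₁(O(1))`. -/
def zeta : AddMonoid.End (T P δP) := C1 hP h.invertible

theorem zeta_pow_pl (i : ℕ) {j l : ℤ} (hjl : j + n = l + i) (g : T X δ) :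
    (zeta h hP ^ i) (pl h hX hP hδ g) l = PBChow.T h hX hP hδ i hjl (g j) := by
  haveI := h.flat
  rw [zeta, C1_pow_apply hP h.invertible _ i hjl, pl, Tot.Pull_apply π hP hX _ g (rfl : j + n = j + n)]
  rfl

/-- An operator with a shift. -/
def opEnd (i : Fin (n + 1)) : AddMonoid.End (T X δ) :=
  AddMonoidHom.mk' (fun f l => Chern.op h hX hP hδ i (l := l) (j := l + ((n + 1 : ℕ) - (i : ℕ))) (by ring)
    (f (l + ((n + 1 : ℕ) - (i : ℕ))))) fun _ _ => funext fun _ => map_add _ _ _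

theorem opEnd_apply (i : Fin (n + 1)) (f : T X δ) {j l : ℤ} (e : l = j + ((i : ℕ) - (n + 1 : ℕ))) :
    opEnd h hX hP hδ i f l = Chern.op h hX hP hδ i e (f j) := by
  obtain rfl : j = l + ((n + 1 : ℕ) - (i : ℕ)) := by omega
  rfl

/-- The Chern class operators. -/
def cT : ℕ → AddMonoid.End (T X δ)
  | 0 => 1
  | j + 1 => if hj : j < n + 1 then ((-1 : ℤ) ^ j) • opEnd h hX hP hδ ⟨n - j, by omega⟩ else 0

theorem cT_zero : cT h hX hP hδ 0 = 1 := rfl

theorem cT_succ {j : ℕ} (hj : j < n + 1) :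
    cT h hX hP hδ (j + 1) = ((-1 : ℤ) ^ j) • opEnd h hX hP hδ ⟨n - j, by omega⟩ := dif_pos hj

theorem cT_eq_zero {j : ℕ} (hj : n + 1 < j) : cT h hX hP hδ j = 0 := by
  obtain ⟨j, rfl⟩ : ∃ i, j = i + 1 := ⟨j - 1, by omega⟩
  exact dif_neg (by omega)

theorem cT_of_le (i : Fin (n + 1)) :
    cT h hX hP hδ (n + 1 - (i : ℕ)) = ((-1 : ℤ) ^ ((i : ℕ) + n)) • opEnd h hX hP hδ i := by
  have hi := i.2
  rw [show n + 1 - (i : ℕ) = (n - (i : ℕ)) + 1 by omega, cT_succ h hX hP hδ (by omega)]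
  congr 1
  · rw [show (i : ℕ) + n = n - (i : ℕ) + 2 * (i : ℕ) by omega, pow_add, pow_mul, neg_one_sq, one_pow, mul_one]
  · exact congrArg (opEnd h hX hP hδ) (Fin.ext (by simp; omega))

/-- The defining relation of the Chern classes. -/
theorem relation (f : T X δ) : ∑ i ∈ Finset.range (n + 1 + 1),
    ((-1 : ℤ) ^ i) • (zeta h hP ^ i) (pl h hX hP hδ (cT h hX hP hδ (n + 1 - i) f)) = 0 := by
  funext l
  obtain ⟨k, rfl⟩ : ∃ k, l = k + (n : ℤ) := ⟨l - (n : ℤ), (sub_add_cancel _ _).symm⟩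
  rw [Finset.sum_apply, Pi.zero_apply, Finset.sum_range_succ, ← Fin.sum_univ_eq_sum_range
    (fun i => (((-1 : ℤ) ^ i) • (zeta h hP ^ i) (pl h hX hP hδ (cT h hX hP hδ (n + 1 - i) f))) (k + n))]
  have hs := Chern.sol_spec h hX hP hδ k (rfl : k + (n + 1 : ℕ) = k + (n + 1 : ℕ)) (f (k + (n + 1 : ℕ)))
  rw [PBSpan.Φ_apply] at hs
  have e : ∀ i : Fin (n + 1),
      (((-1 : ℤ) ^ (i : ℕ)) • (zeta h hP ^ (i : ℕ)) (pl h hX hP hδ (cT h hX hP hδ (n + 1 - (i : ℕ)) f))) (k + n) =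
        ((-1 : ℤ) ^ n) • PBChow.T h hX hP hδ (i : ℕ) (l := k + n) (by omega)
          (Chern.sol h hX hP hδ k (rfl : k + (n + 1 : ℕ) = k + (n + 1 : ℕ)) (f (k + (n + 1 : ℕ))) i) := fun i => by
    rw [Pi.smul_apply, zeta_pow_pl h hX hP hδ (i : ℕ) (show k + (i : ℕ) + (n : ℤ) = k + n + (i : ℕ) by omega),
      cT_of_le]
    show _ • PBChow.T h hX hP hδ _ _ ((((-1 : ℤ) ^ ((i : ℕ) + n)) • opEnd h hX hP hδ i f) (k + (i : ℕ))) = _
    rw [Pi.smul_apply, map_zsmul, smul_smul,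
      opEnd_apply h hX hP hδ i f (show k + ((i : ℕ) : ℤ) = k + (n + 1 : ℕ) + ((i : ℕ) - (n + 1 : ℕ)) by omega),
      ← Chern.ch_eq_op h hX hP hδ (k := k) rfl]
    congr 1
    · rw [← pow_add, show (i : ℕ) + ((i : ℕ) + n) = n + 2 * (i : ℕ) by omega, pow_add, pow_mul, neg_one_sq, one_pow,
        mul_one]
  rw [Finset.sum_congr rfl fun i _ => e i, ← Finset.smul_sum, hs, Nat.sub_self, Pi.smul_apply,
    zeta_pow_pl h hX hP hδ (n + 1) (show k + (n + 1 : ℕ) + (n : ℤ) = k + n + (n + 1 : ℕ) by omega)]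
  show _ + ((-1 : ℤ) ^ (n + 1)) • PBChow.T h hX hP hδ (n + 1) _ (f (k + (n + 1 : ℕ))) = 0
  rw [← add_smul, show ((-1 : ℤ) ^ n + (-1) ^ (n + 1)) = 0 from by rw [pow_add, pow_one, mul_neg_one, add_neg_cancel],
    zero_smul]

/-- **Uniqueness** of the solution of the relation. -/
theorem unique (c : ℕ → T X δ) (f : T X δ) (h0 : c 0 = f)
    (hc : ∑ i ∈ Finset.range (n + 1 + 1), ((-1 : ℤ) ^ i) • (zeta h hP ^ i) (pl h hX hP hδ (c (n + 1 - i))) = 0)
    (j : ℕ) (hj : j ≤ n + 1) : c j = cT h hX hP hδ j f := by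
  haveI := h.isProper
  rcases Nat.eq_zero_or_pos j with rfl | hpos
  · exact h0
  have hd : ∀ i : ℕ, i < n + 1 → c (n + 1 - i) - cT h hX hP hδ (n + 1 - i) f = 0 := by
    intro i hi
    funext l
    obtain ⟨k, rfl⟩ : ∃ k, l = k + i := ⟨l - i, by ring⟩
    have hz : ∑ m : Fin (n + 1), PBChow.T h hX hP hδ (m : ℕ) (l := k + n) (by ring)
        (((-1 : ℤ) ^ (m : ℕ)) • (c (n + 1 - (m : ℕ)) - cT h hX hP hδ (n + 1 - (m : ℕ)) f) (k + (m : ℕ))) = 0 := by
      have h1 := congrFun (sub_eq_zero.mpr (hc.trans (relation h hX hP hδ f).symm)) (k + n)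
      rw [← Finset.sum_sub_distrib, Finset.sum_apply, Finset.sum_range_succ, Nat.sub_self, h0, cT_zero,
        AddMonoid.End.coe_one, id_eq, sub_self, Pi.zero_apply, add_zero, ← Fin.sum_univ_eq_sum_range] at h1
      refine Eq.trans (Finset.sum_congr rfl fun m _ => ?_) h1
      show _ = (((-1 : ℤ) ^ (m : ℕ)) • _ : T P δP) (k + n) - (((-1 : ℤ) ^ (m : ℕ)) • _ : T P δP) (k + n)
      rw [map_zsmul, Pi.smul_apply, Pi.smul_apply,
        zeta_pow_pl h hX hP hδ (m : ℕ) (show k + (m : ℕ) + (n : ℤ) = k + n + (m : ℕ) by ring),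
        zeta_pow_pl h hX hP hδ (m : ℕ) (show k + (m : ℕ) + (n : ℤ) = k + n + (m : ℕ) by ring)]
      exact (congrArg (fun z => ((-1 : ℤ) ^ (m : ℕ)) • z) (map_sub _ _ _)).trans (zsmul_sub _ _ _)
    have h2 := congrArg (((-1 : ℤ) ^ i) • ·) (PBChow.independent h hX hP hδ _ hz ⟨i, hi⟩)
    simp only [smul_smul, ← pow_add, smul_zero] at h2
    rw [show i + i = 2 * i by ring, pow_mul, neg_one_sq, one_pow, one_smul] at h2
    exact h2
  have := hd (n + 1 - j) (by omega)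
  rwa [show n + 1 - (n + 1 - j) = j by omega, sub_eq_zero] at this

/-- The tuple of a Chern cap. -/
theorem cl_eq {k : ℤ} {α : AlgebraicCycle X ℤ} (hα : α ∈ Cyc.Zk X δ k)
    {γ : Fin (n + 1 + 1) → AlgebraicCycle X ℤ} (hγ : Cyc.IsChernCap π δ δP O1 (n + 1) k α γ) (j : Fin (n + 1 + 1))
    (hm : γ j ∈ Cyc.Zk X δ (k - ((j : ℕ) : ℤ))) :
    ChowOps.cl (γ j) hm = cT h hX hP hδ (j : ℕ) (Pi.single k (ChowOps.cl α hα)) (k - ((j : ℕ) : ℤ)) := by
  by_cases hj : j = 0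
  · subst hj
    show _ = (Pi.single k (ChowOps.cl α hα) : T X δ) (k - ((0 : Fin (n + 1 + 1)) : ℕ))
    rw [← apply_cast (Pi.single k (ChowOps.cl α hα) : T X δ) (show k = k - ((0 : Fin (n + 1 + 1)) : ℕ) by simp),
      single_apply, Chow.cast_cl]
    exact Chow.cl_congr _ _ (by rw [hγ.1])
  obtain ⟨i, rfl⟩ := Chern.exists_idx j hj
  have hi := i.2
  have e : k - ((Chern.idx i : ℕ) : ℤ) = k + ((i : ℕ) - (n + 1 : ℕ)) := by rw [Chern.idx_val]; omega
  rw [Chern.cl_isChernCap h hX hP hδ hα hγ i e hm]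
  have key : ∀ q : ℕ, q = n + 1 - (i : ℕ) → ∀ e' : k - (q : ℤ) = k + ((i : ℕ) - (n + 1 : ℕ)),
      cT h hX hP hδ q (Pi.single k (ChowOps.cl α hα)) (k - (q : ℤ)) =
        ((-1 : ℤ) ^ ((i : ℕ) + n)) • Chern.op h hX hP hδ i e' (ChowOps.cl α hα) := by
    rintro q rfl e'
    rw [cT_of_le]
    show (((-1 : ℤ) ^ ((i : ℕ) + n)) • opEnd h hX hP hδ i (Pi.single k (ChowOps.cl α hα))) _ = _
    rw [Pi.smul_apply, opEnd_apply h hX hP hδ i _ e', single_apply]
  exact (key _ (Chern.idx_val i) e).symm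

/-- The Chern classes of a filtered module are the elementary symmetric functions of the `c₁(Lᵢ)`. -/
theorem cT_eq_es {E : X.Modules} {q : (Scheme.Modules.pullback π).obj E ⟶ O1} [Epi q] {ls : List X.Modules}
    (hF : Filt.Filt E ls) (hlen : ls.length = n + 1) (j : ℕ) :
    cT h hX hP hδ j = ESym.es (ls.map (Filt.cc hX)) j := by
  by_cases hj : j ≤ n + 1
  swap
  · rw [cT_eq_zero h hX hP hδ (by omega), ESym.es_eq_zero _ _ (by simp; omega)]
  haveI := h.flat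
  refine AddMonoidHom.ext fun f => (unique h hX hP hδ (fun j => ESym.es (ls.map (Filt.cc hX)) j f) f
    (by simp) ?_ j hj).symm
  have h0 := Filt.prod_eq_zero hP (hF.pullback π) h.invertible q (pl h hX hP hδ f)
  rw [List.map_map, Function.comp_def, show Filt.cc hP O1 = zeta h hP from Filt.cc_eq hP h.invertible] at h0
  rw [ESym.prod_sub_apply (pl h hX hP hδ) (zeta h hP) (Filt.cc hX)
    (fun L => Filt.cc hP ((Scheme.Modules.pullback π).obj L)) ls ?_ f, hlen] at h0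
  · rw [← Finset.sum_range_reflect] at h0
    have h1 := congrArg (((-1 : ℤ) ^ (n + 1)) • ·) h0
    simp only [smul_zero, Finset.smul_sum, smul_smul] at h1
    refine Eq.trans (Finset.sum_congr rfl fun i hi => ?_) h1
    have hi' : i ≤ n + 1 := Nat.lt_succ_iff.mp (Finset.mem_range.mp hi)
    rw [show n + 1 + 1 - 1 - i = n + 1 - i by omega, show n + 1 - (n + 1 - i) = i by omega, ← pow_add,
      show n + 1 + (n + 1 - i) = i + 2 * (n + 1 - i) by omega, pow_add (-1 : ℤ) i, pow_mul, neg_one_sq, one_pow,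
      mul_one]
  · intro L hL
    have hL' := hF.invertible L hL
    refine ⟨fun a => ?_, ?_⟩
    · rw [Filt.cc_eq hX hL', Filt.cc_eq hP (H11Ample.isInvertible_pullback π hL')]
      exact Tot.Pull_C1 π hP hX _ hL' _ a
    · rw [zeta, ← Filt.cc_eq hP h.invertible]
      exact Filt.cc_comm hP _ _

end Groth.Agent.H3Cyc.ChernTot

namespace Groth.Agent.H3Cyc.ChernTot

open PBundle
open Groth.Agent.H3Cyc.Tot

variable {X P : Scheme.{u}} {n : ℕ} {π : P ⟶ X} {O1 : P.Modules} (h : Bundle n π O1) {δ : X → ℤ} {δP : P → ℤ}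
  (hX : Cyc.IsSetup X δ) (hP : Cyc.IsSetup P δP) (hδ : Cyc.DeltaCompat π δP δ)

theorem cT_congr (m : ℕ) {f g : T X δ} {l : ℤ} (e : f (l + m) = g (l + m)) :
    cT h hX hP hδ m f l = cT h hX hP hδ m g l := by
  match m with
  | 0 =>
    show f l = g l
    rw [← apply_cast f (show l + ((0 : ℕ) : ℤ) = l by simp), ← apply_cast g (show l + ((0 : ℕ) : ℤ) = l by simp), e]
  | m + 1 =>
    by_cases hm : m < n + 1
    · rw [cT_succ h hX hP hδ hm]
      show ((-1 : ℤ) ^ m) • opEnd h hX hP hδ ⟨n - m, _⟩ f l = ((-1 : ℤ) ^ m) • opEnd h hX hP hδ ⟨n - m, by omega⟩ g l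
      have e' : l = l + ((m + 1 : ℕ) : ℤ) + ((((⟨n - m, by omega⟩ : Fin (n + 1)) : ℕ) : ℤ) - (n + 1 : ℕ)) := by
        simp only [Nat.cast_sub (show m ≤ n by omega)]; push_cast; ring
      rw [opEnd_apply h hX hP hδ _ f e', opEnd_apply h hX hP hδ _ g e', e]
    · rw [cT_eq_zero h hX hP hδ (by omega)]
      rfl

/-- `cl_eq` with free degree and free class. -/
theorem cl_eq' {k q : ℤ} {α : AlgebraicCycle X ℤ} (hα : α ∈ Cyc.Zk X δ k)
    {γ : Fin (n + 1 + 1) → AlgebraicCycle X ℤ} (hγ : Cyc.IsChernCap π δ δP O1 (n + 1) k α γ) (j : Fin (n + 1 + 1))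
    (hq : q = k - ((j : ℕ) : ℤ)) (hm : γ j ∈ Cyc.Zk X δ q) (g : T X δ) (hg : g k = ChowOps.cl α hα) :
    ChowOps.cl (γ j) hm = cT h hX hP hδ (j : ℕ) g q := by
  subst hq
  rw [cl_eq h hX hP hδ hα hγ j hm]
  refine cT_congr h hX hP hδ _ ?_
  rw [← apply_cast g (show k = k - ((j : ℕ) : ℤ) + (j : ℕ) by ring), hg,
    ← apply_cast (Pi.single k (ChowOps.cl α hα) : T X δ) (show k = k - ((j : ℕ) : ℤ) + (j : ℕ) by ring), single_apply]

end Groth.Agent.H3Cyc.ChernTot
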