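import Groth.Agent.H3Cyc.PushRat
import Groth.Agent.H3Cyc.RatRel
import Groth.Agent.H3Cyc.SpFun
import Groth.Agent.H3Cyc.BCPush
import Groth.Prelude.Def_W4stkchowintpicEnv
import Mathlib

/-!
# Envelopes and rational equivalence
-/

set_option autoImplicit false
set_option linter.style.haveILetI false
set_option linter.unusedSectionVars false
set_option backward.isDefEq.respectTransparency.types false
universe u

open CategoryTheory CategoryTheory.Limits AlgebraicGeometry TopologicalSpace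

noncomputable section

namespace Groth.Agent.H3Cyc.Envelope

variable {X Y : Scheme.{u}}

theorem residueDegree_eq_one (f : Y ⟶ X) (y : Y) (h : Function.Surjective (f.residueFieldMap y).hom) :
    f.residueDegree y = 1 := by
  letI := (f.residueFieldMap y).hom.toAlgebra
  let e := LinearEquiv.ofBijective (Algebra.linearMap (X.residueField (f y)) (Y.residueField y))
    ⟨(f.residueFieldMap y).hom.injective, h⟩
  exact e.finrank_eq.symm.trans (Module.finrank_self _)

theorem delta_eq_of_surjective (f : Y ⟶ X) {δY : Y → ℤ} {δ : X → ℤ} (hδ : Cyc.DeltaCompat f δY δ) (y : Y)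
    (h : Function.Surjective (f.residueFieldMap y).hom) : δY y = δ (f y) := by
  obtain ⟨n, hn, hx⟩ := hδ y
  have h0 := SpFun.trdeg_zero_of_surjective f y h
  have : n = 0 := by exact_mod_cast hn.symm.trans h0
  rw [hx, this, Nat.cast_zero, add_zero]

/-- A point over `(y, x')` with residue field that of `x'`. -/
theorem exists_point {X' : Scheme.{u}} (f : Y ⟶ X) (g : X' ⟶ X) (x' : X') (y : Y) (hy : f y = g x')
    (hsurj : Function.Surjective (f.residueFieldMap y).hom) :
    ∃ z : ↥(pullback f g), pullback.fst f g z = y ∧ pullback.snd f g z = x' ∧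
      Function.Surjective ((pullback.snd f g).residueFieldMap z).hom := by
  haveI : IsIso (f.residueFieldMap y) := by
    rw [ConcreteCategory.isIso_iff_bijective]
    exact ⟨(f.residueFieldMap y).hom.injective, hsurj⟩
  let a : Spec (X'.residueField x') ⟶ Y :=
    Spec.map (inv (f.residueFieldMap y) ≫ (X.residueFieldCongr hy).hom ≫ g.residueFieldMap x') ≫ Y.fromSpecResidueField y
  have ha : a ≫ f = X'.fromSpecResidueField x' ≫ g := by
    simp only [a, Category.assoc]
    rw [← Scheme.Hom.SpecMap_residueFieldMap_fromSpecResidueField, ← Spec.map_comp_assoc,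
      IsIso.hom_inv_id_assoc, Spec.map_comp_assoc,
      Scheme.residueFieldCongr_fromSpecResidueField, Scheme.Hom.SpecMap_residueFieldMap_fromSpecResidueField]
  let s : Spec (X'.residueField x') ⟶ pullback f g := pullback.lift a (X'.fromSpecResidueField x') ha
  have hs : s ≫ pullback.snd f g = X'.fromSpecResidueField x' := pullback.lift_snd _ _ _
  have hs' : s ≫ pullback.fst f g = a := pullback.lift_fst _ _ _
  obtain ⟨⟨z, ψ⟩, hψ⟩ : ∃ q : Σ z : ↥(pullback f g), (pullback f g).residueField z ⟶ X'.residueField x',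
      Spec.map q.2 ≫ (pullback f g).fromSpecResidueField q.1 = s :=
    ⟨Scheme.SpecToEquivOfField (X'.residueField x') _ s, (Scheme.SpecToEquivOfField (X'.residueField x') _).symm_apply_apply s⟩
  dsimp only at hψ
  have h0 : s (IsLocalRing.closedPoint (X'.residueField x')) = z := by
    rw [← hψ, Scheme.Hom.comp_apply, Scheme.fromSpecResidueField_apply]
  have hz : pullback.snd f g z = x' := by
    rw [← h0, ← Scheme.Hom.comp_apply, hs, Scheme.fromSpecResidueField_apply]
  have hz1 : pullback.fst f g z = y := by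
    rw [← h0, ← Scheme.Hom.comp_apply, hs']
    simp only [a, Scheme.Hom.comp_apply, Scheme.fromSpecResidueField_apply]
  refine ⟨z, hz1, hz, ?_⟩
  have h1 : (pullback.snd f g).residueFieldMap z ≫ ψ = (X'.residueFieldCongr hz).hom := by
    apply Spec.map_injective
    rw [← cancel_mono (X'.fromSpecResidueField (pullback.snd f g z)), Spec.map_comp, Category.assoc,
      Scheme.Hom.SpecMap_residueFieldMap_fromSpecResidueField, ← Category.assoc, hψ, hs,
      Scheme.residueFieldCongr_fromSpecResidueField]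
  intro w
  obtain ⟨v, hv⟩ := (X'.residueFieldCongr hz).commRingCatIsoToRingEquiv.surjective (ψ w)
  exact ⟨v, ψ.hom.injective ((ConcreteCategory.congr_hom h1 v).trans hv)⟩

/-- Pushforward of a locally finite sum of principal divisors. -/
theorem map_sum_divFun (p : Y ⟶ X) [IsProper p] {δY : Y → ℤ} {δ : X → ℤ} (hY : Cyc.IsSetup Y δY) {ι : Type u}
    {η : ι → Y} {g : (i : ι) → Y.residueField (η i)} (hg : ∀ i, g i ≠ 0)
    (hlf : ∀ x : X, ∃ U : Set X, IsOpen U ∧ x ∈ U ∧ {i | p (η i) ∈ U}.Finite)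
    (c : AlgebraicCycle Y ℤ) (hc : ∀ y, c y = ∑ᶠ i, Cyc.divFun δY (η i) (g i) y) (x : X) :
    AlgebraicCycle.map p δY δ c x = ∑ᶠ i, PushRat.pushDiv p δY δ (η i) (g i) x := by
  classical
  haveI := hY.1
  obtain ⟨U, hU, hxU, hfin⟩ := hlf x
  obtain ⟨V, hV, hxV, hVU⟩ := exists_isAffineOpen_mem_and_subset (U := (⟨U, hU⟩ : X.Opens)) (x := x) hxU
  have hK : IsCompact (p ⁻¹' (V : Set X)) := p.isSpectralMap.2 V.isOpen hV.isCompact
  let I := hfin.toFinset
  have hI : ∀ i y, p y = x → Cyc.divFun δY (η i) (g i) y ≠ 0 → i ∈ I := fun i y hy hne =>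
    hfin.mem_toFinset.mpr (H22Alg.CycDiv.mem_of_divFun_ne_zero (hU.preimage p.continuous)
      (show y ∈ p ⁻¹' U by rw [Set.mem_preimage, hy]; exact hxU) hne)
  have hsub : p ⁻¹' {x} ⊆ p ⁻¹' (V : Set X) := fun y hy => by
    show p y ∈ V
    rw [show p y = x from hy]; exact hxV
  have hdfin : ∀ i, (p ⁻¹' {x} ∩ Function.support (Cyc.divFun δY (η i) (g i))).Finite := fun i => by
    let d : AlgebraicCycle Y ℤ := ⟨Cyc.divFun δY (η i) (g i), by simp, fun y _ =>
      H22Alg.CycDiv.locallyFinite_divFun hY.2.2 (η i) (hg i) y⟩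
    exact (d.locallyFiniteSupport.finite_inter_support_of_isCompact hK).subset (Set.inter_subset_inter_left _ hsub)
  let S := (I.finite_toSet.biUnion fun i _ => hdfin i).toFinset
  have hSx : (S : Set Y) ⊆ p ⁻¹' {x} := fun y hy => by
    obtain ⟨i, -, hi⟩ := Set.mem_iUnion₂.mp ((Set.Finite.mem_toFinset _).mp hy)
    exact hi.1
  have hS : ∀ i y, p y = x → Cyc.divFun δY (η i) (g i) y ≠ 0 → y ∈ S := fun i y hy hne =>
    (Set.Finite.mem_toFinset _).mpr (Set.mem_biUnion (hI i y hy hne) ⟨hy, hne⟩)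
  show ∑ᶠ y ∈ p ⁻¹' {x}, c y * ((AlgebraicCycle.mapCoeff p δY δ y : ℕ) : ℤ) = _
  rw [finsum_mem_eq_sum_of_subset _ (fun y hy => ?_) hSx]
  swap
  · obtain ⟨i, hi⟩ : ∃ i, Cyc.divFun δY (η i) (g i) y ≠ 0 := by
      by_contra hn
      exact left_ne_zero_of_mul hy.2 ((hc y).trans (finsum_eq_zero_of_forall_eq_zero fun i => not_not.mp (not_exists.mp hn i)))
    exact hS i y hy.1 hi
  have h1 : ∀ y ∈ S, c y * ((AlgebraicCycle.mapCoeff p δY δ y : ℕ) : ℤ) =
      ∑ i ∈ I, Cyc.divFun δY (η i) (g i) y * ((AlgebraicCycle.mapCoeff p δY δ y : ℕ) : ℤ) := fun y hy => by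
    rw [← Finset.sum_mul, hc y]
    congr 1
    exact finsum_eq_sum_of_support_subset _ fun i hi => Finset.mem_coe.mpr (hI i y (hSx hy) hi)
  rw [Finset.sum_congr rfl h1, Finset.sum_comm, finsum_eq_sum_of_support_subset _ (s := I) (fun i hi => ?_)]
  · refine Finset.sum_congr rfl fun i _ => ?_
    exact (finsum_mem_eq_sum_of_subset _ (fun y hy => hS i y hy.1 (left_ne_zero_of_mul hy.2)) hSx).symm
  · obtain ⟨y, hy, hy'⟩ := exists_ne_zero_of_finsum_mem_ne_zero hi
    exact Finset.mem_coe.mpr (hI i y hy (left_ne_zero_of_mul hy'))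

theorem finsum_mem_sub' {α : Type*} {s : Set α} {a b : α → ℤ} (ha : (s ∩ Function.support a).Finite)
    (hb : (s ∩ Function.support b).Finite) :
    ∑ᶠ i ∈ s, (a i - b i) = (∑ᶠ i ∈ s, a i) - ∑ᶠ i ∈ s, b i := by
  have hd : (s ∩ Function.support fun i => a i - b i).Finite := (ha.union hb).subset fun i ⟨hi, hne⟩ => by
    by_cases h : a i = 0
    · exact Or.inr ⟨hi, fun hbi => hne (by show a i - b i = 0; rw [h, hbi, sub_zero])⟩
    · exact Or.inl ⟨hi, h⟩
  rw [eq_sub_iff_add_eq, ← finsum_mem_add_distrib' hd hb]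
  exact finsum_congr fun i => by simp

theorem map_sub_apply (p : Y ⟶ X) [QuasiCompact p] (δY : Y → ℤ) (δ : X → ℤ) (α β : AlgebraicCycle Y ℤ) (x : X) :
    AlgebraicCycle.map p δY δ (α - β) x =
      AlgebraicCycle.map p δY δ α x - AlgebraicCycle.map p δY δ β x := by
  classical
  obtain ⟨V, hV, hxV, -⟩ := exists_isAffineOpen_mem_and_subset (show x ∈ (⊤ : X.Opens) from trivial)
  have hK : IsCompact (p ⁻¹' (V : Set X)) := p.isSpectralMap.2 V.isOpen hV.isCompact
  have hsub : p ⁻¹' {x} ⊆ p ⁻¹' (V : Set X) := fun y hy => by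
    show p y ∈ V
    rw [show p y = x from hy]; exact hxV
  have hf : ∀ γ : AlgebraicCycle Y ℤ, (p ⁻¹' {x} ∩
      Function.support (fun y => γ y * ((AlgebraicCycle.mapCoeff p δY δ y : ℕ) : ℤ))).Finite := fun γ =>
    (γ.locallyFiniteSupport.finite_inter_support_of_isCompact hK).subset
      fun y hy => ⟨hsub hy.1, left_ne_zero_of_mul hy.2⟩
  show ∑ᶠ y ∈ p ⁻¹' {x}, (α y - β y) * ((AlgebraicCycle.mapCoeff p δY δ y : ℕ) : ℤ) = _
  simp only [sub_mul]
  exact finsum_mem_sub' (hf α) (hf β)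

theorem map_neg_apply (p : Y ⟶ X) [QuasiCompact p] (δY : Y → ℤ) (δ : X → ℤ) (α : AlgebraicCycle Y ℤ) (x : X) :
    AlgebraicCycle.map p δY δ (-α) x = -AlgebraicCycle.map p δY δ α x := by
  have h := map_sub_apply p δY δ 0 α x
  rw [zero_sub] at h
  rw [h]
  show (∑ᶠ y ∈ p ⁻¹' {x}, (0 : ℤ) * _) - _ = _
  simp

variable (f : Y ⟶ X) [IsProper f] {δY : Y → ℤ} {δ : X → ℤ}

/-- A cycle killed by pushforward along an envelope is a difference of the two projections. -/
theorem exists_difference (hX : Cyc.IsSetup X δ) (hcd : Cyc.IsCompletelyDecomposed f)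
    (hδ : Cyc.DeltaCompat f δY δ) (δ2 : ↥(pullback f f) → ℤ) (hδ2 : Cyc.DeltaCompat (pullback.fst f f) δ2 δY)
    (k : ℤ) (β : AlgebraicCycle Y ℤ) (hβ : β ∈ Cyc.Zk Y δY k) (h0 : ∀ x, AlgebraicCycle.map f δY δ β x = 0) :
    ∃ γ : AlgebraicCycle (pullback f f) ℤ, γ ∈ Cyc.Zk (pullback f f) δ2 k ∧
      ∀ y, (AlgebraicCycle.map (pullback.fst f f) δ2 δY γ - AlgebraicCycle.map (pullback.snd f f) δ2 δY γ : AlgebraicCycle Y ℤ) y = β y := by
  classical
  choose s hs hsurj using hcd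
  have hcomp := BCPush.deltaCompat_comp (pullback.fst f f) f hδ2 hδ
  obtain ⟨δ', hδ'⟩ := SpFun.exists_deltaCompat (pullback.snd f f) δY
  obtain rfl : δ2 = δ' := SpFun.deltaCompat_unique pullback.condition hcomp
    (BCPush.deltaCompat_comp (pullback.snd f f) f hδ' hδ)
  choose zz hz1 hz2 hzs using fun y => exists_point f f y (s (f y)) (hs (f y)) (hsurj (f y))
  have hzinj : Function.Injective zz := fun a b h => by rw [← hz2 a, h, hz2]
  have hzd : ∀ y, δ2 (zz y) = δY y := fun y => by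
    rw [delta_eq_of_surjective _ hδ' (zz y) (hzs y), hz2]
  have hsd : ∀ x, δY (s x) = δ x := fun x => by rw [delta_eq_of_surjective f hδ (s x) (hsurj x), hs]
  let G : ↥(pullback f f) → ℤ := fun z => if z = zz (pullback.snd f f z) then -β (pullback.snd f f z) else 0
  have hG : ∀ y, G (zz y) = -β y := fun y => by simp only [G, hz2, if_pos]
  have hG' : ∀ z, G z ≠ 0 → z = zz (pullback.snd f f z) ∧ β (pullback.snd f f z) ≠ 0 := fun z hz => by
    simp only [G, ne_eq, ite_eq_right_iff, Classical.not_imp, neg_eq_zero] at hz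
    exact hz
  let γ : AlgebraicCycle (pullback f f) ℤ := ⟨G, by simp, fun z _ => by
    obtain ⟨V, hV, hzV, -⟩ :=
      exists_isAffineOpen_mem_and_subset (show pullback.snd f f z ∈ (⊤ : Y.Opens) from trivial)
    refine ⟨pullback.snd f f ⁻¹' V, (V.2.preimage (pullback.snd f f).continuous).mem_nhds hzV,
      ((β.locallyFiniteSupport.finite_inter_support_of_isCompact hV.isCompact).image zz).subset fun w hw => ?_⟩
    obtain ⟨h1, h2⟩ := hG' w hw.2
    exact ⟨_, ⟨hw.1, h2⟩, h1.symm⟩⟩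
  refine ⟨γ, fun z hz => ?_, fun y => ?_⟩
  · by_contra h
    obtain ⟨h1, h2⟩ := hG' z h
    refine h2 (hβ _ fun e => hz ?_)
    rw [h1, hzd, e]
  show (∑ᶠ z ∈ pullback.fst f f ⁻¹' {y}, G z * _) - (∑ᶠ z ∈ pullback.snd f f ⁻¹' {y}, G z * _) = β y
  have hsnd : ∑ᶠ z ∈ pullback.snd f f ⁻¹' {y},
      G z * ((AlgebraicCycle.mapCoeff (pullback.snd f f) δ2 δY z : ℕ) : ℤ) = -β y := by
    rw [finsum_mem_eq_sum_of_subset _ (t := {zz y}) (fun z hz => ?_) (fun z hz => ?_), Finset.sum_singleton, hG,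
      AlgebraicCycle.mapCoeff, if_pos (show δ2 (zz y) = δY (pullback.snd f f (zz y)) by rw [hzd, hz2]),
      residueDegree_eq_one _ _ (hzs y), Nat.cast_one, mul_one]
    · obtain ⟨h1, -⟩ := hG' z (left_ne_zero_of_mul hz.2)
      rw [show pullback.snd f f z = y from hz.1] at h1
      exact Finset.mem_coe.mpr (Finset.mem_singleton.mpr h1)
    · rw [Finset.mem_coe, Finset.mem_singleton] at hz
      rw [hz]; exact hz2 y
  rw [hsnd]
  suffices hfst : ∑ᶠ z ∈ pullback.fst f f ⁻¹' {y},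
      G z * ((AlgebraicCycle.mapCoeff (pullback.fst f f) δ2 δY z : ℕ) : ℤ) = 0 by
    rw [hfst]; ring
  by_cases hy : y = s (f y)
  swap
  · refine finsum_mem_eq_zero_of_forall_eq_zero fun z hz => mul_eq_zero_of_left (by_contra fun h => hy ?_) _
    have e1 : y = s (f (pullback.snd f f z)) :=
      (show pullback.fst f f z = y from hz).symm.trans ((congrArg (pullback.fst f f) (hG' z h).1).trans (hz1 _))
    have e2 : f y = f (pullback.snd f f z) := by rw [e1, hs]
    rw [e2]; exact e1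
  have key : ∀ w, f w = f y → G (zz w) * ((AlgebraicCycle.mapCoeff (pullback.fst f f) δ2 δY (zz w) : ℕ) : ℤ) =
      -(β w * ((AlgebraicCycle.mapCoeff f δY δ w : ℕ) : ℤ)) := fun w hw => by
    rw [hG, neg_mul]
    congr 2
    have hdeg : (pullback.fst f f).residueDegree (zz w) = f.residueDegree w := by
      have h1 := H22Alg.CycBasic.residueDegree_comp (pullback.fst f f) f (zz w)
      have h2 := H22Alg.CycBasic.residueDegree_comp (pullback.snd f f) f (zz w)
      have h3 : (pullback.fst f f ≫ f).residueDegree (zz w) = (pullback.snd f f ≫ f).residueDegree (zz w) :=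
        congrArg (fun m : pullback f f ⟶ X => m.residueDegree (zz w)) pullback.condition
      rw [h1, h2, residueDegree_eq_one _ _ (hzs w), mul_one, hz2, hz1,
        residueDegree_eq_one _ _ (hsurj (f w)), one_mul] at h3
      exact h3
    have hc : δ2 (zz w) = δY (pullback.fst f f (zz w)) ↔ δY w = δ (f w) := by rw [hzd, hz1, hsd]
    unfold AlgebraicCycle.mapCoeff
    by_cases h : δY w = δ (f w)
    · rw [if_pos h, if_pos (hc.mpr h), hdeg]
    · rw [if_neg h, if_neg (fun e => h (hc.mp e))]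
  have hset : pullback.fst f f ⁻¹' {y} ∩ Function.support (fun z => G z *
      ((AlgebraicCycle.mapCoeff (pullback.fst f f) δ2 δY z : ℕ) : ℤ)) = zz '' (f ⁻¹' {f y}) ∩
      Function.support (fun z => G z * ((AlgebraicCycle.mapCoeff (pullback.fst f f) δ2 δY z : ℕ) : ℤ)) := by
    ext z
    simp only [Set.mem_inter_iff, Set.mem_preimage, Set.mem_singleton_iff, Function.mem_support, Set.mem_image]
    refine ⟨fun ⟨hz, hne⟩ => ⟨?_, hne⟩, fun ⟨⟨w, hw, hwz⟩, hne⟩ => ⟨?_, hne⟩⟩
    · obtain ⟨h1, -⟩ := hG' z (left_ne_zero_of_mul hne)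
      refine ⟨_, ?_, h1.symm⟩
      rw [← hz]
      exact (congrArg (fun m : pullback f f ⟶ X => m z) pullback.condition).symm
    · rw [← hwz, hz1, hw]; exact hy.symm
  rw [← finsum_mem_inter_support, hset, finsum_mem_inter_support, finsum_mem_image hzinj.injOn,
    finsum_mem_congr (s := f ⁻¹' {f y}) rfl (fun w hw => key w hw)]
  have hfin : (f ⁻¹' {f y} ∩ Function.support (fun w => β w * ((AlgebraicCycle.mapCoeff f δY δ w : ℕ) : ℤ))).Finite := by
    obtain ⟨V, hV, hyV, -⟩ := exists_isAffineOpen_mem_and_subset (show f y ∈ (⊤ : X.Opens) from trivial)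
    exact (β.locallyFiniteSupport.finite_inter_support_of_isCompact (f.isSpectralMap.2 V.isOpen hV.isCompact)).subset
      fun w hw => ⟨show f w ∈ V by rw [show f w = f y from hw.1]; exact hyV, left_ne_zero_of_mul hw.2⟩
  have hh := h0 (f y)
  have hh' : ∑ᶠ w ∈ f ⁻¹' {f y}, β w * ((AlgebraicCycle.mapCoeff f δY δ w : ℕ) : ℤ) = 0 := hh
  have h := finsum_mem_sub' (a := fun _ => (0 : ℤ)) (by simp) hfin
  rw [hh'] at h; simpa using h

/-- **Descent along envelopes.** -/
theorem exists_ratEquiv_map_sub_map (hX : Cyc.IsSetup X δ) (hY : Cyc.IsSetup Y δY)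
    (hcd : Cyc.IsCompletelyDecomposed f) (hδ : Cyc.DeltaCompat f δY δ) (δ2 : ↥(pullback f f) → ℤ)
    (hδ2 : Cyc.DeltaCompat (pullback.fst f f) δ2 δY) (k : ℤ) (β : AlgebraicCycle Y ℤ) (hβ : β ∈ Cyc.Zk Y δY k)
    (h0 : Cyc.RatEquivZero δ k (AlgebraicCycle.map f δY δ β)) :
    ∃ γ : AlgebraicCycle (pullback f f) ℤ, γ ∈ Cyc.Zk (pullback f f) δ2 k ∧
      Cyc.RatEquiv δY k β (AlgebraicCycle.map (pullback.fst f f) δ2 δY γ - AlgebraicCycle.map (pullback.snd f f) δ2 δY γ) := by
  classical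
  haveI := hX.1
  haveI := hY.1
  choose s hs hsurj using id hcd
  obtain ⟨ι, ξ, g, hk, hg, hlf, hsum⟩ := h0
  let g' : ∀ i, Y.residueField (s (ξ i)) := fun i => FlatDiv.liftVal f (s (ξ i)) (hs (ξ i)) (g i)
  have hg' : ∀ i, g' i ≠ 0 := fun i => FlatDiv.liftVal_ne_zero f _ _ _ (hg i)
  have hsd : ∀ x, δY (s x) = δ x := fun x => by rw [delta_eq_of_surjective f hδ (s x) (hsurj x), hs]
  have hlf' : ∀ x : X, ∃ U : Set X, IsOpen U ∧ x ∈ U ∧ {i | f (s (ξ i)) ∈ U}.Finite := fun x => by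
    obtain ⟨U, hU, hxU, hfin⟩ := hlf x
    refine ⟨U, hU, hxU, hfin.subset fun i hi => ⟨ξ i, subset_closure rfl, ?_⟩⟩
    rw [Set.mem_setOf_eq, hs] at hi
    exact hi
  have hlfY : ∀ y : Y, ∃ U : Set Y, IsOpen U ∧ y ∈ U ∧ {i | (closure {s (ξ i)} ∩ U).Nonempty}.Finite := fun y => by
    obtain ⟨U, hU, hyU, hfin⟩ := hlf' (f y)
    refine ⟨f ⁻¹' U, hU.preimage f.continuous, hyU, hfin.subset ?_⟩
    rintro i ⟨w, hw, hwU⟩
    exact (specializes_iff_mem_closure.mpr hw).mem_open (hU.preimage f.continuous) hwU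
  obtain ⟨β₀, hβ₀⟩ := H22Alg.CycDiv.exists_cycle_sum (ξ := fun i => s (ξ i)) (f := g') hY.2.2 hg' hlfY
  have hR : Cyc.RatEquivZero δY k β₀ :=
    ⟨ι, fun i => s (ξ i), g', fun i => by show δY (s (ξ i)) = k + 1; rw [hsd, hk], hg', hlfY, hβ₀⟩
  have hmap : ∀ x, AlgebraicCycle.map f δY δ β₀ x = AlgebraicCycle.map f δY δ β x := fun x => by
    rw [map_sum_divFun f hY hg' hlf' β₀ hβ₀ x, hsum x]
    refine finsum_congr fun i => ?_
    have heq : δY (s (ξ i)) = δ (f (s (ξ i))) := by rw [hs, hsd]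
    have hp := ((PushRat.exists_pushDiv_eq f hY hX hδ (s (ξ i)) (g' i) (hg' i)).2 heq).2 (ξ i) (hs (ξ i)) (g i) rfl x
    rw [residueDegree_eq_one f _ (hsurj (ξ i)), Nat.cast_one, one_mul] at hp
    exact hp
  have hβ₀k : ∀ y, δY y ≠ k → β₀ y = 0 := fun y hy => by
    rw [hβ₀ y]
    refine finsum_eq_zero_of_forall_eq_zero fun i => H22Alg.CycDiv.eq_zero_of_delta_ne (ξ := fun i => s (ξ i)) (f := g') (fun i => ?_) i hy
    show δY (s (ξ i)) = k + 1
    rw [hsd, hk]
  obtain ⟨γ, hγ, hdiff⟩ := exists_difference f hX hcd hδ δ2 hδ2 k (β - β₀)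
    (fun y hy => by show β y - β₀ y = 0; rw [hβ y hy, hβ₀k y hy, sub_zero])
    (fun x => by rw [map_sub_apply, hmap, sub_self])
  refine ⟨γ, hγ, ?_⟩
  have e : β - (AlgebraicCycle.map (pullback.fst f f) δ2 δY γ - AlgebraicCycle.map (pullback.snd f f) δ2 δY γ) = β₀ := by
    refine DFunLike.coe_injective (funext fun y => ?_)
    show β y - (AlgebraicCycle.map (pullback.fst f f) δ2 δY γ - AlgebraicCycle.map (pullback.snd f f) δ2 δY γ : AlgebraicCycle Y ℤ) y = β₀ y
    rw [hdiff y]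
    show β y - (β y - β₀ y) = β₀ y
    ring
  show Cyc.RatEquivZero δY k _
  rw [e]
  exact hR

end Groth.Agent.H3Cyc.Envelope
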