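import Groth.Agent.H3Cyc.RatRel
import Groth.Agent.H3Cyc.C1Rat
import Groth.Agent.H3Cyc.FlatRat
import Groth.Agent.H3Cyc.PushRat
import Groth.Agent.H3Cyc.Envelope
import Groth.Agent.H3Cyc.C1Pull
import Groth.Prelude.Def_ChowOps
import Groth.Prelude.Def_ChowOps2
import Mathlib

/-!
# The operations on Chow groups: `c₁`, proper pushforward, flat pullback
-/

set_option autoImplicit false
set_option linter.style.haveILetI false
set_option linter.unusedSectionVars false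
universe u

open CategoryTheory AlgebraicGeometry
open Groth.Agent.H11Tilde (IsGen)

noncomputable section

namespace Groth.Agent.H3Cyc.Chow

variable {X Y : Scheme.{u}} {δ : X → ℤ} {k : ℤ}

theorem mem_ratTriv_iff (a : ↥(ChowOps.zk X δ k)) :
    a ∈ ChowOps.ratTriv X δ k ↔ Cyc.RatEquivZero δ k (a : AlgebraicCycle X ℤ) := by
  refine ⟨fun h => ?_, fun h => AddSubgroup.subset_closure h⟩
  induction h using AddSubgroup.closure_induction with
  | mem x hx => exact hx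
  | zero => exact RatRel.zero
  | add x y _ _ hx hy => exact RatRel.add hx hy
  | neg x _ hx => exact RatRel.neg hx

theorem cl_eq_zero_iff {a : AlgebraicCycle X ℤ} (ha : a ∈ Cyc.Zk X δ k) :
    ChowOps.cl a ha = 0 ↔ Cyc.RatEquivZero δ k a :=
  (QuotientAddGroup.eq_zero_iff _).trans (mem_ratTriv_iff (⟨a, ha⟩ : ↥(ChowOps.zk X δ k)))

theorem zk_sub {a b : AlgebraicCycle X ℤ} (ha : a ∈ Cyc.Zk X δ k) (hb : b ∈ Cyc.Zk X δ k) :
    a - b ∈ Cyc.Zk X δ k := fun x hx => by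
  show a x - b x = 0
  rw [ha x hx, hb x hx, sub_zero]

theorem cl_eq_iff {a b : AlgebraicCycle X ℤ} (ha : a ∈ Cyc.Zk X δ k) (hb : b ∈ Cyc.Zk X δ k) :
    ChowOps.cl a ha = ChowOps.cl b hb ↔ Cyc.RatEquiv δ k a b := by
  unfold Cyc.RatEquiv
  rw [← sub_eq_zero, ← cl_eq_zero_iff (zk_sub ha hb)]
  exact Iff.of_eq (congrArg (fun t => t = 0) (map_sub (ChowOps.clHom X δ k) ⟨a, ha⟩ ⟨b, hb⟩).symm)

theorem cl_congr {a b : AlgebraicCycle X ℤ} (ha : a ∈ Cyc.Zk X δ k) (hb : b ∈ Cyc.Zk X δ k) (h : ⇑a = ⇑b) :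
    ChowOps.cl a ha = ChowOps.cl b hb := by
  cases DFunLike.coe_injective h
  rfl

theorem exists_cl (c : ChowOps.CH X δ k) : ∃ (a : AlgebraicCycle X ℤ) (ha : a ∈ Cyc.Zk X δ k), ChowOps.cl a ha = c := by
  obtain ⟨⟨a, ha⟩, rfl⟩ := QuotientAddGroup.mk'_surjective (ChowOps.ratTriv X δ k) c
  exact ⟨a, ha, rfl⟩

/-- Change of index. -/
def cast {j : ℤ} (h : j = k) : ChowOps.CH X δ j →+ ChowOps.CH X δ k := by
  subst h; exact AddMonoidHom.id _

theorem cast_cl {j : ℤ} (h : j = k) (a : AlgebraicCycle X ℤ) (ha : a ∈ Cyc.Zk X δ j) :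
    cast h (ChowOps.cl a ha) = ChowOps.cl a (h ▸ ha) := by
  subst h; rfl

theorem exists_section {L : X.Modules} (hL : PicF.IsInvertible L) (ξ : X) : ∃ s : Cyc.secFibre L ξ, s ≠ 0 := by
  obtain ⟨V, e, hξ, he⟩ := H11Ample.exists_gen hL ξ
  have h := (C1Api.residue_ne_zero_iff he (z := ξ) hξ 1).mpr (by rw [map_one]; exact one_ne_zero)
  exact ⟨_, h⟩

/-- A chosen family of rational sections. -/
def sec {L : X.Modules} (hL : PicF.IsInvertible L) (ξ : X) : Cyc.secFibre L ξ := (exists_section hL ξ).choose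

theorem sec_ne_zero {L : X.Modules} (hL : PicF.IsInvertible L) (ξ : X) : sec hL ξ ≠ 0 :=
  (exists_section hL ξ).choose_spec

section c1

variable {L : X.Modules}

theorem c1CapFun_add [IsLocallyNoetherian X] (δ : X → ℤ) (a b : AlgebraicCycle X ℤ)
    (t : (ξ : X) → Cyc.secFibre L ξ) :
    Cyc.c1CapFun δ L ⇑(a + b) t = Cyc.c1CapFun δ L ⇑a t + Cyc.c1CapFun δ L ⇑b t := by
  funext x
  show ∑ᶠ ξ, (a ξ + b ξ) * _ = (∑ᶠ ξ, a ξ * _) + ∑ᶠ ξ, b ξ * _
  rw [← finsum_add_distrib (C1Api.finite_support_term a x _ fun ξ h => C1Api.secDivFun_ne_zero h)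
    (C1Api.finite_support_term b x _ fun ξ h => C1Api.secDivFun_ne_zero h)]
  exact finsum_congr fun ξ => add_mul _ _ _

variable (hX : Cyc.IsSetup X δ) (hL : PicF.IsInvertible L)

/-- The cycle representing `c₁(L) ∩ a`. -/
def c1Rep {j : ℤ} (h : j = k + 1) (a : ↥(ChowOps.zk X δ j)) : ↥(ChowOps.zk X δ k) :=
  haveI := hX.1
  ⟨(C1Api.exists_c1Cap_cycle hX.2.2 hL k a.1 (h ▸ a.2) (sec hL) (sec_ne_zero hL)).choose,
    (C1Api.exists_c1Cap_cycle hX.2.2 hL k a.1 (h ▸ a.2) (sec hL) (sec_ne_zero hL)).choose_spec.2⟩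

theorem c1Rep_coe {j : ℤ} (h : j = k + 1) (a : ↥(ChowOps.zk X δ j)) :
    ⇑(c1Rep hX hL h a).1 = Cyc.c1CapFun δ L ⇑a.1 (sec hL) :=
  haveI := hX.1
  (C1Api.exists_c1Cap_cycle hX.2.2 hL k a.1 (h ▸ a.2) (sec hL) (sec_ne_zero hL)).choose_spec.1

/-- `c₁(L) ∩` on Chow groups. -/
def c1 {j : ℤ} (h : j = k + 1) : ChowOps.CH X δ j →+ ChowOps.CH X δ k :=
  QuotientAddGroup.lift (ChowOps.ratTriv X δ j)
    ((ChowOps.clHom X δ k).comp (AddMonoidHom.mk' (c1Rep hX hL h) fun a b => by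
      haveI := hX.1
      refine Subtype.ext (DFunLike.coe_injective ?_)
      rw [c1Rep_coe]
      show Cyc.c1CapFun δ L ⇑(a.1 + b.1) _ = ⇑(c1Rep hX hL h a).1 + ⇑(c1Rep hX hL h b).1
      rw [c1Rep_coe, c1Rep_coe, c1CapFun_add]))
    fun a ha => by
      have h0 := (mem_ratTriv_iff a).mp ha
      exact (cl_eq_zero_iff (c1Rep hX hL h a).2).mpr (C1Rat.c1Cap_ratEquivZero hX hL k a.1 (h ▸ h0) (sec hL)
        (sec_ne_zero hL) _ (c1Rep_coe hX hL h a))

theorem c1_cl {j : ℤ} (h : j = k + 1) (a : AlgebraicCycle X ℤ) (ha : a ∈ Cyc.Zk X δ j)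
    (t : (ξ : X) → Cyc.secFibre L ξ) (ht : ∀ ξ, t ξ ≠ 0) (b : AlgebraicCycle X ℤ) (hb : b ∈ Cyc.Zk X δ k)
    (hfun : ⇑b = Cyc.c1CapFun δ L ⇑a t) : c1 hX hL h (ChowOps.cl a ha) = ChowOps.cl b hb := by
  haveI := hX.1
  show ChowOps.cl (c1Rep hX hL h ⟨a, ha⟩).1 (c1Rep hX hL h ⟨a, ha⟩).2 = _
  refine (cl_eq_iff _ _).mpr ?_
  exact RatRel.c1Cap_indep hL a (h ▸ ha) (sec hL) t (sec_ne_zero hL) ht _ _ (c1Rep_coe hX hL h ⟨a, ha⟩) hfun

/-- `c₁(L)^m ∩` on Chow groups. -/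
def c1pow : (m : ℕ) → {j k : ℤ} → j = k + m → (ChowOps.CH X δ j →+ ChowOps.CH X δ k)
  | 0, _, _, h => cast (by simpa using h)
  | m + 1, _, k, h => (c1 hX hL (k := k) (j := k + 1) rfl).comp (c1pow m (by push_cast at h; omega))

theorem c1pow_cl : ∀ (m : ℕ) {j k : ℤ} (h : j = k + m) (a : AlgebraicCycle X ℤ) (ha : a ∈ Cyc.Zk X δ j)
    (t : ℕ → (ξ : X) → Cyc.secFibre L ξ), (∀ i ξ, t i ξ ≠ 0) →
    ∃ (b : AlgebraicCycle X ℤ) (hb : b ∈ Cyc.Zk X δ k), ⇑b = Cyc.c1PowFun δ L t m ⇑a ∧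
      c1pow hX hL m h (ChowOps.cl a ha) = ChowOps.cl b hb
  | 0, j, k, h, a, ha, _, _ => ⟨a, (show j = k by simpa using h) ▸ ha, rfl, cast_cl _ _ _⟩
  | m + 1, j, k, h, a, ha, t, ht => by
    haveI := hX.1
    obtain ⟨c, hc, hcf, hce⟩ := c1pow_cl m (k := k + 1) (by push_cast at h; omega) a ha t ht
    obtain ⟨b, hbf, hb⟩ := C1Api.exists_c1Cap_cycle hX.2.2 hL k c hc (t m) (ht m)
    refine ⟨b, hb, by rw [hbf, hcf]; rfl, ?_⟩
    show c1 hX hL _ (c1pow hX hL m _ (ChowOps.cl a ha)) = _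
    rw [hce]
    exact c1_cl hX hL _ c hc (t m) (ht m) b hb hbf

theorem c1_comp_cast {i j : ℤ} (h : i = j) (h' : j = k + 1) (c : ChowOps.CH X δ i) :
    c1 hX hL h' (cast h c) = c1 hX hL (h.trans h') c := by
  subst h; rfl

theorem c1pow_congr : ∀ {m m' : ℕ} (_ : m = m') {j : ℤ} (h : j = k + m) (h' : j = k + m') (c : ChowOps.CH X δ j),
    c1pow hX hL m h c = c1pow hX hL m' h' c := by
  rintro m _ rfl _ _ _ _; rfl

theorem c1pow_c1pow : ∀ (m n : ℕ) {i j k : ℤ} (h : i = j + n) (h' : j = k + m) (h'' : i = k + (m + n : ℕ))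
    (c : ChowOps.CH X δ i), c1pow hX hL m h' (c1pow hX hL n h c) = c1pow hX hL (m + n) h'' c
  | 0, n, i, j, k, h, h', h'', c => by
    obtain rfl : j = k := by simpa using h'
    show c1pow hX hL n h c = _
    exact c1pow_congr hX hL (Nat.zero_add n).symm _ _ _
  | m + 1, n, i, j, k, h, h', h'', c => by
    show c1 hX hL _ (c1pow hX hL m _ (c1pow hX hL n h c)) = _
    rw [c1pow_c1pow m n h _ (by push_cast at h' h'' ⊢; omega) c]
    exact (c1pow_congr hX hL (show m + n + 1 = m + 1 + n by omega) (j := i) (k := k) (by push_cast at h'' ⊢; omega) h'' c)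

end c1

section push

variable {δY : Y → ℤ} (p : X ⟶ Y)

theorem map_mem [QuasiCompact p] (a : AlgebraicCycle X ℤ) (ha : a ∈ Cyc.Zk X δ k) :
    AlgebraicCycle.map p δ δY a ∈ Cyc.Zk Y δY k := fun y hy => by
  show ∑ᶠ x ∈ p ⁻¹' {y}, a x * ((AlgebraicCycle.mapCoeff p δ δY x : ℕ) : ℤ) = 0
  refine finsum_mem_eq_zero_of_forall_eq_zero fun x hx => ?_
  unfold AlgebraicCycle.mapCoeff
  split_ifs with h
  · rw [ha x (fun e => hy (by rw [← show p x = y from hx]; exact h.symm.trans e)), zero_mul]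
  · simp

theorem map_sub [QuasiCompact p] (a b : AlgebraicCycle X ℤ) :
    AlgebraicCycle.map p δ δY (a - b) = AlgebraicCycle.map p δ δY a - AlgebraicCycle.map p δ δY b :=
  DFunLike.coe_injective (funext fun y => Envelope.map_sub_apply p δ δY a b y)

theorem map_zero [QuasiCompact p] : AlgebraicCycle.map p δ δY (0 : AlgebraicCycle X ℤ) = 0 := by
  have h := map_sub p (δ := δ) (δY := δY) 0 0
  rwa [sub_zero, sub_self] at h

variable [IsProper p]

/-- Proper pushforward on Chow groups. -/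
def push (hX : Cyc.IsSetup X δ) (hY : Cyc.IsSetup Y δY) (hp : Cyc.DeltaCompat p δ δY) (k : ℤ) :
    ChowOps.CH X δ k →+ ChowOps.CH Y δY k :=
  QuotientAddGroup.lift (ChowOps.ratTriv X δ k)
    ((ChowOps.clHom Y δY k).comp (AddMonoidHom.ofMapSub
      (fun a : ↥(ChowOps.zk X δ k) =>
        (⟨AlgebraicCycle.map p δ δY a.1, map_mem p a.1 a.2⟩ : ↥(ChowOps.zk Y δY k)))
      fun a b => Subtype.ext (map_sub p a.1 b.1)))
    fun a ha => by
      have h0 := (mem_ratTriv_iff a).mp ha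
      refine (cl_eq_zero_iff (map_mem p a.1 a.2)).mpr ?_
      have := PushRat.ratEquiv_map p hX hY hp k a.1 0 (by rw [Cyc.RatEquiv, sub_zero]; exact h0)
      rwa [map_zero, Cyc.RatEquiv, sub_zero] at this

theorem push_cl (hX : Cyc.IsSetup X δ) (hY : Cyc.IsSetup Y δY) (hp : Cyc.DeltaCompat p δ δY) (k : ℤ) (a : AlgebraicCycle X ℤ) (ha : a ∈ Cyc.Zk X δ k) :
    push p hX hY hp k (ChowOps.cl a ha) = ChowOps.cl (AlgebraicCycle.map p δ δY a) (map_mem p a ha) := rfl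

end push

section pull

variable {δY : Y → ℤ} (f : X ⟶ Y) [Flat f]

theorem pullFun_add (r : ℤ) (a b : Y → ℤ) :
    Cyc.pullFun f δ δY r (a + b) = Cyc.pullFun f δ δY r a + Cyc.pullFun f δ δY r b := by
  funext x
  simp only [Cyc.pullFun, Pi.add_apply]
  split_ifs
  · exact add_mul _ _ _
  · simp

variable (hX : Cyc.IsSetup X δ) (hY : Cyc.IsSetup Y δY) {r : ℤ} (hr : FlatRat.MaxDim f δ δY r)

/-- The cycle representing the flat pullback. -/
def pullRep {j : ℤ} (h : k = j + r) (a : ↥(ChowOps.zk Y δY j)) : ↥(ChowOps.zk X δ k) :=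
  haveI := hX.1
  haveI := hY.1
  ⟨(C1Api.exists_pullFun_cycle f hX hY hr j a.1 a.2).choose,
    h ▸ (C1Api.exists_pullFun_cycle f hX hY hr j a.1 a.2).choose_spec.2⟩

theorem pullRep_coe {j : ℤ} (h : k = j + r) (a : ↥(ChowOps.zk Y δY j)) :
    ⇑(pullRep f hX hY hr h a).1 = Cyc.pullFun f δ δY r ⇑a.1 :=
  haveI := hX.1
  haveI := hY.1
  (C1Api.exists_pullFun_cycle f hX hY hr j a.1 a.2).choose_spec.1

/-- Flat pullback on Chow groups. -/
def pull {j : ℤ} (h : k = j + r) : ChowOps.CH Y δY j →+ ChowOps.CH X δ k :=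
  QuotientAddGroup.lift (ChowOps.ratTriv Y δY j)
    ((ChowOps.clHom X δ k).comp (AddMonoidHom.mk' (pullRep f hX hY hr h) fun a b => by
      refine Subtype.ext (DFunLike.coe_injective ?_)
      rw [pullRep_coe]
      show Cyc.pullFun f δ δY r (⇑a.1 + ⇑b.1) = ⇑(pullRep f hX hY hr h a).1 + ⇑(pullRep f hX hY hr h b).1
      rw [pullRep_coe, pullRep_coe, pullFun_add]))
    fun a ha => by
      haveI := hX.1
      haveI := hY.1
      have h0 := (mem_ratTriv_iff a).mp ha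
      refine (cl_eq_zero_iff (pullRep f hX hY hr h a).2).mpr ?_
      have := FlatRat.ratEquiv_pullFun f hX hY hr j a.1 0 (by rw [Cyc.RatEquiv, sub_zero]; exact h0)
        (pullRep f hX hY hr h a).1 0 (pullRep_coe f hX hY hr h a)
        (funext fun x => by simp [Cyc.pullFun])
      rw [Cyc.RatEquiv, sub_zero, ← h] at this
      exact this

theorem pull_cl {j : ℤ} (h : k = j + r) (a : AlgebraicCycle Y ℤ) (ha : a ∈ Cyc.Zk Y δY j)
    (b : AlgebraicCycle X ℤ) (hb : b ∈ Cyc.Zk X δ k) (hfun : ⇑b = Cyc.pullFun f δ δY r ⇑a) :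
    pull f hX hY hr h (ChowOps.cl a ha) = ChowOps.cl b hb :=
  cl_congr (pullRep f hX hY hr h ⟨a, ha⟩).2 hb ((pullRep_coe f hX hY hr h ⟨a, ha⟩).trans hfun.symm)

end pull

end Groth.Agent.H3Cyc.Chow
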