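import Groth.Agent.H29Blow.IdealMod
import Groth.Agent.H17.PrinOmega
import Groth.Agent.H06Mod.StalkExact
import Groth.Agent.H06EGA9.StructureStalk
import Groth.Agent.H10Coh.Support
import Mathlib

/-!
# The ideal of denominators of a rational function and the two maps to the structure sheaf
-/

set_option autoImplicit false
set_option linter.style.haveILetI false
universe u

open AlgebraicGeometry CategoryTheory CategoryTheory.Limits TopologicalSpace Opposite

namespace Groth.Agent.H3Cyc.Colon

variable {X : Scheme.{u}} [IsIntegral X]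

theorem mem_generic {U : X.Opens} {x : X} (hx : x ∈ U) : genericPoint X ∈ U :=
  (genericPoint_specializes x).mem_open U.2 hx

/-- The germ at the generic point. -/
noncomputable abbrev gη {U : X.Opens} (hη : genericPoint X ∈ U) : Γ(X, U) →+* X.functionField :=
  (X.presheaf.germ U (genericPoint X) hη).hom

theorem gη_injective {U : X.Opens} (hη : genericPoint X ∈ U) : Function.Injective (gη hη) :=
  germ_injective_of_isIntegral X (genericPoint X) hη

theorem gη_res {U V : X.Opens} (h : V ≤ U) (hη : genericPoint X ∈ V) (r : Γ(X, U)) :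
    gη hη (X.presheaf.map (homOfLE h).op r) = gη (h hη) r :=
  X.presheaf.germ_res_apply _ _ _ r

variable (g : X.functionField)

/-- The denominators of `g` over an open. -/
def colon (U : X.Opens) : Ideal Γ(X, U) where
  carrier := {s | ∃ r, ∀ hη : genericPoint X ∈ U, gη hη r = gη hη s * g}
  add_mem' := by
    rintro a b ⟨r, hr⟩ ⟨r', hr'⟩
    exact ⟨r + r', fun hη => by rw [map_add, map_add, hr, hr', add_mul]⟩
  zero_mem' := ⟨0, fun hη => by rw [map_zero, zero_mul]⟩
  smul_mem' := by
    rintro c a ⟨r, hr⟩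
    exact ⟨c * r, fun hη => by rw [smul_eq_mul, map_mul, map_mul, hr, mul_assoc]⟩

theorem colon_map (U : X.affineOpens) (f : Γ(X, U.1)) :
    (colon g U.1).map (X.presheaf.map (homOfLE (X.basicOpen_le f)).op).hom = colon g (X.basicOpen f) := by
  refine le_antisymm (Ideal.map_le_iff_le_comap.mpr ?_) ?_
  · rintro s ⟨r, hr⟩
    exact ⟨X.presheaf.map (homOfLE (X.basicOpen_le f)).op r, fun hη => by rw [gη_res, gη_res, hr]⟩
  · rintro t ⟨r, hr⟩
    by_cases hη : genericPoint X ∈ X.basicOpen f
    swap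
    · have he : X.basicOpen f = ⊥ := le_bot_iff.mp fun z hz => absurd (mem_generic hz) hη
      have : Subsingleton Γ(X, X.basicOpen f) := by
        rw [he]
        exact CommRingCat.subsingleton_of_isTerminal X.sheaf.isTerminalOfEmpty
      rw [Subsingleton.elim t 0]
      exact Ideal.zero_mem _
    haveI := U.2.isLocalization_basicOpen f
    letI := (X.presheaf.map (homOfLE (X.basicOpen_le f)).op).hom.toAlgebra
    obtain ⟨⟨s, ⟨_, n, rfl⟩⟩, hs⟩ := IsLocalization.surj (Submonoid.powers f) t
    obtain ⟨⟨r₀, ⟨_, m, rfl⟩⟩, hr₀⟩ := IsLocalization.surj (Submonoid.powers f) r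
    have hu : IsUnit (algebraMap Γ(X, U.1) Γ(X, X.basicOpen f) (f ^ m * f ^ n)) := by
      rw [← pow_add]
      exact IsLocalization.map_units Γ(X, X.basicOpen f) (⟨f ^ (m + n), m + n, rfl⟩ : Submonoid.powers f)
    have hmem : f ^ m * s ∈ colon g U.1 := by
      refine ⟨f ^ n * r₀, fun hηU => ?_⟩
      have h1 : ∀ z, gη hηU z = gη hη (algebraMap Γ(X, U.1) Γ(X, X.basicOpen f) z) := fun z =>
        (gη_res (X.basicOpen_le f) hη z).symm
      simp only [h1, map_mul, ← hs, ← hr₀, hr hη]
      ring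
    have h2 := Ideal.mem_map_of_mem (X.presheaf.map (homOfLE (X.basicOpen_le f)).op).hom hmem
    refine (Ideal.unit_mul_mem_iff_mem _ hu).mp ?_
    convert h2 using 1
    show algebraMap _ _ _ * t = algebraMap Γ(X, U.1) Γ(X, X.basicOpen f) (f ^ m * s)
    rw [map_mul, map_mul, ← hs]
    ring

/-- The ideal sheaf of denominators. -/
noncomputable def colonSheaf : X.IdealSheafData where
  ideal U := colon g U.1
  map_ideal_basicOpen U f := colon_map g U f

/-- A nonempty affine open where `g` is a fraction. -/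
theorem exists_frac_mem {U : X.Opens} (hU : IsAffineOpen U) (hη : genericPoint X ∈ U) :
    ∃ a b : Γ(X, U), gη hη b ≠ 0 ∧ gη hη a = gη hη b * g ∧ b ∈ colon g U := by
  haveI : Nonempty U := ⟨⟨_, hη⟩⟩
  haveI := functionField_isFractionRing_of_isAffineOpen X U hU
  obtain ⟨a, b, hb, hab⟩ := IsFractionRing.div_surjective Γ(X, U) g
  have hb0 : gη hη b ≠ 0 := fun e => nonZeroDivisors.ne_zero hb (gη_injective hη (e.trans (map_zero _).symm))
  have h : gη hη a = gη hη b * g := by
    rw [← hab, mul_div_assoc']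
    exact (mul_div_cancel_left₀ (gη hη a) hb0).symm
  exact ⟨a, b, hb0, h, a, fun _ => h⟩

/-- The opens we glue over. -/
abbrev Bs (U : X.Opens) : Prop := IsAffineOpen U ∧ genericPoint X ∈ U

/-- Multiplication by `g`, from the ideal of denominators to the structure sheaf. -/
theorem exists_mulHom : ∃ β : ClSub.idealMod (colonSheaf g) ⟶ Coh.structureModule X,
    ∀ (U : X.Opens) (h : Bs U) (m : Γ(ClSub.idealMod (colonSheaf g), U)),
      gη h.2 (OmegaSh.fnSect X U (β.app U m)) = gη h.2 (OmegaSh.idealSect (colonSheaf g) U m) * g := by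
  have hmem : ∀ (U : X.Opens) (h : Bs U) (m : Γ(ClSub.idealMod (colonSheaf g), U)),
      ∃ r : Γ(X, U), gη h.2 r = gη h.2 (OmegaSh.idealSect (colonSheaf g) U m) * g := fun U h m => by
    obtain ⟨r, hr⟩ := (H29Blow.mem_ideal_iff_exists_idealSect (colonSheaf g) h.1 _).mpr ⟨m, rfl⟩
    exact ⟨r, hr h.2⟩
  choose r hr using hmem
  let ν : ∀ U, Bs U → Γ(ClSub.idealMod (colonSheaf g), U) →ₗ[Γ(X, U)] Γ(Coh.structureModule X, U) := fun U h =>
    { toFun := fun m => OmegaSh.strSect X U (r U h m)
      map_add' := fun m m' => by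
        refine Eq.trans (congrArg (OmegaSh.strSect X U) (gη_injective h.2 ?_)) (map_add (OmegaSh.strSect X U) _ _)
        simp only [map_add, hr, add_mul]
      map_smul' := fun c m => by
        refine Eq.trans (congrArg (OmegaSh.strSect X U) (gη_injective h.2 (a₂ := c * r U h m) ?_)) rfl
        simp only [map_mul, hr, H29Blow.idealSect_smul, mul_assoc] }
  obtain ⟨β, hβ⟩ := H17.PrinOmega.exists_hom_of_basis (ClSub.idealMod (colonSheaf g)) (Coh.structureModule X) Bs
    (fun W x hx => by
      obtain ⟨U, hU, hxU, hUW⟩ := exists_isAffineOpen_mem_and_subset (U := W) hx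
      exact ⟨U, ⟨hU, mem_generic hxU⟩, hxU, hUW⟩) ν
    (fun U U' h h' e s => by
      show (r U' h' _ : Γ(X, U')) = X.presheaf.map (homOfLE e).op (r U h s)
      refine gη_injective h'.2 ?_
      rw [hr, gη_res, hr, H29Blow.idealSect_res, gη_res])
  refine ⟨β, fun U h m => ?_⟩
  rw [hβ U h m]
  exact hr U h m

variable {g}

theorem mono_mulHom (hg : g ≠ 0) {β : ClSub.idealMod (colonSheaf g) ⟶ Coh.structureModule X}
    (hβ : ∀ (U : X.Opens) (h : Bs U) (m : Γ(ClSub.idealMod (colonSheaf g), U)),
      gη h.2 (OmegaSh.fnSect X U (β.app U m)) = gη h.2 (OmegaSh.idealSect (colonSheaf g) U m) * g) : Mono β := by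
  refine Preadditive.mono_of_cancel_zero β fun {T} k hk => ?_
  refine Scheme.Modules.hom_ext _ _ fun W => ?_
  ext t
  refine H11Tilde.eq_of_locally _ _ fun x hx => ?_
  obtain ⟨U, hU, hxU, hUW⟩ := exists_isAffineOpen_mem_and_subset hx
  refine ⟨U, hUW, hxU, ?_⟩
  refine (H11Tilde.app_map_apply k (show U ≤ W from hUW) t).symm.trans
    (Eq.trans ?_ (H11Tilde.app_map_apply (0 : T ⟶ ClSub.idealMod (colonSheaf g)) (show U ≤ W from hUW) t))
  refine Eq.trans ?_ (show (0 : Γ(ClSub.idealMod (colonSheaf g), U)) = (0 : T ⟶ ClSub.idealMod (colonSheaf g)).app U _ from rfl)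
  refine H29Blow.idealSect_injective _ U (gη_injective (mem_generic hxU) ?_)
  rw [map_zero, map_zero]
  have h := hβ U ⟨hU, mem_generic hxU⟩ (k.app U (T.presheaf.map (homOfLE (show U ≤ W from hUW)).op t))
  rw [show β.app U (k.app U (T.presheaf.map (homOfLE (show U ≤ W from hUW)).op t)) = 0 from
    (show (k ≫ β).app U _ = 0 by rw [hk]; rfl), map_zero, map_zero] at h
  exact (mul_eq_zero.mp h.symm).resolve_right hg

section stalk

variable {M : X.Modules}

/-- The values of a map to the structure sheaf, as an ideal of a local ring. -/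
noncomputable def vals (μ : M ⟶ Coh.structureModule X) (x : X) : Ideal (X.presheaf.stalk x) :=
  (LinearMap.range (H06Mod.stalkLin μ x)).comap
    (LinearMap.toSpanSingleton (X.presheaf.stalk x) _ (H06EGA9.oneStalk x))

theorem mem_vals_iff (μ : M ⟶ Coh.structureModule X) (x : X) (z : X.presheaf.stalk x) :
    z ∈ vals μ x ↔ ∃ (U : X.Opens) (hx : x ∈ U) (_ : IsAffineOpen U) (m : Γ(M, U)),
      X.presheaf.germ U x hx (OmegaSh.fnSect X U (μ.app U m)) = z := by
  constructor
  · rintro ⟨a, ha⟩
    obtain ⟨U, hx, m, rfl⟩ := M.presheaf.exists_germ_eq a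
    obtain ⟨V, hV, hxV, hVU⟩ := exists_isAffineOpen_mem_and_subset (U := U) hx
    refine ⟨V, hxV, hV, M.presheaf.map (homOfLE (show V ≤ U from hVU)).op m,
      (H06EGA9.bijective_smul_oneStalk x).1 ?_⟩
    refine (H06EGA9.smul_oneStalk x V hxV _).trans (Eq.trans ?_ ha)
    rw [← M.presheaf.germ_res_apply (homOfLE (show V ≤ U from hVU)) x hxV m, H06Mod.stalkLin_germ]
    rfl
  · rintro ⟨U, hx, -, m, rfl⟩
    refine ⟨M.presheaf.germ U x hx m, ?_⟩
    rw [H06Mod.stalkLin_germ]
    exact (H06EGA9.smul_oneStalk x U hx _).symm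

/-- The stalk of the cokernel is the local ring modulo the values. -/
theorem exists_equiv_vals (μ : M ⟶ Coh.structureModule X) [Mono μ] (x : X) :
    Nonempty ((X.presheaf.stalk x ⧸ vals μ x) ≃ₗ[X.presheaf.stalk x] (cokernel μ).presheaf.stalk x) := by
  let S := ShortComplex.mk μ (cokernel.π μ) (cokernel.condition μ)
  have hS : S.ShortExact := { exact := ShortComplex.exact_cokernel μ }
  let l := (H06Mod.stalkLin (cokernel.π μ) x).comp
    (LinearMap.toSpanSingleton (X.presheaf.stalk x) _ (H06EGA9.oneStalk x))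
  have hl : Function.Surjective l :=
    (H06Mod.stalk_surjective S hS x).comp (H06EGA9.bijective_smul_oneStalk x).2
  have hk : vals μ x = LinearMap.ker l := by
    ext z
    exact ((H06Mod.stalk_exact S hS x) _).symm
  exact ⟨(Submodule.quotEquivOfEq _ _ hk).trans (l.quotKerEquivOfSurjective hl)⟩

end stalk

theorem algebraMap_germ {U : X.Opens} {x : X} (hx : x ∈ U) (r : Γ(X, U)) :
    algebraMap (X.presheaf.stalk x) X.functionField (X.presheaf.germ U x hx r) = gη (mem_generic hx) r :=
  X.presheaf.germ_stalkSpecializes_apply hx (genericPoint_specializes x) r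

/-- The values of `g ·` are `g` times those of the inclusion. -/
theorem mem_vals_mulHom_iff {β : ClSub.idealMod (colonSheaf g) ⟶ Coh.structureModule X}
    (hβ : ∀ (U : X.Opens) (h : Bs U) (m : Γ(ClSub.idealMod (colonSheaf g), U)),
      gη h.2 (OmegaSh.fnSect X U (β.app U m)) = gη h.2 (OmegaSh.idealSect (colonSheaf g) U m) * g)
    (x : X) (z : X.presheaf.stalk x) : z ∈ vals β x ↔ ∃ w ∈ vals (ClSub.idealModι (colonSheaf g)) x,
      algebraMap _ X.functionField z = algebraMap _ X.functionField w * g := by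
  constructor
  · intro hz
    obtain ⟨U, hx, hU, m, rfl⟩ := (mem_vals_iff β x z).mp hz
    refine ⟨_, (mem_vals_iff _ x _).mpr ⟨U, hx, hU, m, rfl⟩, ?_⟩
    rw [algebraMap_germ, algebraMap_germ]
    exact hβ U ⟨hU, mem_generic hx⟩ m
  · rintro ⟨w, hw, hzw⟩
    obtain ⟨U, hx, hU, m, rfl⟩ := (mem_vals_iff _ x w).mp hw
    refine (mem_vals_iff β x z).mpr ⟨U, hx, hU, m, IsFractionRing.injective (X.presheaf.stalk x) X.functionField ?_⟩
    rw [hzw, algebraMap_germ, algebraMap_germ]
    exact hβ U ⟨hU, mem_generic hx⟩ m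

/-- Denominators give values of the inclusion. -/
theorem germ_mem_vals {U : X.Opens} (hU : IsAffineOpen U) {x : X} (hx : x ∈ U) {b : Γ(X, U)}
    (hb : b ∈ colon g U) : X.presheaf.germ U x hx b ∈ vals (ClSub.idealModι (colonSheaf g)) x := by
  obtain ⟨m, hm⟩ := (H29Blow.mem_ideal_iff_exists_idealSect (colonSheaf g) hU b).mp hb
  exact (mem_vals_iff _ x _).mpr ⟨U, hx, hU, m, congrArg _ hm⟩

/-- Values of the inclusion times `g` are in the local ring. -/
theorem exists_of_mem_vals {x : X} {w : X.presheaf.stalk x}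
    (hw : w ∈ vals (ClSub.idealModι (colonSheaf g)) x) :
    ∃ z : X.presheaf.stalk x, algebraMap _ X.functionField z = algebraMap _ X.functionField w * g := by
  obtain ⟨U, hx, hU, m, rfl⟩ := (mem_vals_iff _ x w).mp hw
  obtain ⟨r, hr⟩ := (H29Blow.mem_ideal_iff_exists_idealSect (colonSheaf g) hU _).mpr ⟨m, rfl⟩
  exact ⟨X.presheaf.germ U x hx r, by
    rw [algebraMap_germ, algebraMap_germ]
    exact hr (mem_generic hx)⟩

end Groth.Agent.H3Cyc.Colon
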