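import Groth.Agent.H3Cyc.CommLocal
import Groth.Agent.H3Cyc.RatRel
import Mathlib

/-!
# Commutativity of `c₁` on an integral scheme
-/

set_option autoImplicit false
set_option linter.style.haveILetI false
set_option linter.unusedSectionVars false
universe u

open AlgebraicGeometry CategoryTheory IsLocalRing
open Groth.Agent.H11Tilde (IsGen)

namespace Groth.Agent.H3Cyc.Comm

open C1Api TameSch CommLocal

variable {X : Scheme.{u}} [IsIntegral X] [IsLocallyNoetherian X] {δ : X → ℤ} {n : ℤ}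

/-- The divisor of a rational section, as a cycle. -/
theorem exists_secDiv_cycle (hδ : Cyc.IsDimFun X δ) (hn : δ (genericPoint X) = n) {L : X.Modules}
    (hL : PicF.IsInvertible L) {s : Cyc.secFibre L (genericPoint X)} (hs : s ≠ 0) :
    ∃ α : AlgebraicCycle X ℤ, ⇑α = Cyc.secDivFun δ L (genericPoint X) s ∧ α ∈ Cyc.Zk X δ (n - 1) := by
  refine ⟨⟨Cyc.secDivFun δ L (genericPoint X) s, by simp, fun x _ => ?_⟩, rfl, fun x hx => ?_⟩
  · obtain ⟨V, e, hxV, he⟩ := H11Ample.exists_gen hL x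
    obtain ⟨W, hW, hxW, hWV⟩ := exists_isAffineOpen_mem_and_subset (U := V) (x := x) hxV
    have hη : genericPoint X ∈ W := (genericPoint_specializes x).mem_open W.2 hxW
    obtain ⟨φ, hφ⟩ := exists_smul_fib he (hWV hη) s
    have hφ0 : φ ≠ 0 := by rintro rfl; exact hs (hφ.trans (zero_smul _ _))
    refine ⟨W, W.2.mem_nhds hxW, (H22Alg.CycDiv.finite_divFun_inter hδ (genericPoint X)
      (f := X.residue _ φ) (fun e => hφ0 (residue_injective (e.trans (map_zero _).symm))) hW).subset ?_⟩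
    rintro z ⟨hzW, hz⟩
    refine ⟨hzW, ?_⟩
    rw [Function.mem_support, secDiv_generic he hφ0 hφ (hWV hzW)] at hz
    exact hz
  · show Cyc.secDivFun δ L (genericPoint X) s x = 0
    rw [Cyc.secDivFun, dif_neg fun hh => hx (by have := hh.2; omega)]

/-- A cycle `c₁(N) ∩ div(s)` only meets the codimension one points. -/
theorem c1Cap_secDiv_eq (hn : δ (genericPoint X) = n) {L N : X.Modules} (s : Cyc.secFibre L (genericPoint X))
    (u : (z : X) → Cyc.secFibre N z) (x : X) :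
    Cyc.c1CapFun δ N (Cyc.secDivFun δ L (genericPoint X) s) u x =
      ∑ᶠ z ∈ {z : X | δ z = n - 1}, Cyc.secDivFun δ L (genericPoint X) s z * Cyc.secDivFun δ N z (u z) x := by
  rw [Cyc.c1CapFun, ← finsum_mem_univ]
  refine finsum_mem_inter_support_eq' _ Set.univ _ fun z hz => ⟨fun _ => ?_, fun _ => trivial⟩
  by_contra hne
  refine left_ne_zero_of_mul (Function.mem_support.mp hz) ?_
  rw [Cyc.secDivFun, dif_neg fun hh => hne (show δ z = n - 1 by have := hh.2; omega)]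

/-- The difference of the two composites for given local coordinates is rationally trivial. -/
theorem ratEquiv_coord (hδ : Cyc.IsDimFun X δ) (hn : δ (genericPoint X) = n) {L N : X.Modules}
    (hL : PicF.IsInvertible L) (hN : PicF.IsInvertible N) {s : Cyc.secFibre L (genericPoint X)} (hs : s ≠ 0)
    {t : Cyc.secFibre N (genericPoint X)} (ht : t ≠ 0) (f g : X → X.functionField)
    (v : (z : X) → Cyc.secFibre L z) (u : (z : X) → Cyc.secFibre N z)
    (hfv : ∀ z, δ z = n - 1 → Coord L s z (f z) (v z)) (hgu : ∀ z, δ z = n - 1 → Coord N t z (g z) (u z))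
    (γ₁ γ₂ : AlgebraicCycle X ℤ) (h₁ : ⇑γ₁ = Cyc.c1CapFun δ N (Cyc.secDivFun δ L (genericPoint X) s) u)
    (h₂ : ⇑γ₂ = Cyc.c1CapFun δ L (Cyc.secDivFun δ N (genericPoint X) t) v) :
    Cyc.RatEquiv δ (n - 2) γ₁ γ₂ := by
  classical
  refine ⟨{z : X // δ z = n - 1 ∧ phi z (f z) (g z) ≠ 1}, fun z => z.1, fun z => phi z.1 (f z.1) (g z.1),
    fun z => by rw [z.2.1]; ring, fun z => TameFrac.tsym_ne_zero (ringKrullDim_stalk_eq_one hδ hn z.1 z.2.1)
      (coord_ne_zero (hfv z.1 z.2.1) hs) (coord_ne_zero (hgu z.1 z.2.1) ht), fun x => ?_, fun x => ?_⟩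
  · obtain ⟨U, hxU, hfin⟩ := locally_finite_phi hδ hn hL hN s hs t ht f g v u hfv hgu x
    refine ⟨U, U.2, hxU, (hfin.preimage Subtype.val_injective.injOn).subset ?_⟩
    rintro z ⟨w, hw, hwU⟩
    exact ⟨(specializes_iff_mem_closure.mpr hw).mem_open U.2 hwU, z.2⟩
  · show γ₁ x - γ₂ x = _
    rw [h₁, h₂, c1Cap_secDiv_eq hn, c1Cap_secDiv_eq hn, comm_identity hδ hn hL hN s hs t ht f g v u hfv hgu x]
    refine Eq.trans ?_ (finsum_set_coe_eq_finsum_mem (s := {z : X | δ z = n - 1 ∧ phi z (f z) (g z) ≠ 1})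
      (f := fun z => Cyc.divFun δ z (phi z (f z) (g z)) x)).symm
    refine finsum_mem_inter_support_eq' _ _ _ fun z hz => ⟨fun h => ⟨h, fun h1 => hz ?_⟩, fun h => h.1⟩
    beta_reduce
    rw [h1]
    simp only [Cyc.divFun]
    split_ifs with hh
    · exact ordAt_one _ _ _
    · rfl

/-- **`c₁(N) ∩ div_L(s) ∼ c₁(L) ∩ div_N(t)`.** -/
theorem c1_comm (hδ : Cyc.IsDimFun X δ) (hn : δ (genericPoint X) = n) {L N : X.Modules}
    (hL : PicF.IsInvertible L) (hN : PicF.IsInvertible N) {s : Cyc.secFibre L (genericPoint X)} (hs : s ≠ 0)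
    {t : Cyc.secFibre N (genericPoint X)} (ht : t ≠ 0)
    (u : (ξ : X) → Cyc.secFibre N ξ) (hu : ∀ ξ, u ξ ≠ 0) (v : (ξ : X) → Cyc.secFibre L ξ) (hv : ∀ ξ, v ξ ≠ 0)
    (γ₁ γ₂ : AlgebraicCycle X ℤ) (h₁ : ⇑γ₁ = Cyc.c1CapFun δ N (Cyc.secDivFun δ L (genericPoint X) s) u)
    (h₂ : ⇑γ₂ = Cyc.c1CapFun δ L (Cyc.secDivFun δ N (genericPoint X) t) v) :
    Cyc.RatEquiv δ (n - 2) γ₁ γ₂ := by
  choose f v' hfv using fun z => exists_coord hL s z
  choose g u' hgu using fun z => exists_coord hN t z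
  obtain ⟨α, hαe, hα⟩ := exists_secDiv_cycle hδ hn hL hs
  obtain ⟨β, hβe, hβ⟩ := exists_secDiv_cycle hδ hn hN ht
  have hk : n - 2 + 1 = n - 1 := by ring
  have hα' : α ∈ Cyc.Zk X δ (n - 2 + 1) := by rw [hk]; exact hα
  have hβ' : β ∈ Cyc.Zk X δ (n - 2 + 1) := by rw [hk]; exact hβ
  have hu' := fun z => coord_val_ne_zero (hgu z)
  have hv' := fun z => coord_val_ne_zero (hfv z)
  obtain ⟨c₁, hc₁, -⟩ := exists_c1Cap_cycle hδ hN (n - 2) α hα' u' hu'
  obtain ⟨c₂, hc₂, -⟩ := exists_c1Cap_cycle hδ hL (n - 2) β hβ' v' hv'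
  have e1 := RatRel.c1Cap_indep hN α hα' u u' hu hu' γ₁ c₁ (by rw [h₁, hαe]) hc₁
  have e2 := RatRel.c1Cap_indep hL β hβ' v' v hv' hv c₂ γ₂ hc₂ (by rw [h₂, hβe])
  have e3 := ratEquiv_coord hδ hn hL hN hs ht f g v' u' (fun z _ => hfv z) (fun z _ => hgu z) c₁ c₂
    (by rw [hc₁, hαe]) (by rw [hc₂, hβe])
  exact RatRel.trans e1 (RatRel.trans e3 e2)

end Groth.Agent.H3Cyc.Comm
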