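import Groth.Agent.H3Cyc.Comm
import Groth.Agent.H3Cyc.RatFam
import Mathlib

/-!
# Commutativity of `c₁` with control of the supports
-/

set_option autoImplicit false
set_option linter.style.haveILetI false
set_option linter.unusedSectionVars false
universe u

open AlgebraicGeometry CategoryTheory IsLocalRing
open Groth.Agent.H11Tilde (IsGen)

namespace Groth.Agent.H3Cyc.CommFam

open C1Api TameSch CommLocal Comm

variable {X : Scheme.{u}}

/-- Independence of the sections, with the divisors over points of `S` only. -/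
theorem ratFam_indep [IsLocallyNoetherian X] {δ : X → ℤ} {L : X.Modules} (hL : PicF.IsInvertible L) (k : ℤ) (S : Set X)
    (α : AlgebraicCycle X ℤ) (hα : α ∈ Cyc.Zk X δ (k + 1)) (u u' : (ξ : X) → Cyc.secFibre L ξ)
    (hu : ∀ ξ, u ξ ≠ 0) (hu' : ∀ ξ, u' ξ ≠ 0) (hS : ∀ ξ, ξ ∉ S → α ξ = 0 ∨ u ξ = u' ξ) :
    RatFam δ k S fun x => Cyc.c1CapFun δ L ⇑α u x - Cyc.c1CapFun δ L ⇑α u' x := by
  classical
  choose c hc0 hc using fun ξ => exists_smul_eq hL (u' ξ) (u ξ) (hu' ξ) (hu ξ)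
  refine ⟨{ξ : X // α ξ ≠ 0 ∧ u ξ ≠ u' ξ}, fun ξ => ξ.1, fun ξ => X.residue _ (c ξ.1) ^ α ξ.1,
    fun ξ => ⟨by_contra fun h => ξ.2.1 (hα _ h), by_contra fun h => (hS _ h).elim ξ.2.1 ξ.2.2⟩,
    fun ξ => zpow_ne_zero _ (hc0 _), fun x => ?_, fun x => ?_⟩
  · obtain ⟨W, hW, hxW, -⟩ := exists_isAffineOpen_mem_and_subset (show x ∈ (⊤ : X.Opens) from trivial)
    refine ⟨W, W.2, hxW, ((α.locallyFiniteSupport.finite_inter_support_of_isCompact hW.isCompact).preimage
      Subtype.val_injective.injOn).subset ?_⟩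
    rintro ξ ⟨z, hz, hzW⟩
    exact ⟨(specializes_iff_mem_closure.mpr hz).mem_open W.2 hzW, ξ.2.1⟩
  · simp only [Cyc.c1CapFun]
    rw [← finsum_sub_distrib (finite_support_term α x _ fun ξ h => secDivFun_ne_zero h)
      (finite_support_term α x _ fun ξ h => secDivFun_ne_zero h)]
    simp only [divFun_zpow δ _ (hc0 _)]
    refine Eq.trans ?_ (finsum_set_coe_eq_finsum_mem (s := {ξ : X | α ξ ≠ 0 ∧ u ξ ≠ u' ξ})
      (f := fun ξ => α ξ * Cyc.divFun δ ξ (X.residue ξ (c ξ)) x)).symm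
    have key : ∀ ξ, α ξ * Cyc.secDivFun δ L ξ (u ξ) x - α ξ * Cyc.secDivFun δ L ξ (u' ξ) x =
        α ξ * Cyc.divFun δ ξ (X.residue ξ (c ξ)) x := fun ξ => by
      rw [hc ξ, secDivFun_smul hL δ (c ξ) (hc0 ξ) (u' ξ) (hu' ξ)]
      ring
    rw [finsum_congr key, ← finsum_mem_univ]
    refine finsum_mem_inter_support_eq' _ _ _ fun ξ hξ => ⟨fun _ => ⟨left_ne_zero_of_mul hξ, fun e => hξ ?_⟩, fun _ => trivial⟩
    beta_reduce
    rw [← key ξ, e, sub_self]

variable [IsIntegral X] [IsLocallyNoetherian X] {δ : X → ℤ} {n : ℤ}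

theorem secDiv_eq_zero_of_coord_one {L : X.Modules} {s : Cyc.secFibre L (genericPoint X)} {z : X}
    {v : Cyc.secFibre L z} (h : Coord L s z 1 v) : Cyc.secDivFun δ L (genericPoint X) s z = 0 := by
  obtain ⟨V, e, he, hz, hη, -, hs⟩ := h
  rw [secDiv_generic he one_ne_zero hs hz, map_one]
  simp only [Cyc.divFun]
  split_ifs with hh
  · exact ordAt_one _ _ _
  · rfl

theorem phi_one_left (hδ : Cyc.IsDimFun X δ) (hn : δ (genericPoint X) = n) {z : X} (hz : δ z = n - 1)
    {g : X.functionField} (hg : g ≠ 0) : phi z 1 g = 1 := by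
  have hdim := ringKrullDim_stalk_eq_one hδ hn z hz
  obtain ⟨c, d, hc, hd, h⟩ := TameFrac.exists_frac (A := X.presheaf.stalk z) hg
  show TameFrac.tsym (X.presheaf.stalk z) (1 : X.functionField) g = 1
  rw [← map_one (algebraMap (X.presheaf.stalk z) X.functionField), TameFrac.tsym_unit_left hdim isUnit_one hc hd h,
    map_one, one_zpow]

theorem phi_one_right (hδ : Cyc.IsDimFun X δ) (hn : δ (genericPoint X) = n) {z : X} (hz : δ z = n - 1)
    {f : X.functionField} (hf : f ≠ 0) : phi z f 1 = 1 := by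
  have hdim := ringKrullDim_stalk_eq_one hδ hn z hz
  obtain ⟨a, b, ha, hb, h⟩ := TameFrac.exists_frac (A := X.presheaf.stalk z) hf
  show TameFrac.tsym (X.presheaf.stalk z) f (1 : X.functionField) = 1
  rw [← map_one (algebraMap (X.presheaf.stalk z) X.functionField), TameFrac.tsym_unit_right hdim isUnit_one ha hb h,
    map_one, one_zpow]

/-- **Commutativity, with supports.** -/
theorem comm_fam (hδ : Cyc.IsDimFun X δ) (hn : δ (genericPoint X) = n) {L N : X.Modules}
    (hL : PicF.IsInvertible L) (hN : PicF.IsInvertible N) {s : Cyc.secFibre L (genericPoint X)} (hs : s ≠ 0)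
    {t : Cyc.secFibre N (genericPoint X)} (ht : t ≠ 0)
    (u : (ξ : X) → Cyc.secFibre N ξ) (hu : ∀ ξ, u ξ ≠ 0) (v : (ξ : X) → Cyc.secFibre L ξ) (hv : ∀ ξ, v ξ ≠ 0)
    (S : Set X) (hS : ∀ z, z ∉ S → δ z = n - 1 → Coord L s z 1 (v z) ∨ Coord N t z 1 (u z)) :
    RatFam δ (n - 2) S fun x => Cyc.c1CapFun δ N (Cyc.secDivFun δ L (genericPoint X) s) u x -
      Cyc.c1CapFun δ L (Cyc.secDivFun δ N (genericPoint X) t) v x := by
  classical
  have exL : ∀ z, ∃ f v', Coord L s z f v' ∧ (Coord L s z 1 (v z) → f = 1 ∧ v' = v z) := fun z => by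
    by_cases h : Coord L s z 1 (v z)
    · exact ⟨1, v z, h, fun _ => ⟨rfl, rfl⟩⟩
    · obtain ⟨f, v', h'⟩ := exists_coord hL s z
      exact ⟨f, v', h', fun h'' => (h h'').elim⟩
  have exN : ∀ z, ∃ g u', Coord N t z g u' ∧ (Coord N t z 1 (u z) → g = 1 ∧ u' = u z) := fun z => by
    by_cases h : Coord N t z 1 (u z)
    · exact ⟨1, u z, h, fun _ => ⟨rfl, rfl⟩⟩
    · obtain ⟨f, v', h'⟩ := exists_coord hN t z
      exact ⟨f, v', h', fun h'' => (h h'').elim⟩
  choose f v' hfv hfv1 using exL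
  choose g u' hgu hgu1 using exN
  obtain ⟨α, hαe, hα⟩ := exists_secDiv_cycle hδ hn hL hs
  obtain ⟨β, hβe, hβ⟩ := exists_secDiv_cycle hδ hn hN ht
  have hk : n - 2 + 1 = n - 1 := by ring
  have hα' : α ∈ Cyc.Zk X δ (n - 2 + 1) := by rw [hk]; exact hα
  have hβ' : β ∈ Cyc.Zk X δ (n - 2 + 1) := by rw [hk]; exact hβ
  have e1 := ratFam_indep hN (n - 2) S α hα' u u' hu (fun z => coord_val_ne_zero (hgu z)) fun z hz => by
    by_cases h : α z = 0
    · exact Or.inl h
    · have hzn : δ z = n - 1 := by_contra fun h' => h (hα z h')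
      rcases hS z hz hzn with h1 | h1
      · exact Or.inl (by rw [hαe]; exact secDiv_eq_zero_of_coord_one h1)
      · exact Or.inr (hgu1 z h1).2.symm
  have e2 := ratFam_indep hL (n - 2) S β hβ' v' v (fun z => coord_val_ne_zero (hfv z)) hv fun z hz => by
    by_cases h : β z = 0
    · exact Or.inl h
    · have hzn : δ z = n - 1 := by_contra fun h' => h (hβ z h')
      rcases hS z hz hzn with h1 | h1
      · exact Or.inr (hfv1 z h1).2
      · exact Or.inl (by rw [hβe]; exact secDiv_eq_zero_of_coord_one h1)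
  have hcoord : RatFam δ (n - 2) S fun x => Cyc.c1CapFun δ N (Cyc.secDivFun δ L (genericPoint X) s) u' x -
      Cyc.c1CapFun δ L (Cyc.secDivFun δ N (genericPoint X) t) v' x := by
    refine ⟨{z : X // δ z = n - 1 ∧ phi z (f z) (g z) ≠ 1}, fun z => z.1, fun z => phi z.1 (f z.1) (g z.1),
      fun z => ⟨by rw [z.2.1]; ring, by_contra fun hz => z.2.2 ?_⟩,
      fun z => TameFrac.tsym_ne_zero (ringKrullDim_stalk_eq_one hδ hn z.1 z.2.1)
      (coord_ne_zero (hfv z.1) hs) (coord_ne_zero (hgu z.1) ht), fun x => ?_, fun x => ?_⟩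
    · rcases hS z.1 hz z.2.1 with h1 | h1
      · rw [(hfv1 z.1 h1).1]
        exact phi_one_left hδ hn z.2.1 (coord_ne_zero (hgu z.1) ht)
      · rw [(hgu1 z.1 h1).1]
        exact phi_one_right hδ hn z.2.1 (coord_ne_zero (hfv z.1) hs)
    · obtain ⟨U, hxU, hfin⟩ := locally_finite_phi hδ hn hL hN s hs t ht f g v' u' (fun z _ => hfv z) (fun z _ => hgu z) x
      refine ⟨U, U.2, hxU, (hfin.preimage Subtype.val_injective.injOn).subset ?_⟩
      rintro z ⟨w, hw, hwU⟩
      exact ⟨(specializes_iff_mem_closure.mpr hw).mem_open U.2 hwU, z.2⟩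
    · beta_reduce
      rw [c1Cap_secDiv_eq hn, c1Cap_secDiv_eq hn,
        comm_identity hδ hn hL hN s hs t ht f g v' u' (fun z _ => hfv z) (fun z _ => hgu z) x]
      refine Eq.trans ?_ (finsum_set_coe_eq_finsum_mem (s := {z : X | δ z = n - 1 ∧ phi z (f z) (g z) ≠ 1})
        (f := fun z => Cyc.divFun δ z (phi z (f z) (g z)) x)).symm
      refine finsum_mem_inter_support_eq' _ _ _ fun z hz => ⟨fun h => ⟨h, fun h1 => hz ?_⟩, fun h => h.1⟩
      beta_reduce
      rw [h1]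
      simp only [Cyc.divFun]
      split_ifs with hh
      · exact ordAt_one _ _ _
      · rfl
  refine (RatFam.add (RatFam.add e1 hcoord) e2).congr fun x => ?_
  rw [hαe, hβe]
  ring

end Groth.Agent.H3Cyc.CommFam
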