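import Groth.Agent.H3Cyc.TameSch
import Mathlib

/-!
# Two invertible modules on an integral scheme: the commutation identity
-/

set_option autoImplicit false
set_option linter.style.haveILetI false
set_option linter.unusedSectionVars false
universe u

open AlgebraicGeometry CategoryTheory IsLocalRing
open Groth.Agent.H11Tilde (IsGen)
open scoped nonZeroDivisors

namespace Groth.Agent.H3Cyc.CommLocal

open C1Api TameSch

variable {X : Scheme.{u}} [IsIntegral X] [IsLocallyNoetherian X]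

/-- Coordinates of a rational section `s` at `z`: `v` is the value of a local generator at `z` and `f` the
coefficient of `s` on it. -/
def Coord (L : X.Modules) (s : Cyc.secFibre L (genericPoint X)) (z : X) (f : X.functionField)
    (v : Cyc.secFibre L z) : Prop :=
  ∃ (V : X.Opens) (e : Γ(L, V)) (_ : IsGen L e) (hz : z ∈ V) (hη : genericPoint X ∈ V),
    v = fib L z hz e ∧ s = f • fib L (genericPoint X) hη e

theorem exists_coord {L : X.Modules} (hL : PicF.IsInvertible L) (s : Cyc.secFibre L (genericPoint X)) (z : X) :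
    ∃ f v, Coord L s z f v := by
  obtain ⟨V, e, hz, he⟩ := H11Ample.exists_gen hL z
  have hη : genericPoint X ∈ V := (genericPoint_specializes z).mem_open V.2 hz
  obtain ⟨φ, hφ⟩ := exists_smul_fib he hη s
  exact ⟨φ, _, V, e, he, hz, hη, rfl, hφ⟩

theorem residue_injective : Function.Injective (X.residue (genericPoint X)).hom :=
  RingHom.injective (R := X.functionField) (X.residue (genericPoint X)).hom

theorem coord_ne_zero {L : X.Modules} {s : Cyc.secFibre L (genericPoint X)} {z : X} {f : X.functionField}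
    {v : Cyc.secFibre L z} (h : Coord L s z f v) (hs : s ≠ 0) : f ≠ 0 := by
  obtain ⟨V, e, he, hz, hη, -, h⟩ := h
  rintro rfl
  exact hs (h.trans (zero_smul _ _))

theorem coord_val_ne_zero {L : X.Modules} {s : Cyc.secFibre L (genericPoint X)} {z : X} {f : X.functionField}
    {v : Cyc.secFibre L z} (h : Coord L s z f v) : v ≠ 0 := by
  obtain ⟨V, e, he, hz, hη, rfl, -⟩ := h
  have h1 := (residue_ne_zero_iff he hz 1).mpr (by rw [map_one]; exact one_ne_zero)
  rwa [one_smul] at h1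

variable {δ : X → ℤ} {n : ℤ}

theorem divFun_expand (δ : X → ℤ) (z x : X) {P Q R : X.residueField z} (hP : P ≠ 0) (hQ : Q ≠ 0) (hR : R ≠ 0)
    (m k : ℤ) :
    Cyc.divFun δ z (P * Q ^ m * R ^ k) x =
      Cyc.divFun δ z P x + (m * Cyc.divFun δ z Q x + k * Cyc.divFun δ z R x) := by
  rw [divFun_mul δ z (mul_ne_zero hP (zpow_ne_zero m hQ)) (zpow_ne_zero k hR), divFun_mul δ z hP (zpow_ne_zero m hQ),
    divFun_zpow δ z hQ, divFun_zpow δ z hR]
  ring

theorem finsum_mem_sub' {ι : Type*} {s : Set ι} {F G : ι → ℤ} (hF : (s ∩ Function.support F).Finite)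
    (hG : (s ∩ Function.support G).Finite) :
    ∑ᶠ i ∈ s, (F i - G i) = ∑ᶠ i ∈ s, F i - ∑ᶠ i ∈ s, G i := by
  classical
  rw [finsum_mem_eq_sum_of_subset (t := hF.toFinset ∪ hG.toFinset) (fun i => F i - G i) ?_ ?_,
    finsum_mem_eq_sum_of_subset (t := hF.toFinset ∪ hG.toFinset) F ?_ ?_,
    finsum_mem_eq_sum_of_subset (t := hF.toFinset ∪ hG.toFinset) G ?_ ?_, Finset.sum_sub_distrib]
  all_goals intro i hi
  all_goals simp only [Finset.coe_union, Set.Finite.coe_toFinset, Set.mem_union, Set.mem_inter_iff, Function.mem_support] at hi ⊢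
  all_goals (try tauto)
  by_cases h : F i = 0
  · exact Or.inr ⟨hi.1, fun h' => hi.2 (by rw [h, h', sub_self])⟩
  · exact Or.inl ⟨hi.1, h⟩

theorem ord_locQuot_generic (z : X) (a : X.presheaf.stalk z) :
    Ring.ord (Cyc.LocQuot z (genericPoint X) (genericPoint_specializes z)) (Ideal.Quotient.mk _ a) =
      Ring.ord (X.presheaf.stalk z) a := by
  let e : X.presheaf.stalk z ≃+* Cyc.LocQuot z (genericPoint X) (genericPoint_specializes z) :=
    (RingEquiv.quotientBot _).symm.trans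
      (Ideal.quotEquivOfEq ((ker_eq_bot_iff z _ (genericPoint_specializes z)).mpr rfl).symm)
  have h := FlatRat.length_quot_ringEquiv e (Ideal.span {a})
  rw [Ideal.map_span, Set.image_singleton] at h
  exact h

theorem divFun_generic (hδ : Cyc.IsDimFun X δ) (hn : δ (genericPoint X) = n) (z : X) (hz : δ z = n - 1)
    (f : X.functionField) {a b : X.presheaf.stalk z} (ha : a ∈ (X.presheaf.stalk z)⁰) (hb : b ∈ (X.presheaf.stalk z)⁰)
    (hf : f * algebraMap _ X.functionField b = algebraMap _ X.functionField a) :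
    Cyc.divFun δ (genericPoint X) (X.residue _ f) z =
      ((Ring.ord (X.presheaf.stalk z) a).toNat : ℤ) - ((Ring.ord (X.presheaf.stalk z) b).toNat : ℤ) := by
  have h : genericPoint X ⤳ z := genericPoint_specializes z
  have hne : ∀ {c : X.presheaf.stalk z}, c ∈ (X.presheaf.stalk z)⁰ → Cyc.specMap z _ h c ≠ 0 := fun {c} hc e => by
    have e1 : c ∈ RingHom.ker (Cyc.specMap z (genericPoint X) h) := RingHom.mem_ker.mpr e
    rw [(ker_eq_bot_iff z _ h).mpr rfl, Submodule.mem_bot] at e1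
    exact nonZeroDivisors.ne_zero hc e1
  have hdim : ringKrullDim (Cyc.LocQuot z (genericPoint X) h) ≤ 1 :=
    (ringKrullDim_quotient_le _).trans (ringKrullDim_stalk_eq_one hδ hn z hz).le
  have hres : X.residue _ f = Cyc.specMap z _ h a / Cyc.specMap z _ h b := by
    rw [eq_div_iff (hne hb)]
    show X.residue _ f * X.residue _ (algebraMap _ X.functionField b) = X.residue _ (algebraMap _ X.functionField a)
    rw [← map_mul, hf]
  rw [Cyc.divFun, dif_pos ⟨h, by omega⟩, hres, FlatRat.ordAt_div' z _ h hdim a b (hne ha) (hne hb),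
    ord_locQuot_generic, ord_locQuot_generic]

theorem exists_trans {L : X.Modules} {s : Cyc.secFibre L (genericPoint X)} {z : X} {f : X.functionField}
    {v : Cyc.secFibre L z} (h : Coord L s z f v) {x : X} (hzx : z ⤳ x) {V₀ : X.Opens} {e₀ : Γ(L, V₀)}
    (he₀ : IsGen L e₀) (hx : x ∈ V₀) {hη₀ : genericPoint X ∈ V₀} (f₀ : X.functionField)
    (hf₀ : s = f₀ • fib L (genericPoint X) hη₀ e₀) :
    ∃ p : X.presheaf.stalk z, IsUnit p ∧ f₀ = f * algebraMap _ X.functionField p ∧
      ∀ (δ : X → ℤ), Cyc.secDivFun δ L z v x = Cyc.divFun δ z (X.residue z p) x := by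
  obtain ⟨V, e, he, hz, hη, rfl, hs⟩ := h
  have hz₀ : z ∈ V₀ := hzx.mem_open V₀.2 hx
  obtain ⟨p, hp⟩ := (he₀ z hz₀).2 (L.presheaf.germ V z hz e)
  obtain ⟨q, hq⟩ := (he z hz).2 (L.presheaf.germ V₀ z hz₀ e₀)
  simp only at hp hq
  have hpu : IsUnit p := IsUnit.of_mul_eq_one_right q ((he₀ z hz₀).1 (by
    show (q * p) • L.presheaf.germ V₀ z hz₀ e₀ = (1 : X.presheaf.stalk z) • L.presheaf.germ V₀ z hz₀ e₀
    rw [mul_smul, hp, hq, one_smul]))
  have hpη : L.presheaf.germ V (genericPoint X) hη e =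
      algebraMap (X.presheaf.stalk z) X.functionField p • L.presheaf.germ V₀ (genericPoint X) hη₀ e₀ := by
    rw [← TopCat.Presheaf.germ_stalkSpecializes_apply L.presheaf hz (genericPoint_specializes z) e, ← hp,
      stalkSpecializes_smul, TopCat.Presheaf.germ_stalkSpecializes_apply]
    rfl
  refine ⟨p, hpu, ?_, fun δ => ?_⟩
  · refine residue_injective (residue_eq_of_smul_eq he₀ hη₀ ?_)
    rw [← hf₀, hs, mul_smul]
    congr 1
    show Submodule.Quotient.mk _ = algebraMap (X.presheaf.stalk z) X.functionField p • Submodule.Quotient.mk _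
    rw [hpη, Submodule.Quotient.mk_smul]
  · rw [show fib L z hz e = p • fib L z hz₀ e₀ from by rw [fib, fib, ← hp, Submodule.Quotient.mk_smul]]
    exact secDivFun_gen he₀ δ hz₀ p (hpu.map _).ne_zero hx

theorem secDiv_generic {L : X.Modules} {s : Cyc.secFibre L (genericPoint X)} {V₀ : X.Opens} {e₀ : Γ(L, V₀)}
    (he₀ : IsGen L e₀) {hη₀ : genericPoint X ∈ V₀} {f₀ : X.functionField} (hf0 : f₀ ≠ 0)
    (hf₀ : s = f₀ • fib L (genericPoint X) hη₀ e₀) {z : X} (hz : z ∈ V₀) :
    Cyc.secDivFun δ L (genericPoint X) s z = Cyc.divFun δ (genericPoint X) (X.residue _ f₀) z := by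
  rw [hf₀]
  exact secDivFun_gen he₀ δ hη₀ f₀ (fun e => hf0 (residue_injective (e.trans (map_zero _).symm))) hz

variable (hδ : Cyc.IsDimFun X δ) (hn : δ (genericPoint X) = n)

include hδ hn

theorem finite_nonunit_sections (W : X.Opens) (hW : IsAffineOpen W) {f : X.functionField} (hf : f ≠ 0) :
    {z : X | z ∈ W ∧ δ z = n - 1 ∧ ¬ ∃ w : X.presheaf.stalk z, IsUnit w ∧ f = algebraMap _ X.functionField w}.Finite := by
  classical
  by_cases hne : (W : Set X).Nonempty
  swap
  · exact Set.Finite.subset Set.finite_empty fun z hz => (hne ⟨z, hz.1⟩).elim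
  haveI : Nonempty W := hne.to_subtype
  haveI := functionField_isFractionRing_of_isAffineOpen X W hW
  obtain ⟨a, b, hb, hab⟩ := IsFractionRing.div_surjective (A := Γ(X, W)) f
  have hinj := IsFractionRing.injective Γ(X, W) X.functionField
  have hb0 : algebraMap Γ(X, W) X.functionField b ≠ 0 := fun e =>
    nonZeroDivisors.ne_zero hb (hinj (e.trans (map_zero _).symm))
  have ha0 : algebraMap Γ(X, W) X.functionField a ≠ 0 := fun e => hf (by rw [← hab, e, zero_div])
  have hne' : ∀ {c : Γ(X, W)}, algebraMap _ X.functionField c ≠ 0 →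
      X.residue (genericPoint X) (algebraMap _ X.functionField c) ≠ 0 := fun hc e =>
    hc (residue_injective (e.trans (map_zero _).symm))
  refine ((H22Alg.CycDiv.finite_divFun_inter hδ (genericPoint X) (hne' ha0) hW).union
    (H22Alg.CycDiv.finite_divFun_inter hδ (genericPoint X) (hne' hb0) hW)).subset ?_
  rintro z ⟨hzW, hz, hu⟩
  by_contra hc
  simp only [Set.mem_union, Set.mem_inter_iff, SetLike.mem_coe, hzW, true_and, Function.mem_support, not_or, not_not] at hc
  have halg : ∀ c : Γ(X, W), algebraMap (X.presheaf.stalk z) X.functionField (X.presheaf.germ W z hzW c) =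
      algebraMap Γ(X, W) X.functionField c := fun c =>
    X.presheaf.germ_stalkSpecializes_apply hzW (genericPoint_specializes z) c
  have hunit : ∀ c : Γ(X, W), algebraMap _ X.functionField c ≠ 0 →
      Cyc.divFun δ (genericPoint X) (X.residue _ (algebraMap Γ(X, W) X.functionField c)) z = 0 →
      IsUnit (X.presheaf.germ W z hzW c) := fun c hc0 hd => by
    have hmem : X.presheaf.germ W z hzW c ∈ (X.presheaf.stalk z)⁰ :=
      mem_nonZeroDivisors_of_ne_zero fun e => hc0 (by rw [← halg, e, map_zero])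
    rw [divFun_generic hδ hn z hz _ hmem (one_mem _) (by rw [map_one, mul_one, halg]), Ring.ord_one,
      ENat.toNat_zero, Nat.cast_zero, sub_zero, Int.natCast_eq_zero, ENat.toNat_eq_zero] at hd
    haveI : Ring.KrullDimLE 1 (X.presheaf.stalk z) :=
      Ring.krullDimLE_iff.mpr (ringKrullDim_stalk_eq_one hδ hn z hz).le
    have h0 := hd.resolve_right (Ring.ord_ne_top hmem)
    rw [Ring.ord, Module.length_eq_zero_iff, Submodule.Quotient.subsingleton_iff, Ideal.span_singleton_eq_top] at h0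
    exact h0
  obtain ⟨ua, hua⟩ := hunit a ha0 hc.1
  obtain ⟨ub, hub⟩ := hunit b hb0 hc.2
  refine hu ⟨(ua * ub⁻¹ : (X.presheaf.stalk z)ˣ), Units.isUnit _, ?_⟩
  rw [← hab, div_eq_iff hb0, ← halg, ← halg, ← hua, ← hub, ← map_mul]
  simp [mul_assoc]

theorem phi_eq_one {z : X} (hz : δ z = n - 1) {f g : X.functionField}
    (hf : ∃ w : X.presheaf.stalk z, IsUnit w ∧ f = algebraMap _ X.functionField w)
    (hg : ∃ w : X.presheaf.stalk z, IsUnit w ∧ g = algebraMap _ X.functionField w) : phi z f g = 1 := by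
  obtain ⟨w, hw, rfl⟩ := hf
  obtain ⟨w', hw', rfl⟩ := hg
  exact TameFrac.tsym_units (ringKrullDim_stalk_eq_one hδ hn z hz) hw hw'

variable {L N : X.Modules} (hL : PicF.IsInvertible L) (hN : PicF.IsInvertible N)
  (s : Cyc.secFibre L (genericPoint X)) (hs : s ≠ 0) (t : Cyc.secFibre N (genericPoint X)) (ht : t ≠ 0)
  (f g : X → X.functionField) (v : (z : X) → Cyc.secFibre L z) (u : (z : X) → Cyc.secFibre N z)
  (hfv : ∀ z, δ z = n - 1 → Coord L s z (f z) (v z)) (hgu : ∀ z, δ z = n - 1 → Coord N t z (g z) (u z))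

include hL hN hs ht hfv hgu

/-- Away from a locally finite set the tame symbols are trivial. -/
theorem locally_finite_phi (x : X) : ∃ U : X.Opens, x ∈ U ∧
    {z : X | z ∈ U ∧ δ z = n - 1 ∧ phi z (f z) (g z) ≠ 1}.Finite := by
  obtain ⟨V, e, hxV, he⟩ := H11Ample.exists_gen hL x
  obtain ⟨V', e', hxV', he'⟩ := H11Ample.exists_gen hN x
  obtain ⟨W, hW, hxW, hWV⟩ := exists_isAffineOpen_mem_and_subset (U := V ⊓ V') (x := x) ⟨hxV, hxV'⟩
  have hη : genericPoint X ∈ W := (genericPoint_specializes x).mem_open W.2 hxW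
  obtain ⟨φ, hφ⟩ := exists_smul_fib he (hWV hη).1 s
  obtain ⟨ψ, hψ⟩ := exists_smul_fib he' (hWV hη).2 t
  refine ⟨W, hxW, ((finite_nonunit_sections hδ hn W hW (f := φ) ?_).union
    (finite_nonunit_sections hδ hn W hW (f := ψ) ?_)).subset fun z hz => ?_⟩
  · rintro rfl; exact hs (hφ.trans (zero_smul _ _))
  · rintro rfl; exact ht (hψ.trans (zero_smul _ _))
  obtain ⟨hzW, hzn, hne⟩ := hz
  obtain ⟨p, hp, hfp, -⟩ := exists_trans (hfv z hzn) (specializes_rfl : z ⤳ z) he (hWV hzW).1 φ hφ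
  obtain ⟨q, hq, hgq, -⟩ := exists_trans (hgu z hzn) (specializes_rfl : z ⤳ z) he' (hWV hzW).2 ψ hψ
  by_contra hc
  simp only [Set.mem_union, Set.mem_setOf_eq, hzW, hzn, true_and, not_or, not_not] at hc
  obtain ⟨⟨a, ha, hφa⟩, b, hb, hψb⟩ := hc
  refine hne (phi_eq_one hδ hn hzn ⟨a * (hp.unit⁻¹ : (X.presheaf.stalk z)ˣ), ha.mul (Units.isUnit _), ?_⟩
    ⟨b * (hq.unit⁻¹ : (X.presheaf.stalk z)ˣ), hb.mul (Units.isUnit _), ?_⟩)
  · rw [map_mul, ← hφa, hfp, mul_assoc, ← map_mul, IsUnit.mul_val_inv, map_one, mul_one]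
  · rw [map_mul, ← hψb, hgq, mul_assoc, ← map_mul, IsUnit.mul_val_inv, map_one, mul_one]

/-- **The commutation identity** at a point of codimension two. -/
theorem comm_identity (x : X) :
    ∑ᶠ z ∈ {z : X | δ z = n - 1}, Cyc.secDivFun δ L (genericPoint X) s z * Cyc.secDivFun δ N z (u z) x -
      ∑ᶠ z ∈ {z : X | δ z = n - 1}, Cyc.secDivFun δ N (genericPoint X) t z * Cyc.secDivFun δ L z (v z) x =
      ∑ᶠ z ∈ {z : X | δ z = n - 1}, Cyc.divFun δ z (phi z (f z) (g z)) x := by
  classical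
  by_cases hx : δ x = n - 2
  swap
  · have h1 : ∀ (M : X.Modules) (z : X) (w : Cyc.secFibre M z), δ z = n - 1 → Cyc.secDivFun δ M z w x = 0 :=
      fun M z w hz => by rw [Cyc.secDivFun, dif_neg fun hh => hx (by have := hh.2; omega)]
    rw [finsum_mem_eq_zero_of_forall_eq_zero fun z hz => by rw [h1 N z _ hz, mul_zero],
      finsum_mem_eq_zero_of_forall_eq_zero fun z hz => by rw [h1 L z _ hz, mul_zero], sub_zero]
    refine (finsum_mem_eq_zero_of_forall_eq_zero fun z (hz : δ z = n - 1) => ?_).symm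
    simp only [Cyc.divFun]
    rw [dif_neg fun hh => hx (by have := hh.2; omega)]
  obtain ⟨V, e, hxV, he⟩ := H11Ample.exists_gen hL x
  obtain ⟨V', e', hxV', he'⟩ := H11Ample.exists_gen hN x
  obtain ⟨W, hW, hxW, hWV⟩ := exists_isAffineOpen_mem_and_subset (U := V ⊓ V') (x := x) ⟨hxV, hxV'⟩
  have hη : genericPoint X ∈ W := (genericPoint_specializes x).mem_open W.2 hxW
  obtain ⟨f₀, hf₀⟩ := exists_smul_fib he (hWV hη).1 s
  obtain ⟨g₀, hg₀⟩ := exists_smul_fib he' (hWV hη).2 t
  have hf0 : f₀ ≠ 0 := by rintro rfl; exact hs (hf₀.trans (zero_smul _ _))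
  have hg0 : g₀ ≠ 0 := by rintro rfl; exact ht (hg₀.trans (zero_smul _ _))
  obtain ⟨hfin0, hsum0⟩ := finsum_divFun_phi hδ hn x hx f₀ g₀ hf0 hg0
  let A : X → ℤ := fun z => Cyc.secDivFun δ L (genericPoint X) s z * Cyc.secDivFun δ N z (u z) x
  let B : X → ℤ := fun z => Cyc.secDivFun δ N (genericPoint X) t z * Cyc.secDivFun δ L z (v z) x
  have key : ∀ z, δ z = n - 1 →
      Cyc.divFun δ z (phi z (f z) (g z)) x = Cyc.divFun δ z (phi z f₀ g₀) x + (A z - B z) := by
    intro z hz
    by_cases h : z ⤳ x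
    swap
    · simp only [A, B, Cyc.divFun, Cyc.secDivFun, dif_neg fun hh : z ⤳ x ∧ δ x + 1 = δ z => h hh.1, mul_zero, sub_zero,
        add_zero]
    have hzW : z ∈ W := h.mem_open W.2 hxW
    obtain ⟨p, hp, hfp, hvp⟩ := exists_trans (hfv z hz) h he hxV f₀ hf₀
    obtain ⟨q, hq, hgq, huq⟩ := exists_trans (hgu z hz) h he' hxV' g₀ hg₀
    have hdim := ringKrullDim_stalk_eq_one hδ hn z hz
    obtain ⟨a, b, ha, hb, hab⟩ := TameFrac.exists_frac (A := X.presheaf.stalk z) hf0
    obtain ⟨c, d, hc, hd, hcd⟩ := TameFrac.exists_frac (A := X.presheaf.stalk z) hg0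
    let P : X.functionField := algebraMap (X.presheaf.stalk z) _ (hp.unit⁻¹ : (X.presheaf.stalk z)ˣ)
    let Q : X.functionField := algebraMap (X.presheaf.stalk z) _ (hq.unit⁻¹ : (X.presheaf.stalk z)ˣ)
    have hP0 : P ≠ 0 := ((Units.isUnit _).map _).ne_zero
    have hQ0 : Q ≠ 0 := ((Units.isUnit _).map _).ne_zero
    have ef : f z = f₀ * P := by rw [hfp, mul_assoc, ← map_mul, IsUnit.mul_val_inv, map_one, mul_one]
    have eg : g z = g₀ * Q := by rw [hgq, mul_assoc, ← map_mul, IsUnit.mul_val_inv, map_one, mul_one]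
    have hrp : X.residue z p ≠ 0 := (hp.map _).ne_zero
    have hrq : X.residue z q ≠ 0 := (hq.map _).ne_zero
    have hphi : phi z (f z) (g z) = phi z f₀ g₀ * X.residue z q ^ ((((Ring.ord _ a).toNat : ℤ)) - (Ring.ord _ b).toNat) *
        X.residue z p ^ ((((Ring.ord _ d).toNat : ℤ)) - (Ring.ord _ c).toNat) := by
      have hinv : ∀ {r : X.presheaf.stalk z} (hr : IsUnit r),
          IsLocalRing.residue (X.presheaf.stalk z) (hr.unit⁻¹ : (X.presheaf.stalk z)ˣ) =
            (IsLocalRing.residue (X.presheaf.stalk z) r)⁻¹ := fun {r} hr =>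
        eq_inv_of_mul_eq_one_left (by rw [← map_mul, IsUnit.val_inv_mul, map_one])
      show TameFrac.tsym (X.presheaf.stalk z) (f z) (g z) = _
      rw [ef, eg, TameFrac.tsym_mul_left hdim hf0 hP0 (mul_ne_zero hg0 hQ0), TameFrac.tsym_mul_right hdim hf0 hg0 hQ0,
        TameFrac.tsym_mul_right hdim hP0 hg0 hQ0, TameFrac.tsym_units hdim (Units.isUnit _) (Units.isUnit _),
        TameFrac.tsym_unit_right hdim (Units.isUnit _) ha hb hab, TameFrac.tsym_unit_left hdim (Units.isUnit _) hc hd hcd,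
        hinv hp, hinv hq, inv_zpow', inv_zpow', neg_sub, neg_sub, mul_one]
      rfl
    have hphi0 : phi z f₀ g₀ ≠ 0 := TameFrac.tsym_ne_zero hdim hf0 hg0
    rw [hphi]
    refine (divFun_expand δ z x hphi0 hrq hrp _ _).trans ?_
    simp only [A, B]
    rw [secDiv_generic he hf0 hf₀ (hWV hzW).1, secDiv_generic he' hg0 hg₀ (hWV hzW).2, hvp, huq,
      divFun_generic hδ hn z hz f₀ ha hb hab, divFun_generic hδ hn z hz g₀ hc hd hcd]
    ring
  -- finiteness of the supports
  have hfinA : ∀ (M M' : X.Modules) (r : Cyc.secFibre M (genericPoint X)) {V₁ : X.Opens} {e₁ : Γ(M, V₁)}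
      (_ : IsGen M e₁) (hη₁ : genericPoint X ∈ V₁) (r₁ : X.functionField), r₁ ≠ 0 →
      r = r₁ • fib M (genericPoint X) hη₁ e₁ → W ≤ V₁ → ∀ (w : (z : X) → Cyc.secFibre M' z),
      {z : X | δ z = n - 1 ∧ Cyc.secDivFun δ M (genericPoint X) r z * Cyc.secDivFun δ M' z (w z) x ≠ 0}.Finite := by
    intro M M' r V₁ e₁ he₁ hη₁ r₁ hr hr₁ hle w
    refine (H22Alg.CycDiv.finite_divFun_inter hδ (genericPoint X)
      (f := X.residue _ r₁) (fun e => hr (residue_injective (e.trans (map_zero _).symm))) hW).subset ?_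
    rintro z ⟨-, hne⟩
    have hzW : z ∈ W := (secDivFun_ne_zero (right_ne_zero_of_mul hne)).mem_open W.2 hxW
    refine ⟨hzW, ?_⟩
    have := left_ne_zero_of_mul hne
    rwa [secDiv_generic he₁ hr hr₁ (hle hzW)] at this
  have hA := hfinA L N s he (hWV hη).1 f₀ hf0 hf₀ (fun z hz => (hWV hz).1) u
  have hB := hfinA N L t he' (hWV hη).2 g₀ hg0 hg₀ (fun z hz => (hWV hz).2) v
  have hfin : ∀ {F : X → ℤ}, {z | δ z = n - 1 ∧ F z ≠ 0}.Finite → ({z | δ z = n - 1} ∩ Function.support F).Finite :=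
    fun h => h.subset fun z hz => hz
  rw [← finsum_mem_sub' (hfin hA) (hfin hB), finsum_mem_congr (g := fun z => Cyc.divFun δ z (phi z f₀ g₀) x + (A z - B z)) (rfl : {z : X | δ z = n - 1} = _) key,
    finsum_mem_add_distrib' (hfin hfin0) ?_, hsum0, zero_add]
  refine ((hfin hA).union (hfin hB)).subset ?_
  rintro z ⟨hz, hne⟩
  by_cases h1 : A z = 0
  · refine Or.inr ⟨hz, fun h2 => hne ?_⟩
    show A z - B z = 0
    rw [h1, show B z = 0 from h2, sub_zero]
  · exact Or.inl ⟨hz, h1⟩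

end Groth.Agent.H3Cyc.CommLocal
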