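import Groth.Agent.H3Cyc.CommFam
import Groth.Agent.H3Cyc.Gysin
import Mathlib

/-!
# Commutativity of `c₁` on a subvariety
-/

set_option autoImplicit false
set_option linter.style.haveILetI false
set_option linter.unusedSectionVars false
universe u

open AlgebraicGeometry CategoryTheory
open Groth.Agent.H11Tilde (IsGen)

namespace Groth.Agent.H3Cyc.CommPoint

open C1Api

variable {X : Scheme.{u}}

/-- A common local generator restricts to `s` at `ξ` and to `vz` at `z`. -/
def Flat1 (L : X.Modules) {ξ : X} (s : Cyc.secFibre L ξ) (z : X) (vz : Cyc.secFibre L z) : Prop :=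
  ∃ (V : X.Opens) (e : Γ(L, V)) (_ : IsGen L e) (hz : z ∈ V) (hξ : ξ ∈ V), vz = fib L z hz e ∧ s = fib L ξ hξ e

theorem pullFib_fib {W : Scheme.{u}} (i : W ⟶ X) (L : X.Modules) {V : X.Opens} (e : Γ(L, V)) (w : W) (hw : i w ∈ V) :
    pullFib i L w (fib L (i w) hw e) =
      fib ((Scheme.Modules.pullback i).obj L) (V := i ⁻¹ᵁ V) w hw (OmegaSh.pullSect i L V e) := by
  have h := pullFib_smul_fib i e w hw 1
  rwa [map_one, one_smul, one_smul] at h

theorem secDiv_off_closure {δ : X → ℤ} {L : X.Modules} {ξ : X} (s : Cyc.secFibre L ξ) {S : Set X} (hS : IsClosed S)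
    (hξ : ξ ∈ S) {x : X} (hx : x ∉ S) : Cyc.secDivFun δ L ξ s x = 0 := by
  by_contra hne
  exact hx ((secDivFun_ne_zero hne).mem_closed hS hξ)

/-- **Commutativity on the closure of a point, with supports.** -/
theorem comm_point {δ : X → ℤ} (hX : Cyc.IsSetup X δ) {L N : X.Modules} (hL : PicF.IsInvertible L)
    (hN : PicF.IsInvertible N) (k : ℤ) {ξ : X} (hξ : δ ξ = k + 2) {s : Cyc.secFibre L ξ} (hs : s ≠ 0)
    {t : Cyc.secFibre N ξ} (ht : t ≠ 0) (u : (z : X) → Cyc.secFibre N z) (hu : ∀ z, u z ≠ 0)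
    (v : (z : X) → Cyc.secFibre L z) (hv : ∀ z, v z ≠ 0) (S : Set X)
    (hS : ∀ z, z ∉ S → ξ ⤳ z → δ z = k + 1 → Flat1 L s z (v z) ∨ Flat1 N t z (u z)) :
    RatFam δ k (closure {ξ} ∩ S) fun x =>
      Cyc.c1CapFun δ N (Cyc.secDivFun δ L ξ s) u x - Cyc.c1CapFun δ L (Cyc.secDivFun δ N ξ t) v x := by
  haveI := hX.1
  obtain ⟨W, hWi, i, hi, rfl⟩ := Transfer.exists_integral_closed ξ
  have hW := Reduction.isSetup_closedImmersion i hX
  haveI := hW.1
  have hc : IsClosed (Set.range i) := i.isClosedEmbedding.isClosed_range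
  have h := CommFam.comm_fam (δ := fun w => δ (i w)) hW.2.2 hξ (isInvertible_pullback' i hL) (isInvertible_pullback' i hN)
    (pullFib_ne_zero i hL _ s hs) (pullFib_ne_zero i hN _ t ht)
    (fun w => pullFib i N w (u (i w))) (fun w => pullFib_ne_zero i hN w _ (hu _))
    (fun w => pullFib i L w (v (i w))) (fun w => pullFib_ne_zero i hL w _ (hv _)) (i ⁻¹' S) (fun w hw hwd => by
      have hspec : i (genericPoint W) ⤳ i w := (genericPoint_specializes w).map i.continuous
      rcases hS (i w) hw hspec (by have : δ (i w) = k + 2 - 1 := hwd; omega) with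
        ⟨V, e, he, hz, hη, hvz, hse⟩ | ⟨V, e, he, hz, hη, hvz, hse⟩
      · exact Or.inl ⟨i ⁻¹ᵁ V, _, IsGen.pullSect i he, hz, hη, by beta_reduce; rw [hvz, pullFib_fib],
          by rw [hse, pullFib_fib, one_smul]⟩
      · exact Or.inr ⟨i ⁻¹ᵁ V, _, IsGen.pullSect i he, hz, hη, by beta_reduce; rw [hvz, pullFib_fib],
          by rw [hse, pullFib_fib, one_smul]⟩)
  rw [show k + 2 - 2 = k by ring] at h
  have hz : ∀ (M : X.Modules) (r : Cyc.secFibre M (i (genericPoint W))) (x : X), x ∉ Set.range i →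
      Cyc.secDivFun δ M (i (genericPoint W)) r x = 0 := fun M r x hx => secDiv_off_closure r hc ⟨_, rfl⟩ hx
  refine RatFam.mono ?_ (RatFam.push i h (fun w => ?_) fun x hx => ?_)
  · rintro _ ⟨w, hw, rfl⟩
    exact ⟨Transfer.range_subset_closure i ⟨w, rfl⟩, hw⟩
  · beta_reduce
    rw [Gysin.c1Cap_immersion i hN δ _ (hz L s) u hu w, Gysin.c1Cap_immersion i hL δ _ (hz N t) v hv w]
    congr 2
    · exact funext fun η => (Gysin.secDiv_immersion i hL δ _ s hs η).symm
    · exact funext fun η => (Gysin.secDiv_immersion i hN δ _ t ht η).symm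
  · beta_reduce
    rw [Transfer.c1CapFun_eq_zero_of_notMem hc _ (hz L s) u hx, Transfer.c1CapFun_eq_zero_of_notMem hc _ (hz N t) v hx,
      sub_zero]

end Groth.Agent.H3Cyc.CommPoint
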