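import Mathlib

/-!
# The coproduct of a locally finite family of closed subschemes is proper
-/

set_option autoImplicit false
set_option linter.style.haveILetI false
set_option backward.isDefEq.respectTransparency.types false
universe u
open CategoryTheory CategoryTheory.Limits AlgebraicGeometry

namespace Groth.Agent.H3Cyc.Coprod

variable {ι : Type u} {Y : Scheme.{u}} {V : ι → Scheme.{u}} (f : ∀ i, V i ⟶ Y)

theorem desc_ι (i : ι) : Sigma.ι V i ≫ Sigma.desc f = f i := Sigma.ι_desc _ _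

theorem quasiCompact_desc [∀ i, QuasiCompact (f i)] (hf : LocallyFinite fun i => Set.range (f i)) :
    QuasiCompact (Sigma.desc f) := by
  refine (quasiCompact_iff_forall_isAffineOpen).mpr fun U hU => ?_
  have hfin := hf.finite_nonempty_inter_compact hU.isCompact
  have e : ((Sigma.desc f ⁻¹ᵁ U : (∐ V).Opens) : Set (∐ V : Scheme.{u})) =
      ⋃ i ∈ {i | (Set.range (f i) ∩ (U : Set Y)).Nonempty}, (Sigma.ι V i) '' (f i ⁻¹' (U : Set Y)) := by
    ext z
    simp only [Set.mem_iUnion, Set.mem_image, Set.mem_ofPred_eq]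
    constructor
    · intro hz
      obtain ⟨i, w, rfl⟩ := Scheme.Cover.exists_eq (sigmaOpenCover V) z
      have hw : f i w ∈ U := by rw [← desc_ι f i]; exact hz
      exact ⟨i, ⟨_, ⟨w, rfl⟩, hw⟩, w, hw, rfl⟩
    · rintro ⟨i, -, w, hw, rfl⟩
      show (Sigma.desc f) (Sigma.ι V i w) ∈ U
      rw [← Scheme.Hom.comp_apply, desc_ι]
      exact hw
  show IsCompact ((Sigma.desc f ⁻¹ᵁ U : (∐ V).Opens) : Set (∐ V : Scheme.{u}))
  rw [e]
  exact hfin.isCompact_biUnion fun i _ =>
    (QuasiCompact.isCompact_preimage (U : Set Y) U.2 hU.isCompact).image (Sigma.ι V i).continuous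

theorem isProper_desc [IsLocallyNoetherian Y] [∀ i, IsProper (f i)]
    (hf : LocallyFinite fun i => Set.range (f i)) : IsProper (Sigma.desc f) := by
  have hlft : LocallyOfFiniteType (Sigma.desc f) :=
    IsZariskiLocalAtSource.sigmaDesc (P := @LocallyOfFiniteType) fun i => inferInstance
  haveI := quasiCompact_desc f hf
  haveI : IsLocallyNoetherian (∐ V) := LocallyOfFiniteType.isLocallyNoetherian (Sigma.desc f)
  have hfac : ∀ {T : Scheme.{u}} (g : T ⟶ ∐ V) (i : ι), Set.range g ⊆ Set.range (Sigma.ι V i) →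
      ∃ g' : T ⟶ V i, g' ≫ Sigma.ι V i = g := fun g i h =>
    ⟨IsOpenImmersion.lift _ g h, IsOpenImmersion.lift_fac _ g h⟩
  have hex : ValuativeCriterion.Existence (Sigma.desc f) := by
    intro S
    obtain ⟨i, w, hw⟩ := Scheme.Cover.exists_eq (sigmaOpenCover V) (S.i₁ default)
    obtain ⟨g', hg'⟩ := hfac S.i₁ i (by
      rintro _ ⟨z, rfl⟩
      exact ⟨w, hw.trans (congrArg _ (Subsingleton.elim _ _))⟩)
    have hsq : CommSq g' (Spec.map (CommRingCat.ofHom (algebraMap S.R S.K))) (f i) S.i₂ :=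
      ⟨by rw [← desc_ι f i, ← Category.assoc, hg']; exact S.commSq.w⟩
    have hp : ValuativeCriterion.Existence (f i) := by
      have h : UniversallyClosed (f i) := inferInstance
      rw [UniversallyClosed.eq_valuativeCriterion] at h
      exact h.1
    obtain ⟨l, hl₁, hl₂⟩ := (hp ⟨S.R, S.K, g', S.i₂, hsq⟩).exists_lift
    refine ⟨⟨⟨l ≫ Sigma.ι V i, ?_, ?_⟩⟩⟩
    · rw [← Category.assoc]; erw [hl₁]; exact hg'
    · rw [Category.assoc, desc_ι]; exact hl₂
  have hun : ValuativeCriterion.Uniqueness (Sigma.desc f) := by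
    intro S
    refine ⟨fun a b => ?_⟩
    obtain ⟨i, w, hw⟩ := Scheme.Cover.exists_eq (sigmaOpenCover V) (S.i₁ default)
    have hrange : ∀ c : S.commSq.LiftStruct, Set.range c.l ⊆ Set.range (Sigma.ι V i) := by
      intro c
      have hgen : c.l (Spec.map (CommRingCat.ofHom (algebraMap S.R S.K)) default) ∈ Set.range (Sigma.ι V i) := by
        rw [← Scheme.Hom.comp_apply, c.fac_left]
        exact ⟨w, hw⟩
      have hclo : IsClopen (Set.range (Sigma.ι V i)) := by
        refine ⟨?_, (Sigma.ι V i).isOpenEmbedding.isOpen_range⟩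
        rw [← isOpen_compl_iff]
        refine isOpen_iff_forall_mem_open.mpr fun z hz => ?_
        obtain ⟨j, v, rfl⟩ := Scheme.Cover.exists_eq (sigmaOpenCover V) z
        refine ⟨Set.range (Sigma.ι V j), ?_, (Sigma.ι V j).isOpenEmbedding.isOpen_range, ⟨v, rfl⟩⟩
        rintro _ ⟨v', rfl⟩ hv'
        by_cases hij : j = i
        · subst hij; exact hz ⟨v, rfl⟩
        · exact ((disjoint_opensRange_sigmaι V j i hij).le_bot (show _ ∈ (Sigma.ι V j).opensRange ⊓ (Sigma.ι V i).opensRange from ⟨⟨_, rfl⟩, hv'⟩)).elim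
      have hpre : c.l ⁻¹' (Set.range (Sigma.ι V i)) = Set.univ := by
        haveI : PreconnectedSpace (Spec (CommRingCat.of S.R)) := inferInstance
        exact (hclo.preimage c.l.continuous).eq_univ ⟨_, hgen⟩
      rintro _ ⟨z, rfl⟩
      exact (Set.eq_univ_iff_forall.mp hpre) z
    obtain ⟨la, hla⟩ := hfac a.l i (hrange a)
    obtain ⟨lb, hlb⟩ := hfac b.l i (hrange b)
    have hu : ValuativeCriterion.Uniqueness (f i) := IsSeparated.valuativeCriterion (f i)
    have h2 : ∀ (c : S.commSq.LiftStruct) (lc : Spec (CommRingCat.of S.R) ⟶ V i), lc ≫ Sigma.ι V i = c.l →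
        lc ≫ f i = S.i₂ := fun c lc h => by rw [← desc_ι f i, ← Category.assoc, h, c.fac_right]
    have hsq : CommSq (Spec.map (CommRingCat.ofHom (algebraMap S.R S.K)) ≫ la)
        (Spec.map (CommRingCat.ofHom (algebraMap S.R S.K))) (f i) S.i₂ :=
      ⟨by rw [Category.assoc, h2 a la hla]⟩
    have hs : Subsingleton hsq.LiftStruct := hu ⟨S.R, S.K, _, _, hsq⟩
    have e := congrArg CommSq.LiftStruct.l (hs.elim ⟨la, rfl, h2 a la hla⟩ ⟨lb, by
      rw [← cancel_mono (Sigma.ι V i), Category.assoc, Category.assoc, hlb, hla, b.fac_left, a.fac_left], h2 b lb hlb⟩)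
    ext : 1
    rw [← hla, ← hlb]
    exact congrArg (· ≫ Sigma.ι V i) e
  haveI : UniversallyClosed (Sigma.desc f) := UniversallyClosed.of_valuativeCriterion _ hex
  haveI : QuasiSeparated (Sigma.desc f) := inferInstance
  haveI : IsSeparated (Sigma.desc f) := IsSeparated.of_valuativeCriterion _ hun
  exact ⟨⟩

end Groth.Agent.H3Cyc.Coprod
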