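import Groth.Agent.H8Props.NilThickTor
import Groth.Agent.H3Cyc.FlatRat
import Groth.Agent.H3Cyc.GenStalk
import Groth.Agent.H3Cyc.C1Api
import Mathlib

/-!
# The affine line over a curve: the fibres of the projection
-/

set_option autoImplicit false
set_option linter.style.haveILetI false
set_option backward.isDefEq.respectTransparency.types false

universe u

open CategoryTheory CategoryTheory.Limits AlgebraicGeometry Opposite Polynomial

attribute [local instance] Polynomial.algebra

namespace Groth.Agent.H3Cyc.CurveA1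

variable {k : Type u} [Field k] {X P : Scheme.{u}} {f : X ⟶ Spec (CommRingCat.of k)}
  {p₁ : P ⟶ X} {p₂ : P ⟶ Spec (CommRingCat.of k[X])}

/-- The coordinate. -/
noncomputable def coord (p₂ : P ⟶ Spec (CommRingCat.of k[X])) : Γ(P, ⊤) :=
  p₂.appTop ((Scheme.ΓSpecIso (CommRingCat.of k[X])).inv Polynomial.X)

/-- The generic point of the fibre over `y`, with the fibre. -/
structure FibreData (p₁ : P ⟶ X) (p₂ : P ⟶ Spec (CommRingCat.of k[X])) (y : X) where
  j : Spec (CommRingCat.of (X.residueField y)[X]) ⟶ P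
  sq : IsPullback j (Spec.map (CommRingCat.ofHom (Polynomial.C : X.residueField y →+* (X.residueField y)[X])))
    p₁ (X.fromSpecResidueField y)
  hX : (j.appTop (coord p₂)) = (Scheme.ΓSpecIso (CommRingCat.of (X.residueField y)[X])).inv Polynomial.X

theorem exists_fibreData (hP : IsPullback p₁ p₂ f (Spec.map (CommRingCat.ofHom (Polynomial.C : k →+* k[X]))))
    (y : X) : Nonempty (FibreData p₁ p₂ y) := by
  obtain ⟨ψ, hψ⟩ := Spec.map_surjective (X.fromSpecResidueField y ≫ f)
  let κ : Type u := X.residueField y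
  letI : Algebra k κ := ψ.hom.toAlgebra
  have houter : IsPullback (Spec.map (CommRingCat.ofHom (Polynomial.C : κ →+* κ[X])))
      (Spec.map (CommRingCat.ofHom (algebraMap k[X] κ[X])))
      (Spec.map (CommRingCat.ofHom (algebraMap k κ))) (Spec.map (CommRingCat.ofHom (Polynomial.C : k →+* k[X]))) :=
    isPullback_SpecMap_of_isPushout _ _ _ _ (CommRingCat.isPushout_of_isPushout k κ k[X] κ[X])
  have hψ' : Spec.map (CommRingCat.ofHom (algebraMap k κ)) = X.fromSpecResidueField y ≫ f := hψ
  rw [hψ'] at houter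
  let j := hP.lift (Spec.map (CommRingCat.ofHom (Polynomial.C : κ →+* κ[X])) ≫ X.fromSpecResidueField y)
    (Spec.map (CommRingCat.ofHom (algebraMap k[X] κ[X]))) (by rw [Category.assoc]; exact houter.w)
  refine ⟨⟨j, ((IsPullback.of_bot (v₁₁ := j) ?_ (hP.lift_fst _ _ _).symm hP)).flip, ?_⟩⟩
  · rw [hP.lift_snd]; exact houter
  · show (p₂.appTop ≫ j.appTop).hom _ = _
    rw [← Scheme.Hom.comp_appTop, hP.lift_snd]
    refine (ConcreteCategory.congr_hom (Scheme.ΓSpecIso_inv_naturality (CommRingCat.ofHom (algebraMap k[X] κ[X]))).symm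
      Polynomial.X).trans ?_
    show (Scheme.ΓSpecIso (CommRingCat.of κ[X])).inv ((algebraMap k[X] κ[X]) Polynomial.X) = _
    rw [Polynomial.algebraMap_def, Polynomial.coe_mapRingHom, Polynomial.map_X]

theorem maxIdeal_of_square {A B Q R : Scheme.{u}} {g : A ⟶ Q} {ψ : A ⟶ B} {m : Q ⟶ R} {Δ : B ⟶ R}
    [IsClosedImmersion g] [IsClosedImmersion Δ] (sq : IsPullback g ψ m Δ) (x : A)
    (h₁ : IsField (A.presheaf.stalk x)) (h₂ : IsField (B.presheaf.stalk (ψ x))) :
    RingHom.ker (g.stalkMap x).hom = IsLocalRing.maximalIdeal (Q.presheaf.stalk (g x)) ∧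
      IsLocalRing.maximalIdeal (Q.presheaf.stalk (g x)) =
        (IsLocalRing.maximalIdeal (R.presheaf.stalk (m (g x)))).map (m.stalkMap (g x)).hom := by
  have hk := H8Props.NilThick.ker_stalkMap_eq sq x
  letI := h₁.toField
  letI := h₂.toField
  have e1 : RingHom.ker (g.stalkMap x).hom = IsLocalRing.maximalIdeal (Q.presheaf.stalk (g x)) :=
    IsLocalRing.eq_maximalIdeal (RingHom.ker_isMaximal_of_surjective _ (g.stalkMap_surjective x))
  have e2 : RingHom.ker (H8Props.NilThick.baseMap sq x).hom = IsLocalRing.maximalIdeal (R.presheaf.stalk (m (g x))) :=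
    IsLocalRing.eq_maximalIdeal (RingHom.ker_isMaximal_of_surjective _ ((Δ.stalkMap_surjective _).comp
      (ConcreteCategory.bijective_of_isIso
        (R.presheaf.stalkCongr (.of_eq (H8Props.NilThick.base_eq sq x))).hom).2))
  refine ⟨e1, ?_⟩
  rw [← e1, hk, e2]

namespace FibreData

variable {y : X} (D : FibreData p₁ p₂ y)

/-- The zero ideal of the fibre. -/
noncomputable def bot : Spec (CommRingCat.of (X.residueField y)[X]) := ⟨⊥, Ideal.isPrime_bot⟩

/-- The generic point of the fibre. -/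
noncomputable def gen : P := D.j bot

theorem p₁_gen : p₁ D.gen = y := by
  rw [gen, ← Scheme.Hom.comp_apply, D.sq.w, Scheme.Hom.comp_apply]
  exact Scheme.fromSpecResidueField_apply _ _

theorem exists_preimage {z : P} (hz : p₁ z = y) : ∃ w, D.j w = z := by
  obtain ⟨w, hw, -⟩ := Scheme.exists_preimage_of_isPullback D.sq z (IsLocalRing.closedPoint (X.residueField y))
    (hz.trans (Scheme.fromSpecResidueField_apply _ _).symm)
  exact ⟨w, hw⟩

theorem gen_specializes {z : P} (hz : p₁ z = y) : D.gen ⤳ z := by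
  obtain ⟨w, rfl⟩ := D.exists_preimage hz
  exact ((PrimeSpectrum.le_iff_specializes _ _).1
    (show (⊥ : Ideal (X.residueField y)[X]) ≤ w.asIdeal from bot_le)).map D.j.continuous

include D in
theorem isClosedImmersion_j [IsClosedImmersion (X.fromSpecResidueField y)] : IsClosedImmersion D.j :=
  MorphismProperty.of_isPullback (P := @IsClosedImmersion) D.sq.flip ‹_›

theorem isClosed_of_ne [IsClosedImmersion (X.fromSpecResidueField y)] {z : P} (hz : p₁ z = y) (hne : z ≠ D.gen) :
    IsClosed ({z} : Set P) := by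
  haveI := D.isClosedImmersion_j
  obtain ⟨w, rfl⟩ := D.exists_preimage hz
  have hw : w.asIdeal ≠ ⊥ := fun h => hne (congrArg D.j (PrimeSpectrum.ext h))
  have hcl : IsClosed ({w} : Set (Spec (CommRingCat.of (X.residueField y)[X]))) :=
    (PrimeSpectrum.isClosed_singleton_iff_isMaximal _).2 (IsPrime.to_maximal_ideal hw)
  have := D.j.isClosedEmbedding.isClosedMap _ hcl
  rwa [Set.image_singleton] at this

theorem isField_stalk_bot : IsField ((Spec (CommRingCat.of (X.residueField y)[X])).presheaf.stalk bot) := by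
  rw [show (bot : Spec (CommRingCat.of (X.residueField y)[X])) = genericPoint _ from
    (genericPoint_eq_bot_of_affine _).symm]
  exact Field.toIsField (Spec (CommRingCat.of (X.residueField y)[X])).functionField

theorem isField_stalk_spec (s : Spec (X.residueField y)) : IsField ((Spec (X.residueField y)).presheaf.stalk s) := by
  rw [Subsingleton.elim (α := PrimeSpectrum (X.residueField y)) s (genericPoint (Spec (X.residueField y)))]
  exact Field.toIsField (Spec (X.residueField y)).functionField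

theorem maximalIdeal_gen [IsClosedImmersion (X.fromSpecResidueField y)] :
    RingHom.ker (D.j.stalkMap bot).hom = IsLocalRing.maximalIdeal (P.presheaf.stalk D.gen) ∧
      IsLocalRing.maximalIdeal (P.presheaf.stalk D.gen) =
        (IsLocalRing.maximalIdeal (X.presheaf.stalk (p₁ D.gen))).map (p₁.stalkMap D.gen).hom := by
  haveI := D.isClosedImmersion_j
  exact maxIdeal_of_square D.sq bot isField_stalk_bot (isField_stalk_spec _)

theorem exists_germ_top (s : Spec (X.residueField y))
    (c : (Spec (X.residueField y)).presheaf.stalk s) :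
    ∃ c' : X.residueField y, c = (Spec (X.residueField y)).presheaf.germ ⊤ s trivial
      ((Scheme.ΓSpecIso (X.residueField y)).inv c') := by
  obtain ⟨a, t, ht, hat⟩ : ∃ a t : Γ(Spec (X.residueField y), ⊤),
      IsUnit ((Spec (X.residueField y)).presheaf.germ ⊤ s trivial t) ∧
      c * (Spec (X.residueField y)).presheaf.germ ⊤ s trivial t = (Spec (X.residueField y)).presheaf.germ ⊤ s trivial a := by
    letI := TopCat.Presheaf.algebra_section_stalk (Spec (X.residueField y)).presheaf (⟨s, trivial⟩ : (⊤ : (Spec (X.residueField y)).Opens))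
    haveI := (isAffineOpen_top (Spec (X.residueField y))).isLocalization_stalk ⟨s, trivial⟩
    obtain ⟨⟨a, t⟩, h⟩ := IsLocalization.surj
      ((isAffineOpen_top (Spec (X.residueField y))).primeIdealOf ⟨s, trivial⟩).asIdeal.primeCompl c
    exact ⟨a, t.1, IsLocalization.map_units ((Spec (X.residueField y)).presheaf.stalk s) t, h⟩
  let e := (Scheme.ΓSpecIso (X.residueField y)).commRingCatIsoToRingEquiv
  have ht0 : e t ≠ 0 := fun h => by
    rw [show t = 0 from e.injective (h.trans (map_zero e).symm), map_zero] at ht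
    exact not_isUnit_zero ht
  refine ⟨e a / e t, ?_⟩
  refine ht.mul_right_cancel (hat.trans ?_)
  rw [← map_mul]
  congr 1
  apply e.injective
  rw [map_mul]
  show e a = e (e.symm (e a / e t)) * e t
  rw [RingEquiv.apply_symm_apply, div_mul_cancel₀ _ ht0]

theorem isUnit_linear [IsClosedImmersion (X.fromSpecResidueField y)] (a b : X.presheaf.stalk (p₁ D.gen))
    (hab : IsUnit a ∨ IsUnit b) :
    IsUnit (p₁.stalkMap D.gen a * P.presheaf.germ ⊤ D.gen trivial (coord p₂) + p₁.stalkMap D.gen b) := by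
  obtain ⟨hk, -⟩ := D.maximalIdeal_gen
  rw [← IsLocalRing.notMem_maximalIdeal, ← hk]
  intro hmem
  let S := Spec (X.residueField y)
  let c : S := Spec.map (CommRingCat.ofHom (Polynomial.C : X.residueField y →+* (X.residueField y)[X])) bot
  let g : X.residueField y →+* (Spec (CommRingCat.of (X.residueField y)[X])).presheaf.stalk bot :=
    (((Spec (CommRingCat.of (X.residueField y)[X])).presheaf.germ ⊤ bot trivial).hom.comp
      (Scheme.ΓSpecIso (CommRingCat.of (X.residueField y)[X])).inv.hom).comp Polynomial.C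
  have hcomm : ∀ r : X.presheaf.stalk (p₁ D.gen), ∃ r' : X.residueField y,
      (D.j.stalkMap bot).hom (p₁.stalkMap D.gen r) = g r' ∧ (IsUnit r → r' ≠ 0) := by
    intro r
    obtain ⟨r', hr'⟩ := exists_germ_top c (H8Props.NilThick.baseMap D.sq bot r)
    refine ⟨r', ?_, fun hu h0 => ?_⟩
    · refine (ConcreteCategory.congr_hom (H8Props.NilThick.baseMap_comp D.sq bot) r).trans ?_
      show (Spec.map _).stalkMap bot (H8Props.NilThick.baseMap D.sq bot r) = _
      rw [hr']
      refine (Scheme.Hom.germ_stalkMap_apply (Spec.map _) ⊤ bot trivial _).trans ?_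
      exact congrArg _ (ConcreteCategory.congr_hom
        (Scheme.ΓSpecIso_inv_naturality (CommRingCat.ofHom (Polynomial.C : X.residueField y →+* (X.residueField y)[X]))).symm r')
    · have h1 := (congrArg IsUnit hr').mp (hu.map (H8Props.NilThick.baseMap D.sq bot).hom)
      rw [h0, map_zero, map_zero] at h1
      exact not_isUnit_zero h1
  obtain ⟨a', ha, hau⟩ := hcomm a
  obtain ⟨b', hb, hbu⟩ := hcomm b
  have hT : (D.j.stalkMap bot).hom (P.presheaf.germ ⊤ D.gen trivial (coord p₂)) =
      (Spec (CommRingCat.of (X.residueField y)[X])).presheaf.germ ⊤ bot trivial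
        ((Scheme.ΓSpecIso (CommRingCat.of (X.residueField y)[X])).inv Polynomial.X) := by
    rw [← D.hX]
    exact Scheme.Hom.germ_stalkMap_apply D.j ⊤ bot trivial (coord p₂)
  have h0 : (D.j.stalkMap bot).hom (p₁.stalkMap D.gen a * P.presheaf.germ ⊤ D.gen trivial (coord p₂) +
      p₁.stalkMap D.gen b) = 0 := hmem
  have h0' : g a' * (Spec (CommRingCat.of (X.residueField y)[X])).presheaf.germ ⊤ bot trivial
      ((Scheme.ΓSpecIso (CommRingCat.of (X.residueField y)[X])).inv Polynomial.X) + g b' = 0 := by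
    refine Eq.trans ?_ h0
    refine Eq.symm ?_
    exact (map_add (D.j.stalkMap bot).hom _ _).trans
      (congrArg₂ (· + ·) ((map_mul (D.j.stalkMap bot).hom _ _).trans (congrArg₂ (· * ·) ha hT)) hb)
  have h1 : (Spec (CommRingCat.of (X.residueField y)[X])).presheaf.germ ⊤ bot trivial
      ((Scheme.ΓSpecIso (CommRingCat.of (X.residueField y)[X])).inv (Polynomial.C a' * Polynomial.X + Polynomial.C b')) =
      (Spec (CommRingCat.of (X.residueField y)[X])).presheaf.germ ⊤ bot trivial 0 := by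
    rw [map_zero, map_add, map_add, map_mul, map_mul]
    exact h0'
  have h2 := germ_injective_of_isIntegral (Spec (CommRingCat.of (X.residueField y)[X])) bot (show bot ∈ (⊤ : (Spec (CommRingCat.of (X.residueField y)[X])).Opens) from trivial) h1
  have h3 : Polynomial.C a' * Polynomial.X + Polynomial.C b' = 0 :=
    (Scheme.ΓSpecIso (CommRingCat.of (X.residueField y)[X])).commRingCatIsoToRingEquiv.symm.injective
      (h2.trans (map_zero _).symm)
  rcases hab with h | h
  · refine hau h ?_
    have := congrArg (fun p => Polynomial.coeff p 1) h3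
    simpa [Polynomial.coeff_C] using this
  · refine hbu h ?_
    have := congrArg (fun p => Polynomial.coeff p 0) h3
    simpa using this

end FibreData

theorem ringKrullDim_le_one {R : Type u} [CommRing R] [IsLocalRing R] [IsNoetherianRing R] (t : R)
    (ht : IsLocalRing.maximalIdeal R = Ideal.span {t}) : ringKrullDim R ≤ 1 := by
  haveI : (IsLocalRing.maximalIdeal R).IsPrincipal := ⟨t, ht⟩
  rw [← IsLocalRing.maximalIdeal_height_eq_ringKrullDim]
  exact WithBot.coe_le_coe.2 (Ideal.height_le_one_of_isPrincipal_of_mem_minimalPrimes (IsLocalRing.maximalIdeal R)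
    (IsLocalRing.maximalIdeal R) (by rw [Ideal.minimalPrimes_eq_subsingleton_self]; exact rfl))

/-- The coordinate in a residue field. -/
noncomputable def coordRes (p₂ : P ⟶ Spec (CommRingCat.of k[X])) (ξ : P) : P.residueField ξ :=
  P.residue ξ (P.presheaf.germ ⊤ ξ trivial (coord p₂))

theorem residueFieldMap_spec {ξ v : P} (h : ξ ⤳ v) (a : X.presheaf.stalk (p₁ v)) :
    p₁.residueFieldMap ξ (Cyc.specMap (p₁ v) (p₁ ξ) (h.map p₁.continuous) a) =
      Cyc.specMap v ξ h (p₁.stalkMap v a) := by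
  show p₁.residueFieldMap ξ (X.residue (p₁ ξ) (X.presheaf.stalkSpecializes (h.map p₁.continuous) a)) =
    P.residue ξ (P.presheaf.stalkSpecializes h (p₁.stalkMap v a))
  refine (ConcreteCategory.congr_hom (Scheme.residue_residueFieldMap p₁ ξ) _).trans ?_
  exact congrArg (P.residue ξ).hom (p₁.stalkSpecializes_stalkMap_apply ξ v h a)

namespace FibreData

variable {y : X} (D : FibreData p₁ p₂ y) [IsClosedImmersion (X.fromSpecResidueField y)]
  {ξ : P} (h : ξ ⤳ D.gen)

theorem linear_res (a b : X.presheaf.stalk (p₁ D.gen)) (hab : IsUnit a ∨ IsUnit b) :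
    p₁.residueFieldMap ξ (Cyc.specMap (p₁ D.gen) (p₁ ξ) (h.map p₁.continuous) a) * coordRes p₂ ξ +
        p₁.residueFieldMap ξ (Cyc.specMap (p₁ D.gen) (p₁ ξ) (h.map p₁.continuous) b) ≠ 0 ∧
      Cyc.ordAt D.gen ξ h (p₁.residueFieldMap ξ (Cyc.specMap (p₁ D.gen) (p₁ ξ) (h.map p₁.continuous) a) * coordRes p₂ ξ +
        p₁.residueFieldMap ξ (Cyc.specMap (p₁ D.gen) (p₁ ξ) (h.map p₁.continuous) b)) = 0 := by
  have hT : coordRes p₂ ξ = Cyc.specMap D.gen ξ h (P.presheaf.germ ⊤ D.gen trivial (coord p₂)) :=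
    (congrArg (P.residue ξ).hom (TopCat.Presheaf.germ_stalkSpecializes_apply P.presheaf (U := ⊤) trivial h (coord p₂))).symm
  rw [residueFieldMap_spec h, residueFieldMap_spec h, hT, ← map_mul, ← map_add]
  have hu := D.isUnit_linear a b hab
  exact ⟨(hu.map (Cyc.specMap D.gen ξ h)).ne_zero, C1Api.ordAt_specMap_unit D.gen ξ h hu⟩

theorem maximalIdeal_span {π : X.presheaf.stalk (p₁ D.gen)}
    (hπ : IsLocalRing.maximalIdeal (X.presheaf.stalk (p₁ D.gen)) = Ideal.span {π}) :
    IsLocalRing.maximalIdeal (P.presheaf.stalk D.gen) = Ideal.span {p₁.stalkMap D.gen π} := by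
  rw [D.maximalIdeal_gen.2, hπ, Ideal.map_span, Set.image_singleton]

theorem ordAt_uniformizer [IsLocallyNoetherian P] {π : X.presheaf.stalk (p₁ D.gen)}
    (hπ : IsLocalRing.maximalIdeal (X.presheaf.stalk (p₁ D.gen)) = Ideal.span {π})
    (h0 : Cyc.specMap (p₁ D.gen) (p₁ ξ) (h.map p₁.continuous) π ≠ 0) :
    Cyc.ordAt D.gen ξ h (p₁.residueFieldMap ξ (Cyc.specMap (p₁ D.gen) (p₁ ξ) (h.map p₁.continuous) π)) = 1 := by
  let q := Ideal.Quotient.mk (RingHom.ker (Cyc.specMap D.gen ξ h))
  haveI := GenStalk.isPrime_ker D.gen ξ h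
  haveI : Nontrivial (Cyc.LocQuot D.gen ξ h) := Ideal.Quotient.nontrivial_iff.mpr (GenStalk.isPrime_ker D.gen ξ h).ne_top
  haveI : IsLocalRing (Cyc.LocQuot D.gen ξ h) := IsLocalRing.of_surjective' q Ideal.Quotient.mk_surjective
  have hmax : IsLocalRing.maximalIdeal (Cyc.LocQuot D.gen ξ h) = Ideal.span {q (p₁.stalkMap D.gen π)} := by
    rw [← Set.image_singleton, ← Ideal.map_span, ← D.maximalIdeal_span hπ,
      IsLocalRing.map_maximalIdeal_of_surjective q Ideal.Quotient.mk_surjective]
  rw [residueFieldMap_spec h, ← div_one (Cyc.specMap D.gen ξ h (p₁.stalkMap D.gen π)),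
    show (1 : P.residueField ξ) = Cyc.specMap D.gen ξ h 1 from (map_one _).symm,
    FlatRat.ordAt_div' D.gen ξ h (ringKrullDim_le_one _ hmax) _ _ ?_ (by rw [map_one]; exact one_ne_zero)]
  · rw [map_one, Ring.ord_one, ENat.toNat_zero, Nat.cast_zero, sub_zero, Ring.ord, ← hmax]
    haveI : IsSimpleModule (Cyc.LocQuot D.gen ξ h)
        (Cyc.LocQuot D.gen ξ h ⧸ IsLocalRing.maximalIdeal (Cyc.LocQuot D.gen ξ h)) :=
      isSimpleModule_iff_isCoatom.2 (IsLocalRing.maximalIdeal.isMaximal _).out
    rw [Module.length_eq_one]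
    rfl
  · rw [← residueFieldMap_spec h]
    exact (_root_.map_ne_zero _).2 h0

variable {π : X.presheaf.stalk (p₁ D.gen)}

/-- The order of `σ f · T + 1` when `f` has no pole at `y`. -/
theorem ordAt_linear_regular (a : X.presheaf.stalk (p₁ D.gen)) :
    p₁.residueFieldMap ξ (Cyc.specMap (p₁ D.gen) (p₁ ξ) (h.map p₁.continuous) a) * coordRes p₂ ξ + 1 ≠ 0 ∧
      Cyc.ordAt D.gen ξ h (p₁.residueFieldMap ξ (Cyc.specMap (p₁ D.gen) (p₁ ξ) (h.map p₁.continuous) a) * coordRes p₂ ξ + 1) = 0 := by
  have := D.linear_res h a 1 (Or.inr isUnit_one)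
  rwa [map_one, map_one] at this

/-- The order of `σ f · T + 1` when `f` has a pole of order `m` at `y`. -/
theorem ordAt_linear_pole [IsLocallyNoetherian P]
    (hπ : IsLocalRing.maximalIdeal (X.presheaf.stalk (p₁ D.gen)) = Ideal.span {π})
    (h0 : Cyc.specMap (p₁ D.gen) (p₁ ξ) (h.map p₁.continuous) π ≠ 0)
    (F : X.residueField (p₁ ξ)) {m : ℕ} {u : X.presheaf.stalk (p₁ D.gen)} (hu : IsUnit u)
    (hF : F * Cyc.specMap (p₁ D.gen) (p₁ ξ) (h.map p₁.continuous) π ^ m =
      Cyc.specMap (p₁ D.gen) (p₁ ξ) (h.map p₁.continuous) u) :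
    p₁.residueFieldMap ξ F * coordRes p₂ ξ + 1 ≠ 0 ∧
      Cyc.ordAt D.gen ξ h (p₁.residueFieldMap ξ F * coordRes p₂ ξ + 1) = -(m : ℤ) := by
  set s := Cyc.specMap (p₁ D.gen) (p₁ ξ) (h.map p₁.continuous)
  have hπ0 : (p₁.residueFieldMap ξ (s π)) ^ m ≠ 0 := pow_ne_zero _ ((_root_.map_ne_zero _).2 h0)
  obtain ⟨hne, hord⟩ := D.linear_res h u (π ^ m) (Or.inl hu)
  have e : p₁.residueFieldMap ξ F * coordRes p₂ ξ + 1 =
      (p₁.residueFieldMap ξ (s u) * coordRes p₂ ξ + p₁.residueFieldMap ξ (s (π ^ m))) *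
        ((p₁.residueFieldMap ξ (s π)) ^ m)⁻¹ := by
    rw [eq_mul_inv_iff_mul_eq₀ hπ0, ← hF, map_pow, map_mul, map_pow]
    ring
  refine ⟨e ▸ mul_ne_zero hne (inv_ne_zero hπ0), ?_⟩
  rw [e, C1Api.ordAt_mul D.gen ξ h hne (inv_ne_zero hπ0), hord, C1Api.ordAt_inv D.gen ξ h hπ0,
    C1Api.ordAt_pow D.gen ξ h ((_root_.map_ne_zero _).2 h0), D.ordAt_uniformizer h hπ h0, mul_one, zero_add]

theorem stalk_dim_le_one [IsLocallyNoetherian P]
    (hπ : IsLocalRing.maximalIdeal (X.presheaf.stalk (p₁ D.gen)) = Ideal.span {π}) :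
    ringKrullDim (P.presheaf.stalk D.gen) ≤ 1 :=
  ringKrullDim_le_one _ (D.maximalIdeal_span hπ)

end FibreData

/-- A specialisation onto a point with one-dimensional local ring is immediate. -/
theorem immediate_of_dim_le_one {Y : Scheme.{u}} {w : Y} (hw : ringKrullDim (Y.presheaf.stalk w) ≤ 1)
    {x z : Y} (h1 : x ⤳ z) (h2 : z ⤳ w) : z = x ∨ z = w := by
  by_contra hcon
  push_neg at hcon
  rw [AlgebraicGeometry.ringKrullDim_stalk_eq_coheight] at hw
  have hcd : ((1 : ℕ) : WithBot ℕ∞) = 1 := Nat.cast_one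
  have hlt1 : w < z := lt_of_le_not_ge h2 fun e => hcon.2 (Specializes.antisymm h2 e).eq
  have hlt2 : z < x := lt_of_le_not_ge h1 fun e => hcon.1 (Specializes.antisymm e h1).eq
  let s : LTSeries Y := ((RelSeries.singleton _ w).snoc z (by simpa using hlt1)).snoc x (by simpa using hlt2)
  have hs : (2 : ℕ∞) ≤ Order.coheight w := by
    have := Order.length_le_coheight (p := s) (x := w) (by simp [s])
    simpa [s] using this
  have h3 : Order.coheight w ≤ 1 := WithBot.coe_le_coe.1 hw
  exact absurd (hs.trans h3) (by decide)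

end Groth.Agent.H3Cyc.CurveA1
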