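import Groth.Agent.H3Cyc.SectFam
import Groth.Agent.H11Proj.ProperQProj
import Groth.Prelude.Def_AlgEqCyc
import Mathlib

/-!
# Two rational points on the image of a smooth projective curve are algebraically equivalent
-/

set_option autoImplicit false
set_option backward.isDefEq.respectTransparency.types false
set_option linter.style.haveILetI false
universe u

open AlgebraicGeometry CategoryTheory CategoryTheory.Limits

namespace Groth.Agent.H3Cyc.CurveAlg

variable {k : Type u} [Field k]

/-- The member at a rational point of the family given by a closed graph. -/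
theorem fibreFun_graph {X C : Scheme.{u}} [IrreducibleSpace ↥C] [DecidableEq ↥X]
    (p : X ⟶ Spec (CommRingCat.of k)) (q : C ⟶ Spec (CommRingCat.of k))
    (ι : C ⟶ X) (σ : C ⟶ pullback p q) [IsClosedImmersion σ] [DecidableEq ↥(pullback p q)]
    (hσ1 : σ ≫ pullback.fst p q = ι) (hσ2 : σ ≫ pullback.snd p q = 𝟙 C)
    (P : Spec (CommRingCat.of k) ⟶ C) (hP : P ≫ q = 𝟙 _) (x : X) :
    AlgEqCyc.fibreFun p q
      (Function.locallyFinsuppWithin.single (σ (genericPoint C)) (1 : ℤ)) P hP x =
      if x = ι (P (IsLocalRing.closedPoint k)) then 1 else 0 := by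
  let g : pullback p q ⟶ C := pullback.snd p q
  haveI : IsIso (σ ≫ g) := by
    rw [show σ ≫ g = 𝟙 C from hσ2]; infer_instance
  have hf : AlgEqCyc.slice p q P hP ≫ pullback.fst p q = 𝟙 X := pullback.lift_fst _ _ _
  have hg : AlgEqCyc.slice p q P hP ≫ pullback.snd p q = p ≫ P := pullback.lift_snd _ _ _
  have hιp : ι ≫ p = q := by
    rw [← hσ1, Category.assoc, pullback.condition, ← Category.assoc, hσ2, Category.id_comp]
  have hs : AlgEqCyc.slice p q P hP (ι (P (IsLocalRing.closedPoint k))) = σ (P (IsLocalRing.closedPoint k)) := by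
    have h2 : (P ≫ ι) ≫ AlgEqCyc.slice p q P hP = P ≫ σ := by
      apply pullback.hom_ext
      · simp only [Category.assoc, hf, hσ1, Category.comp_id]
      · simp only [Category.assoc, hg, hσ2, reassoc_of% hιp, reassoc_of% hP, Category.comp_id]
    exact congrArg (fun m : Spec (CommRingCat.of k) ⟶ pullback p q => m (IsLocalRing.closedPoint k)) h2
  have hy : ∀ y, σ (genericPoint C) ⤳ AlgEqCyc.slice p q P hP y → y = ι (P (IsLocalRing.closedPoint k)) := by
    intro y h
    obtain ⟨z, hz⟩ := (σ.isClosedEmbedding.isClosed_range.closure_eq ▸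
      closure_mono (Set.singleton_subset_iff.2 (Set.mem_range_self _)) (specializes_iff_mem_closure.1 h) :
        AlgEqCyc.slice p q P hP y ∈ Set.range σ)
    have h1 : pullback.snd p q (σ z) = z := by
      rw [← Scheme.Hom.comp_apply, hσ2]; rfl
    have h2 : pullback.snd p q (AlgEqCyc.slice p q P hP y) = P (IsLocalRing.closedPoint k) := by
      rw [← Scheme.Hom.comp_apply, hg, Scheme.Hom.comp_apply]
      exact congrArg P (Subsingleton.elim _ _)
    rw [hz, h2] at h1
    have h3 : pullback.fst p q (σ z) = ι z := by rw [← Scheme.Hom.comp_apply, hσ1]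
    have h4 : pullback.fst p q (AlgEqCyc.slice p q P hP y) = y := by
      rw [← Scheme.Hom.comp_apply, hf]; rfl
    rw [hz, h4, ← h1] at h3
    exact h3
  unfold AlgEqCyc.fibreFun
  split_ifs with hx
  · subst hx
    have hsp : genericPoint C ⤳ P (IsLocalRing.closedPoint k) := genericPoint_specializes _
    have hsp' : σ (genericPoint C) ⤳ AlgEqCyc.slice p q P hP (ι (P (IsLocalRing.closedPoint k))) := by
      rw [hs]; exact hsp.map σ.continuous
    have hw : Function.locallyFinsuppWithin.single (σ (genericPoint C)) (1 : ℤ) (σ (genericPoint C)) ≠ 0 := by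
      simp
    rw [finsum_eq_single _ ⟨σ (genericPoint C), hw, hsp'⟩]
    · simp only [Function.locallyFinsuppWithin.single_apply]
      simp only [if_true, one_mul]
      norm_cast
      have key : ∀ (v : ↥(pullback p q)) (hv : σ (genericPoint C) ⤳ v),
          v = σ (P (IsLocalRing.closedPoint k)) → AlgEqCyc.fibreMult g v (σ (genericPoint C)) hv = 1 := by
        rintro v hv rfl
        exact Groth.Agent.H3Cyc.SectFam.fibreMult_section g σ _ _ hsp hv
      exact key _ hsp' hs
    · rintro ⟨w, hw1, hw2⟩ hne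
      simp only [Function.locallyFinsuppWithin.single_apply, ne_eq, ite_eq_right_iff, one_ne_zero,
        imp_false, not_not] at hw1
      exact absurd (Subtype.ext hw1) hne
  · apply finsum_eq_zero_of_forall_eq_zero
    rintro ⟨w, hw1, hw2⟩
    simp only [Function.locallyFinsuppWithin.single_apply, ne_eq, ite_eq_right_iff, one_ne_zero,
      imp_false, not_not] at hw1
    subst hw1
    exact absurd (hy x hw2) hx

/-- Two rational points on a smooth projective integral curve mapped to separated `X`. -/
theorem isAlgEquiv {X C : Scheme.{u}} [DecidableEq ↥X] (p : X ⟶ Spec (CommRingCat.of k)) [IsSeparated p]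
    (q : C ⟶ Spec (CommRingCat.of k)) (ι : C ⟶ X) (hq : ι ≫ p = q) (hs : Smooth q)
    (hp : Neron.IsProjectiveOver k (Over.mk q)) [IsIntegral C] (hd : topologicalKrullDim ↥C = 1)
    (P₁ P₂ : Spec (CommRingCat.of k) ⟶ C) (h₁ : P₁ ≫ q = 𝟙 _) (h₂ : P₂ ≫ q = 𝟙 _) :
    AlgEqCyc.IsAlgEquiv p
      (Function.locallyFinsuppWithin.single (ι (P₁ (IsLocalRing.closedPoint k))) (1 : ℤ))
      (Function.locallyFinsuppWithin.single (ι (P₂ (IsLocalRing.closedPoint k))) (1 : ℤ)) := by
  classical
  obtain ⟨n, i, hicl, hii⟩ := hp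
  let σ : C ⟶ pullback p q := pullback.lift ι (𝟙 C) (by rw [hq, Category.id_comp])
  have hσ1 : σ ≫ pullback.fst p q = ι := pullback.lift_fst _ _ _
  have hσ2 : σ ≫ pullback.snd p q = 𝟙 C := pullback.lift_snd _ _ _
  haveI : IsClosedImmersion (σ ≫ pullback.snd p q) := by rw [hσ2]; infer_instance
  haveI : IsClosedImmersion σ := IsClosedImmersion.of_comp σ (pullback.snd p q)
  refine AddSubgroup.subset_closure ⟨C, q, hs, ⟨n, i, hicl, hii⟩, inferInstance, hd,
    Function.locallyFinsuppWithin.single (σ (genericPoint C)) (1 : ℤ), ?_, P₁, P₂, h₁, h₂, ?_⟩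
  · intro w hw
    simp only [Function.locallyFinsuppWithin.single_apply, ne_eq, ite_eq_right_iff, one_ne_zero,
      imp_false, not_not] at hw
    subst hw
    rw [← Scheme.Hom.comp_apply, hσ2]
    exact genericPoint_closure _
  · intro x
    rw [fibreFun_graph p q ι σ hσ1 hσ2 P₁ h₁ x, fibreFun_graph p q ι σ hσ1 hσ2 P₂ h₂ x]
    simp [Pi.single_apply]

end Groth.Agent.H3Cyc.CurveAlg
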