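import Groth.Agent.H3Cyc.ColonIdeal
import Groth.Agent.H3Cyc.PushDiv
import Groth.Agent.H25Euler.Additive
import Groth.Agent.H25Euler.Degree
import Groth.Agent.H25Par.StalkProd
import Groth.Agent.H25Par.FiniteSupport
import Groth.Agent.H25Par.FibKer
import Groth.Agent.H28Index.IndexPoint
import Groth.Agent.H05EGA4.DimFibre
import Groth.Agent.H10Coh.FinType2
import Groth.Agent.H24FSch.ModSysPush
import Mathlib

/-!
# The degree of a principal divisor on a proper integral curve is zero
-/

set_option autoImplicit false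
set_option linter.style.haveILetI false
set_option linter.unusedSectionVars false
universe u

open AlgebraicGeometry CategoryTheory CategoryTheory.Limits TopologicalSpace IsLocalRing
open scoped nonZeroDivisors Pointwise

namespace Groth.Agent.H3Cyc.CurveDeg

theorem length_quot_mul {A : Type u} [CommRing A] {x : A} (hx : x ∈ A⁰) (I : Ideal A) :
    Module.length A (A ⧸ Ideal.span {x} * I) =
      Module.length A (A ⧸ I) + Module.length A (A ⧸ Ideal.span {x}) := by
  have h : (x • I : Ideal A) = Ideal.span {x} * I := by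
    ext y
    simp [Submodule.mem_smul_pointwise_iff_exists, Ideal.mem_span_singleton_mul, smul_eq_mul]
  rw [← h]
  exact Module.length_eq_add_of_exact (Ideal.mulQuot x I) (Ideal.quotOfMul x I) (Ideal.mulQuot_injective I hx)
    (Ideal.quotOfMul_surjective I) (Ideal.exact_mulQuot_quotOfMul I)

/-- Colengths of two ideals differing by the factor `a / b`. -/
theorem length_sub_eq {A L : Type u} [CommRing A] [IsDomain A] [IsNoetherianRing A] [Ring.KrullDimLE 1 A]
    [Field L] [Algebra A L] [IsFractionRing A L] {g : L} {a b : A} (ha : a ≠ 0) (hb : b ≠ 0)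
    (hab : algebraMap A L a = algebraMap A L b * g) (I I' : Ideal A)
    (h : ∀ z, z ∈ I' ↔ ∃ w ∈ I, algebraMap A L z = algebraMap A L w * g) (hbI : b ∈ I)
    (hden : ∀ w ∈ I, ∃ z, algebraMap A L z = algebraMap A L w * g) :
    Module.length A (A ⧸ I) ≠ ⊤ ∧ Module.length A (A ⧸ I') ≠ ⊤ ∧
      ((Module.length A (A ⧸ I')).toNat : ℤ) - (Module.length A (A ⧸ I)).toNat = CycAlg.ordFrac A L g := by
  have haI : a ∈ I' := (h a).mpr ⟨b, hbI, hab⟩
  have fin : ∀ (J : Ideal A) (c : A), c ≠ 0 → c ∈ J → Module.length A (A ⧸ J) ≠ ⊤ := fun J c hc hcJ =>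
    ne_top_of_le_ne_top (Ring.ord_ne_top (mem_nonZeroDivisors_of_ne_zero hc))
      (Module.length_le_of_surjective (Submodule.factor ((Ideal.span_singleton_le_iff_mem J).mpr hcJ))
        (Submodule.factor_surjective _))
  have heq : Ideal.span {b} * I' = Ideal.span {a} * I := by
    refine le_antisymm (fun y hy => ?_) (fun y hy => ?_)
    · obtain ⟨z, hz, rfl⟩ := Ideal.mem_span_singleton_mul.mp hy
      obtain ⟨w, hw, hzw⟩ := (h z).mp hz
      refine Ideal.mem_span_singleton_mul.mpr ⟨w, hw, IsFractionRing.injective A L ?_⟩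
      rw [map_mul, map_mul, hab, hzw]; ring
    · obtain ⟨w, hw, rfl⟩ := Ideal.mem_span_singleton_mul.mp hy
      obtain ⟨z, hz⟩ := hden w hw
      refine Ideal.mem_span_singleton_mul.mpr ⟨z, (h z).mpr ⟨w, hw, hz⟩, IsFractionRing.injective A L ?_⟩
      rw [map_mul, map_mul, hab, hz]; ring
  have hfI := fin I b hb hbI
  have hfI' := fin I' a ha haI
  refine ⟨hfI, hfI', ?_⟩
  have ha' := mem_nonZeroDivisors_of_ne_zero ha
  have hb' := mem_nonZeroDivisors_of_ne_zero hb
  have h1 := length_quot_mul hb' I'
  rw [heq, length_quot_mul ha' I] at h1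
  have hg : g = algebraMap A L a / algebraMap A L b := by
    rw [hab, mul_div_cancel_left₀ _ fun e => hb (IsFractionRing.injective A L (e.trans (map_zero _).symm))]
  rw [hg, H22Alg.cycOrdFrac_div L ha' hb']
  have h2 := congrArg ENat.toNat h1
  have oa : Module.length A (A ⧸ Ideal.span {a}) ≠ ⊤ := Ring.ord_ne_top ha'
  have ob : Module.length A (A ⧸ Ideal.span {b}) ≠ ⊤ := Ring.ord_ne_top hb'
  rw [ENat.toNat_add hfI oa, ENat.toNat_add hfI' ob] at h2
  simp only [Ring.ord]
  omega

theorem length_eq_mul {k A : Type u} [Field k] [CommRing A] [IsLocalRing A] [Algebra k A]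
    (M : Type u) [AddCommGroup M] [Module A M] [Module k M] [IsScalarTower k A M]
    (hM : Module.length A M ≠ ⊤) :
    Module.length k M = Module.length k (A ⧸ maximalIdeal A) * Module.length A M := by
  suffices key : ∀ (Q : Type u) [AddCommGroup Q] [Module A Q], IsFiniteLength A Q →
      ∀ [Module k Q] [IsScalarTower k A Q],
        Module.length k Q = Module.length k (A ⧸ maximalIdeal A) * Module.length A Q from
    key M (Module.length_ne_top_iff.mp hM)
  intro Q _ _ hQ
  induction hQ with
  | @of_subsingleton Q _ _ _ => intro _ _; rw [Module.length_eq_zero (R := k) (M := Q), Module.length_eq_zero (R := A) (M := Q), mul_zero]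
  | @of_simple_quotient Q _ _ P _ _ ih =>
    intro _ _
    rw [Module.length_eq_add_of_exact (P.subtype.restrictScalars k) (P.mkQ.restrictScalars k)
        Subtype.coe_injective P.mkQ_surjective (LinearMap.exact_subtype_mkQ P),
      Module.length_eq_add_of_exact P.subtype P.mkQ Subtype.coe_injective P.mkQ_surjective
        (LinearMap.exact_subtype_mkQ P), ih, mul_add]
    congr 1
    obtain ⟨m, hm, ⟨e⟩⟩ := isSimpleModule_iff_quot_maximal.mp (inferInstance : IsSimpleModule A (Q ⧸ P))
    obtain rfl := IsLocalRing.eq_maximalIdeal hm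
    haveI : IsSimpleModule A (A ⧸ maximalIdeal A) := IsSimpleModule.congr e.symm
    rw [e.length_eq, (e.restrictScalars k).length_eq, Module.length_eq_one_iff.mpr (inferInstance : IsSimpleModule A (A ⧸ maximalIdeal A)), mul_one]

theorem toNat_length (k V : Type u) [Field k] [AddCommGroup V] [Module k V] :
    (Module.length k V).toNat = Module.finrank k V := by
  by_cases h : Module.length k V = ⊤
  · rw [h, ENat.toNat_top, Module.finrank_of_not_finite fun hf => ?_]
    haveI := hf
    rw [Module.length_eq_finrank] at h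
    exact ENat.natCast_ne_top _ h
  · haveI : IsNoetherian k V := ((isFiniteLength_iff_isNoetherian_isArtinian.mp (Module.length_ne_top_iff.mp h))).1
    rw [Module.length_eq_finrank, ENat.toNat_natCast]

section curve

variable {k : Type u} [Field k] {X : Scheme.{u}} [X.Over (Spec (CommRingCat.of k))]

theorem residueDegree_eq_finrank (x : X) :
    letI := (H25Par.constStalk (k := k) x).toAlgebra
    (X ↘ Spec (CommRingCat.of k)).residueDegree x =
      Module.finrank k (X.presheaf.stalk x ⧸ maximalIdeal (X.presheaf.stalk x)) := by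
  letI := (H25Par.constStalk (k := k) x).toAlgebra
  let ψ : CommRingCat.of k ⟶ X.residueField x :=
    CommRingCat.ofHom (H25Par.constStalk (k := k) x) ≫ X.residue x
  refine (H28Index.residueDegree_eq (X ↘ Spec (CommRingCat.of k)) x ψ ?_).trans rfl
  rw [Spec.map_comp]
  show Spec.map (X.residue x) ≫ _ = X.fromSpecResidueField x ≫ _
  rw [Scheme.fromSpecResidueField, Category.assoc]
  congr 1
  show Spec.map ((Scheme.ΓSpecIso (CommRingCat.of k)).inv ≫ (X ↘ Spec (CommRingCat.of k)).appTop ≫
    X.presheaf.germ ⊤ x trivial) = _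
  rw [Spec.map_comp, Spec.map_comp, ← Scheme.fromSpecStalk_toSpecΓ, Category.assoc, Category.assoc,
    ← Category.assoc X.toSpecΓ, ← Scheme.toSpecΓ_naturality, Category.assoc,
    toSpecΓ_SpecMap_ΓSpecIso_inv, Category.comp_id]

variable [IsProper (X ↘ Spec (CommRingCat.of k))] [IsIntegral X] [IsNoetherian X]

/-- The Euler characteristic of a module with finite support. -/
theorem euler_finite_support {Q : X.Modules} (hQ : Coh.IsCoh Q) (S : Finset X)
    (hcl : ∀ z ∈ S, IsClosed ({z} : Set X)) (h : ∀ y, y ∉ S → Subsingleton (Q.presheaf.stalk y)) :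
    Curv2.euler k X Q = ∑ x ∈ S, (Module.finrank k (H25Par.Stk k Q x) : ℤ) := by
  have hb := H25Par.germs_bijective (k := k) Q S.finite_toSet hcl h
  haveI : Module.Finite k (Coh.HH X Q 0) := H10Coh.finite_HH_proper k X Q hQ 0
  haveI : Module.Finite k (∀ y : (S : Set X), H25Par.Stk k Q y.1) :=
    Module.Finite.equiv (LinearEquiv.ofBijective _ hb)
  haveI : ∀ y : (S : Set X), Module.Finite k (H25Par.Stk k Q y.1) := fun y =>
    Module.Finite.of_surjective (LinearMap.proj (R := k) (φ := fun y : (S : Set X) => H25Par.Stk k Q y.1) y)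
      (LinearMap.proj_surjective y)
  rw [H25Euler.euler_eq_sum Q 1 fun p hp => H25Par.subsingleton_HH_of_finite_support Q S.finite_toSet hcl h hp,
    Finset.sum_range_one, pow_zero, one_mul, (LinearEquiv.ofBijective _ hb).finrank_eq,
    Module.finrank_pi_fintype, Nat.cast_sum]
  exact Finset.sum_coe_sort S (fun x => (Module.finrank k (H25Par.Stk k Q x) : ℤ))

/-- The contribution of a point. -/
theorem finrank_stk {Q : X.Modules} {x : X} (I : Ideal (X.presheaf.stalk x))
    (e : (X.presheaf.stalk x ⧸ I) ≃ₗ[X.presheaf.stalk x] Q.presheaf.stalk x)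
    (hI : Module.length (X.presheaf.stalk x) (X.presheaf.stalk x ⧸ I) ≠ ⊤) :
    Module.finrank k (H25Par.Stk k Q x) = (X ↘ Spec (CommRingCat.of k)).residueDegree x *
      (Module.length (X.presheaf.stalk x) (X.presheaf.stalk x ⧸ I)).toNat := by
  letI := (H25Par.constStalk (k := k) x).toAlgebra
  let e' : (X.presheaf.stalk x ⧸ I) ≃ₗ[k] H25Par.Stk k Q x :=
    { e with
      map_smul' := fun a v => by
        show e (a • v) = H25Par.constStalk (k := k) x a • e v
        rw [← e.map_smul]
        exact congrArg e (IsScalarTower.algebraMap_smul (X.presheaf.stalk x) a v).symm }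
  rw [← e'.finrank_eq, residueDegree_eq_finrank (k := k) x, ← toNat_length, length_eq_mul _ hI, ENat.toNat_mul,
    toNat_length]

variable {g : X.functionField}

theorem isCoh_colon : Coh.IsCoh (ClSub.idealMod (Colon.colonSheaf g)) :=
  H10Coh.isCoh_kernel _ (H10Coh.isCoh_structureModule' _)
    (H24FSch.isCoh_pushforward_of_isClosedImmersion (Colon.colonSheaf g).subschemeι
      (H10Coh.isCoh_structureModule' _)).1

theorem stalk_dim (hdim : topologicalKrullDim X ≤ 1) (x : X) : Ring.KrullDimLE 1 (X.presheaf.stalk x) :=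
  Ring.krullDimLE_iff.mpr ((H05EGA4.DimFibre.stalkDim_le_top x).trans hdim)

/-- **The degree of a principal divisor is zero.** -/
theorem deg_divisor_eq_zero (hdim : topologicalKrullDim X = 1) (hg : g ≠ 0) :
    ∑ᶠ (x : X) (_ : IsClosed ({x} : Set X)), ((X ↘ Spec (CommRingCat.of k)).residueDegree x : ℤ) *
      CycAlg.ordFrac (X.presheaf.stalk x) X.functionField g = 0 := by
  classical
  obtain ⟨β, hβ⟩ := Colon.exists_mulHom g
  haveI := Colon.mono_mulHom hg hβ
  let α := ClSub.idealModι (Colon.colonSheaf g)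
  haveI : Mono α := inferInstanceAs (Mono (kernel.ι _))
  haveI : ∀ x : X, Ring.KrullDimLE 1 (X.presheaf.stalk x) := stalk_dim hdim.le
  -- local data
  have hloc : ∀ x : X, Module.length (X.presheaf.stalk x) (X.presheaf.stalk x ⧸ Colon.vals α x) ≠ ⊤ ∧
      Module.length (X.presheaf.stalk x) (X.presheaf.stalk x ⧸ Colon.vals β x) ≠ ⊤ ∧
      ((Module.length (X.presheaf.stalk x) (X.presheaf.stalk x ⧸ Colon.vals β x)).toNat : ℤ) -
        (Module.length (X.presheaf.stalk x) (X.presheaf.stalk x ⧸ Colon.vals α x)).toNat =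
        CycAlg.ordFrac (X.presheaf.stalk x) X.functionField g := fun x => by
    obtain ⟨U, hU, hxU, -⟩ := exists_isAffineOpen_mem_and_subset (show x ∈ (⊤ : X.Opens) from trivial)
    obtain ⟨a, b, hb, hab, hbc⟩ := Colon.exists_frac_mem g hU (Colon.mem_generic hxU)
    have hbI := Colon.germ_mem_vals hU hxU hbc
    refine length_sub_eq (a := X.presheaf.germ U x hxU a) (b := X.presheaf.germ U x hxU b) ?_ ?_ ?_ _ _
      (fun z => Colon.mem_vals_mulHom_iff hβ x z) hbI ?_
    · intro e
      have := congrArg (algebraMap _ X.functionField) e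
      rw [Colon.algebraMap_germ, map_zero, hab] at this
      exact mul_ne_zero hb hg this
    · intro e
      have := congrArg (algebraMap _ X.functionField) e
      rw [Colon.algebraMap_germ, map_zero] at this
      exact hb this
    · rw [Colon.algebraMap_germ, Colon.algebraMap_germ]
      exact hab
    · intro w hw
      exact Colon.exists_of_mem_vals hw
  -- the supports
  have hcoh : ∀ (μ : ClSub.idealMod (Colon.colonSheaf g) ⟶ Coh.structureModule X), Coh.IsCoh (cokernel μ) :=
    fun μ => H10Coh.isCoh_cokernel μ isCoh_colon.1 (H10Coh.isCoh_structureModule' _)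
  have hgen : ∀ (μ : ClSub.idealMod (Colon.colonSheaf g) ⟶ Coh.structureModule X) [Mono μ] {z : X.presheaf.stalk
      (genericPoint X)}, z ≠ 0 → z ∈ Colon.vals μ (genericPoint X) → genericPoint X ∉ CohB1.support (cokernel μ) := by
    intro μ _ z hz hzm
    have htop : Colon.vals μ (genericPoint X) = ⊤ := Ideal.eq_top_of_isUnit_mem _ hzm
      (IsUnit.mk0 (G₀ := X.functionField) z hz)
    obtain ⟨e⟩ := Colon.exists_equiv_vals μ (genericPoint X)
    haveI : Subsingleton (X.presheaf.stalk (genericPoint X) ⧸ Colon.vals μ (genericPoint X)) :=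
      Submodule.Quotient.subsingleton_iff.mpr htop
    exact not_not.2 e.symm.toEquiv.subsingleton
  obtain ⟨U, hU, hηU, -⟩ := exists_isAffineOpen_mem_and_subset (show genericPoint X ∈ (⊤ : X.Opens) from trivial)
  obtain ⟨a, b, hb, hab, hbc⟩ := Colon.exists_frac_mem g hU hηU
  have hbI := Colon.germ_mem_vals hU hηU hbc
  have hgα : genericPoint X ∉ CohB1.support (cokernel α) := hgen α hb hbI
  have hgβ : genericPoint X ∉ CohB1.support (cokernel β) := hgen β (z := X.presheaf.germ U _ hηU a)
    (show Colon.gη hηU a ≠ 0 by rw [hab]; exact mul_ne_zero hb hg)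
    ((Colon.mem_vals_mulHom_iff hβ _ _).mpr ⟨_, hbI, by rw [Colon.algebraMap_germ, Colon.algebraMap_germ]; exact hab⟩)
  obtain ⟨hfα, hcα⟩ := H25Par.finite_of_isClosed_of_notMem hdim.le
    (H10Coh.isClosed_support (cokernel α) (hcoh α).2) hgα
  obtain ⟨hfβ, hcβ⟩ := H25Par.finite_of_isClosed_of_notMem hdim.le
    (H10Coh.isClosed_support (cokernel β) (hcoh β).2) hgβ
  let S := hfα.toFinset ∪ hfβ.toFinset
  have hScl : ∀ z ∈ S, IsClosed ({z} : Set X) := fun z hz => by
    rcases Finset.mem_union.mp hz with h | h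
    · exact hcα z (hfα.mem_toFinset.mp h)
    · exact hcβ z (hfβ.mem_toFinset.mp h)
  have hoff : ∀ y, y ∉ S → Subsingleton ((cokernel α).presheaf.stalk y) ∧
      Subsingleton ((cokernel β).presheaf.stalk y) := fun y hy =>
    ⟨not_not.1 fun h => hy (Finset.mem_union_left _ (hfα.mem_toFinset.mpr h)),
      not_not.1 fun h => hy (Finset.mem_union_right _ (hfβ.mem_toFinset.mpr h))⟩
  -- Euler characteristics
  have hχ : ∀ (μ : ClSub.idealMod (Colon.colonSheaf g) ⟶ Coh.structureModule X) [Mono μ],
      Curv2.euler k X (Coh.structureModule X) =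
        Curv2.euler k X (ClSub.idealMod (Colon.colonSheaf g)) + Curv2.euler k X (cokernel μ) := fun μ _ =>
    H25Euler.euler_add (k := k) (S := ShortComplex.mk μ (cokernel.π μ) (cokernel.condition μ))
      { exact := ShortComplex.exact_cokernel μ } isCoh_colon (H10Coh.isCoh_structureModule' _) (hcoh μ)
  have hsame : Curv2.euler k X (cokernel α) = Curv2.euler k X (cokernel β) := by
    have h1 := hχ α
    have h2 := hχ β
    omega
  rw [euler_finite_support (k := k) (hcoh α) S hScl (fun y hy => (hoff y hy).1),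
    euler_finite_support (k := k) (hcoh β) S hScl (fun y hy => (hoff y hy).2)] at hsame
  have hterm : ∀ x, ((X ↘ Spec (CommRingCat.of k)).residueDegree x : ℤ) *
      CycAlg.ordFrac (X.presheaf.stalk x) X.functionField g =
      (Module.finrank k (H25Par.Stk k (cokernel β) x) : ℤ) - Module.finrank k (H25Par.Stk k (cokernel α) x) := fun x => by
    obtain ⟨eα⟩ := Colon.exists_equiv_vals α x
    obtain ⟨eβ⟩ := Colon.exists_equiv_vals β x
    rw [finrank_stk (k := k) _ eα (hloc x).1, finrank_stk (k := k) _ eβ (hloc x).2.1, ← (hloc x).2.2]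
    push_cast
    ring
  show ∑ᶠ (x : X) (_ : x ∈ {x : X | IsClosed ({x} : Set X)}), _ = _
  rw [finsum_mem_eq_sum_of_subset (s := {x : X | IsClosed ({x} : Set X)}) _ (t := S) ?_ (fun z hz => hScl z hz),
    Finset.sum_congr rfl fun x _ => hterm x, Finset.sum_sub_distrib, hsame, sub_self]
  rintro x ⟨-, hx⟩
  by_contra hxS
  refine hx ?_
  obtain ⟨h1, h2⟩ := hoff x hxS
  haveI : Subsingleton (H25Par.Stk k (cokernel α) x) := h1
  haveI : Subsingleton (H25Par.Stk k (cokernel β) x) := h2
  beta_reduce
  rw [hterm, Module.finrank_zero_of_subsingleton, Module.finrank_zero_of_subsingleton, sub_self]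

end curve

end Groth.Agent.H3Cyc.CurveDeg
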