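import Groth.Agent.H3Cyc.KDiv
import Mathlib

/-!
# A pair of maps to the structure sheaf with prescribed ratio at the generic point
-/

set_option autoImplicit false
set_option linter.style.haveILetI false
set_option linter.unusedSectionVars false
set_option backward.isDefEq.respectTransparency.types false
universe u v

open CategoryTheory CategoryTheory.Limits AlgebraicGeometry TopologicalSpace Opposite IsLocalRing
open Groth.Agent.H16Derived.KFlat.Stalk
open Groth.Agent.H3Cyc.KDev Groth.Agent.H3Cyc.KSky Groth.Agent.H3Cyc.KFam Groth.Agent.H3Cyc.KCls Groth.Agent.H3Cyc.KDiv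

noncomputable section

namespace Groth.Agent.H3Cyc.KPairStalk

variable {W : Scheme.{u}} [IsIntegral W] [IsLocallyNoetherian W] {δ : W → ℤ}

theorem exists_pair_stalk (hδ : Cyc.IsDimFun W δ) {k : ℤ} (hη : δ (genericPoint W) = k + 1)
    {f : W.presheaf.stalk (genericPoint W)} (hg : (W.residue (genericPoint W)).hom f ≠ 0) :
    ∃ (J : W.Modules) (a b : J ⟶ Coh.structureModule W), Mono a ∧ Mono b ∧ Coh.IsCoh J ∧
      (∀ v, sl b (genericPoint W) v = f • sl a (genericPoint W) v) ∧
      Cyc.CohLe δ k (cokernel a) ∧ Cyc.CohLe δ k (cokernel b) ∧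
      ∀ w, Cyc.sheafFun δ k (cokernel b) w - Cyc.sheafFun δ k (cokernel a) w =
        Cyc.divFun δ (genericPoint W) ((W.residue (genericPoint W)).hom f) w := by
  classical
  have hf : (f : W.functionField) ≠ 0 := fun e =>
    hg ((congrArg (IsLocalRing.residue _) (show f = 0 from e)).trans (map_zero _))
  obtain ⟨β, hβ⟩ := Colon.exists_mulHom (X := W) f
  haveI := Colon.mono_mulHom hf hβ
  let α := ClSub.idealModι (Colon.colonSheaf (X := W) f)
  haveI : Mono α := inferInstanceAs (Mono (kernel.ι _))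
  have hJ : Coh.IsCoh (ClSub.idealMod (Colon.colonSheaf (X := W) f)) :=
    H10Coh.isCoh_kernel _ (H10Coh.isCoh_structureModule' _)
      (H24FSch.isCoh_pushforward_of_isClosedImmersion (Colon.colonSheaf (X := W) f).subschemeι
        (H10Coh.isCoh_structureModule' _)).1
  have hcoh : ∀ μ : ClSub.idealMod (Colon.colonSheaf (X := W) f) ⟶ Coh.structureModule W,
      Coh.IsCoh (cokernel μ) := fun μ => H10Coh.isCoh_cokernel μ hJ.1 (H10Coh.isCoh_structureModule' _)
  have hgen : ∀ (μ : ClSub.idealMod (Colon.colonSheaf (X := W) f) ⟶ Coh.structureModule W) [Mono μ]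
      {z : W.presheaf.stalk (genericPoint W)}, z ≠ 0 → z ∈ Colon.vals μ (genericPoint W) →
      genericPoint W ∉ CohB1.support (cokernel μ) := by
    intro μ _ z hz hzm
    have htop : Colon.vals μ (genericPoint W) = ⊤ := Ideal.eq_top_of_isUnit_mem _ hzm
      (IsUnit.mk0 (G₀ := W.functionField) z hz)
    obtain ⟨e⟩ := Colon.exists_equiv_vals μ (genericPoint W)
    haveI : Subsingleton (W.presheaf.stalk (genericPoint W) ⧸ Colon.vals μ (genericPoint W)) :=
      Submodule.Quotient.subsingleton_iff.mpr htop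
    exact not_not.2 e.symm.toEquiv.subsingleton
  obtain ⟨U, hU, hηU, -⟩ := exists_isAffineOpen_mem_and_subset (show genericPoint W ∈ (⊤ : W.Opens) from trivial)
  obtain ⟨a, b, hb, hab, hbc⟩ := Colon.exists_frac_mem f hU hηU
  have hbI := Colon.germ_mem_vals hU hηU hbc
  have hgα : genericPoint W ∉ CohB1.support (cokernel α) := hgen α hb hbI
  have hgβ : genericPoint W ∉ CohB1.support (cokernel β) := hgen β (z := W.presheaf.germ U _ hηU a)
    (show Colon.gη hηU a ≠ 0 by rw [hab]; exact mul_ne_zero hb hf)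
    ((Colon.mem_vals_mulHom_iff hβ _ _).mpr ⟨_, hbI, by rw [Colon.algebraMap_germ, Colon.algebraMap_germ]; exact hab⟩)
  have hle : ∀ M : W.Modules, Coh.IsCoh M → genericPoint W ∉ CohB1.support M → Cyc.CohLe δ k M := fun M hM hn =>
    cohLe_iff.mpr ⟨hM, fun y hy => by
      have := (hδ (genericPoint W) y (genericPoint_specializes y) (by rintro rfl; exact hn hy)).1
      omega⟩
  refine ⟨_, α, β, ‹_›, ‹_›, hJ, fun v => ?_, hle _ (hcoh α) hgα, hle _ (hcoh β) hgβ, fun w => ?_⟩
  · obtain ⟨U, hx, m, rfl⟩ := (ClSub.idealMod (Colon.colonSheaf (X := W) f)).presheaf.exists_germ_eq v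
    obtain ⟨V, hV, hxV, hVU⟩ := exists_isAffineOpen_mem_and_subset (U := U) hx
    rw [← (ClSub.idealMod (Colon.colonSheaf (X := W) f)).presheaf.germ_res_apply (homOfLE (show V ≤ U from hVU)) _ hxV m]
    let m' : Γ(ClSub.idealMod (Colon.colonSheaf (X := W) f), V) :=
      (ClSub.idealMod (Colon.colonSheaf (X := W) f)).presheaf.map (homOfLE (show V ≤ U from hVU)).op m
    have key : ∀ s : Γ(Coh.structureModule W, V), (Coh.structureModule W).presheaf.germ V (genericPoint W) hxV s =
        W.presheaf.germ V (genericPoint W) hxV (OmegaSh.fnSect W V s) • H06EGA9.oneStalk (genericPoint W) :=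
      fun s => (H06EGA9.smul_oneStalk (genericPoint W) V hxV _).symm
    show H06Mod.stalkLin β (genericPoint W) _ = f • H06Mod.stalkLin α (genericPoint W) _
    rw [H06Mod.stalkLin_germ, H06Mod.stalkLin_germ, key, key, smul_smul]
    refine congrArg (· • _) ?_
    refine (hβ V ⟨hV, hxV⟩ m').trans ?_
    exact mul_comm (G := W.presheaf.stalk (genericPoint W)) _ f
  by_cases hw : δ w = k
  swap
  · simp only [sheafFun_of_ne hw, sub_zero, Cyc.divFun]
    rw [dif_neg]
    rintro ⟨-, h⟩
    omega
  simp only [Cyc.divFun, sheafFun_of_eq hw]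
  rw [dif_pos ⟨genericPoint_specializes w, by omega⟩]
  refine Eq.trans ?_ (ordAt_eq w f).symm
  haveI : Ring.KrullDimLE 1 (W.presheaf.stalk w) :=
    Ring.krullDimLE_iff.mpr (ringKrullDim_le_one hδ (w := w) (by omega))
  obtain ⟨eα⟩ := Colon.exists_equiv_vals α w
  obtain ⟨eβ⟩ := Colon.exists_equiv_vals β w
  rw [← eα.length_eq, ← eβ.length_eq]
  obtain ⟨U, hU, hwU, -⟩ := exists_isAffineOpen_mem_and_subset (show w ∈ (⊤ : W.Opens) from trivial)
  obtain ⟨a, b, hb, hab, hbc⟩ := Colon.exists_frac_mem f hU (Colon.mem_generic hwU)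
  refine (CurveDeg.length_sub_eq (a := W.presheaf.germ U w hwU a) (b := W.presheaf.germ U w hwU b) ?_ ?_ ?_ _ _
    (fun z => Colon.mem_vals_mulHom_iff hβ w z) (Colon.germ_mem_vals hU hwU hbc)
    fun v hv => Colon.exists_of_mem_vals hv).2.2
  · intro e
    have := congrArg (algebraMap _ W.functionField) e
    rw [Colon.algebraMap_germ, map_zero, hab] at this
    exact mul_ne_zero hb hf this
  · intro e
    have := congrArg (algebraMap _ W.functionField) e
    rw [Colon.algebraMap_germ, map_zero] at this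
    exact hb this
  · rw [Colon.algebraMap_germ, Colon.algebraMap_germ]
    exact hab

end Groth.Agent.H3Cyc.KPairStalk
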