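import Groth.Agent.H3Cyc.KIndex
import Groth.Agent.H3Cyc.KPairStalk
import Groth.Agent.H3Cyc.C1Api
import Mathlib

/-!
# The index of generic automorphisms is the divisor of the determinant
-/

set_option autoImplicit false
set_option linter.style.haveILetI false
set_option linter.unusedSectionVars false
set_option backward.isDefEq.respectTransparency.types false
universe u v

open CategoryTheory CategoryTheory.Limits AlgebraicGeometry TopologicalSpace Opposite IsLocalRing
open Groth.Agent.H16Derived.KFlat.Stalk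
open Groth.Agent.H3Cyc.KDev Groth.Agent.H3Cyc.KSky Groth.Agent.H3Cyc.KFam Groth.Agent.H3Cyc.KCls Groth.Agent.H3Cyc.KIndex

noncomputable section

namespace Groth.Agent.H3Cyc.KDet

variable {X : Scheme.{u}}

/-- A coherent model of the residue field at a point. -/
structure Model (ξ : X) where
  W : Scheme.{u}
  int : IsIntegral W
  i : W ⟶ X
  closed : IsClosedImmersion i
  gen : i (genericPoint W) = ξ

theorem nonempty_model (ξ : X) : Nonempty (Model ξ) := by
  obtain ⟨W, hW, i, hi, h⟩ := Transfer.exists_integral_closed ξ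
  exact ⟨⟨W, hW, i, hi, h⟩⟩

/-- The chosen model. -/
def model (ξ : X) : Model ξ := (nonempty_model ξ).some

attribute [instance] Model.int Model.closed

/-- The structure sheaf of the closure, as a module on `X`. -/
def Md (ξ : X) : X.Modules := (Coh.push (model ξ).i).obj (Coh.structureModule (model ξ).W)

variable [IsLocallyNoetherian X]

instance (ξ : X) : IsLocallyNoetherian (model ξ).W := LocallyOfFiniteType.isLocallyNoetherian (model ξ).i

theorem onPt_Md (ξ : X) : OnPt (Md ξ) ξ := by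
  refine ⟨H24FSch.isCoh_pushforward_of_isClosedImmersion _ (H10Coh.isCoh_structureModule' _), fun y hy => ?_⟩
  by_cases hr : y ∈ Set.range (model ξ).i
  · obtain ⟨w, rfl⟩ := hr
    have h := (genericPoint_specializes w).map (model ξ).i.continuous
    rwa [(model ξ).gen] at h
  · exact absurd hy (KDiv.notMem_support_push _ _ hr)

theorem length_Md (ξ : X) : Module.length (X.presheaf.stalk ξ) ((Md ξ).presheaf.stalk ξ) = 1 := by
  have key : ∀ (W : Scheme.{u}) [IsIntegral W] (i : W ⟶ X) [IsClosedImmersion i],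
      Module.length (X.presheaf.stalk (i (genericPoint W)))
        (((Coh.push i).obj (Coh.structureModule W)).presheaf.stalk (i (genericPoint W))) = 1 := fun W _ i _ => by
    rw [KDiv.length_push i (Coh.structureModule W) (genericPoint W)]
    rw [← (LinearEquiv.ofBijective (LinearMap.toSpanSingleton (W.presheaf.stalk (genericPoint W)) _
      (H06EGA9.oneStalk (genericPoint W))) (H06EGA9.bijective_smul_oneStalk (genericPoint W))).length_eq]
    have hfield : IsField (W.presheaf.stalk (genericPoint W)) := Field.toIsField W.functionField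
    exact Module.length_eq_one_iff.mpr (isSimpleModule_iff_toSpanSingleton_surjective.mpr ⟨inferInstance, fun a ha b => by
      obtain ⟨c, hc⟩ := hfield.mul_inv_cancel ha
      exact ⟨b * c, by
        show (b * c) * a = b
        rw [mul_assoc, mul_comm c a, hc, mul_one]⟩⟩)
  have h := key (model ξ).W (model ξ).i
  rw [(model ξ).gen] at h
  exact h

/-- `n` copies. -/
abbrev Rn (ξ : X) (n : ℕ) : X.Modules := ∐ fun _ : ULift.{u} (_root_.Fin n) => Md ξ

theorem locFin_fin (n : ℕ) (M : ULift.{u} (_root_.Fin n) → X.Modules) : LocFin M :=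
  fun _ => ⟨⊤, trivial, Set.toFinite _⟩

theorem onPt_Rn (ξ : X) (n : ℕ) : OnPt (Rn ξ n) ξ :=
  ⟨isCoh_sigma _ (locFin_fin n _) fun _ => (onPt_Md ξ).coh, fun y hy => by
    obtain ⟨_, h⟩ := Set.mem_iUnion.mp (support_sigma _ hy)
    exact (onPt_Md ξ).spec y h⟩

/-- The generic stalk of a copy. -/
def e1 (ξ : X) : (Md ξ).presheaf.stalk ξ ≃ₗ[X.presheaf.stalk ξ] ResidueField (X.presheaf.stalk ξ) :=
  (equiv_of_length_one (length_Md ξ) (Module.length_eq_one_iff.mpr
    (isSimpleModule_iff_quot_maximal.mpr ⟨_, IsLocalRing.maximalIdeal.isMaximal _, ⟨LinearEquiv.refl _ _⟩⟩))).some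

/-- Coordinates on the generic stalk. -/
def coords (ξ : X) (n : ℕ) : (Rn ξ n).presheaf.stalk ξ ≃ₗ[X.presheaf.stalk ξ]
    (_root_.Fin n → ResidueField (X.presheaf.stalk ξ)) :=
  LinearEquiv.ofBijective
    (LinearMap.pi fun i => (e1 ξ).toLinearMap.comp (sl (pr (fun _ : ULift.{u} (_root_.Fin n) => Md ξ) ⟨i⟩) ξ))
    ⟨fun a b h => by
      classical
      rw [← sum_pr (fun _ : ULift.{u} (_root_.Fin n) => Md ξ) Finset.univ (fun i _ => Finset.mem_univ i) a,
        ← sum_pr (fun _ : ULift.{u} (_root_.Fin n) => Md ξ) Finset.univ (fun i _ => Finset.mem_univ i) b]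
      exact Finset.sum_congr rfl fun i _ => congrArg (sl (Sigma.ι _ i) ξ) ((e1 ξ).injective (congrFun h i.down)),
    fun v => ⟨∑ i : ULift.{u} (_root_.Fin n), sl (Sigma.ι (fun _ => Md ξ) i) ξ ((e1 ξ).symm (v i.down)),
      funext fun i => by
        classical
        show e1 ξ (sl (pr (fun _ : ULift.{u} (_root_.Fin n) => Md ξ) ⟨i⟩) ξ
          (∑ j : ULift.{u} (_root_.Fin n), sl (Sigma.ι (fun _ => Md ξ) j) ξ ((e1 ξ).symm (v j.down)))) = v i
        rw [map_sum, Finset.sum_eq_single (⟨i⟩ : ULift.{u} (_root_.Fin n))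
          (fun j _ h => sl_ι_pr (fun _ : ULift.{u} (_root_.Fin n) => Md ξ) _ j ξ _ h)
          (fun h => absurd (Finset.mem_univ _) h), ← sl_comp_apply, ι_pr_self, sl_id, LinearMap.id_apply,
          LinearEquiv.apply_symm_apply]⟩⟩

theorem coords_apply (ξ : X) (n : ℕ) (v : (Rn ξ n).presheaf.stalk ξ) (i : _root_.Fin n) :
    coords ξ n v i = e1 ξ (sl (pr (fun _ : ULift.{u} (_root_.Fin n) => Md ξ) ⟨i⟩) ξ v) := rfl

/-- The endomorphism of a matrix over the residue field. -/
def ev (ξ : X) (n : ℕ) (A : Matrix (_root_.Fin n) (_root_.Fin n) (ResidueField (X.presheaf.stalk ξ))) :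
    (Rn ξ n).presheaf.stalk ξ →ₗ[X.presheaf.stalk ξ] (Rn ξ n).presheaf.stalk ξ :=
  (coords ξ n).symm.toLinearMap.comp (((Matrix.toLin' A).restrictScalars (X.presheaf.stalk ξ)).comp
    (coords ξ n).toLinearMap)

theorem ev_one (ξ : X) (n : ℕ) : ev ξ n 1 = LinearMap.id :=
  LinearMap.ext fun v => by simp [ev]

theorem ev_mul (ξ : X) (n : ℕ) (A B : Matrix (_root_.Fin n) (_root_.Fin n) (ResidueField (X.presheaf.stalk ξ))) :
    ev ξ n (A * B) = (ev ξ n A).comp (ev ξ n B) :=
  LinearMap.ext fun v => by simp [ev, Matrix.toLin'_mul]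

theorem exists_ev (ξ : X) (n : ℕ) (g : (Rn ξ n).presheaf.stalk ξ →ₗ[X.presheaf.stalk ξ] (Rn ξ n).presheaf.stalk ξ)
    (hg : Function.Bijective g) :
    ∃ A : Matrix (_root_.Fin n) (_root_.Fin n) (ResidueField (X.presheaf.stalk ξ)), A.det ≠ 0 ∧ ev ξ n A = g := by
  let L : (_root_.Fin n → ResidueField (X.presheaf.stalk ξ)) →ₗ[X.presheaf.stalk ξ]
      (_root_.Fin n → ResidueField (X.presheaf.stalk ξ)) :=
    (coords ξ n).toLinearMap.comp (g.comp (coords ξ n).symm.toLinearMap)
  let L' : (_root_.Fin n → ResidueField (X.presheaf.stalk ξ)) →ₗ[ResidueField (X.presheaf.stalk ξ)]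
      (_root_.Fin n → ResidueField (X.presheaf.stalk ξ)) :=
    { toFun := L
      map_add' := map_add L
      map_smul' := fun c v => by
        obtain ⟨r, rfl⟩ := IsLocalRing.residue_surjective c
        rw [RingHom.id_apply, show IsLocalRing.residue _ r • v = r • v from algebraMap_smul _ r v, map_smul]
        exact (algebraMap_smul _ r (L v)).symm }
  have hL : Function.Bijective L' := ((coords ξ n).bijective.comp (hg.comp (coords ξ n).symm.bijective))
  have h2 : Matrix.toLin' (LinearMap.toMatrix' L') = L' := Matrix.toLin'_toMatrix' L'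
  refine ⟨LinearMap.toMatrix' L', ?_, LinearMap.ext fun v => ?_⟩
  · rw [← LinearMap.det_toLin', h2]
    exact ((LinearEquiv.ofBijective L' hL).isUnit_det').ne_zero
  · show (coords ξ n).symm (Matrix.toLin' (LinearMap.toMatrix' L') (coords ξ n v)) = g v
    rw [h2]
    show (coords ξ n).symm ((coords ξ n) (g ((coords ξ n).symm (coords ξ n v)))) = g v
    simp

/-- A roof with ratio `g` and index `d`. -/
def Rep (δ : X → ℤ) (k : ℤ) (ξ : X) (n : ℕ)
    (g : (Rn ξ n).presheaf.stalk ξ →ₗ[X.presheaf.stalk ξ] (Rn ξ n).presheaf.stalk ξ) (d : X → ℤ) : Prop :=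
  ∃ (T : X.Modules) (a b : Rn ξ n ⟶ T), OnPt T ξ ∧ TI δ k a ∧ TI δ k b ∧ sl b ξ = (sl a ξ).comp g ∧
    d = chi δ k a - chi δ k b

variable {δ : X → ℤ} {k : ℤ} (hδ : Strict δ) {ξ : X} (hξ : δ ξ = k + 1) {n : ℕ}
include hδ hξ

theorem ti_of_bijective {A B : X.Modules} (hA : OnPt A ξ) (hB : OnPt B ξ) (f : A ⟶ B)
    (hb : Function.Bijective (sl f ξ)) : TI δ k f :=
  ⟨hA.cohLe hδ hξ, hB.cohLe hδ hξ, fun y hy => by
    by_cases h : y = ξ
    · subst h; exact hb
    · exact bijective_of_notMem f (hA.notMem hδ hξ hy h) (hB.notMem hδ hξ hy h)⟩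

theorem sl_eq_of_eq {A B : X.Modules} (hA : OnPt A ξ) {f g : A ⟶ B} (h : sl f ξ = sl g ξ) :
    ∀ y, k + 1 ≤ δ y → sl f y = sl g y := fun y hy => by
  by_cases e : y = ξ
  · subst e; exact h
  · haveI := subsingleton_of_notMem (hA.notMem hδ hξ hy e)
    exact LinearMap.ext fun a => by rw [Subsingleton.elim a 0, map_zero, map_zero]

theorem onPt_po {A B C : X.Modules} {f : A ⟶ B} {g : A ⟶ C} (hf : TI δ k f) (hg : TI δ k g) (hB : OnPt B ξ)
    (hC : OnPt C ξ) : OnPt (po f g) ξ :=
  ⟨(hf.po hg).1.tgt.1, fun y hy => (support_po f g hy).elim (hB.spec y) (hC.spec y)⟩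

theorem Rep.mul {g h : (Rn ξ n).presheaf.stalk ξ →ₗ[X.presheaf.stalk ξ] (Rn ξ n).presheaf.stalk ξ} {d e : X → ℤ}
    (h₁ : Rep δ k ξ n g d) (h₂ : Rep δ k ξ n h e) : Rep δ k ξ n (g.comp h) (d + e) := by
  obtain ⟨T, a, b, hT, ha, hb, hab, rfl⟩ := h₁
  obtain ⟨T', a', b', hT', ha', hb', hab', rfl⟩ := h₂
  obtain ⟨hi, hj⟩ := hb.po ha'
  refine ⟨po b a', a ≫ poInl b a', b' ≫ poInr b a', onPt_po hδ hξ hb ha' hT hT', ha.comp hi, hb'.comp hj, ?_, ?_⟩
  · have hw : ∀ v, sl (poInl b a') ξ (sl b ξ v) = sl (poInr b a') ξ (sl a' ξ v) := fun v => by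
      rw [← sl_comp_apply b (poInl b a'), ← sl_comp_apply a' (poInr b a'), po_w]
    refine LinearMap.ext fun v => ?_
    rw [sl_comp_apply b' (poInr b a'), hab', LinearMap.comp_apply, ← hw, hab, LinearMap.comp_apply,
      LinearMap.comp_apply, LinearMap.comp_apply, sl_comp_apply a (poInl b a')]
  · have e0 : chi δ k b + chi δ k (poInl b a') = chi δ k a' + chi δ k (poInr b a') := by
      rw [← chi_comp hδ hb hi, ← chi_comp hδ ha' hj, po_w]
    rw [chi_comp hδ ha hi, chi_comp hδ hb' hj]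
    funext x
    have := congrFun e0 x
    simp only [Pi.add_apply, Pi.sub_apply] at this ⊢
    linarith

theorem Rep.unique {g : (Rn ξ n).presheaf.stalk ξ →ₗ[X.presheaf.stalk ξ] (Rn ξ n).presheaf.stalk ξ} {d e : X → ℤ}
    (h₁ : Rep δ k ξ n g d) (h₂ : Rep δ k ξ n g e) : d = e := by
  obtain ⟨T, a, b, hT, ha, hb, hab, rfl⟩ := h₁
  obtain ⟨T', a', b', hT', ha', hb', hab', rfl⟩ := h₂
  obtain ⟨hi, hj⟩ := ha.po ha'
  have e1 : chi δ k (b ≫ poInl a a') = chi δ k (b' ≫ poInr a a') := by
    refine chi_congr_top hδ (hb.comp hi) (hb'.comp hj) (sl_eq_of_eq hδ hξ (onPt_Rn ξ n) (LinearMap.ext fun v => ?_))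
    have hw : ∀ v, sl (poInl a a') ξ (sl a ξ v) = sl (poInr a a') ξ (sl a' ξ v) := fun v => by
      rw [← sl_comp_apply a (poInl a a'), ← sl_comp_apply a' (poInr a a'), po_w]
    rw [sl_comp_apply b (poInl a a'), hab, LinearMap.comp_apply, hw, sl_comp_apply b' (poInr a a'), hab',
      LinearMap.comp_apply]
  have e2 : chi δ k (a ≫ poInl a a') = chi δ k (a' ≫ poInr a a') := by rw [po_w]
  rw [chi_comp hδ hb hi, chi_comp hδ hb' hj] at e1
  rw [chi_comp hδ ha hi, chi_comp hδ ha' hj] at e2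
  funext x
  have h1 := congrFun e1 x
  have h2 := congrFun e2 x
  simp only [Pi.add_apply, Pi.sub_apply] at h1 h2 ⊢
  linarith

theorem Rep.one : Rep δ k ξ n LinearMap.id 0 :=
  ⟨Rn ξ n, 𝟙 _, 𝟙 _, onPt_Rn ξ n, TI.id ((onPt_Rn ξ n).cohLe hδ hξ), TI.id ((onPt_Rn ξ n).cohLe hδ hξ),
    (LinearMap.comp_id _).symm, (sub_self _).symm⟩

/-- Roofs with given generic ratio. -/
theorem exists_roof {G H : X.Modules} (hG : OnPt G ξ) (hH : OnPt H ξ)
    (e : H.presheaf.stalk ξ ≃ₗ[X.presheaf.stalk ξ] G.presheaf.stalk ξ) :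
    ∃ (S : X.Modules) (a : G ⟶ S) (b : H ⟶ S), OnPt S ξ ∧ TI δ k a ∧ TI δ k b ∧
      sl b ξ = (sl a ξ).comp e.toLinearMap := by
  obtain ⟨m, hm⟩ := exists_pow_smul_eq_zero (A := X.presheaf.stalk ξ) (M := G.presheaf.stalk ξ)
    (isFiniteLength_stalk hδ (hG.cohLe hδ hξ) hξ)
  let M := G ⊞ H
  have hM : Coh.IsCoh M := H27KZero.isCoh_extension (S := ShortComplex.mk (biprod.inl : G ⟶ M) biprod.snd (by simp [M]))
    (ShortComplex.Splitting.ofHasBinaryBiproduct G H).shortExact hG.coh hH.coh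
  let q : M.presheaf.stalk ξ →ₗ[X.presheaf.stalk ξ] G.presheaf.stalk ξ :=
    sl (biprod.fst : M ⟶ G) ξ + e.toLinearMap.comp (sl (biprod.snd : M ⟶ H) ξ)
  have hqa : ∀ v, q (sl (biprod.inl : G ⟶ M) ξ v) = v := fun v => by
    simp [q, ← sl_comp_apply, sl_id, sl_zero]
  have hqb : ∀ v, q (sl (biprod.inr : H ⟶ M) ξ v) = e v := fun v => by
    simp [q, ← sl_comp_apply, sl_id, sl_zero]
  have hq : Function.Surjective q := fun v => ⟨_, hqa v⟩
  have hS : OnPt (img q) ξ := ⟨isCoh_img q hM hm, fun y hy => (support_img q hy).1⟩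
  have hval : ∀ {F : X.Modules} (j : F ⟶ M) (v : F.presheaf.stalk ξ),
      imgEquiv q hq (sl (j ≫ imgπ q) ξ v) = q (sl j ξ v) := fun j v => by
    rw [sl_comp_apply]
    exact LinearMap.congr_fun (stLin_imgι q) (sl j ξ v)
  refine ⟨img q, biprod.inl ≫ imgπ q, biprod.inr ≫ imgπ q, hS, ti_of_bijective hδ hξ hG hS _ ?_,
    ti_of_bijective hδ hξ hH hS _ ?_, LinearMap.ext fun v => (imgEquiv q hq).injective ?_⟩
  · refine (Function.Bijective.of_comp_iff' (imgEquiv q hq).bijective _).mp ?_
    rw [show (⇑(imgEquiv q hq)) ∘ ⇑(sl (biprod.inl ≫ imgπ q) ξ) = id from funext fun v => (hval _ v).trans (hqa v)]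
    exact Function.bijective_id
  · refine (Function.Bijective.of_comp_iff' (imgEquiv q hq).bijective _).mp ?_
    rw [show (⇑(imgEquiv q hq)) ∘ ⇑(sl (biprod.inr ≫ imgπ q) ξ) = e from funext fun v => (hval _ v).trans (hqb v)]
    exact e.bijective
  · rw [hval, hqb]
    show _ = imgEquiv q hq (sl (biprod.inl ≫ imgπ q) ξ (e v))
    rw [hval, hqa]

theorem exists_rep (g : (Rn ξ n).presheaf.stalk ξ →ₗ[X.presheaf.stalk ξ] (Rn ξ n).presheaf.stalk ξ)
    (hg : Function.Bijective g) : ∃ d, Rep δ k ξ n g d := by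
  obtain ⟨S, a, b, hS, ha, hb, hab⟩ :=
    exists_roof hδ hξ (onPt_Rn ξ n) (onPt_Rn ξ n) (LinearEquiv.ofBijective g hg)
  exact ⟨_, S, a, b, hS, ha, hb, hab, rfl⟩

omit hδ hξ in
theorem divFun_one (x : X) : Cyc.divFun δ ξ (1 : X.residueField ξ) x = 0 := by
  have h := C1Api.divFun_mul δ ξ (one_ne_zero (α := X.residueField ξ)) (one_ne_zero (α := X.residueField ξ)) x
  rw [one_mul] at h
  linarith

set_option maxHeartbeats 800000 in
theorem rep_scalar (hX : Cyc.IsSetup X δ) (r : X.presheaf.stalk ξ) (hr : IsLocalRing.residue _ r ≠ 0) :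
    ∃ (T : X.Modules) (a b : Md ξ ⟶ T), OnPt T ξ ∧ TI δ k a ∧ TI δ k b ∧ sl b ξ = r • sl a ξ ∧
      chi δ k a - chi δ k b = Cyc.divFun δ ξ ((X.residue ξ).hom r) := by
  have key : ∀ (W : Scheme.{u}) [IsIntegral W] (i : W ⟶ X) [IsClosedImmersion i],
      δ (i (genericPoint W)) = k + 1 → ∀ r : X.presheaf.stalk (i (genericPoint W)), IsLocalRing.residue _ r ≠ 0 →
      ∃ (J : X.Modules) (a b : J ⟶ (Coh.push i).obj (Coh.structureModule W)),
        (∀ y ∈ CohB1.support J, i (genericPoint W) ⤳ y) ∧ Coh.IsCoh J ∧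
        Function.Bijective (sl a (i (genericPoint W))) ∧ sl b (i (genericPoint W)) = r • sl a (i (genericPoint W)) ∧
        chi δ k a - chi δ k b = Cyc.divFun δ (i (genericPoint W)) ((X.residue (i (genericPoint W))).hom r) := by
    intro W _ i _ hk r hr
    have hW := Reduction.isSetup_closedImmersion i hX
    haveI : IsLocallyNoetherian W := hW.1
    let η := genericPoint W
    let f := (i.stalkMap η).hom r
    have hres : (W.residue η).hom f = i.residueFieldMap η ((X.residue (i η)).hom r) :=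
      (ConcreteCategory.congr_hom (Scheme.residue_residueFieldMap i η) r).symm
    have hf : (W.residue η).hom f ≠ 0 := fun e =>
      hr ((i.residueFieldMap η).hom.injective ((hres.symm.trans e).trans (map_zero _).symm))
    obtain ⟨J, a, b, _, _, hJ, hab, hA, hB, hval⟩ :=
      KPairStalk.exists_pair_stalk (W := W) hW.2.2 (k := k) hk hf
    let F := Scheme.Modules.pushforward i
    have hSa := H22Alg.KPushCl.shortExact_push i
      (S := ShortComplex.mk a (cokernel.π a) (cokernel.condition a)) { exact := ShortComplex.exact_cokernel a }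
    have hSb := H22Alg.KPushCl.shortExact_push i
      (S := ShortComplex.mk b (cokernel.π b) (cokernel.condition b)) { exact := ShortComplex.exact_cokernel b }
    have hn : ∀ (M : W.Modules) (y : X), y ∈ CohB1.support ((Coh.push i).obj M) → i η ⤳ y := fun M y hy => by
      by_cases hr : y ∈ Set.range i
      · exact specializes_iff_mem_closure.mpr (Transfer.range_subset_closure i hr)
      · exact absurd hy (KDiv.notMem_support_push i M hr)
    have hchi : ∀ {A B C : X.Modules} (p : A ⟶ B) (q : B ⟶ C) (w : p ≫ q = 0),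
        (ShortComplex.mk p q w).ShortExact → chi δ k p = -Cyc.sheafFun δ k C := by
      intro A B C p q w hS'
      revert hS'
      suffices h : ∀ S : ShortComplex X.Modules, S.ShortExact → chi δ k S.f = -Cyc.sheafFun δ k S.X₃ from h _
      intro S hS
      haveI := hS.mono_f
      haveI := hS.epi_g
      funext x
      by_cases hx : δ x = k
      · have hk0 : LinearMap.ker (sl S.f x) = ⊥ := LinearMap.ker_eq_bot.mpr (sl_injective S.f x)
        have e : (S.X₂.presheaf.stalk x ⧸ LinearMap.range (sl S.f x)) ≃ₗ[X.presheaf.stalk x]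
            S.X₃.presheaf.stalk x :=
          (Submodule.quotEquivOfEq _ _ (LinearMap.exact_iff.mp (sl_exact hS.exact x)).symm).trans
            ((sl S.g x).quotKerEquivOfSurjective (sl_surjective S.g x))
        haveI : Subsingleton (LinearMap.ker (sl S.f x)) := by rw [hk0]; infer_instance
        simp [chi, hx, sheafFun_of_eq hx, idx, e.length_eq, Module.length_eq_zero_iff.mpr ‹_›]
      · simp [chi, hx, sheafFun_of_ne hx]
    haveI := hSa.mono_f
    haveI := hSb.mono_f
    refine ⟨(Coh.push i).obj J, F.map a, F.map b, hn J, H24FSch.isCoh_pushforward_of_isClosedImmersion i hJ, ?_, ?_, ?_⟩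
    · refine ⟨sl_injective (F.map a) (i η), ?_⟩
      have h0 : i η ∉ CohB1.support ((Coh.push i).obj (cokernel a)) := fun h => by
        have h1 := (cohLe_iff.mp (KDiv.cohLe_push i (δ := δ) hA)).2 _ h
        change δ (i (genericPoint W)) ≤ k at h1
        omega
      exact fun v => (sl_exact hSa.exact (i η) v).mp ((subsingleton_of_notMem h0).elim _ _)
    · refine LinearMap.ext fun v => (H16Derived.ProjFormula.pushStalk_bijective i _ η).1 ?_
      show H16Derived.ProjFormula.pushStalk i _ η (sl (F.map b) (i η) v) =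
        H16Derived.ProjFormula.pushStalk i _ η (r • sl (F.map a) (i η) v)
      rw [H16Derived.ProjFormula.pushStalk_smul]
      refine (H16Derived.ProjFormula.pushStalk_naturality i b η v).trans ?_
      refine Eq.trans (hab _) ?_
      exact congrArg (f • ·) (H16Derived.ProjFormula.pushStalk_naturality i a η v).symm
    · rw [show chi δ k (F.map a) = -Cyc.sheafFun δ k (F.obj (cokernel a)) from hchi _ (F.map (cokernel.π a)) _ hSa,
        show chi δ k (F.map b) = -Cyc.sheafFun δ k (F.obj (cokernel b)) from hchi _ (F.map (cokernel.π b)) _ hSb]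
      funext x
      simp only [Pi.sub_apply, Pi.neg_apply]
      show -Cyc.sheafFun δ k ((Coh.push i).obj (cokernel a)) x - -Cyc.sheafFun δ k ((Coh.push i).obj (cokernel b)) x = _
      by_cases hrx : x ∈ Set.range i
      · obtain ⟨w, rfl⟩ := hrx
        have hv := hval w
        rw [hres] at hv
        have hdi := Reduction.divFun_immersion i δ η ((X.residue (i η)).hom r) w
        rw [KDiv.sheafFun_push, KDiv.sheafFun_push]
        linear_combination hv + hdi
      · rw [KDiv.sheafFun_push_of_notMem i _ hrx, KDiv.sheafFun_push_of_notMem i _ hrx,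
          Reduction.divFun_eq_zero_of_notMem i δ η _ hrx]
        ring
  have hkey : ∀ r : X.presheaf.stalk ξ, IsLocalRing.residue _ r ≠ 0 → ∃ (J : X.Modules) (a b : J ⟶ Md ξ),
      (∀ y ∈ CohB1.support J, ξ ⤳ y) ∧ Coh.IsCoh J ∧ Function.Bijective (sl a ξ) ∧ sl b ξ = r • sl a ξ ∧
        chi δ k a - chi δ k b = Cyc.divFun δ ξ ((X.residue ξ).hom r) := by
    have h := key (model ξ).W (model ξ).i
    rw [(model ξ).gen] at h
    exact h hξ
  obtain ⟨J, a, b, hsJ, hcJ, hba, hab, hd⟩ := hkey r hr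
  have hJ : OnPt J ξ := ⟨hcJ, hsJ⟩
  have ta : TI δ k a := ti_of_bijective hδ hξ hJ (onPt_Md ξ) a hba
  have hu : IsUnit r := by
    by_contra hu
    exact hr (Ideal.Quotient.eq_zero_iff_mem.mpr ((IsLocalRing.mem_maximalIdeal _).mpr hu))
  have tb : TI δ k b := ti_of_bijective hδ hξ hJ (onPt_Md ξ) b (by
    rw [hab]
    exact hu.smul_bijective.comp hba)
  obtain ⟨hi, hj⟩ := ta.po tb
  refine ⟨po a b, poInr a b, poInl a b, onPt_po hδ hξ ta tb (onPt_Md ξ) (onPt_Md ξ), hj, hi,
    LinearMap.ext fun v => ?_, ?_⟩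
  · obtain ⟨w, rfl⟩ := hba.2 v
    rw [LinearMap.smul_apply, ← sl_comp_apply a, po_w, sl_comp_apply, hab, LinearMap.smul_apply, map_smul]
  · have e0 : chi δ k a + chi δ k (poInl a b) = chi δ k b + chi δ k (poInr a b) := by
      rw [← chi_comp hδ ta hi, ← chi_comp hδ tb hj, po_w]
    rw [← hd]
    funext x
    have := congrFun e0 x
    simp only [Pi.add_apply, Pi.sub_apply] at this ⊢
    linarith

theorem rep_diagonal (hX : Cyc.IsSetup X δ) (D : _root_.Fin n → ResidueField (X.presheaf.stalk ξ)) (hD : ∀ i, D i ≠ 0) :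
    Rep δ k ξ n (ev ξ n (Matrix.diagonal D)) (fun x => ∑ i, Cyc.divFun δ ξ (D i : X.residueField ξ) x) := by
  classical
  choose r hr using fun i : ULift.{u} (_root_.Fin n) => IsLocalRing.residue_surjective (D i.down)
  choose T a b hT ha hb hab hd using fun i : ULift.{u} (_root_.Fin n) =>
    rep_scalar hδ hξ hX (r i) (by rw [hr i]; exact hD i.down)
  obtain ⟨tA, cA⟩ := chi_sigma hδ (locFin_fin n _) (locFin_fin n T) ha
  obtain ⟨tB, cB⟩ := chi_sigma hδ (locFin_fin n _) (locFin_fin n T) hb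
  have hTon : OnPt (∐ T) ξ := ⟨isCoh_sigma _ (locFin_fin n T) fun i => (hT i).coh, fun y hy => by
    obtain ⟨i, h⟩ := Set.mem_iUnion.mp (support_sigma _ hy)
    exact (hT i).spec y h⟩
  refine ⟨∐ T, Limits.Sigma.map a, Limits.Sigma.map b, hTon, tA, tB, LinearMap.ext fun v => ?_, ?_⟩
  · apply (sigmaEquiv T (x := ξ) Finset.univ (fun i _ => Finset.mem_univ i)).injective
    refine funext fun i => ?_
    show sl (pr T i.1) ξ (sl (Limits.Sigma.map b) ξ v) = sl (pr T i.1) ξ (sl (Limits.Sigma.map a) ξ (ev ξ n (Matrix.diagonal D) v))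
    rw [← sl_comp_apply, map_pr, sl_comp_apply, hab, ← sl_comp_apply (Limits.Sigma.map a), map_pr,
      sl_comp_apply, LinearMap.smul_apply, ← map_smul]
    refine congrArg (sl (a i.1) ξ) ((e1 ξ).injective ?_)
    rw [map_smul]
    show r i.1 • coords ξ n v i.1.down = coords ξ n (ev ξ n (Matrix.diagonal D) v) i.1.down
    simp only [ev, LinearMap.comp_apply, LinearEquiv.coe_coe, LinearEquiv.apply_symm_apply]
    show r i.1 • coords ξ n v i.1.down = Matrix.toLin' (Matrix.diagonal D) (coords ξ n v) i.1.down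
    rw [Matrix.toLin'_apply, Matrix.mulVec_diagonal, ← hr i.1, Algebra.smul_def]
    rfl
  · funext x
    rw [Pi.sub_apply, (cA x).2, (cB x).2, finsum_eq_sum_of_fintype, finsum_eq_sum_of_fintype, ← Finset.sum_sub_distrib]
    refine ((Fintype.sum_equiv Equiv.ulift _ (fun i => Cyc.divFun δ ξ (D i : X.residueField ξ) x)) fun i => ?_).symm
    show chi δ k (a i) x - chi δ k (b i) x = _
    rw [← Pi.sub_apply, hd i]
    exact congrArg (fun c => Cyc.divFun δ ξ c x) (hr i)

omit hδ hξ in
theorem divFun_prod {ι : Type*} (s : Finset ι) (f : ι → X.residueField ξ) (hf : ∀ i, f i ≠ 0) (x : X) :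
    Cyc.divFun δ ξ (∏ i ∈ s, f i) x = ∑ i ∈ s, Cyc.divFun δ ξ (f i) x := by
  classical
  induction s using Finset.induction_on with
  | empty => rw [Finset.prod_empty, Finset.sum_empty, divFun_one]
  | insert a s ha ih =>
    rw [Finset.prod_insert ha, Finset.sum_insert ha, C1Api.divFun_mul δ ξ (hf a)
      (Finset.prod_ne_zero_iff.mpr fun i _ => hf i), ih]

theorem rep_det (hX : Cyc.IsSetup X δ) (A : Matrix (_root_.Fin n) (_root_.Fin n) (ResidueField (X.presheaf.stalk ξ)))
    (hA : A.det ≠ 0) : Rep δ k ξ n (ev ξ n A) (fun x => Cyc.divFun δ ξ (A.det : X.residueField ξ) x) := by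
  classical
  let κ := ResidueField (X.presheaf.stalk ξ)
  have hbij : ∀ B : Matrix (_root_.Fin n) (_root_.Fin n) κ, B.det ≠ 0 → Function.Bijective (ev ξ n B) := fun B hB => by
    obtain ⟨C, hC⟩ := (Matrix.isUnit_iff_isUnit_det B).mpr (isUnit_iff_ne_zero.mpr hB) |>.exists_right_inv
    have h1 : ∀ v, ev ξ n B (ev ξ n C v) = v := fun v => by
      rw [← LinearMap.comp_apply, ← ev_mul, hC, ev_one]; rfl
    have h2 : ∀ v, ev ξ n C (ev ξ n B v) = v := fun v => by
      rw [← LinearMap.comp_apply, ← ev_mul, mul_eq_one_comm.mp hC, ev_one]; rfl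
    exact Function.bijective_iff_has_inverse.mpr ⟨_, h2, h1⟩
  refine Matrix.diagonal_transvection_induction_of_det_ne_zero
    (fun B => Rep δ k ξ n (ev ξ n B) (fun x => Cyc.divFun δ ξ (B.det : X.residueField ξ) x)) A hA
    (fun D hD => ?_) (fun t => ?_) (fun B C hB hC hPB hPC => ?_)
  ·
    have hD' : ∀ i, D i ≠ 0 := fun i h => hD (by rw [Matrix.det_diagonal]; exact Finset.prod_eq_zero (Finset.mem_univ i) h)
    convert rep_diagonal hδ hξ hX D hD' using 1
    funext x
    rw [Matrix.det_diagonal]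
    exact divFun_prod Finset.univ (fun i => (D i : X.residueField ξ)) hD' x
  ·
    obtain ⟨i, j, hij, c⟩ := t
    change Rep δ k ξ n (ev ξ n (Matrix.transvection i j c)) _
    have hdet : ∀ c : κ, (Matrix.transvection i j c).det = 1 := fun c => Matrix.det_transvection_of_ne i j hij c
    have hex : ∀ c : κ, ∃ d, Rep δ k ξ n (ev ξ n (Matrix.transvection i j c)) d := fun c =>
      exists_rep hδ hξ _ (hbij _ (by rw [hdet]; exact one_ne_zero))
    choose d hd using hex
    let Dg : _root_.Fin n → κ := Function.update 1 i (-1)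
    have hDg : (Matrix.diagonal Dg).det ≠ 0 := by
      rw [Matrix.det_diagonal, Finset.prod_ne_zero_iff]
      intro l _
      by_cases h : l = i
      · subst h; simp [Dg]
      · simp [Dg, h]
    obtain ⟨dD, hdD⟩ := exists_rep hδ hξ _ (hbij _ hDg)
    have hconj : Matrix.diagonal Dg * Matrix.transvection i j c = Matrix.transvection i j (-c) * Matrix.diagonal Dg := by
      ext p q
      rw [Matrix.diagonal_mul, Matrix.mul_diagonal]
      simp only [Matrix.transvection, Matrix.add_apply, Matrix.one_apply, Matrix.single_apply]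
      by_cases h : i = p ∧ j = q
      · obtain ⟨rfl, rfl⟩ := h
        rw [if_neg hij, if_pos ⟨rfl, rfl⟩, if_pos ⟨rfl, rfl⟩]
        simp [Dg, Ne.symm hij]
        exact neg_one_mul c
      · rw [if_neg h, if_neg h, add_zero]
        by_cases hpq : p = q
        · subst hpq; simp [mul_comm]
        · simp [hpq]
    have e1 : d c + d (-c) = 0 := by
      have h := Rep.mul hδ hξ (hd c) (hd (-c))
      refine Rep.unique hδ hξ (g := LinearMap.id) (n := n) ?_ (Rep.one hδ hξ)
      rwa [← ev_mul, Matrix.transvection_mul_transvection_same i j hij, add_neg_cancel, Matrix.transvection_zero, ev_one] at h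
    have e2 : dD + d c = d (-c) + dD := by
      have h := Rep.mul hδ hξ hdD (hd c)
      rw [← ev_mul, hconj, ev_mul] at h
      exact Rep.unique hδ hξ h (Rep.mul hδ hξ (hd (-c)) hdD)
    convert hd c using 1
    funext x
    show Cyc.divFun δ ξ ((Matrix.transvection i j c).det : X.residueField ξ) x = _
    rw [hdet]
    refine (divFun_one (ξ := ξ) (δ := δ) x).trans ?_
    have h1 := congrFun e1 x
    have h2 := congrFun e2 x
    simp only [Pi.add_apply, Pi.zero_apply] at h1 h2
    linarith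
  ·
    have h := Rep.mul hδ hξ hPB hPC
    rw [← ev_mul] at h
    convert h using 1
    funext x
    rw [Matrix.det_mul]
    exact C1Api.divFun_mul δ ξ hB hC x

end Groth.Agent.H3Cyc.KDet
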