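import Groth.Agent.H3Cyc.PointsAlg
import Groth.Agent.H3Cyc.PushRat
import Groth.Agent.H3Cyc.PushDiv
import Groth.Agent.H3Cyc.BCPush
import Groth.Agent.H3Cyc.ProdDiv.Cycles
import Groth.Agent.H29Curve.AffineNhd
import Groth.Agent.H12Pic.SectionCurve

/-!
# Moving a closed point along a curve away from a proper closed subset
-/

set_option autoImplicit false
set_option backward.isDefEq.respectTransparency.types false
set_option linter.style.haveILetI false
universe u

open AlgebraicGeometry CategoryTheory CategoryTheory.Limits TopologicalSpace IsLocalRing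
open Groth.Agent
open Groth.Agent.H8Props.FieldDim (cdim)
open scoped Classical

namespace Groth.Agent.H3Cyc.CurveMove

/-- On an integral scheme of dimension at most one the complement of a nonempty open subset is finite. -/
theorem finite_compl {N : Scheme.{u}} [IsIntegral N] [IsNoetherian N] (hd : topologicalKrullDim N ≤ 1)
    (V : N.Opens) (hV : genericPoint N ∈ V) : ((V : Set N)ᶜ).Finite ∧ ∀ z, z ∉ V → IsClosed ({z} : Set N) := by
  have hcl : ∀ z, z ∉ V → IsClosed ({z} : Set N) := fun z hz =>
    H22Alg.DimOneDiv.isClosed_singleton_of_lt (genericPoint_specializes z) (fun e => hz (e ▸ hV))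
      ((H8Props.FieldDim.dim_mono (Set.subset_univ _)).trans
        ((le_of_eq (Homeomorph.Set.univ N).isHomeomorph.topologicalKrullDim_eq).trans hd))
  refine ⟨?_, hcl⟩
  obtain ⟨S, hSf, hSc, hSi, hS⟩ := NoetherianSpace.exists_finite_set_isClosed_irreducible V.2.isClosed_compl
  show (V.carrier)ᶜ.Finite
  rw [hS, Set.sUnion_eq_biUnion]
  refine hSf.biUnion fun t ht => ?_
  have hg := IsIrreducible.isGenericPoint_genericPoint (hSi t ht) (hSc t ht)
  have hgV : (hSi t ht).genericPoint ∉ V := fun h => (hS.ge (Set.mem_sUnion_of_mem hg.mem ht)) h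
  rw [← hg.def, (hcl _ hgV).closure_eq]
  exact Set.finite_singleton _

/-- A rational function on a smooth curve with a simple zero at a given closed point and of order zero at the
other points of a given finite set. -/
theorem exists_ord {N : Scheme.{u}} [IsIntegral N] [IsNoetherian N] [N.IsSeparated]
    (hreg : ∀ z : N, IsRegularLocalRing (N.presheaf.stalk z)) (hd : topologicalKrullDim N ≤ 1)
    (hded : ∀ {V : N.Opens}, IsAffineOpen V → (V : Set N).Nonempty → IsDedekindDomain Γ(N, V))
    (S : Finset N) (hS : ∀ z ∈ S, IsClosed ({z} : Set N) ∧ ringKrullDim (N.presheaf.stalk z) = 1)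
    (t : N) (ht : t ∈ S) :
    ∃ f : N.residueField (genericPoint N), f ≠ 0 ∧
      ∀ z ∈ S, Cyc.ordAt z (genericPoint N) (genericPoint_specializes z) f = if z = t then 1 else 0 := by
  classical
  obtain ⟨V, hV, hSV⟩ := H29Curve.AffineNhd.exists_affine_of_dim_one (Z := N) (r := S.card)
    (Finset.card_pos.2 ⟨t, ht⟩) (fun i => (S.equivFin.symm i).1)
    (Subtype.val_injective.comp S.equivFin.symm.injective)
    (fun i => ⟨inferInstance, (hS _ (S.equivFin.symm i).2).2⟩)
  have hmemV : ∀ z ∈ S, z ∈ V := fun z hz => by simpa using hSV (S.equivFin ⟨z, hz⟩)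
  haveI : Nonempty V := ⟨⟨t, hmemV t ht⟩⟩
  haveI : IsDedekindDomain Γ(N, V) := hded hV ⟨t, hmemV t ht⟩
  let P : ↥S → Ideal Γ(N, V) := fun z => (hV.primeIdealOf ⟨z.1, hmemV z.1 z.2⟩).asIdeal
  haveI hP : ∀ z, (P z).IsPrime := fun z => (hV.primeIdealOf ⟨z.1, hmemV z.1 z.2⟩).2
  have hPmax : ∀ z, (P z).IsMaximal := fun z =>
    ((hV.primeIdealOf ⟨z.1, hmemV z.1 z.2⟩).isClosed_singleton_iff_isMaximal).1 (by
      have h := (hS z.1 z.2).1.preimage hV.fromSpec.continuous
      rwa [show hV.fromSpec ⁻¹' {z.1} = {hV.primeIdealOf ⟨z.1, hmemV z.1 z.2⟩} from ?_] at h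
      ext w
      simp only [Set.mem_preimage, Set.mem_singleton_iff]
      constructor
      · intro h
        exact hV.fromSpec.isOpenEmbedding.injective (h.trans (hV.fromSpec_primeIdealOf ⟨z.1, hmemV z.1 z.2⟩).symm)
      · rintro rfl; exact hV.fromSpec_primeIdealOf _)
  have hinj : Function.Injective P := fun z z' h => by
    have h' : hV.primeIdealOf ⟨z.1, hmemV z.1 z.2⟩ = hV.primeIdealOf ⟨z'.1, hmemV z'.1 z'.2⟩ := PrimeSpectrum.ext h
    have := congrArg hV.fromSpec h'
    rw [hV.fromSpec_primeIdealOf, hV.fromSpec_primeIdealOf] at this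
    exact Subtype.ext this
  let t' : ↥S := ⟨t, ht⟩
  have hdim : ∀ z : ↥S, ringKrullDim (N.presheaf.stalk z.1) = 1 := fun z => (hS z.1 z.2).2
  haveI hloc : ∀ z : ↥S, @IsLocalization.AtPrime Γ(N, V) _ (N.presheaf.stalk z.1) _
      (TopCat.Presheaf.algebra_section_stalk N.presheaf ⟨z.1, hmemV z.1 z.2⟩) (P z) _ := fun z =>
    hV.isLocalization_stalk ⟨z.1, hmemV z.1 z.2⟩
  have hne0 : ∀ z, P z ≠ ⊥ := fun z h => by
    letI := TopCat.Presheaf.algebra_section_stalk N.presheaf (⟨z.1, hmemV z.1 z.2⟩ : V)
    haveI := hloc z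
    have := IsLocalization.AtPrime.ringKrullDim_eq_height (P z) (N.presheaf.stalk z.1)
    rw [hdim z] at this
    rw [(Ideal.height_eq_zero_iff).2 (by rw [IsDomain.minimalPrimes_eq_singleton_bot]; exact h)] at this
    norm_num at this
  obtain ⟨a, hat, hat2, haz⟩ : ∃ a ∈ P t', a ∉ P t' ^ 2 ∧ ∀ z, z ≠ t' → a ∉ P z := by
    have h : ¬ ((P t' : Set Γ(N, V)) ⊆ ⋃ i ∈ ((Finset.univ : Finset ↥S) : Set ↥S),
        ((if i = t' then P t' ^ 2 else P i : Ideal Γ(N, V)) : Set Γ(N, V))) := by
      rw [Ideal.subset_union_prime t' t' fun i _ hi _ => by rw [if_neg hi]; exact hP i]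
      rintro ⟨i, -, hi⟩
      split_ifs at hi with e
      · exact (not_le_of_gt (Ideal.pow_lt_self (P t') (hne0 t') (hP t').ne_top 2 le_rfl)) hi
      · exact e (hinj ((hPmax t').eq_of_le (hP i).ne_top hi).symm)
    obtain ⟨a, ha, hn⟩ := Set.not_subset.1 h
    simp only [Set.mem_iUnion, not_exists, Finset.coe_univ, Set.mem_univ, forall_true_left] at hn
    refine ⟨a, ha, ?_, fun z hz => ?_⟩
    · simpa using hn t'
    · simpa [hz] using hn z
  have hη : genericPoint N ∈ V := (genericPoint_specializes t).mem_open V.2 (hmemV t ht)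
  have hev : N.evaluation V (genericPoint N) hη a ≠ 0 := by
    intro h0
    refine hat2 ?_
    have h1 : (N.residue (genericPoint N)).hom (N.presheaf.germ V (genericPoint N) hη a) = 0 := h0
    have h2 : N.presheaf.germ V (genericPoint N) hη a = 0 :=
      (RingHom.injective (R := N.functionField) (N.residue (genericPoint N)).hom) (by rw [h1]; exact (map_zero _).symm)
    rw [show a = 0 from germ_injective_of_isIntegral N (genericPoint N) hη (by rw [h2, map_zero])]
    exact zero_mem _
  refine ⟨N.evaluation V (genericPoint N) hη a, hev, fun z hz => ?_⟩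
  have h1 : N.evaluation V (genericPoint N) hη 1 ≠ 0 := by rw [map_one]; exact one_ne_zero
  have hord := PushDiv.ordAt_div z (hdim ⟨z, hz⟩).le (hmemV z hz) hη a 1 hev h1
  rw [map_one, div_one, map_one, Ring.ord_one] at hord
  rw [hord]
  letI := TopCat.Presheaf.algebra_section_stalk N.presheaf (⟨z, hmemV z hz⟩ : V)
  haveI := hloc ⟨z, hz⟩
  haveI := hreg z
  haveI := H4Depth.isDomain_of_isRegularLocalRing (N.presheaf.stalk z)
  split_ifs with e
  · subst e
    haveI hdvr : IsDiscreteValuationRing (N.presheaf.stalk z) :=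
      IsLocalization.AtPrime.isDiscreteValuationRing_of_dedekind_domain Γ(N, V) (hne0 ⟨z, hz⟩) _
    have hirr : Irreducible (algebraMap Γ(N, V) (N.presheaf.stalk z) a) := by
      obtain ⟨ϖ, hϖ⟩ := IsDiscreteValuationRing.exists_irreducible (N.presheaf.stalk z)
      have hm : algebraMap Γ(N, V) (N.presheaf.stalk z) a ∈ maximalIdeal (N.presheaf.stalk z) :=
        (IsLocalization.AtPrime.to_map_mem_maximal_iff (N.presheaf.stalk z) (P ⟨z, hz⟩) a).2 hat
      rw [hϖ.maximalIdeal_eq, Ideal.mem_span_singleton] at hm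
      obtain ⟨c, hc⟩ := hm
      by_cases hcu : IsUnit c
      · rw [hc]; exact (associated_mul_unit_right ϖ c hcu).irreducible hϖ
      exfalso
      have hmem : algebraMap Γ(N, V) (N.presheaf.stalk z) a ∈
          (P ⟨z, hz⟩ ^ 2).map (algebraMap Γ(N, V) (N.presheaf.stalk z)) := by
        rw [Ideal.map_pow, IsLocalization.AtPrime.map_eq_maximalIdeal, hc, sq]
        exact Ideal.mul_mem_mul (by rw [hϖ.maximalIdeal_eq]; exact Ideal.mem_span_singleton_self ϖ) hcu
      obtain ⟨⟨⟨b, hb⟩, ⟨s, hs⟩⟩, e⟩ := (IsLocalization.mem_map_algebraMap_iff (P ⟨z, hz⟩).primeCompl _).1 hmem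
      simp only at e
      rw [← map_mul] at e
      have e' : a * s = b := IsLocalization.injective (N.presheaf.stalk z) (P ⟨z, hz⟩).primeCompl_le_nonZeroDivisors e
      obtain ⟨u, q, hq, hu⟩ := (hPmax ⟨z, hz⟩).exists_inv hs
      refine hat2 ?_
      have : a = b * u + a * q := by
        rw [← e']; linear_combination (-a) * hu
      rw [this]
      exact add_mem (Ideal.mul_mem_right _ _ hb) (by rw [sq]; exact Ideal.mul_mem_mul hat hq)
    rw [show N.presheaf.germ V z (hmemV z hz) a = algebraMap Γ(N, V) (N.presheaf.stalk z) a from rfl]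
    rw [Ring.ord_of_irreducible hirr]
    simp
  · have hu : IsUnit (algebraMap Γ(N, V) (N.presheaf.stalk z) a) :=
      IsLocalization.map_units _ (⟨a, haz ⟨z, hz⟩ fun h => e (congrArg Subtype.val h)⟩ : (P ⟨z, hz⟩).primeCompl)
    rw [show N.presheaf.germ V z (hmemV z hz) a = algebraMap Γ(N, V) (N.presheaf.stalk z) a from rfl]
    rw [Ring.ord_of_isUnit hu]
    simp

/-- A closed point of a scheme locally of finite type over an algebraically closed field has degree one. -/
theorem residueDegree_closed {k : Type u} [Field k] [IsAlgClosed k] {X : Scheme.{u}}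
    (p : X ⟶ Spec (CommRingCat.of k)) [LocallyOfFiniteType p] (x : X) (hx : IsClosed ({x} : Set X)) :
    p.residueDegree x = 1 := by
  let t := pointOfClosedPoint p x hx
  have key : Function.Surjective (p.residueFieldMap x) := by
    have hk : ∀ (y : X), y = t (IsLocalRing.closedPoint k) → Function.Surjective (p.residueFieldMap y) := by
      rintro _ rfl b
      haveI : IsIso (t ≫ p) := by
        rw [show t ≫ p = 𝟙 _ from pointOfClosedPoint_comp p x hx]; infer_instance
      obtain ⟨c, hc⟩ := SpFun.surjective_residueFieldMap (t ≫ p) (IsLocalRing.closedPoint k)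
        (t.residueFieldMap _ b)
      rw [Scheme.residueFieldMap_comp] at hc
      exact ⟨c, (t.residueFieldMap _).hom.injective hc⟩
    exact hk x (pointOfClosedPoint_apply p x hx _).symm
  letI := (p.residueFieldMap x).hom.toAlgebra
  let e := LinearEquiv.ofBijective (Algebra.linearMap ((Spec (CommRingCat.of k)).residueField (p x)) (X.residueField x))
    ⟨(p.residueFieldMap x).hom.injective, key⟩
  exact e.finrank_eq.symm.trans (Module.finrank_self _)

variable {k : Type u} [Field k] [IsAlgClosed k] {X : Scheme.{u}} (p : X ⟶ Spec (CommRingCat.of k)) [IsProper p]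
  {δ : X → ℤ} (hδ : Cyc.DeltaCompat p δ (fun _ => 0))

include hδ

/-- The normalization of the closure of a point of dimension one. -/
theorem exists_normalized {ξ : X} (h1 : δ ξ = 1) {x : X} (hx : ξ ⤳ x) (hxc : IsClosed ({x} : Set X)) :
    ∃ (N : Scheme.{u}) (ι : N ⟶ X) (_ : IsIntegral N) (_ : IsNoetherian N) (_ : IsProper ι) (_ : Smooth (ι ≫ p)),
      topologicalKrullDim N = 1 ∧ ι (genericPoint N) = ξ ∧
      (∀ {V : N.Opens}, IsAffineOpen V → (V : Set N).Nonempty → IsDedekindDomain Γ(N, V)) ∧
      ∃ t : N, IsClosed ({t} : Set N) ∧ ι t = x := by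
  letI : X.Over (Spec (CommRingCat.of k)) := ⟨p⟩
  haveI : IsProper (X ↘ Spec (CommRingCat.of k)) := inferInstanceAs (IsProper p)
  have hs := KDegree.isSetup hδ
  let J := Scheme.IdealSheafData.vanishingIdeal (⟨closure {ξ}, isClosed_closure⟩ : Closeds X)
  let Z := J.subscheme
  haveI : IsIntegral Z := H22Alg.isIntegral_vanishingIdeal_closure ξ
  letI : Z.Over (Spec (CommRingCat.of k)) := ⟨J.subschemeι ≫ p⟩
  haveI : IsProper (Z ↘ Spec (CommRingCat.of k)) := inferInstanceAs (IsProper (J.subschemeι ≫ p))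
  have hrange : Set.range J.subschemeι = closure {ξ} := H17.range_vanishingIdeal_subschemeι _
  have hZd : topologicalKrullDim Z = 1 := by
    have e : topologicalKrullDim Z = topologicalKrullDim ↥(closure ({ξ} : Set X)) :=
      (J.subschemeι.isEmbedding.toHomeomorph.trans (Homeomorph.setCongr hrange)).isHomeomorph.topologicalKrullDim_eq
    have u1 := H22Alg.DeltaDim.topologicalKrullDim_closure_le hs.2.2 (KDegree.nonneg hδ) ξ
    have u2 := H22Alg.DeltaDim.le_topologicalKrullDim_closure hs.2.2 hx
    rw [h1] at u1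
    rw [h1, PointsAlg.delta_eq_zero p hδ hxc] at u2
    rw [e]
    exact le_antisymm (by simpa using u1) (by simpa using u2)
  haveI := H28Int.isNoetherian k (X := Z)
  haveI : QuasiCompact (Z.fromSpecStalk (genericPoint Z)) := inferInstance
  haveI : QuasiSeparated (Z.fromSpecStalk (genericPoint Z)) := inferInstance
  haveI : IsFinite (Curv2.normalizationι Z) := H11Curve.isFinite_normalizationι (Z ↘ Spec (CommRingCat.of k))
  haveI : Surjective (Curv2.normalizationι Z) := H11Curve.surjective_normalizationι Z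
  obtain ⟨hNint, hνη, hνb⟩ := H11Curve.exists_residueFieldMap_bijective Z
  haveI := hNint
  let N := Curv2.normalization Z
  letI : N.Over (Spec (CommRingCat.of k)) := ⟨Curv2.normalizationι Z ≫ (Z ↘ Spec (CommRingCat.of k))⟩
  haveI : IsProper (N ↘ Spec (CommRingCat.of k)) :=
    inferInstanceAs (IsProper (Curv2.normalizationι Z ≫ (Z ↘ Spec (CommRingCat.of k))))
  have hNreg := H22Alg.NefBundle.isRegularLocalRing_stalk (N := N)
    fun hV hne => H22Alg.NormalizationDimOne.isDedekindDomain_affineOpen Z hZd hV hne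
  haveI : Smooth (N ↘ Spec (CommRingCat.of k)) := H29RR.smooth_of_regular k N hNreg
  have hNd : topologicalKrullDim N = 1 := by
    have e := H8Props.FieldDim.cdim_eq_add (N ↘ Spec (CommRingCat.of k)) (Z ↘ Spec (CommRingCat.of k))
      (Curv2.normalizationι Z) rfl (genericPoint N)
    rwa [H22Alg.VarDim.cdim_genericPoint N, H28Int.Curves.cdim_closed ((S9332.result (Curv2.normalizationι Z) _).2
      (RingHom.Finite.of_surjective _ hνb.2)), hνη,
      H22Alg.VarDim.cdim_genericPoint Z, hZd, Nat.cast_zero, zero_add] at e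
  haveI : JacobsonSpace N := LocallyOfFiniteType.jacobsonSpace (N ↘ Spec (CommRingCat.of k))
  let ι : N ⟶ X := Curv2.normalizationι Z ≫ J.subschemeι
  haveI : IsProper ι := inferInstanceAs (IsProper (Curv2.normalizationι Z ≫ J.subschemeι))
  haveI : IsNoetherian N := H28Int.isNoetherian k (X := N)
  have hsm : Smooth (ι ≫ p) := by
    rw [show ι ≫ p = N ↘ Spec (CommRingCat.of k) from Category.assoc _ _ _]; infer_instance
  have hgen : ι (genericPoint N) = ξ := by
    show J.subschemeι (Curv2.normalizationι Z (genericPoint N)) = ξ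
    rw [hνη]
    refine ((genericPoint_spec Z).image J.subschemeι.continuous).eq ?_
    rw [Set.image_univ, hrange, closure_closure]
    exact isGenericPoint_closure
  obtain ⟨a, ha⟩ : x ∈ Set.range J.subschemeι := by rw [hrange]; exact specializes_iff_mem_closure.1 hx
  obtain ⟨b, hb⟩ := (Curv2.normalizationι Z).surjective a
  have hbx : ι b = x := by rw [← ha, ← hb]; rfl
  obtain ⟨c, hc1, hc2⟩ := nonempty_inter_closedPoints (⟨b, hbx⟩ : (ι ⁻¹' {x}).Nonempty)
    (hxc.preimage ι.continuous).isLocallyClosed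
  exact ⟨N, ι, inferInstance, inferInstance, inferInstance, hsm, hNd, hgen,
    fun hV hne => H22Alg.NormalizationDimOne.isDedekindDomain_affineOpen Z hZd hV hne, c, hc2, hc1⟩

/-- A closed point on a curve meeting `U` moves into `U`. -/
theorem exists_move [CompactSpace X] {ξ : X} (h1 : δ ξ = 1) (U : X.Opens) (hξU : ξ ∈ U) {x : X} (hx : ξ ⤳ x)
    (hxc : IsClosed ({x} : Set X)) :
    ∃ z' : AlgebraicCycle X ℤ, z' ∈ Cyc.Zk X δ 0 ∧ (∀ w, z' w ≠ 0 → w ∈ U) ∧
      Cyc.RatEquiv δ 0 (Function.locallyFinsuppWithin.single x (1 : ℤ)) z' := by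
  letI : X.Over (Spec (CommRingCat.of k)) := ⟨p⟩
  haveI : IsProper (X ↘ Spec (CommRingCat.of k)) := inferInstanceAs (IsProper p)
  have hs := KDegree.isSetup hδ
  have hx0 := PointsAlg.delta_eq_zero p hδ hxc
  by_cases hxU : x ∈ U
  · refine ⟨Function.locallyFinsuppWithin.single x (1 : ℤ), ?_, ?_, ?_⟩
    · intro w hw
      rw [Function.locallyFinsuppWithin.single_apply, if_neg]
      rintro rfl; exact hw hx0
    · intro w hw
      simp only [Function.locallyFinsuppWithin.single_apply, ne_eq, ite_eq_right_iff, one_ne_zero,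
        imp_false, not_not] at hw
      exact hw ▸ hxU
    · exact ⟨PEmpty.{u + 1}, fun e => e.elim, fun e => e.elim, fun e => e.elim, fun e => e.elim,
        fun _ => ⟨Set.univ, isOpen_univ, trivial, Set.toFinite _⟩, fun w => by simp [finsum_of_isEmpty]⟩
  obtain ⟨N, ι, hNint, hNn, hιp, hsm, hNd, hgen, hded, t, htc, htx⟩ := exists_normalized p hδ h1 hx hxc
  haveI := hNint; haveI := hNn; haveI := hιp; haveI := hsm
  letI : N.Over (Spec (CommRingCat.of k)) := ⟨ι ≫ p⟩
  haveI : IsProper (N ↘ Spec (CommRingCat.of k)) := inferInstanceAs (IsProper (ι ≫ p))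
  have hδN : ∃ δN, Cyc.DeltaCompat (ι ≫ p) δN (fun _ => 0) := SpFun.exists_deltaCompat _ _
  obtain ⟨δN, hδN⟩ := hδN
  have hsN := KDegree.isSetup (X := N) hδN
  haveI : N.IsSeparated := ⟨by
    rw [← terminal.comp_from (ι ≫ p)]
    infer_instance⟩
  have hreg : ∀ z : N, IsRegularLocalRing (N.presheaf.stalk z) := fun z =>
    H19Grp.isRegularLocalRing_stalk_of_smooth (ι ≫ p) z
  have hgU : genericPoint N ∈ ι ⁻¹ᵁ U := by show ι (genericPoint N) ∈ U; rw [hgen]; exact hξU
  obtain ⟨hfin, hcl⟩ := finite_compl hNd.le (ι ⁻¹ᵁ U) hgU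
  have hNclosed : ∀ z : N, IsClosed ({z} : Set N) → δN z = 0 := fun z hz =>
    PointsAlg.delta_eq_zero (ι ≫ p) hδN hz
  have hgenN : δN (genericPoint N) = 1 := by
    have hne : genericPoint N ≠ t := fun e => hxU (by rw [← htx, ← e]; exact hgU)
    have := (hsN.2.2 _ _ (genericPoint_specializes t) hne).1
    have h2 := KDegree.le_one (X := N) hδN hNd.le (genericPoint N)
    rw [hNclosed t htc] at this
    omega
  have hgen1 : ∀ z : N, z ∉ ι ⁻¹ᵁ U → ringKrullDim (N.presheaf.stalk z) = 1 := fun z hz => by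
    obtain ⟨hinj, -⟩ := PushDiv.isFractionRing_specMap z (genericPoint N) (genericPoint_specializes z) rfl
    have hker : RingHom.ker (Cyc.specMap z (genericPoint N) (genericPoint_specializes z)) = ⊥ :=
      (RingHom.injective_iff_ker_eq_bot _).1 hinj
    rw [← ringKrullDim_eq_of_ringEquiv ((Ideal.quotEquivOfEq hker).trans (RingEquiv.quotientBot _)),
      H22Alg.DeltaDim.eq_ringKrullDim_locQuot hsN.2.2, hgenN, hNclosed z (hcl z hz)]
    rfl
  have ht : t ∈ hfin.toFinset := by simpa [Set.Finite.mem_toFinset, htx] using hxU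
  obtain ⟨f, hf0, hf⟩ := exists_ord hreg hNd.le hded hfin.toFinset
    (fun z hz => by
      rw [Set.Finite.mem_toFinset] at hz
      exact ⟨hcl z hz, hgen1 z hz⟩) t ht
  obtain ⟨D, hD⟩ : ∃ D : AlgebraicCycle N ℤ, ∀ w, D w = Cyc.divFun δN (genericPoint N) f w :=
    ⟨⟨Cyc.divFun δN (genericPoint N) f, fun _ _ => trivial,
      fun w _ => H22Alg.CycDiv.locallyFinite_divFun hsN.2.2 _ hf0 w⟩, fun _ => rfl⟩
  let T : AlgebraicCycle N ℤ := Function.locallyFinsuppWithin.single t (1 : ℤ) - D
  have hTD : Cyc.RatEquiv δN 0 (Function.locallyFinsuppWithin.single t (1 : ℤ)) T := by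
    refine ProdDiv.ratEquivZero_divFun (hgenN.trans (zero_add 1).symm) hf0 fun w => ?_
    simp only [T, sub_sub_cancel, hD]
  have hι : Cyc.DeltaCompat ι δN δ := BCPush.deltaCompat_cancel ι p hδ hδN
  have hpush := PushRat.ratEquiv_map (p := ι) hsN hs hι 0 _ _ hTD
  have hTsupp : ∀ z, T z ≠ 0 → δN z = 0 := by
    intro z hz
    by_contra h0
    apply hz
    simp only [T, Function.locallyFinsuppWithin.coe_sub, Pi.sub_apply, hD,
      Function.locallyFinsuppWithin.single_apply]
    rw [if_neg (fun e : z = t => h0 (by rw [e]; exact hNclosed t htc)), Cyc.divFun, dif_neg (fun h => h0 (by omega))]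
    simp
  have hmap : AlgebraicCycle.map ι δN δ (Function.locallyFinsuppWithin.single t (1 : ℤ)) =
      Function.locallyFinsuppWithin.single x (1 : ℤ) := by
    ext w
    simp only [AlgebraicCycle.map, Function.locallyFinsupp.map_apply, Function.locallyFinsuppWithin.single_apply]
    split_ifs with hw
    · rw [finsum_mem_inter_support_eq (s := (ι.base ⁻¹' {w})) (t := {t}) _ ?_]
      · rw [finsum_mem_singleton, if_pos rfl, one_mul, AlgebraicCycle.mapCoeff, if_pos]
        · have h := H22Alg.CycBasic.residueDegree_comp ι p t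
          rw [residueDegree_closed (ι ≫ p) t htc] at h
          have h1 : ι.residueDegree t = 1 := by
            rcases Nat.eq_one_of_mul_eq_one_left h.symm with h' <;> first | exact h' | omega
          rw [h1]; rfl
        · show δN t = δ (ι t)
          rw [htx, hx0, hNclosed t htc]
      · ext z
        simp only [Set.mem_inter_iff, Set.mem_preimage, Set.mem_singleton_iff, Function.mem_support, ne_eq,
          and_congr_left_iff]
        intro h
        have : z = t := by by_contra e; simp [e] at h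
        simp [this, hw, htx]
    · refine finsum_mem_eq_zero_of_forall_eq_zero fun z hz => ?_
      rw [if_neg, zero_mul]
      rintro rfl
      exact hw (hz.symm.trans htx)
  refine ⟨AlgebraicCycle.map ι δN δ T, ?_, ?_, hmap ▸ hpush⟩
  · intro w hw
    simp only [AlgebraicCycle.map, Function.locallyFinsupp.map_apply]
    refine finsum_mem_eq_zero_of_forall_eq_zero fun z hz => ?_
    by_cases h : T z = 0
    · rw [h, zero_mul]
    · rw [AlgebraicCycle.mapCoeff, if_neg, Nat.cast_zero, mul_zero]
      rw [hTsupp z h, show ι.base z = w from hz]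
      exact Ne.symm hw
  · intro w hw
    by_contra hwU
    apply hw
    simp only [AlgebraicCycle.map, Function.locallyFinsupp.map_apply]
    refine finsum_mem_eq_zero_of_forall_eq_zero fun z hz => ?_
    have hzU : z ∉ ι ⁻¹ᵁ U := fun h => hwU (by rw [← (show ι z = w from hz)]; exact h)
    have hzt : T z = 0 := by
      simp only [T, Function.locallyFinsuppWithin.coe_sub, Pi.sub_apply, hD,
        Function.locallyFinsuppWithin.single_apply]
      rw [Cyc.divFun, dif_pos ⟨genericPoint_specializes z, by rw [hNclosed z (hcl z hzU), hgenN]; rfl⟩,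
        hf z (by simpa [Set.Finite.mem_toFinset] using hzU)]
      simp
    rw [hzt, zero_mul]

end Groth.Agent.H3Cyc.CurveMove
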