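import Groth.Agent.H23FunFld.Riemann
import Groth.Agent.H8Props.FieldDimRing
import Groth.Agent.H28Neron.NormalSmooth
import Groth.Agent.H29Ref.Rational
import Groth.Agent.H26CDiv.Dim1
import Groth.Agent.S0217
import Mathlib

/-!
# Functions with prescribed pole on a smooth proper curve over any field
-/

set_option autoImplicit false
set_option linter.style.haveILetI false
set_option backward.isDefEq.respectTransparency.types false

universe u

open CategoryTheory AlgebraicGeometry TopologicalSpace WithZero

namespace Groth.Agent.H3Cyc.CurvePole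

variable {k : Type u} [Field k] {X : Scheme.{u}} (f : X ⟶ Spec (CommRingCat.of k))

/-- The constants among the global functions. -/
noncomputable def cst : k →+* Γ(X, ⊤) :=
  f.appTop.hom.comp (Scheme.ΓSpecIso (CommRingCat.of k)).inv.hom

/-- The constants in the function field. -/
@[reducible] noncomputable def constAlg [IsIntegral X] : Algebra k X.functionField :=
  ((X.presheaf.germ ⊤ (genericPoint X) trivial).hom.comp (cst f)).toAlgebra

variable [IsIntegral X]

theorem stalk_dvr [Smooth f] (hdim : topologicalKrullDim X = 1) {z : X} (hz : IsClosed ({z} : Set X)) :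
    IsDiscreteValuationRing (X.presheaf.stalk z) := by
  haveI : IsLocallyNoetherian X := LocallyOfFiniteType.isLocallyNoetherian f
  refine H29Ref.isDiscreteValuationRing_stalk (H28Neron.isNormalScheme_of_smooth f fun x => ?_) z ?_
  · rw [Subsingleton.elim (α := PrimeSpectrum k) x (genericPoint (Spec (CommRingCat.of k)))]
    exact ⟨inferInstanceAs (IsDomain (Spec (CommRingCat.of k)).functionField),
      inferInstanceAs (IsIntegrallyClosed (Spec (CommRingCat.of k)).functionField)⟩
  have hgz : genericPoint X ≠ z := by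
    intro e
    have huniv : (Set.univ : Set X) = {z} := by
      rw [← (genericPoint_spec X).def, e, hz.closure_eq]
    haveI : Subsingleton X := ⟨fun a b => by
      have ha : a ∈ ({z} : Set X) := huniv ▸ trivial
      have hb : b ∈ ({z} : Set X) := huniv ▸ trivial
      exact ha.trans hb.symm⟩
    haveI : Subsingleton (IrreducibleCloseds X) := ⟨fun A B => IrreducibleCloseds.ext (by
      obtain ⟨a, ha⟩ := A.isIrreducible.1
      obtain ⟨b, hb⟩ := B.isIrreducible.1
      ext x
      rw [Subsingleton.elim x a]
      exact ⟨fun _ => Subsingleton.elim b a ▸ hb, fun _ => ha⟩)⟩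
    have h0 : topologicalKrullDim X ≤ 0 := Order.krullDim_nonpos_of_subsingleton
    rw [hdim] at h0
    exact absurd h0 (by decide)
  rw [AlgebraicGeometry.ringKrullDim_stalk_eq_coheight]
  suffices Order.coheight z = 1 by rw [this]; rfl
  refine le_antisymm ?_ ?_
  · refine Order.coheight_le fun p hp => ?_
    by_contra hlt
    push_neg at hlt
    have h2 : 2 ≤ p.length := by exact_mod_cast (Order.add_one_le_of_lt hlt)
    have ha : p ⟨1, by omega⟩ < p ⟨2, by omega⟩ := p.strictMono (by simp [Fin.lt_def])
    have hne : p ⟨1, by omega⟩ ≠ genericPoint X := fun e =>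
      ha.not_ge (e ▸ (genericPoint_specializes (p ⟨2, by omega⟩) : _))
    have hcl := H26CDiv.isClosed_singleton_of_ne_genericPoint (le_of_eq hdim) hne
    have h01 : p ⟨0, by omega⟩ < p ⟨1, by omega⟩ := p.strictMono (by simp [Fin.lt_def])
    have hsp : p ⟨1, by omega⟩ ⤳ p ⟨0, by omega⟩ := h01.le
    have hmem : p ⟨0, by omega⟩ ∈ ({p ⟨1, by omega⟩} : Set X) := Specializes.mem_closed hsp hcl rfl
    exact h01.not_ge (le_of_eq (Set.mem_singleton_iff.1 hmem).symm)
  · have hlt : z < genericPoint X := lt_of_le_not_ge (genericPoint_specializes z) fun e =>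
      hgz (Specializes.antisymm (genericPoint_specializes z) e).eq
    have := Order.length_le_coheight (p := (RelSeries.singleton _ z).snoc (genericPoint X) (by simpa using hlt))
      (x := z) (by simp)
    simpa using this

theorem isFunctionField [Smooth f] [IsProper f] (hdim : topologicalKrullDim X = 1) :
    letI := constAlg f
    FunFld.IsFunctionField (algebraicClosure k X.functionField) X.functionField := by
  letI := constAlg f
  haveI : JacobsonSpace X := LocallyOfFiniteType.jacobsonSpace f
  obtain ⟨x₀, -, hx₀⟩ := nonempty_inter_closedPoints (X := X) (Z := Set.univ) ⟨genericPoint X, trivial⟩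
    isClosed_univ.isLocallyClosed
  obtain ⟨_, ⟨U, hU, rfl⟩, hxU, -⟩ := X.isBasis_affineOpens.exists_subset_of_mem_open
    (Set.mem_univ x₀) isOpen_univ
  haveI : Nonempty U := ⟨⟨_, hxU⟩⟩
  haveI := functionField_isFractionRing_of_isAffineOpen X U hU
  let φ : k →+* Γ(X, U) := (f.appLE ⊤ U le_top).hom.comp (Scheme.ΓSpecIso (CommRingCat.of k)).inv.hom
  have hφ : φ.FiniteType := RingHom.FiniteType.comp
    (HasRingHomProperty.appLE @LocallyOfFiniteType f inferInstance ⟨⊤, isAffineOpen_top _⟩ ⟨U, hU⟩ le_top)
    (RingHom.FiniteType.of_surjective _ (Scheme.ΓSpecIso (CommRingCat.of k)).symm.commRingCatIsoToRingEquiv.surjective)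
  letI := φ.toAlgebra
  haveI : Algebra.FiniteType k Γ(X, U) := hφ
  haveI : IsScalarTower k Γ(X, U) X.functionField := IsScalarTower.of_algebraMap_eq fun a => by
    show _ = X.presheaf.germ U (genericPoint X) _ (f.appLE ⊤ U le_top _)
    rw [Scheme.Hom.appLE, CommRingCat.comp_apply]
    exact (X.presheaf.germ_res_apply _ _ _ _).symm
  obtain ⟨s, hs, hs'⟩ := Groth.Agent.H8Props.FieldDim.exists_dim_trdeg k Γ(X, U)
  have hle : ringKrullDim Γ(X, U) ≤ 1 := by
    rw [← PrimeSpectrum.topologicalKrullDim_eq_ringKrullDim, ← hdim]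
    exact hU.fromSpec.isOpenEmbedding.isInducing.topologicalKrullDim_le
  haveI := stalk_dvr f hdim hx₀
  have hne : s ≠ 0 := by
    rintro rfl
    haveI : Ring.KrullDimLE 0 Γ(X, U) := Ring.krullDimLE_iff.2 hs.le
    have hF : IsField Γ(X, U) := Ring.KrullDimLE.isField_of_isDomain
    letI : Algebra Γ(X, U) (X.presheaf.stalk (⟨x₀, hxU⟩ : U)) :=
      X.presheaf.algebra_section_stalk (⟨x₀, hxU⟩ : U)
    haveI := hU.isLocalization_stalk ⟨x₀, hxU⟩
    refine IsDiscreteValuationRing.not_isField (X.presheaf.stalk x₀) ?_
    letI := hF.toField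
    exact (IsLocalization.atUnits Γ(X, U) ((hU.primeIdealOf ⟨x₀, hxU⟩).asIdeal.primeCompl)
      (S := X.presheaf.stalk x₀)
      (fun r hr => (isUnit_iff_ne_zero.2 fun h => hr (h ▸ zero_mem _) : IsUnit r))).symm.toRingEquiv.toMulEquiv.isField hF
  have hs1 : s = 1 := by
    have h1 : ((s : ℕ) : WithBot ℕ∞) ≤ ((1 : ℕ) : WithBot ℕ∞) := hs ▸ hle
    have : s ≤ 1 := by exact_mod_cast h1
    omega
  subst hs1
  have htr : Algebra.trdeg k X.functionField = 1 := by
    haveI : Algebra.IsAlgebraic Γ(X, U) X.functionField := IsLocalization.isAlgebraic _ (nonZeroDivisors Γ(X, U))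
    rw [← Nat.cast_one, ← hs', ← trdeg_add_eq k Γ(X, U) (A := X.functionField), trdeg_eq_zero_iff.2 this, add_zero]
  obtain ⟨x, hx⟩ : ∃ x : X.functionField, Transcendental k x := by
    have : Algebra.Transcendental k X.functionField := trdeg_ne_zero_iff.1 (by rw [htr]; exact one_ne_zero)
    exact this.1
  have hbasis : IsTranscendenceBasis k (fun _ : Unit => x) :=
    (algebraicIndependent_unique_type_iff.2 hx).isTranscendenceBasis_of_lift_trdeg_le_of_finite (by simp [htr])
  have halg := hbasis.isAlgebraic_field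
  rw [Set.range_const] at halg
  obtain ⟨S, hS⟩ := (Algebra.FiniteType.out : (⊤ : Subalgebra k Γ(X, U)).FG)
  let k₀ := algebraicClosure k X.functionField
  haveI : Algebra.IsAlgebraic k k₀ := algebraicClosure.isAlgebraic k X.functionField
  refine ⟨⟨x, ?_, ?_⟩, fun y hy => ?_⟩
  · intro h
    exact hx (IsAlgebraic.restrictScalars k h)
  · obtain ⟨F, hF⟩ : ∃ F, F = IntermediateField.adjoin k₀ ({x} : Set X.functionField) := ⟨_, rfl⟩
    rw [← hF]
    have hsub : IntermediateField.adjoin k ({x} : Set X.functionField) ≤ F.restrictScalars k :=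
      IntermediateField.adjoin_le_iff.2 (by
        rintro _ rfl
        rw [hF]
        exact IntermediateField.subset_adjoin k₀ _ rfl)
    haveI : Algebra.IsAlgebraic (IntermediateField.adjoin k ({x} : Set X.functionField)) X.functionField := halg
    have hint : ∀ z : X.functionField, IsIntegral F z := fun z => by
      letI := (IntermediateField.inclusion hsub).toRingHom.toAlgebra
      haveI : IsScalarTower (IntermediateField.adjoin k ({x} : Set X.functionField)) (F.restrictScalars k) X.functionField :=
        IsScalarTower.of_algebraMap_eq fun _ => rfl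
      exact (((Algebra.IsAlgebraic.isAlgebraic (R := IntermediateField.adjoin k ({x} : Set X.functionField)) z).tower_top
        (F.restrictScalars k)).isIntegral : IsIntegral (F.restrictScalars k) z)
    obtain ⟨M, hM⟩ : ∃ M, M = IntermediateField.adjoin F (algebraMap Γ(X, U) X.functionField '' (S : Set Γ(X, U))) :=
      ⟨_, rfl⟩
    haveI : FiniteDimensional F M := by
      haveI : Finite ↑(algebraMap Γ(X, U) X.functionField '' (S : Set Γ(X, U))) :=
        (S.finite_toSet.image _).to_subtype
      subst hM
      exact IntermediateField.finiteDimensional_adjoin fun z _ => hint z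
    have hmem : ∀ r : Γ(X, U), algebraMap Γ(X, U) X.functionField r ∈ M := by
      intro r
      have h : (Algebra.adjoin k (S : Set Γ(X, U))).map (IsScalarTower.toAlgHom k Γ(X, U) X.functionField) ≤
          ((M.restrictScalars k₀).restrictScalars k).toSubalgebra := by
        rw [AlgHom.map_adjoin]
        exact Algebra.adjoin_le fun z hz => hM ▸ IntermediateField.subset_adjoin F _ hz
      rw [hS] at h
      exact h ⟨r, trivial, rfl⟩
    have htop : M = ⊤ := eq_top_iff.2 fun z _ => by
      obtain ⟨a, b, -, rfl⟩ := IsFractionRing.div_surjective Γ(X, U) z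
      exact div_mem (hmem a) (hmem b)
    exact Module.Finite.equiv ((IntermediateField.equivOfEq htop).trans IntermediateField.topEquiv).toLinearEquiv
  · exact ⟨⟨y, (mem_algebraicClosure_iff).2 (IsAlgebraic.restrictScalars k hy)⟩, rfl⟩

theorem exists_place [Smooth f] [IsProper f] (hdim : topologicalKrullDim X = 1) {z : X}
    (hz : IsClosed ({z} : Set X)) :
    letI := constAlg f
    ∃ P : FunFld.Place (algebraicClosure k X.functionField) X.functionField,
      ∀ x, P.1 x ≤ 1 ↔ x ∈ (algebraMap (X.presheaf.stalk z) X.functionField).range := by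
  letI := constAlg f
  haveI := stalk_dvr f hdim hz
  let O : ValuationSubring X.functionField :=
    { (algebraMap (X.presheaf.stalk z) X.functionField).range with
      mem_or_inv_mem' := fun x => ValuationRing.isInteger_or_isInteger (X.presheaf.stalk z) x }
  refine H23FunFld.exists_place_of_valuationSubring (isFunctionField f hdim) O (fun c => ?_) fun h => ?_
  · let g : k →+* X.presheaf.stalk z := (X.presheaf.germ ⊤ z trivial).hom.comp (cst f)
    letI : Algebra k (X.presheaf.stalk z) := g.toAlgebra
    haveI : IsScalarTower k (X.presheaf.stalk z) X.functionField := IsScalarTower.of_algebraMap_eq fun a =>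
      (TopCat.Presheaf.germ_stalkSpecializes_apply X.presheaf (U := ⊤) trivial (genericPoint_specializes z) _).symm
    have hint : IsIntegral (X.presheaf.stalk z) (c : X.functionField) :=
      ((mem_algebraicClosure_iff).1 c.2).isIntegral.tower_top
    obtain ⟨a, ha⟩ := IsIntegrallyClosed.isIntegral_iff.1 hint
    exact ⟨a, ha⟩
  · refine IsDiscreteValuationRing.not_isField (X.presheaf.stalk z) ?_
    refine ⟨⟨0, 1, zero_ne_one⟩, mul_comm, fun {a} ha => ?_⟩
    obtain ⟨b, hb⟩ : (algebraMap (X.presheaf.stalk z) X.functionField a)⁻¹ ∈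
        (algebraMap (X.presheaf.stalk z) X.functionField).range :=
      (SetLike.ext_iff.1 h _).2 trivial
    refine ⟨b, IsFractionRing.injective (X.presheaf.stalk z) X.functionField ?_⟩
    rw [map_mul, hb, map_one, mul_inv_cancel₀]
    exact (map_ne_zero_iff _ (IsFractionRing.injective (X.presheaf.stalk z) X.functionField)).2 ha

theorem range_ne [IsProper f] [Smooth f] (hdim : topologicalKrullDim X = 1) {y z : X}
    (hy : IsClosed ({y} : Set X)) (hz : IsClosed ({z} : Set X)) (hne : z ≠ y) :
    (algebraMap (X.presheaf.stalk y) X.functionField).range ≠ (algebraMap (X.presheaf.stalk z) X.functionField).range := by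
  haveI : X.IsSeparated := ⟨by
    rw [show Limits.terminal.from X = f ≫ Limits.terminal.from _ from Limits.terminal.hom_ext _ _]
    infer_instance⟩
  haveI : IsLocallyNoetherian X := LocallyOfFiniteType.isLocallyNoetherian f
  haveI : CompactSpace X := QuasiCompact.compactSpace_of_compactSpace f
  haveI : AlgebraicGeometry.IsNoetherian X := {}
  classical
  obtain ⟨U, hU, hmem⟩ := Groth.Agent.S0217.result X
    (fun U _ => TopologicalSpace.NoetherianSpace.finite_irreducibleComponents) {y, z} (fun w hw => by
      have hwc : IsClosed ({w} : Set X) := by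
        rcases Finset.mem_insert.1 hw with rfl | h
        · exact hy
        · rw [Finset.mem_singleton.1 h]; exact hz
      haveI := stalk_dvr f hdim hwc
      exact ⟨inferInstance, le_of_eq (IsPrincipalIdealRing.ringKrullDim_eq_one (X.presheaf.stalk w)
        (IsDiscreteValuationRing.not_isField _))⟩)
  have hyU := hmem y (Finset.mem_insert_self _ _)
  have hzU := hmem z (Finset.mem_insert_of_mem (Finset.mem_singleton_self _))
  have hnot : ¬ z ⤳ y := fun h => hne (h.mem_closed hz rfl).symm
  obtain ⟨O, hO, hyO, hzO⟩ : ∃ O, IsOpen O ∧ y ∈ O ∧ z ∉ O := by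
    simpa [specializes_iff_forall_open] using hnot
  obtain ⟨t, ht, hyt⟩ := hU.exists_basicOpen_le (V := ⟨O, hO⟩) ⟨y, hyO⟩ hyU
  obtain ⟨a, ha⟩ := isUnit_iff_exists_inv.1 ((X.mem_basicOpen t y hyU).1 hyt)
  intro heq
  obtain ⟨b, hb⟩ : algebraMap (X.presheaf.stalk y) X.functionField a ∈
      (algebraMap (X.presheaf.stalk z) X.functionField).range := heq ▸ ⟨a, rfl⟩
  refine hzO (ht ((X.mem_basicOpen t z hzU).2 (IsUnit.of_mul_eq_one b ?_)))
  apply IsFractionRing.injective (X.presheaf.stalk z) X.functionField
  rw [map_mul, hb, map_one]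
  have e : ∀ (w : X) (hw : w ∈ U), algebraMap (X.presheaf.stalk w) X.functionField (X.presheaf.germ U w hw t) =
      X.presheaf.germ U (genericPoint X) ((genericPoint_specializes w).mem_open U.2 hw) t := fun w hw =>
    TopCat.Presheaf.germ_stalkSpecializes_apply X.presheaf hw (genericPoint_specializes w) t
  rw [e z hzU, ← e y hyU, ← map_mul, ha, map_one]

/-- Two functions whose only poles are at `y`, of consecutive orders. -/
theorem exists_consecutive_poles [IsProper f] [Smooth f] (hdim : topologicalKrullDim X = 1) {y : X}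
    (hy : IsClosed ({y} : Set X)) (π : X.presheaf.stalk y)
    (hπ : IsLocalRing.maximalIdeal (X.presheaf.stalk y) = Ideal.span {π}) :
    ∃ (m : ℕ) (F : Fin 2 → X.functionField),
      (∀ i, ∃ u : X.presheaf.stalk y, IsUnit u ∧
        F i * algebraMap (X.presheaf.stalk y) X.functionField π ^ (m + (i : ℕ)) =
          algebraMap (X.presheaf.stalk y) X.functionField u) ∧
      ∀ z : X, IsClosed ({z} : Set X) → z ≠ y → ∀ i,
        F i ∈ (algebraMap (X.presheaf.stalk z) X.functionField).range := by
  letI := constAlg f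
  haveI := stalk_dvr f hdim hy
  have hK := isFunctionField f hdim
  obtain ⟨P, hP⟩ := exists_place f hdim hy
  let d : ℕ → FunFld.Divisor (algebraicClosure k X.functionField) X.functionField :=
    fun m => Finsupp.single P (m : ℤ)
  let e : ℕ → ℕ := fun m => FunFld.ell (d m)
  have hd : 0 < (P.deg : ℤ) := by
    haveI := H23FunFld.finiteDimensional_residueField hK P
    exact_mod_cast (Module.finrank_pos : 0 < Module.finrank _ (IsLocalRing.ResidueField P.O))
  have hdeg : ∀ m, (d m).deg = m * P.deg := fun m => H23FunFld.deg_single P m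
  have hmono : ∀ m, d m ≤ d (m + 1) := fun m Q => by
    rcases eq_or_ne Q P with rfl | hQ
    · simp [d]
    · simp [d, Finsupp.single_eq_of_ne hQ]
  have hup : ∀ m, (e (m + 1) : ℤ) ≤ e m + P.deg := fun m => by
    have := H23FunFld.ell_sub_le hK (hmono m)
    rw [hdeg, hdeg] at this
    push_cast at this
    simp only [e]
    linarith
  have hlow : ∀ m : ℕ, (m : ℤ) * P.deg + 1 - FunFld.genus (algebraicClosure k X.functionField) X.functionField ≤ e m :=
    fun m => by rw [← hdeg]; exact H23FunFld.ell_ge hK (d m)
  obtain ⟨m, hm⟩ : ∃ m, (e m < e (m + 1)) ∧ (e (m + 1) < e (m + 2)) := by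
    by_contra hcon
    push_neg at hcon
    have hstep : ∀ j, (e (2 * j) : ℤ) ≤ 1 + j * P.deg := by
      intro j
      induction j with
      | zero =>
        show (FunFld.ell (Finsupp.single P ((0 : ℕ) : ℤ)) : ℤ) ≤ _
        rw [Nat.cast_zero, Finsupp.single_zero, H23FunFld.ell_zero hK]
        simp
      | succ j ih =>
        have h1 := hup (2 * j)
        have h2 := hup (2 * j + 1)
        rcases lt_or_ge (e (2 * j)) (e (2 * j + 1)) with h | h
        · have h3 : (e (2 * j + 2) : ℤ) ≤ e (2 * j + 1) := by exact_mod_cast hcon (2 * j) h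
          push_cast
          rw [show 2 * (j + 1) = 2 * j + 2 by ring]
          linarith
        · have h3 : (e (2 * j + 1) : ℤ) ≤ e (2 * j) := by exact_mod_cast h
          push_cast
          rw [show 2 * (j + 1) = 2 * j + 1 + 1 by ring]
          linarith
    set g := FunFld.genus (algebraicClosure k X.functionField) X.functionField
    have h4 := hstep (g + 1)
    have h5 := hlow (2 * (g + 1))
    push_cast at h4 h5
    nlinarith
  have hF : ∀ i : Fin 2, ∃ x : X.functionField, P.1 x ≤ exp ((m + 1 + (i : ℕ) : ℕ) : ℤ) ∧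
      ¬ P.1 x ≤ exp ((m + (i : ℕ) : ℕ) : ℤ) ∧
      ∀ Q, Q ≠ P → Q.1 x ≤ 1 := by
    intro i
    have hlt : e (m + (i : ℕ)) < e (m + 1 + (i : ℕ)) := by
      fin_cases i
      · simpa using hm.1
      · simpa [add_assoc] using hm.2
    obtain ⟨x, hx, hx'⟩ : ∃ x, x ∈ FunFld.L (d (m + 1 + (i : ℕ))) ∧ x ∉ FunFld.L (d (m + (i : ℕ))) := by
      by_contra hcon
      push_neg at hcon
      haveI := H23FunFld.finiteDimensional_L hK (d (m + (i : ℕ)))
      exact absurd (Submodule.finrank_mono (fun x hx => hcon x hx)) (not_le.2 hlt)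
    refine ⟨x, ?_, fun h => hx' fun Q => ?_, fun Q hQ => ?_⟩
    · have := hx P
      simpa [d] using this
    · rcases eq_or_ne Q P with rfl | hQ
      · simpa [d] using h
      · have := hx Q
        simpa [d, Finsupp.single_eq_of_ne hQ] using this
    · have := hx Q
      simpa [d, Finsupp.single_eq_of_ne hQ] using this
  choose F hF1 hF2 hF3 using hF
  have hπK : algebraMap (X.presheaf.stalk y) X.functionField π ≠ 0 := by
    refine (map_ne_zero_iff _ (IsFractionRing.injective (X.presheaf.stalk y) X.functionField)).2 fun h => ?_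
    refine IsDiscreteValuationRing.not_a_field (X.presheaf.stalk y) ?_
    rw [hπ, h, Ideal.span_singleton_eq_bot]
  have hval : P.1 (algebraMap (X.presheaf.stalk y) X.functionField π) = exp (-1 : ℤ) := by
    have hunit : ∀ a : X.presheaf.stalk y, P.1 (algebraMap _ X.functionField a) < 1 → a ∈ Ideal.span {π} := fun a ha => by
      rw [← hπ, IsLocalRing.mem_maximalIdeal, mem_nonunits_iff]
      intro hu
      obtain ⟨b, hb⟩ := isUnit_iff_exists_inv.1 hu
      have h1 : P.1 (algebraMap (X.presheaf.stalk y) X.functionField b) ≤ 1 := (hP _).2 ⟨b, rfl⟩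
      have := mul_lt_one_of_lt_of_le ha h1
      rw [← map_mul, ← map_mul, hb, map_one, map_one] at this
      exact lt_irrefl _ this
    obtain ⟨x, hx0, hx⟩ := H23FunFld.exists_val_eq P (-1)
    have hlt : exp (-1 : ℤ) < (1 : WithZero (Multiplicative ℤ)) := by rw [← exp_zero, exp_lt_exp]; norm_num
    obtain ⟨a, rfl⟩ := (hP x).1 (hx.le.trans hlt.le)
    obtain ⟨b, rfl⟩ := Ideal.mem_span_singleton'.1 (hunit a (hx.trans_lt hlt))
    have h1 : P.1 (algebraMap (X.presheaf.stalk y) X.functionField π) ≤ 1 := (hP _).2 ⟨π, rfl⟩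
    have h2 : P.1 (algebraMap (X.presheaf.stalk y) X.functionField b) ≤ 1 := (hP _).2 ⟨b, rfl⟩
    refine le_antisymm ?_ ?_
    · have h3 : P.1 (algebraMap (X.presheaf.stalk y) X.functionField π) ≠ 1 := by
        intro h
        have hinv : (algebraMap (X.presheaf.stalk y) X.functionField π)⁻¹ ∈
            (algebraMap (X.presheaf.stalk y) X.functionField).range := (hP _).1 (by rw [map_inv₀, h, inv_one])
        obtain ⟨c, hc⟩ := hinv
        have hu : IsUnit π := IsUnit.of_mul_eq_one c (IsFractionRing.injective (X.presheaf.stalk y) X.functionField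
          (by rw [map_mul, hc, map_one, mul_inv_cancel₀ hπK]))
        have : π ∈ IsLocalRing.maximalIdeal (X.presheaf.stalk y) := hπ ▸ Ideal.mem_span_singleton_self π
        exact this hu
      rw [H23FunFld.val_eq_exp P hπK, exp_le_exp]
      rw [H23FunFld.val_eq_exp P hπK, ← exp_zero] at h1 h3
      rw [exp_le_exp] at h1
      have : -P.ord (algebraMap (X.presheaf.stalk y) X.functionField π) ≠ 0 := fun h => h3 (by rw [h])
      omega
    · rw [← hx, map_mul, map_mul]
      exact mul_le_of_le_one_left' h2
  refine ⟨m + 1, F, fun i => ?_, fun z hz hzy i => ?_⟩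
  · have hv : P.1 (F i) = exp ((m + 1 + (i : ℕ) : ℕ) : ℤ) := by
      have h0 : F i ≠ 0 := fun h => hF2 i (by rw [h, map_zero]; exact zero_le')
      have a1 := hF1 i
      have a2 := hF2 i
      rw [H23FunFld.val_eq_exp P h0, exp_le_exp] at a1 a2
      rw [H23FunFld.val_eq_exp P h0, exp_inj]
      push_cast at a1 a2 ⊢
      omega
    have h1 : P.1 (F i * algebraMap (X.presheaf.stalk y) X.functionField π ^ (m + 1 + (i : ℕ))) = 1 := by
      rw [map_mul, map_pow, hval, hv, ← exp_nsmul, ← exp_add, ← exp_zero, exp_inj]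
      simp
    obtain ⟨u, hu⟩ := (hP _).1 h1.le
    obtain ⟨w, hw⟩ := (hP _).1 (show P.1 (F i * algebraMap (X.presheaf.stalk y) X.functionField π ^ (m + 1 + (i : ℕ)))⁻¹ ≤ 1 by
      rw [map_inv₀, h1, inv_one])
    refine ⟨u, IsUnit.of_mul_eq_one w (IsFractionRing.injective (X.presheaf.stalk y) X.functionField ?_), hu.symm⟩
    rw [map_mul, hu, hw, map_one, mul_inv_cancel₀]
    intro h
    rw [h, map_zero] at h1
    exact zero_ne_one h1
  · obtain ⟨Q, hQ⟩ := exists_place f hdim hz
    refine (hQ _).1 (hF3 i Q fun e => range_ne f hdim hy hz hzy (SetLike.ext fun x => ?_))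
    rw [← hP, ← hQ, e]

end Groth.Agent.H3Cyc.CurvePole
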