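import Groth.Agent.H3Cyc.SplitChern
import Groth.Agent.H3Cyc.SFilt
import Groth.Agent.H3Cyc.SplitTools
import Groth.Agent.H3Cyc.TensorFilt
import Groth.Agent.H17.FLI.DetSES
import Groth.Agent.H26Gr.GrSub
import Groth.Agent.H22Alg.KExists
import Groth.Agent.H22Alg.PB.Local
import Mathlib

/-!
# First Chern class of the determinant of a filtered bundle
-/

set_option autoImplicit false
set_option linter.style.haveILetI false
set_option backward.isDefEq.respectTransparency.types false
universe u

open CategoryTheory CategoryTheory.Limits AlgebraicGeometry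

noncomputable section

namespace Groth.Agent.H3Cyc.DetSplit

variable {X : Scheme.{u}} {δ : X → ℤ}

theorem cc_det (hX : Cyc.IsSetup X δ) : ∀ {ls : List X.Modules} {E : X.Modules} (_ : Filt.SFilt E ls) {n : ℕ}
    (_ : FlatMod.IsFinLocFreeOfRank n E) (_ : ls.length = n) {D : X.Modules} (_ : ExtPow.IsExtPow n E D),
    PicF.IsInvertible D ∧ Filt.cc hX D = (ls.map (Filt.cc hX)).sum := by
  intro ls E h
  induction h with
  | zero h0 =>
    intro n hE hn D hD
    obtain rfl : n = 0 := by simpa using hn.symm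
    obtain ⟨φ⟩ := H22Alg.ExtPowHom.nonempty_iso (H22Alg.KExists.isExtPow_zero _) hD
    have h1 : PicF.IsInvertible (Coh.structureModule X) := CommApp.isInvertible_structure X
    exact ⟨H11Tilde.isInvertible_of_iso φ h1, by rw [← Filt.cc_congr hX φ, SplitChern.cc_structureModule]; rfl⟩
  | @cons M E L ls a b w hex hL hM ih =>
    intro n hE hn D hD
    obtain ⟨m, rfl⟩ : ∃ m, n = m + 1 := ⟨n - 1, by simp only [List.length_cons] at hn; omega⟩
    haveI : Epi b := hex.epi_g
    haveI := hex.mono_f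
    have hL1 : FlatMod.IsFinLocFreeOfRank 1 L := H22Alg.PB.rank_one_of_isInvertible hL
    have hM' : FlatMod.IsFinLocFreeOfRank m M := H26Gr.isFinLocFreeOfRank_of_iso
      (IsLimit.conePointUniqueUpToIso (kernelIsKernel b) hex.fIsKernel) (Filt.kernel_ofRank hE hL1 b)
    have hMq : Coh.IsQCoh M := H8Props.FinLocFree.isQCoh_of_isFinLocFree _ (H22Alg.KPullLam.finLocFree_of_rank hM')
    have hEq : Coh.IsQCoh E := H8Props.FinLocFree.isQCoh_of_isFinLocFree _ (H22Alg.KPullLam.finLocFree_of_rank hE)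
    obtain ⟨DM, hDM⟩ := H22Alg.ExtPowSheaf.exists_isExtPow m hMq
    obtain ⟨hDMi, hDMc⟩ := ih hM' (by simpa using hn) hDM
    obtain ⟨φ⟩ := H17.FLI.DetSES.nonempty_iso finSumFinEquiv hex hM' hEq hL1 hDM hD
      (H22Alg.KExists.isExtPow_one L)
    refine ⟨H11Tilde.isInvertible_of_iso φ (H11Ample.isInvertible_tensor hDMi hL), ?_⟩
    rw [← Filt.cc_congr hX φ, Filt.cc_tensor hX hDMi hL, hDMc, List.map_cons, List.sum_cons]
    exact AddCommMagma.add_comm (G := AddMonoid.End (Tot.T X δ)) _ _

end Groth.Agent.H3Cyc.DetSplit
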