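import Groth.Agent.H7Lim.Stalks
import Groth.Agent.H7Lim.Topology
import Groth.Agent.H3Cyc.FlatRat
import Groth.Agent.H3Cyc.FlatComp
import Groth.Agent.H3Cyc.C1Pull
import Groth.Agent.H3Cyc.RatRel
import Mathlib

/-!
# Cycles on cofiltered limits with flat affine transition maps
-/

set_option autoImplicit false
set_option linter.style.haveILetI false
set_option linter.unusedSectionVars false
set_option backward.isDefEq.respectTransparency.types false
universe u

open CategoryTheory CategoryTheory.Limits AlgebraicGeometry TopologicalSpace IsLocalRing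
open Groth.Agent.H3Cyc.FlatRat

noncomputable section

namespace Groth.Agent.H3Cyc.Limit

section general

variable {X Y : Scheme.{u}}

theorem quot_length_pos (f : X ⟶ Y) (z : X) :
    Module.length (X.presheaf.stalk z)
      (X.presheaf.stalk z ⧸ (maximalIdeal (Y.presheaf.stalk (f z))).map (f.stalkMap z).hom) ≠ 0 := by
  have hle : (maximalIdeal (Y.presheaf.stalk (f z))).map (f.stalkMap z).hom ≤ maximalIdeal _ :=
    Ideal.map_le_iff_le_comap.mpr fun c hc hu => hc ((isUnit_map_iff (f.stalkMap z).hom c).mp hu)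
  haveI : Nontrivial (X.presheaf.stalk z ⧸ (maximalIdeal (Y.presheaf.stalk (f z))).map (f.stalkMap z).hom) :=
    Ideal.Quotient.nontrivial_iff.mpr (ne_top_of_le_ne_top (maximalIdeal.isMaximal _).ne_top hle)
  exact Module.length_pos.ne'

theorem mult_pos_of_maximal [IsLocallyNoetherian X] (f : X ⟶ Y) (z : X)
    (hz : ∀ y, f y = f z → y ⤳ z → y = z) : mult f z ≠ 0 := fun h =>
  ((ENat.toNat_eq_zero.mp h).elim (quot_length_pos f z)
    (mult_ne_top f z fun w hw hfw => hz w ((hw.map f.continuous).antisymm hfw).eq hw))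

/-- If the maximal ideal is generated from below, the point is maximal in its fibre. -/
theorem maximal_of_map_eq (f : X ⟶ Y) (x : X)
    (h : (maximalIdeal (Y.presheaf.stalk (f x))).map (f.stalkMap x).hom = maximalIdeal _) :
    ∀ y, f y = f x → y ⤳ x → y = x := by
  intro y hy hyx
  have hself : ∀ {Z : Scheme.{u}} (p : Z), maximalIdeal (Z.presheaf.stalk p) =
      RingHom.ker (Cyc.specMap p p specializes_rfl) := fun p => by
    ext c
    rw [GenStalk.mem_ker_iff, TopCat.Presheaf.stalkSpecializes_refl]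
    rfl
  have h1 := ker_le_of_eq f x y hyx hy specializes_rfl
  rw [← hself, h] at h1
  have h2 : (⟨RingHom.ker (Cyc.specMap x y hyx), GenStalk.isPrime_ker x y hyx⟩ : PrimeSpectrum _) =
      ⟨RingHom.ker (Cyc.specMap x x specializes_rfl), GenStalk.isPrime_ker x x specializes_rfl⟩ :=
    PrimeSpectrum.ext ((le_antisymm (IsLocalRing.le_maximalIdeal (RingHom.ker_ne_top _)) h1).trans (hself x))
  rw [← GenStalk.fromSpecStalk_eq x y hyx, h2, GenStalk.fromSpecStalk_eq]

theorem mult_eq_one_of_map_eq (f : X ⟶ Y) (x : X)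
    (h : (maximalIdeal (Y.presheaf.stalk (f x))).map (f.stalkMap x).hom = maximalIdeal _) : mult f x = 1 := by
  rw [mult, h]
  haveI : IsSimpleModule (X.presheaf.stalk x) (X.presheaf.stalk x ⧸ maximalIdeal (X.presheaf.stalk x)) :=
    isSimpleModule_iff_isCoatom.mpr (maximalIdeal.isMaximal _).out
  rw [Module.length_eq_one]
  rfl

theorem map_le_of_comp {Z : Scheme.{u}} (f : X ⟶ Y) (g : Y ⟶ Z) (h : X ⟶ Z) (e : f ≫ g = h) (x : X) :
    (maximalIdeal (Z.presheaf.stalk (h x))).map (h.stalkMap x).hom ≤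
      (maximalIdeal (Y.presheaf.stalk (f x))).map (f.stalkMap x).hom := by
  subst e
  haveI : IsLocalHom (g.stalkMap (f x)).hom := inferInstance
  rw [Scheme.Hom.stalkMap_comp]
  erw [CommRingCat.hom_comp, ← Ideal.map_map]
  refine Ideal.map_mono (Ideal.map_le_iff_le_comap.mpr fun c hc hu => hc ?_)
  exact (‹IsLocalHom (g.stalkMap (f x)).hom›).map_nonunit c hu

theorem stalk_transfer {Z : Scheme.{u}} (f : X ⟶ Y) (g : Y ⟶ Z) (h : X ⟶ Z) (e : f ≫ g = h) (x : X)
    (b : Z.presheaf.stalk (h x)) : ∃ b' : Y.presheaf.stalk (f x), f.stalkMap x b' = h.stalkMap x b := by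
  subst e
  exact ⟨g.stalkMap (f x) b, by rw [Scheme.Hom.stalkMap_comp]; rfl⟩

theorem finite_support_of_compact [CompactSpace X] (α : AlgebraicCycle X ℤ) : (Function.support ⇑α).Finite := by
  have h := α.locallyFiniteSupport.finite_inter_support_of_isCompact (isCompact_univ (X := X))
  rwa [Set.univ_inter] at h

theorem finite_comp [CompactSpace X] [IsLocallyNoetherian X] (f : X ⟶ Y) {δX : X → ℤ} {δY : Y → ℤ}
    (hX : Cyc.IsSetup X δX) (hY : Cyc.IsSetup Y δY) {r : ℤ} (hr : MaxDim f δX δY r) (η : Y) :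
    (Comp f δX δY r η).Finite := by
  classical
  choose W hW hxW using fun x : X =>
    (exists_isAffineOpen_mem_and_subset (show x ∈ (⊤ : X.Opens) from trivial)).imp fun W h => And.intro h.1 h.2.1
  obtain ⟨t, ht⟩ := (isCompact_univ (X := X)).elim_finite_subcover (fun x => ((W x : X.Opens) : Set X))
    (fun x => (W x).2) fun x _ => Set.mem_iUnion.mpr ⟨x, hxW x⟩
  refine ((t.finite_toSet.biUnion fun x _ => finite_comp_inter f hX hY hr η (hW x))).subset fun y hy => ?_
  obtain ⟨x, hx, hyx⟩ := Set.mem_iUnion₂.mp (ht (Set.mem_univ y))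
  exact Set.mem_biUnion hx ⟨hy, hyx⟩

end general

variable {I : Type u} [Category.{u} I] [IsCofiltered I] {D : I ⥤ Scheme.{u}} {c : Cone D}
  [∀ (i j : I) (f : i ⟶ j), IsAffineHom (D.map f)]

/-- Finitely many eventual properties hold simultaneously. -/
theorem exists_common {α : Type*} (s : Finset α) (P : α → I → Prop) (i : I)
    (hmono : ∀ a j k (_ : k ⟶ j), P a j → P a k) (h : ∀ a ∈ s, ∀ j, ∃ (k : I) (_ : k ⟶ j), P a k) :
    ∃ (k : I) (_ : k ⟶ i), ∀ a ∈ s, P a k := by
  classical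
  induction s using Finset.induction_on with
  | empty => exact ⟨i, 𝟙 i, by simp⟩
  | @insert a s ha ih =>
    obtain ⟨k, f, hk⟩ := ih fun b hb => h b (Finset.mem_insert_of_mem hb)
    obtain ⟨l, g, hl⟩ := h a (Finset.mem_insert_self a s) k
    refine ⟨l, g ≫ f, fun b hb => ?_⟩
    rcases Finset.mem_insert.mp hb with rfl | hb
    · exact hl
    · exact hmono b k l g (hk b hb)

variable (hc : IsLimit c)

omit [IsCofiltered I] [∀ (i j : I) (f : i ⟶ j), IsAffineHom (D.map f)] in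
/-- The projection. -/
abbrev pr (c : Cone D) (i : I) : c.pt ⟶ D.obj i := c.π.app i

omit [IsCofiltered I] [∀ (i j : I) (f : i ⟶ j), IsAffineHom (D.map f)] in
theorem w_pr (c : Cone D) {i j : I} (f : i ⟶ j) : pr c i ≫ D.map f = pr c j := c.w f

/-- The maximal ideal at `x` is generated from stage `i`. -/
def MaxGen (c : Cone D) (x : c.pt) (i : I) : Prop :=
  (maximalIdeal ((D.obj i).presheaf.stalk (pr c i x))).map ((pr c i).stalkMap x).hom = maximalIdeal _

omit [IsCofiltered I] [∀ (i j : I) (f : i ⟶ j), IsAffineHom (D.map f)] in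
theorem maxGen_mono {x : c.pt} {j k : I} (f : k ⟶ j) (h : MaxGen c x j) : MaxGen c x k := by
  refine le_antisymm (Ideal.map_le_iff_le_comap.mpr fun a ha hu =>
    ha ((isUnit_map_iff ((pr c k).stalkMap x).hom a).mp hu)) ?_
  refine h.symm.le.trans ?_
  exact map_le_of_comp (pr c k) (D.map f) (pr c j) (w_pr c f) x

include hc in
theorem exists_maxGen [IsLocallyNoetherian c.pt] (i : I) (x : c.pt) : ∃ (j : I) (_ : j ⟶ i), MaxGen c x j := by
  classical
  obtain ⟨s, hs⟩ := IsNoetherian.noetherian (maximalIdeal (c.pt.presheaf.stalk x))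
  obtain ⟨j, f, hj⟩ := exists_common (I := I) s
    (fun a j => a ∈ (maximalIdeal ((D.obj j).presheaf.stalk (pr c j x))).map ((pr c j).stalkMap x).hom) i
    (fun a j k f h => map_le_of_comp (pr c k) (D.map f) (pr c j) (w_pr c f) x h)
    (fun a ha j => by
      obtain ⟨k, g, b, hb⟩ := H7Lim.exists_stalkMap_eq hc j x a
      refine ⟨k, g, ?_⟩
      rw [← hb]
      refine Ideal.mem_map_of_mem _ fun hu => ?_
      have hm : a ∈ maximalIdeal (c.pt.presheaf.stalk x) := hs ▸ Submodule.subset_span ha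
      exact hm (hb ▸ hu.map ((pr c k).stalkMap x).hom))
  refine ⟨j, f, le_antisymm (Ideal.map_le_iff_le_comap.mpr fun a ha hu =>
    ha ((isUnit_map_iff ((pr c j).stalkMap x).hom a).mp hu)) ?_⟩
  rw [← hs]
  exact Submodule.span_le.mpr fun a ha => hj a ha

section setup

variable {δ : (i : I) → D.obj i → ℤ} {δ' : c.pt → ℤ}

variable (hset : ∀ i, Cyc.IsSetup (D.obj i) (δ i)) (hset' : Cyc.IsSetup c.pt δ')
  (hD : ∀ (i j : I) (f : i ⟶ j), MaxDim (D.map f) (δ i) (δ j) 0)
  (hπ : ∀ i, MaxDim (pr c i) δ' (δ i) 0)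

omit [IsCofiltered I] [∀ (i j : I) (f : i ⟶ j), IsAffineHom (D.map f)] in
include hset hD hset' in
theorem pullFun_trans [∀ i, Flat (pr c i)] (hπ : ∀ i, MaxDim (pr c i) δ' (δ i) 0) {i j : I} (f : j ⟶ i)
    (α : D.obj i → ℤ) :
    Cyc.pullFun (pr c j) δ' (δ j) 0 (Cyc.pullFun (D.map f) (δ j) (δ i) 0 α) =
      Cyc.pullFun (pr c i) δ' (δ i) 0 α := by
  rw [FlatRat.pullFun_comp (pr c j) (D.map f) hset' (hset j) (hπ j) (hD j i f), w_pr c f, zero_add]

include hc hset hπ in
/-- Descent of a cycle pulling back to zero. -/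
theorem exists_pullFun_eq_zero [∀ i, CompactSpace (D.obj i)] [IsLocallyNoetherian c.pt] (i : I)
    (α : AlgebraicCycle (D.obj i) ℤ) (h0 : Cyc.pullFun (pr c i) δ' (δ i) 0 ⇑α = 0) :
    ∃ (j : I) (f : j ⟶ i), Cyc.pullFun (D.map f) (δ j) (δ i) 0 ⇑α = 0 := by
  classical
  have hout : ∀ a, α a ≠ 0 → (pr c i) ⁻¹' {a} = ∅ := fun a ha => by
    refine Set.eq_empty_of_forall_notMem fun y hy => ?_
    obtain ⟨z, -, hz, hmax⟩ := exists_maximal_fibre (pr c i) y
    have hza : pr c i z = a := hz.trans hy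
    have h1 := congrFun h0 z
    simp only [Cyc.pullFun, Pi.zero_apply] at h1
    rw [if_pos (hπ i z hmax)] at h1
    rcases mul_eq_zero.mp h1 with h2 | h2
    · exact ha (hza ▸ h2)
    · exact mult_pos_of_maximal (pr c i) z hmax (by simpa [mult] using h2)
  have hq : H7Lim.QCImage (Function.support ⇑α) := by
    have h := H7Lim.qcImage_biUnion (finite_support_of_compact α)
      (E := fun a : D.obj i => Set.range ((D.obj i).fromSpecResidueField a))
      (fun a _ => H7Lim.qcImage_range _)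
    simp only [Scheme.range_fromSpecResidueField, Set.biUnion_of_singleton] at h
    exact h
  obtain ⟨j, f, hf⟩ := hq.exists_preimage_eq_empty hc (Set.eq_empty_of_forall_notMem fun y hy =>
    Set.eq_empty_iff_forall_notMem.mp (hout _ hy) y rfl)
  refine ⟨j, f, funext fun x => ?_⟩
  have h1 : α (D.map f x) = 0 := by_contra fun h => Set.eq_empty_iff_forall_notMem.mp hf x h
  simp only [Cyc.pullFun]
  rw [h1, zero_mul, ite_self]
  rfl

/-- Above a point `x` of the limit, `x` is the only component, of multiplicity one. -/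
def Good (c : Cone D) (δ : (i : I) → D.obj i → ℤ) (δ' : c.pt → ℤ) (x : c.pt) (j : I) : Prop :=
  MaxGen c x j ∧ ∀ y, pr c j y = pr c j x → δ' y = δ j (pr c j x) → y = x

include hset' hset hπ in
theorem delta_eq_of_maxGen {x : c.pt} {j : I} (h : MaxGen c x j) : δ' x = δ j (pr c j x) := by
  rw [hπ j x (maximal_of_map_eq _ x h), add_zero]

include hc hset hset' hπ in
theorem exists_good [CompactSpace c.pt] (i : I) (x : c.pt) : ∃ (j : I) (_ : j ⟶ i), Good c δ δ' x j := by
  classical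
  haveI := hset'.1
  obtain ⟨j, f, hj⟩ := exists_maxGen hc i x
  let S := (finite_comp (pr c j) hset' (hset j) (hπ j) (pr c j x)).toFinset
  obtain ⟨k, g, hk⟩ := exists_common (I := I) S (fun y k => y = x ∨ pr c k y ≠ pr c k x) j
    (fun y k l g h => h.imp id fun hne he => hne (by
      have := congrArg (D.map g) he
      rwa [← Scheme.Hom.comp_apply, ← Scheme.Hom.comp_apply, w_pr c g] at this))
    (fun y _ k => by
      by_cases hy : y = x
      · exact ⟨k, 𝟙 k, Or.inl hy⟩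
      obtain ⟨l, hl⟩ : ∃ l, pr c l y ≠ pr c l x := by
        by_contra hn
        exact hy (H7Lim.ext_of_π_app_eq hc fun l => not_not.mp (not_exists.mp hn l))
      obtain ⟨m, g, h, -⟩ := IsCofilteredOrEmpty.cone_objs k l
      refine ⟨m, g, Or.inr fun he => hl ?_⟩
      have := congrArg (D.map h) he
      rwa [← Scheme.Hom.comp_apply, ← Scheme.Hom.comp_apply, w_pr c h] at this)
  refine ⟨k, g ≫ f, maxGen_mono g hj, fun y hy hδy => ?_⟩
  refine ((hk y ((Set.Finite.mem_toFinset _).mpr ⟨?_, ?_⟩)).resolve_right fun h => h hy)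
  · have := congrArg (D.map g) hy
    rwa [← Scheme.Hom.comp_apply, ← Scheme.Hom.comp_apply, w_pr c g] at this
  · rw [hδy, ← delta_eq_of_maxGen hset hset' hπ (maxGen_mono g hj), delta_eq_of_maxGen hset hset' hπ hj, add_zero]

include hset hset' hπ in
theorem good_mono {x : c.pt} {j k : I} (f : k ⟶ j) (h : Good c δ δ' x j) : Good c δ δ' x k := by
  refine ⟨maxGen_mono f h.1, fun y hy hδy => h.2 y ?_ ?_⟩
  · have := congrArg (D.map f) hy
    rwa [← Scheme.Hom.comp_apply, ← Scheme.Hom.comp_apply, w_pr c f] at this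
  · rw [hδy, ← delta_eq_of_maxGen hset hset' hπ (maxGen_mono f h.1), delta_eq_of_maxGen hset hset' hπ h.1]

include hc hset hset' hπ in
/-- Every cycle of the limit comes from a stage. -/
theorem exists_pullFun_eq [CompactSpace c.pt] (i : I) (k : ℤ)
    (α' : AlgebraicCycle c.pt ℤ) (hα' : α' ∈ Cyc.Zk c.pt δ' k) :
    ∃ (j : I) (_ : j ⟶ i) (α : AlgebraicCycle (D.obj j) ℤ), α ∈ Cyc.Zk (D.obj j) (δ j) k ∧
      Cyc.pullFun (pr c j) δ' (δ j) 0 ⇑α = ⇑α' := by
  classical
  let S := (finite_support_of_compact α').toFinset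
  have hS : ∀ x, x ∈ S ↔ α' x ≠ 0 := fun x => Set.Finite.mem_toFinset _
  obtain ⟨j, f, hj⟩ := exists_common (I := I) S (fun x j => Good c δ δ' x j) i
    (fun x _ _ f h => good_mono hset hset' hπ f h) (fun x _ j => exists_good hc hset hset' hπ j x)
  let F : D.obj j → ℤ := fun a => ∑ x ∈ S, if pr c j x = a then α' x else 0
  have hF : ∀ a, F a ≠ 0 → ∃ x ∈ S, pr c j x = a := fun a ha => by
    obtain ⟨x, hx, hne⟩ := Finset.exists_ne_zero_of_sum_ne_zero ha
    exact ⟨x, hx, by_contra fun h => hne (if_neg h)⟩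
  have hδS : ∀ x ∈ S, δ' x = k := fun x hx => by_contra fun h => (hS x).mp hx (hα' x h)
  let α : AlgebraicCycle (D.obj j) ℤ := ⟨F, by simp, fun a _ => ⟨Set.univ, Filter.univ_mem,
    ((S.finite_toSet.image (pr c j)).subset fun b hb => by
      obtain ⟨x, hx, e⟩ := hF b hb.2
      exact ⟨x, hx, e⟩)⟩⟩
  refine ⟨j, f, α, fun a ha => by_contra fun h => ha ?_, funext fun y => ?_⟩
  · obtain ⟨x, hx, rfl⟩ := hF a h
    rw [← delta_eq_of_maxGen hset hset' hπ (hj x hx).1, hδS x hx]
  simp only [Cyc.pullFun]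
  by_cases hy : y ∈ S
  · have hδy := delta_eq_of_maxGen hset hset' hπ (hj y hy).1
    rw [if_pos (by rw [hδy, add_zero])]
    show F (pr c j y) * (mult (pr c j) y : ℤ) = α' y
    rw [mult_eq_one_of_map_eq _ y (hj y hy).1, Nat.cast_one, mul_one]
    simp only [F]
    rw [Finset.sum_eq_single y (fun x hx hxy => if_neg fun e => hxy ?_) (fun h => absurd hy h), if_pos rfl]
    exact (hj y hy).2 x e (by rw [hδS x hx, ← hδy, hδS y hy])
  · rw [not_not.mp ((hS y).not.mp hy)]
    split_ifs with hd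
    · refine mul_eq_zero_of_left (by_contra fun h => hy ?_) _
      obtain ⟨x, hx, e⟩ := hF _ h
      rw [(hj x hx).2 y e.symm (by rw [hd, e, add_zero])]
      exact hx
    · rfl

theorem pullFun_add {X Y : Scheme.{u}} (f : X ⟶ Y) (δX : X → ℤ) (δY : Y → ℤ) (r : ℤ) (α β : Y → ℤ) (x : X) :
    Cyc.pullFun f δX δY r (α - β) x = Cyc.pullFun f δX δY r α x - Cyc.pullFun f δX δY r β x := by
  simp only [Cyc.pullFun, Pi.sub_apply]
  split_ifs <;> ring

include hc hset hset' hD hπ in
/-- Rational equivalence to zero descends to a stage. -/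
theorem ratEquivZero_descends [∀ i, CompactSpace (D.obj i)] [CompactSpace c.pt] [∀ i, Flat (pr c i)]
    [∀ (i j : I) (f : i ⟶ j), Flat (D.map f)] (k : ℤ) (i : I) (α : AlgebraicCycle (D.obj i) ℤ)
    (hα : α ∈ Cyc.Zk (D.obj i) (δ i) k) (α' : AlgebraicCycle c.pt ℤ)
    (hα' : ⇑α' = Cyc.pullFun (pr c i) δ' (δ i) 0 ⇑α) (h0 : Cyc.RatEquivZero δ' k α') :
    ∃ (j : I) (f : j ⟶ i) (αj : AlgebraicCycle (D.obj j) ℤ),
      ⇑αj = Cyc.pullFun (D.map f) (δ j) (δ i) 0 ⇑α ∧ Cyc.RatEquivZero (δ j) k αj := by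
  classical
  haveI := hset'.1
  obtain ⟨ι, ξ, g', hk, hg, hlf, hsum⟩ := h0
  haveI : Finite ι := by
    choose U hU hmem hfin using hlf
    obtain ⟨t, ht⟩ := (isCompact_univ (X := c.pt)).elim_finite_subcover U hU
      fun u _ => Set.mem_iUnion.mpr ⟨u, hmem u⟩
    exact Set.finite_univ_iff.mp ((t.finite_toSet.biUnion fun u _ => hfin u).subset fun i _ => by
      obtain ⟨u, hu, hiu⟩ := Set.mem_iUnion₂.mp (ht (Set.mem_univ (ξ i)))
      exact Set.mem_biUnion hu ⟨ξ i, subset_closure rfl, hiu⟩)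
  haveI := Fintype.ofFinite ι
  choose a ha using fun i : ι => IsLocalRing.residue_surjective (g' i)
  obtain ⟨j, f, hj⟩ := exists_common (I := I) (Finset.univ : Finset ι) (fun n j => Good c δ δ' (ξ n) j ∧
      ∃ b : (D.obj j).presheaf.stalk (pr c j (ξ n)), (pr c j).stalkMap (ξ n) b = a n) i
    (fun n j k f h => ⟨good_mono hset hset' hπ f h.1, by
      obtain ⟨b, hb⟩ := h.2
      obtain ⟨b', hb'⟩ := stalk_transfer (pr c k) (D.map f) (pr c j) (w_pr c f) (ξ n) b
      exact ⟨b', hb'.trans hb⟩⟩)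
    (fun n _ j => by
      obtain ⟨k, f, hk⟩ := exists_good hc hset hset' hπ j (ξ n)
      obtain ⟨l, g, b, hb⟩ := H7Lim.exists_stalkMap_eq hc k (ξ n) (a n)
      exact ⟨l, g ≫ f, good_mono hset hset' hπ g hk, b, hb⟩)
  choose b hb using fun n => (hj n (Finset.mem_univ n)).2
  let g : ∀ n, (D.obj j).residueField (pr c j (ξ n)) := fun n => (D.obj j).residue _ (b n)
  have hgv : ∀ n, (pr c j).residueFieldMap (ξ n) (g n) = g' n := fun n => by
    refine (ConcreteCategory.congr_hom (Scheme.residue_residueFieldMap (pr c j) (ξ n)) (b n)).trans ?_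
    show c.pt.residue (ξ n) ((pr c j).stalkMap (ξ n) (b n)) = _
    rw [hb]
    exact ha n
  have hg0 : ∀ n, g n ≠ 0 := fun n h => hg n (by rw [← hgv n, h, map_zero])
  have hGood := fun n => (hj n (Finset.mem_univ n)).1
  have hδn : ∀ n, δ j (pr c j (ξ n)) = k + 1 := fun n => by
    rw [← delta_eq_of_maxGen hset hset' hπ (hGood n).1, hk n]
  haveI := (hset j).1
  obtain ⟨E, hE⟩ := H22Alg.CycDiv.exists_cycle_sum (ξ := fun n => pr c j (ξ n)) (f := g) (hset j).2.2 hg0
    fun x => ⟨Set.univ, isOpen_univ, trivial, Set.toFinite _⟩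
  have hEz : Cyc.RatEquivZero (δ j) k E :=
    ⟨ι, fun n => pr c j (ξ n), g, hδn, hg0, fun x => ⟨Set.univ, isOpen_univ, trivial, Set.toFinite _⟩, hE⟩
  haveI := (hset i).1
  obtain ⟨A, hA, -⟩ := C1Api.exists_pullFun_cycle (D.map f) (hset j) (hset i) (hD j i f) k α hα
  have hpullE : ∀ x, Cyc.pullFun (pr c j) δ' (δ j) 0 ⇑E x = α' x := fun x => by
    have h1 : Cyc.pullFun (pr c j) δ' (δ j) 0 ⇑E x =
        ∑ n, Cyc.pullFun (pr c j) δ' (δ j) 0 (Cyc.divFun (δ j) (pr c j (ξ n)) (g n)) x := by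
      simp only [Cyc.pullFun]
      split_ifs with h
      · rw [hE, finsum_eq_sum_of_fintype, Finset.sum_mul]
      · rw [Finset.sum_const_zero]
    rw [h1, hsum x, finsum_eq_sum_of_fintype]
    refine Finset.sum_congr rfl fun n _ => ?_
    rw [pullFun_divFun_eq (pr c j) hset' (hset j) (hπ j) _ (g n) (hg0 n) x]
    have hmem : ξ n ∈ Comp (pr c j) δ' (δ j) 0 (pr c j (ξ n)) :=
      ⟨rfl, by rw [← delta_eq_of_maxGen hset hset' hπ (hGood n).1, add_zero]⟩
    rw [finsum_eq_single _ (⟨ξ n, hmem⟩ : Comp (pr c j) δ' (δ j) 0 (pr c j (ξ n)))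
      (fun y hy => absurd (Subtype.ext ((hGood n).2 y.1 y.2.1 (y.2.2.trans (add_zero _)))) hy)]
    rw [mult_eq_one_of_map_eq _ _ (hGood n).1, pow_one]
    congr 1
    simp only [FlatDiv.liftVal, Scheme.residueFieldCongr_refl]
    exact hgv n
  have h0' : Cyc.pullFun (pr c j) δ' (δ j) 0 ⇑(A - E) = 0 := funext fun x => by
    show Cyc.pullFun (pr c j) δ' (δ j) 0 (⇑A - ⇑E) x = 0
    rw [pullFun_add, hpullE, hA, pullFun_trans hset hset' hD hπ f, ← hα', sub_self]
  obtain ⟨l, g₂, hl⟩ := exists_pullFun_eq_zero hc hset hπ j (A - E) h0'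
  haveI := (hset l).1
  obtain ⟨B, hB, -⟩ := C1Api.exists_pullFun_cycle (D.map (g₂ ≫ f)) (hset l) (hset i) (hD l i _) k α hα
  refine ⟨l, g₂ ≫ f, B, hB, ?_⟩
  have hBA : ⇑B = Cyc.pullFun (D.map g₂) (δ l) (δ j) 0 ⇑A := by
    rw [hA, FlatRat.pullFun_comp (D.map g₂) (D.map f) (hset l) (hset j) (hD l j g₂) (hD j i f), ← D.map_comp,
      zero_add, hB]
  have hBE : ⇑B = Cyc.pullFun (D.map g₂) (δ l) (δ j) 0 ⇑E := funext fun x => by
    have h2 := congrFun hl x
    rw [show ⇑(A - E) = ⇑A - ⇑E from rfl, pullFun_add, Pi.zero_apply, sub_eq_zero] at h2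
    rw [hBA, h2]
  have hE0 : Cyc.RatEquiv (δ j) k E 0 := by
    show Cyc.RatEquivZero _ _ _
    rwa [sub_zero]
  haveI := (hset l).1
  have h3 : Cyc.RatEquivZero (δ l) (k + 0) (B - 0) := ratEquiv_pullFun (D.map g₂) (hset l) (hset j) (hD l j g₂) k E 0 hE0
    B 0 hBE (funext fun x => by simp [Cyc.pullFun])
  simpa using h3

end setup

end Groth.Agent.H3Cyc.Limit
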