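import Groth.Agent.H3CAlg.PairPt
import Groth.Agent.H3CAlg.IntPt
import Groth.Agent.H3Cyc.Limit
import Groth.Agent.H3Cyc.RelDimBC
import Groth.Agent.H3Cyc.SplitTools
import Groth.Agent.H3Cyc.Gysin
import Groth.Agent.H3Cyc.BCPush
import Groth.Agent.H3Cyc.SetupLft
import Groth.Agent.H26ChowK.Euler
import Groth.Agent.H06EGA9.ProductDim
import Groth.Agent.S17840
import Groth.Prelude.Def_IntMult
import Mathlib

/-!
# The exterior product with a cycle as a composite of flat pullbacks and closed pushforwards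
-/

set_option autoImplicit false
set_option linter.style.haveILetI false
set_option linter.unusedSectionVars false
universe u

open CategoryTheory CategoryTheory.Limits AlgebraicGeometry IsLocalRing

noncomputable section

namespace Groth.Agent.H3Cyc.ExtProd

variable {K : Type u} [Field K] {X Y P : Scheme.{u}} (p : P ⟶ X) (q : P ⟶ Y)

/-- The coefficients of an exterior product. -/
def fn (δX : X → ℤ) (δY : Y → ℤ) (δ : P → ℤ) (α : X → ℤ) (β : Y → ℤ) : P → ℤ :=
  fun z => if δ z = δX (p z) + δY (q z) then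
    α (p z) * β (q z) *
      ((Module.length (P.presheaf.stalk z)
        (P.presheaf.stalk z ⧸
          ((maximalIdeal (X.presheaf.stalk (p z))).map (p.stalkMap z).hom ⊔
            (maximalIdeal (Y.presheaf.stalk (q z))).map (q.stalkMap z).hom))).toNat : ℤ)
  else 0

theorem fn_symm (δX : X → ℤ) (δY : Y → ℤ) (δ : P → ℤ) (α : X → ℤ) (β : Y → ℤ) :
    fn p q δX δY δ α β = fn q p δY δX δ β α := funext fun z => by
  simp only [fn]
  rw [add_comm (δX (p z)), mul_comm (α (p z)), sup_comm]

variable {f : X ⟶ Spec (CommRingCat.of K)} {g : Y ⟶ Spec (CommRingCat.of K)}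
  [LocallyOfFiniteType f] [LocallyOfFiniteType g] (hsq : IsPullback p q f g)
  {δX : X → ℤ} {δY : Y → ℤ} {δ : P → ℤ} (hX : Cyc.DeltaCompat f δX (fun _ => 0))
  (hY : Cyc.DeltaCompat g δY (fun _ => 0)) (hP : Cyc.DeltaCompat (p ≫ f) δ (fun _ => 0))

include hsq hX hY hP in
theorem delta_le (z : P) : δ z ≤ δX (p z) + δY (q z) := by
  haveI : LocallyOfFiniteType p := MorphismProperty.of_isPullback (P := @LocallyOfFiniteType) hsq.flip inferInstance
  obtain ⟨c, hc, hc'⟩ := H3CAlg.IntPt.delta_eq_cdim (p ≫ f) δ hP z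
  obtain ⟨a, ha, ha'⟩ := H3CAlg.IntPt.delta_eq_cdim f δX hX (p z)
  obtain ⟨b, hb, hb'⟩ := H3CAlg.IntPt.delta_eq_cdim g δY hY (q z)
  have := H06EGA9.cdim_le_add hsq z
  rw [hc, ha, hb] at this
  have : c ≤ a + b := by exact_mod_cast this
  omega

include hsq hX hY hP in
/-- The exterior product with a prime cycle preserves rational equivalence to zero. -/
theorem ratEquivZero_prime (η : Y) (r : ℤ) (α : AlgebraicCycle X ℤ) (hα : α ∈ Cyc.Zk X δX r)
    (h0 : Cyc.RatEquivZero δX r α) :
    ∃ γ : AlgebraicCycle P ℤ, (⇑γ = fn p q δX δY δ ⇑α (fun y => Set.indicator {η} (fun _ => (1 : ℤ)) y)) ∧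
      γ ∈ Cyc.Zk P δ (r + δY η) ∧ Cyc.RatEquivZero δ (r + δY η) γ := by
  classical
  let V := (IntMult.ptIdeal η).subscheme
  let ι : V ⟶ Y := (IntMult.ptIdeal η).subschemeι
  haveI : IsIntegral V := H3CAlg.PairPt.isIntegral_ptIdeal η
  have hη : ι (genericPoint V) = η := by
    have h1 : η ∈ Set.range ι := by rw [H3CAlg.PairPt.range_ptIdeal]; exact subset_closure rfl
    obtain ⟨v, hv⟩ := h1
    have h2 : η ⤳ ι (genericPoint V) := specializes_iff_mem_closure.mpr (by
      rw [← H3CAlg.PairPt.range_ptIdeal]; exact ⟨_, rfl⟩)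
    exact (((genericPoint_specializes v).map ι.continuous).trans (specializes_of_eq hv)).antisymm h2 |>.eq
  have hK : Cyc.IsSetup (Spec (CommRingCat.of K)) (fun _ => (0 : ℤ)) := H26ChowK.isSetup_spec_field (k := K)
  have hXs := isSetup_of_locallyOfFiniteType f hK hX
  haveI : LocallyOfFiniteType p := MorphismProperty.of_isPullback (P := @LocallyOfFiniteType) hsq.flip inferInstance
  have hPs := isSetup_of_locallyOfFiniteType (p ≫ f) hK hP
  have hVd : Cyc.DeltaCompat (ι ≫ g) (fun v => δY (ι v)) (fun _ => 0) :=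
    BCPush.deltaCompat_comp ι g (Reduction.deltaCompat_immersion ι δY) hY
  haveI : Subsingleton ↥(Spec (CommRingCat.of K)) := inferInstanceAs (Subsingleton (PrimeSpectrum K))
  haveI : IrreducibleSpace ↥(Spec (CommRingCat.of K)) := inferInstance
  haveI : Flat (ι ≫ g) := inferInstance
  obtain ⟨hs0, hrel, -⟩ := Groth.Agent.S17840.result (ι ≫ g) (fun v => δY (ι v)) (fun _ => 0) hK hVd
  rw [show δY (ι (genericPoint V)) = δY η by rw [hη]] at hs0 hrel
  simp only [sub_zero] at hs0 hrel
  let W := pullback q ι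
  let j : W ⟶ P := pullback.fst q ι
  let v : W ⟶ V := pullback.snd q ι
  have sqW : IsPullback j v q ι := IsPullback.of_hasPullback q ι
  have sq : IsPullback (j ≫ p) v f (ι ≫ g) := (sqW.flip.paste_vert hsq.flip).flip
  haveI : Flat (j ≫ p) := MorphismProperty.of_isPullback (P := @Flat) sq.flip inferInstance
  haveI : LocallyOfFiniteType (j ≫ p) := inferInstance
  have hWrel : Cyc.HasRelDim (j ≫ p) (δY η).toNat := hasRelDim_of_isPullback sq.flip hrel
  have hWs : Cyc.IsSetup W (fun w => δ (j w)) := Reduction.isSetup_closedImmersion j hPs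
  have hWd : Cyc.DeltaCompat (j ≫ p) (fun w => δ (j w)) δX :=
    BCPush.deltaCompat_comp j p (Reduction.deltaCompat_immersion j δ) (BCPush.deltaCompat_cancel p f hX hP)
  haveI := hXs.1
  haveI := hWs.1
  haveI := hPs.1
  have hmax : FlatRat.MaxDim (j ≫ p) (fun w => δ (j w)) δX (δY η) := by
    have := FlatRat.maxDim_of_hasRelDim (j ≫ p) hWrel hWd
    rwa [Int.toNat_of_nonneg hs0] at this
  obtain ⟨c, hcf, hc⟩ := C1Api.exists_pullFun_cycle (j ≫ p) hWs hXs hmax r α hα
  have hc0 : Cyc.RatEquivZero (fun w => δ (j w)) (r + δY η) c := by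
    have := FlatRat.ratEquiv_pullFun (j ≫ p) hWs hXs hmax r α 0 (by rw [Cyc.RatEquiv, sub_zero]; exact h0) c 0 hcf
      (funext fun x => by simp [Cyc.pullFun])
    rwa [Cyc.RatEquiv, sub_zero] at this
  refine ⟨AlgebraicCycle.map j (fun w => δ (j w)) δ c, ?_, Chow.map_mem (δ := fun w => δ (j w)) j c hc, ?_⟩
  swap
  · have := PushRat.ratEquiv_map j hWs hPs (Reduction.deltaCompat_immersion j δ) (r + δY η) c 0
      (by rw [Cyc.RatEquiv, sub_zero]; exact hc0)
    rwa [Chow.map_zero, Cyc.RatEquiv, sub_zero] at this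
  funext z
  by_cases hz : z ∈ Set.range j
  swap
  · rw [Gysin.map_immersion_eq_zero j δ c z hz, fn]
    have hq : q z ≠ η := fun hq => hz (by
      obtain ⟨w, hw, -⟩ := Scheme.Pullback.exists_preimage_pullback (f := q) (g := ι) z (genericPoint V) (hq.trans hη.symm)
      exact ⟨w, hw⟩)
    rw [Set.indicator_of_notMem (show q z ∉ ({η} : Set Y) from hq), mul_zero, zero_mul, ite_self]
  obtain ⟨w, rfl⟩ := hz
  rw [Gysin.map_immersion_apply, hcf]
  show Cyc.pullFun (j ≫ p) (fun w => δ (j w)) δX (δY η) ⇑α w = _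
  rw [Cyc.pullFun, fn]
  have hqw : η ⤳ q (j w) := by
    have h1 : q (j w) = ι (v w) := congrArg (fun φ : W ⟶ Y => φ w) sqW.w
    rw [h1, ← hη]
    exact (genericPoint_specializes (v w)).map ι.continuous
  by_cases hq : q (j w) = η
  swap
  · rw [Set.indicator_of_notMem (show q (j w) ∉ ({η} : Set Y) from hq), mul_zero, zero_mul, ite_self, if_neg]
    intro h
    obtain ⟨a, ha, ha'⟩ := H3CAlg.IntPt.delta_eq_cdim g δY hY η
    obtain ⟨b, hb, hb'⟩ := H3CAlg.IntPt.delta_eq_cdim g δY hY (q (j w))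
    have h2 := H8Props.FieldDim.cdim_lt g hqw (Ne.symm hq)
    rw [ha, hb] at h2
    have h3 : b < a := by exact_mod_cast h2
    have h4 := delta_le p q hsq hX hY hP (j w)
    change δ (j w) = δX (p (j w)) + δY η at h
    omega
  rw [Set.indicator_of_mem (show q (j w) ∈ ({η} : Set Y) from hq), mul_one, congrArg δY hq]
  show (if δ (j w) = δX (p (j w)) + δY η then _ else _) = _
  refine ite_congr rfl (fun _ => ?_) fun _ => rfl
  show α (p (j w)) * _ = α (p (j w)) * _
  congr 3
  have hkj : RingHom.ker (j.stalkMap w).hom = (maximalIdeal (Y.presheaf.stalk (q (j w)))).map (q.stalkMap (j w)).hom := by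
    rw [H8Props.NilThick.ker_stalkMap_eq sqW w]
    congr 1
    have hv : ι (v w) = η := ((congrArg (fun φ : W ⟶ Y => φ w) sqW.w).symm.trans hq)
    have h1 : RingHom.ker (ι.stalkMap (v w)).hom = maximalIdeal (Y.presheaf.stalk (ι (v w))) := by
      rw [← H3CAlg.IntPt.stalkIdeal_ker ι (v w), Scheme.IdealSheafData.ker_subschemeι]
      have : ∀ y, y = η → IntMult.stalkIdeal (IntMult.ptIdeal η) y = maximalIdeal (Y.presheaf.stalk y) := by
        rintro y rfl
        exact H3CAlg.IntPt.stalkIdeal_ptIdeal_self y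
      exact this _ hv
    rw [H8Props.NilThick.baseMap, CommRingCat.hom_comp, ← RingHom.comap_ker, h1]
    exact IsLocalRing.maximalIdeal_comap _
  rw [show Ideal.map ((j ≫ p).stalkMap w).hom (maximalIdeal (X.presheaf.stalk ((j ≫ p) w))) =
    ((maximalIdeal (X.presheaf.stalk (p (j w)))).map (p.stalkMap (j w)).hom).map (j.stalkMap w).hom from by
      rw [Scheme.Hom.stalkMap_comp]; exact (Ideal.map_map _ _).symm]
  letI := (j.stalkMap w).hom.toAlgebra
  have hs : Function.Surjective (algebraMap (P.presheaf.stalk (j w)) (W.presheaf.stalk w)) := j.stalkMap_surjective w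
  rw [← Module.length_eq_of_surjective (S := P.presheaf.stalk (j w)) (R := W.presheaf.stalk w) hs]
  let φ := (Ideal.Quotient.mkₐ (P.presheaf.stalk (j w))
    (((maximalIdeal (X.presheaf.stalk (p (j w)))).map (p.stalkMap (j w)).hom).map (j.stalkMap w).hom)).comp
      (Algebra.ofId _ _)
  have hφ : Function.Surjective φ := Ideal.Quotient.mk_surjective.comp hs
  have hφk : RingHom.ker φ = (maximalIdeal (X.presheaf.stalk (p (j w)))).map (p.stalkMap (j w)).hom ⊔
      (maximalIdeal (Y.presheaf.stalk (q (j w)))).map (q.stalkMap (j w)).hom := by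
    show (RingHom.ker (Ideal.Quotient.mk _)).comap (j.stalkMap w).hom = _
    rw [Ideal.mk_ker, Ideal.comap_map_of_surjective' _ (j.stalkMap_surjective w), hkj]
  exact ((Submodule.quotEquivOfEq _ _ hφk.symm).trans
    (Ideal.quotientKerAlgEquivOfSurjective (f := φ) hφ).toLinearEquiv).length_eq.symm

include hsq hX hY hP in
/-- The exterior product with a cycle preserves rational equivalence to zero. -/
theorem ratEquivZero_fn [CompactSpace Y] (r s : ℤ) (α : AlgebraicCycle X ℤ) (β : AlgebraicCycle Y ℤ)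
    (hα : α ∈ Cyc.Zk X δX r) (hβ : β ∈ Cyc.Zk Y δY s) (h0 : Cyc.RatEquivZero δX r α) (γ : AlgebraicCycle P ℤ)
    (hγ : ⇑γ = fn p q δX δY δ ⇑α ⇑β) : Cyc.RatEquivZero δ (r + s) γ := by
  classical
  have hfin := Limit.finite_support_of_compact β
  choose c hcf hcm hc0 using fun η => ratEquivZero_prime p q hsq hX hY hP η r α hα h0
  have hmem : ∀ η : ↥hfin.toFinset, c η.1 ∈ Cyc.Zk P δ (r + s) := fun η => by
    have h1 : δY η.1 = s := by_contra fun h => (hfin.mem_toFinset.mp η.2) (hβ _ h)
    rw [← h1]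
    exact hcm η.1
  have hrat : ∀ η : ↥hfin.toFinset, ChowOps.cl (c η.1) (hmem η) = 0 := fun η => by
    have h1 : δY η.1 = s := by_contra fun h => (hfin.mem_toFinset.mp η.2) (hβ _ h)
    refine (Chow.cl_eq_zero_iff (hmem η)).mpr ?_
    rw [← h1]
    exact hc0 η.1
  have key : ∀ S : Finset ↥hfin.toFinset,
      Cyc.RatEquivZero δ (r + s) (∑ η ∈ S, β η.1 • c η.1 : AlgebraicCycle P ℤ) := fun S => by
    have hz : ∀ η : ↥hfin.toFinset, β η.1 • c η.1 ∈ Cyc.Zk P δ (r + s) :=
      fun η => (ChowOps.zk P δ (r + s)).zsmul_mem (hmem η) _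
    refine (Chow.cl_eq_zero_iff (SplitChern.sum_mem S fun η _ => hz η)).mp ?_
    have h1 := SplitChern.sg_sum S hz
    have h2 : ∀ η ∈ S, SplitChern.sg (β η.1 • c η.1) (hz η) = (0 : Tot.T P δ) := fun η _ => by
      rw [SplitChern.sg_zsmul (hmem η), SplitChern.sg, hrat η, Pi.single_zero, smul_zero]
    rw [Finset.sum_eq_zero h2] at h1
    have h3 := congrFun h1 (r + s)
    simp only [SplitChern.sg, Tot.single_apply] at h3
    exact h3
  have hγ' : γ = ∑ η ∈ Finset.univ, β (η : ↥hfin.toFinset).1 • c η.1 := by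
    refine DFunLike.ext _ _ fun z => ?_
    rw [hγ, Function.locallyFinsuppWithin.coe_sum, Finset.sum_apply]
    simp only [Function.locallyFinsuppWithin.coe_zsmul, Pi.smul_apply, smul_eq_mul, hcf, fn]
    by_cases hd : δ z = δX (p z) + δY (q z)
    · simp only [if_pos hd]
      by_cases hq : q z ∈ hfin.toFinset
      · rw [Finset.sum_eq_single ⟨q z, hq⟩ (fun η _ hne => by
          rw [Set.indicator_of_notMem (fun h => hne (Subtype.ext (Set.mem_singleton_iff.mp h).symm)), mul_zero,
            zero_mul, mul_zero]) (fun h => absurd (Finset.mem_univ _) h),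
          Set.indicator_of_mem (Set.mem_singleton _)]
        ring
      · rw [show β (q z) = 0 from by_contra fun h => hq (hfin.mem_toFinset.mpr h), mul_zero, zero_mul]
        refine (Finset.sum_eq_zero fun η _ => ?_).symm
        rw [Set.indicator_of_notMem (show q z ∉ ({η.1} : Set Y) from fun h => hq (by rw [Set.mem_singleton_iff.mp h]; exact η.2)),
          mul_zero, zero_mul, mul_zero]
    · simp only [if_neg hd, mul_zero, Finset.sum_const_zero]
  rw [hγ']
  exact key _

end Groth.Agent.H3Cyc.ExtProd
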