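import Groth.Agent.H11Ample.Converse
import Groth.Agent.H16Derived.KFlat.SheafStalk
import Groth.Agent.H10Coh.SheafHom.Adj
import Groth.Agent.H3Cyc.C1Api
import Groth.Agent.H22Alg.PB.Exists
import Mathlib

/-!
# Iterated extensions by invertible modules
-/

set_option autoImplicit false
set_option linter.style.haveILetI false
set_option linter.unusedSectionVars false
set_option linter.dupNamespace false
set_option backward.isDefEq.respectTransparency.types false
universe u

open CategoryTheory CategoryTheory.Limits AlgebraicGeometry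

noncomputable section

namespace Groth.Agent.H3Cyc.Filt

variable {X Y : Scheme.{u}}

/-- `E` is an iterated extension of the invertible modules in the list (the last quotient first); only right
exactness is asked. -/
inductive Filt : X.Modules → List X.Modules → Prop
  | zero {E : X.Modules} (h : IsZero E) : Filt E []
  | cons {M E L : X.Modules} {ls : List X.Modules} (a : M ⟶ E) (b : E ⟶ L) (w : a ≫ b = 0)
      (hex : (ShortComplex.mk a b w).Exact) (hb : Epi b) (hL : PicF.IsInvertible L) (hM : Filt M ls) : Filt E (L :: ls)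

theorem Filt.invertible {E : X.Modules} {ls : List X.Modules} (h : Filt E ls) : ∀ L ∈ ls, PicF.IsInvertible L := by
  induction h with
  | zero _ => intro L hL; exact absurd hL (List.not_mem_nil)
  | cons a b w hex hb hL hM ih =>
    intro L' hL'
    rcases List.mem_cons.mp hL' with rfl | h'
    · exact hL
    · exact ih L' h'

theorem Filt.of_iso {E E' : X.Modules} {ls : List X.Modules} (h : Filt E ls) (e : E ≅ E') : Filt E' ls := by
  cases h with
  | zero h => exact .zero (h.of_iso e.symm)
  | @cons M _ L ls a b w hex hb hL hM =>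
    haveI := hb
    refine .cons (a ≫ e.hom) (e.inv ≫ b) (by simp [w]) ?_ (epi_comp _ _) hL hM
    exact ShortComplex.exact_of_iso (S₁ := ShortComplex.mk a b w) (ShortComplex.isoMk (Iso.refl _) e (Iso.refl _)) hex

/-- Right exact functors preserving invertible modules preserve filtrations. -/
theorem Filt.map {E : X.Modules} {ls : List X.Modules} (h : Filt E ls) (F : X.Modules ⥤ Y.Modules) [F.Additive]
    [PreservesFiniteColimits F] (hF : ∀ L, PicF.IsInvertible L → PicF.IsInvertible (F.obj L)) :
    Filt (F.obj E) (ls.map F.obj) := by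
  induction h with
  | zero h => exact .zero (F.map_isZero h)
  | cons a b w hex hb hL hM ih =>
    haveI := hb
    exact .cons (F.map a) (F.map b) (by rw [← F.map_comp, w, F.map_zero])
      (hex.map_of_epi_of_preservesCokernel F hb inferInstance) inferInstance (hF _ hL) ih

theorem Filt.pullback {E : X.Modules} {ls : List X.Modules} (h : Filt E ls) (f : Y ⟶ X) :
    Filt ((Scheme.Modules.pullback f).obj E) (ls.map (Scheme.Modules.pullback f).obj) := by
  haveI : PreservesColimitsOfSize.{u, u} (Scheme.Modules.pullback f) :=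
    (Scheme.Modules.pullbackPushforwardAdjunction f).leftAdjoint_preservesColimits
  haveI : PreservesFiniteColimits (Scheme.Modules.pullback f) := PreservesColimitsOfSize.preservesFiniteColimits.{u, u} _
  haveI : (Scheme.Modules.pullback f).Additive :=
    (Scheme.Modules.pullbackPushforwardAdjunction f).left_adjoint_additive
  exact h.map _ fun L hL => H11Ample.isInvertible_pullback f hL

/-- Filtrations of the outer terms of a short exact sequence give one of the middle term. -/
theorem Filt.concat {S : ShortComplex X.Modules} (hS : S.ShortExact) {l₁ l₂ : List X.Modules} (h₁ : Filt S.X₁ l₁)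
    (h₂ : Filt S.X₃ l₂) : Filt S.X₂ (l₂ ++ l₁) := by
  obtain @⟨E₁, E, E₂, a, b, w⟩ := S
  dsimp at h₁ h₂ ⊢
  induction h₂ generalizing E with
  | @zero E₂ h =>
    haveI : IsIso a := hS.isIso_f_iff.mpr h
    exact h₁.of_iso (asIso a)
  | @cons M'' E₂ L ls a'' b'' w'' hex'' hb'' hL hM'' ih =>
    haveI := hb''
    haveI : Epi b := hS.epi_g
    haveI : Mono a := hS.mono_f
    let K := Limits.pullback b a''
    let k : K ⟶ E := pullback.fst b a''
    let c : K ⟶ M'' := pullback.snd b a''
    let a' : E₁ ⟶ K := pullback.lift a 0 (by rw [w, zero_comp])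
    have ha' : a' ≫ k = a := pullback.lift_fst _ _ _
    have hac : a' ≫ c = 0 := pullback.lift_snd _ _ _
    haveI : Mono a' := mono_of_mono_fac ha'
    haveI : Epi c := inferInstance
    have hK : (ShortComplex.mk a' c hac).ShortExact := by
      refine { exact := ?_ }
      rw [ShortComplex.exact_iff_exact_up_to_refinements]
      intro T x hx
      dsimp at x hx
      obtain ⟨T', π, hπ, y, hy⟩ := (ShortComplex.exact_iff_exact_up_to_refinements _).mp hS.exact (x ≫ k)
        (by show (x ≫ k) ≫ b = 0; rw [Category.assoc, pullback.condition, ← Category.assoc, hx, zero_comp])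
      refine ⟨T', π, hπ, y, ?_⟩
      dsimp at hy ⊢
      apply pullback.hom_ext
      · rw [Category.assoc, Category.assoc, ha']; exact hy
      · rw [Category.assoc, Category.assoc, hx, hac, comp_zero, comp_zero]
    refine .cons k (b ≫ b'') (by rw [← Category.assoc, pullback.condition, Category.assoc, w'', comp_zero]) ?_
      (epi_comp _ _) hL (ih a' c hac hK)
    rw [ShortComplex.exact_iff_exact_up_to_refinements]
    intro T x hx
    dsimp at x hx
    obtain ⟨T', π, hπ, y, hy⟩ := (ShortComplex.exact_iff_exact_up_to_refinements _).mp hex'' (x ≫ b)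
      (by show (x ≫ b) ≫ b'' = 0; rw [Category.assoc, hx])
    dsimp at hy
    exact ⟨T', π, hπ, pullback.lift (π ≫ x) y (by rw [Category.assoc]; exact hy), (pullback.lift_fst _ _ _).symm⟩

section stalk

/-- The map on stalks. -/
abbrev sl {M N : X.Modules} (φ : M ⟶ N) (x : X) : M.presheaf.stalk x →ₗ[X.presheaf.stalk x] N.presheaf.stalk x :=
  ((DerSch.stalkFunctor X x).map φ).hom

theorem sl_comp {M N L : X.Modules} (a : M ⟶ N) (φ : N ⟶ L) (x : X) (u : M.presheaf.stalk x) :
    sl (a ≫ φ) x u = sl φ x (sl a x u) :=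
  congrArg (fun m => m.hom u) ((DerSch.stalkFunctor X x).map_comp a φ)

theorem exists_preimage_of_exact {S : ShortComplex X.Modules} (hS : S.Exact) (x : X) (v : S.X₂.presheaf.stalk x)
    (h : sl S.g x v = 0) : ∃ u : S.X₁.presheaf.stalk x, sl S.f x u = v :=
  (ShortComplex.moduleCat_exact_iff _).1 ((H16Derived.KFlat.Stalk.exact_iff _).1 hS x) v h

theorem surjective_of_epi {M N : X.Modules} (b : M ⟶ N) [Epi b] (x : X) : Function.Surjective (sl b x) :=
  (ModuleCat.epi_iff_surjective _).1 inferInstance

/-- The map on fibres. -/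
def fmap {M N : X.Modules} (φ : M ⟶ N) (x : X) :
    M.presheaf.stalk x →ₗ[X.presheaf.stalk x] Cyc.secFibre N x :=
  (Submodule.mkQ _).comp (sl φ x)

/-- The locus where a morphism vanishes on fibres. -/
def zeroSet {M N : X.Modules} (φ : M ⟶ N) : Set X := {x | ∀ v, fmap φ x v = 0}

theorem fmap_apply {M N : X.Modules} (φ : M ⟶ N) (x : X) (v : M.presheaf.stalk x) :
    fmap φ x v = Submodule.Quotient.mk (sl φ x v) := rfl

theorem fmap_comp {M N L : X.Modules} (a : M ⟶ N) (φ : N ⟶ L) (x : X) (u : M.presheaf.stalk x) :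
    fmap (a ≫ φ) x u = fmap φ x (sl a x u) := by
  rw [fmap_apply, fmap_apply, sl_comp]

theorem fmap_of_mem {M N : X.Modules} (φ : M ⟶ N) (x : X) (v : M.presheaf.stalk x)
    (hv : v ∈ IsLocalRing.maximalIdeal (X.presheaf.stalk x) • (⊤ : Submodule (X.presheaf.stalk x) (M.presheaf.stalk x))) :
    fmap φ x v = 0 := by
  refine (Submodule.Quotient.mk_eq_zero _).mpr ?_
  have := Submodule.mem_map_of_mem (f := sl φ x) hv
  rw [Submodule.map_smul''] at this
  exact Submodule.smul_mono le_rfl le_top this

/-- At a point where `a ≫ φ` vanishes on fibres, the kernel of `b` on fibres is killed by `φ`. -/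
theorem fmap_eq_zero_of_exact {S : ShortComplex X.Modules} (hS : S.Exact) (hb : Epi S.g) {N : X.Modules}
    (φ : S.X₂ ⟶ N) (x : X) (hx : x ∈ zeroSet (S.f ≫ φ)) (v : S.X₂.presheaf.stalk x) (hv : fmap S.g x v = 0) :
    fmap φ x v = 0 := by
  have hv' := (Submodule.Quotient.mk_eq_zero _).mp hv
  haveI := hb
  have hmap := Submodule.map_smul'' (IsLocalRing.maximalIdeal (X.presheaf.stalk x))
    (⊤ : Submodule (X.presheaf.stalk x) (S.X₂.presheaf.stalk x)) (sl S.g x)
  rw [Submodule.map_top, LinearMap.range_eq_top.mpr (surjective_of_epi S.g x)] at hmap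
  rw [← hmap] at hv'
  obtain ⟨w, hw, hwv⟩ := hv'
  obtain ⟨u, hu⟩ := exists_preimage_of_exact hS x (v - w) (by rw [map_sub, sub_eq_zero]; exact hwv.symm)
  have : v = sl S.f x u + w := by rw [hu, sub_add_cancel]
  rw [this, map_add, ← fmap_comp, hx u, fmap_of_mem φ x w hw, add_zero]

theorem zeroSet_eq_empty_of_epi {M N : X.Modules} (φ : M ⟶ N) [Epi φ] (hN : PicF.IsInvertible N) :
    zeroSet φ = ∅ := Set.eq_empty_iff_forall_notMem.mpr fun x hx => by
  obtain ⟨V, e, hV, he⟩ := H11Ample.exists_gen hN x
  obtain ⟨v, hv⟩ := surjective_of_epi φ x (N.presheaf.germ V x hV e)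
  have h1 : (1 : X.presheaf.stalk x) • C1Api.fib N x hV e ≠ 0 :=
    (C1Api.residue_ne_zero_iff he hV 1).mpr (by rw [map_one]; exact one_ne_zero)
  refine h1 ?_
  rw [one_smul, ← hx v, fmap_apply, hv]

end stalk

end Groth.Agent.H3Cyc.Filt
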