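import Groth.Agent.H3Cyc.KKill
import Groth.Agent.H22Alg.KPushCl
import Mathlib

/-!
# Dévissage for closed immersions: `K₀(Z) = K₀` of coherent modules supported on `Z`
-/

set_option autoImplicit false
set_option linter.style.haveILetI false
set_option linter.unusedSectionVars false
set_option backward.isDefEq.respectTransparency.types false
universe u

open CategoryTheory CategoryTheory.Limits AlgebraicGeometry TopologicalSpace Opposite
open Groth.Agent.H16Derived.KFlat.Stalk Groth.Agent.H16Derived.ProjFormula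
open Groth.Agent.H3Cyc.KDev Groth.Agent.H3Cyc.KFilt Groth.Agent.H3Cyc.KGood Groth.Agent.H3Cyc.KKill

noncomputable section

namespace Groth.Agent.H3Cyc.KClosed

variable {X Z : Scheme.{u}} (i : Z ⟶ X) [IsClosedImmersion i] [IsLocallyNoetherian X] [IsLocallyNoetherian Z]

section additive

variable {S : ShortComplex X.Modules} (hS : S.ShortExact)

include hS in
theorem theta_add (h₁ : CohRange i S.X₁) (h₂ : CohRange i S.X₂) (h₃ : CohRange i S.X₃) :
    theta (good_cohKilled i) (adicFilt i S.X₂) =
      theta (good_cohKilled i) (adicFilt i S.X₁) + theta (good_cohKilled i) (adicFilt i S.X₃) := by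
  have hP := good_cohKilled (X := X) i
  let Φ := adicFilt i S.X₂
  have hA := adm_adic i h₂
  haveI := hS.mono_f
  have hc₁ : ∀ j, Coh.IsCoh ((subFilt Φ).obj j) := fun j => by
    haveI : S.X₁.IsQuasicoherent := h₁.1.1
    haveI : (Φ.obj j).IsQuasicoherent := (hA.coh j).1
    haveI : S.X₂.IsQuasicoherent := h₂.1.1
    exact H10Coh.isCoh_of_mono (pullback.snd S.f (Φ.ι j)) (H8Props.QCohExtend.isQuasicoherent_pullback _ _) (hA.coh j)
  have hc₃ : ∀ j, Coh.IsCoh ((quotFilt hS Φ).obj j) := fun j =>
    H10Coh.isCoh_cokernel _ (hc₁ j).1 (hA.coh j)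
  have hgr : ∀ j, (ShortComplex.mk (grIn Φ j) (grOut hS Φ j) (grIn_grOut hS Φ j)).ShortExact :=
    shortExact_gr hS Φ
  have hA₁ : Adm (CohKilled i) (subFilt Φ) := ⟨hc₁,
    hA.lf.mono fun j => LeadDev.support_subset_of_mono (pullback.snd S.f (Φ.ι j.down)), fun j => by
      haveI : Mono (grIn Φ j) := (hgr j).mono_f
      exact hP.sub (grIn Φ j) (H10Coh.isCoh_cokernel _ (hc₁ (j + 1)).1 (hc₁ j)).1 (hA.gr j)⟩
  have hA₃ : Adm (CohKilled i) (quotFilt hS Φ) := ⟨hc₃,
    hA.lf.mono fun j => LeadDev.support_subset_of_epi (cokernel.π (pullback.snd S.f (Φ.ι j.down))), fun j => by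
      haveI : Epi (grOut hS Φ j) := (hgr j).epi_g
      exact hP.quot (grOut hS Φ j) (H10Coh.isCoh_cokernel _ (hc₃ (j + 1)).1 (hc₃ j)).1 (hA.gr j)⟩
  have hl : ∀ {G : X.Modules} {Ψ : Filt G}, Adm (CohKilled i) Ψ → LocFin fun j : NI.{u} => Ψ.gr j.down :=
    fun {G Ψ} hΨ => hΨ.lf.mono fun j => LeadDev.support_subset_of_epi (cokernel.π (Ψ.step j.down))
  rw [theta_eq hP h₁.1.1 (adm_adic i h₁) hA₁, theta_eq hP h₃.1.1 (adm_adic i h₃) hA₃]
  exact H27KZero.clSub_shortExact
    (sigma_shortExact (fun j : NI.{u} => ShortComplex.mk (grIn Φ j.down) (grOut hS Φ j.down) (grIn_grOut hS Φ j.down))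
      fun j => hgr j.down)
    (hP.sigma _ (hl hA₁) fun j => hA₁.gr _) (hP.sigma _ (hl hA) fun j => hA.gr _)
    (hP.sigma _ (hl hA₃) fun j => hA₃.gr _)

end additive

theorem cohRange_push {F : Z.Modules} (hF : Coh.IsCoh F) : CohRange i ((Coh.push i).obj F) :=
  cohRange_of_killed i ⟨H24FSch.isCoh_pushforward_of_isClosedImmersion i hF, killed_push i F⟩

theorem isCoh_pull {G : X.Modules} (hG : Coh.IsCoh G) : Coh.IsCoh ((Scheme.Modules.pullback i).obj G) :=
  ⟨H29Fitt.isQCoh_pullback _ G hG.1, H29Fitt.isFT_pullback _ G hG.1 hG.2⟩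

theorem shortExact_pull {S : ShortComplex X.Modules} (hS : S.ShortExact) (h₁ : Killed i S.X₁) (h₂ : Killed i S.X₂) :
    (S.map (Scheme.Modules.pullback i)).ShortExact := by
  let adj := Scheme.Modules.pullbackPushforwardAdjunction i
  haveI : ∀ G, IsIso (adj.counit.app G) := fun G => isIso_counit_of_isClosedImmersion i G
  haveI : IsIso adj.counit := NatIso.isIso_of_isIso_app _
  haveI : (Scheme.Modules.pushforward i).Faithful := adj.fullyFaithfulROfIsIsoCounit.faithful
  haveI : IsIso (adj.unit.app S.X₁) := isIso_unit_of_killed i h₁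
  haveI : IsIso (adj.unit.app S.X₂) := isIso_unit_of_killed i h₂
  haveI : (Scheme.Modules.pullback i).IsLeftAdjoint := adj.isLeftAdjoint
  haveI := hS.mono_f
  haveI := hS.epi_g
  haveI : Epi ((S.map (Scheme.Modules.pullback i)).g) := inferInstanceAs (Epi ((Scheme.Modules.pullback i).map S.g))
  have hm : Mono ((Scheme.Modules.pullback i).map S.f) := by
    haveI : Mono ((Scheme.Modules.pushforward i).map ((Scheme.Modules.pullback i).map S.f)) := by
      have e : (Scheme.Modules.pushforward i).map ((Scheme.Modules.pullback i).map S.f) =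
          inv (adj.unit.app S.X₁) ≫ S.f ≫ adj.unit.app S.X₂ := by
        rw [IsIso.eq_inv_comp]
        exact (adj.unit.naturality S.f).symm
      rw [e]
      infer_instance
    exact (Scheme.Modules.pushforward i).mono_of_mono_map this
  exact { exact := hS.exact.map_of_epi_of_preservesCokernel (Scheme.Modules.pullback i) inferInstance inferInstance
          mono_f := hm
          epi_g := ‹_› }

/-- **Dévissage.** -/
theorem exists_equiv :
    ∃ φ : KZero.K0sub (fun F : Z.Modules => Coh.IsCoh F) ≃+ KZero.K0sub (CohRange i),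
      ∀ F : Z.Modules, Coh.IsCoh F → φ (KZero.clSub (fun F : Z.Modules => Coh.IsCoh F) F) =
        KZero.clSub (CohRange i) ((Coh.push i).obj F) := by
  classical
  let PZ : ObjectProperty Z.Modules := fun F => Coh.IsCoh F
  -- direct image
  let f₀ : FreeAbelianGroup (Subtype PZ) →+ KZero.K0sub (CohRange i) :=
    FreeAbelianGroup.lift fun F => KZero.clSub (CohRange i) ((Coh.push i).obj F.1)
  have hf₀ : KZero.relSub PZ ≤ f₀.ker := by
    refine (AddSubgroup.closure_le _).mpr ?_
    rintro _ ⟨S, h₁, h₂, h₃, hS, rfl⟩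
    show f₀ _ = 0
    simp only [map_sub, f₀, FreeAbelianGroup.lift_apply_of]
    have e : KZero.clSub (CohRange i) ((Coh.push i).obj S.X₂) = KZero.clSub (CohRange i) ((Coh.push i).obj S.X₁) +
        KZero.clSub (CohRange i) ((Coh.push i).obj S.X₃) :=
      H27KZero.clSub_shortExact (H22Alg.KPushCl.shortExact_push i hS) (cohRange_push i h₁) (cohRange_push i h₂)
        (cohRange_push i h₃)
    rw [e]
    abel
  let f := QuotientAddGroup.lift _ f₀ hf₀
  -- inverse image of killed modules
  let p₀ : FreeAbelianGroup (Subtype (CohKilled (X := X) i)) →+ KZero.K0sub PZ :=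
    FreeAbelianGroup.lift fun G => KZero.clSub PZ ((Scheme.Modules.pullback i).obj G.1)
  have hp₀ : KZero.relSub (CohKilled (X := X) i) ≤ p₀.ker := by
    refine (AddSubgroup.closure_le _).mpr ?_
    rintro _ ⟨S, h₁, h₂, h₃, hS, rfl⟩
    show p₀ _ = 0
    simp only [map_sub, p₀, FreeAbelianGroup.lift_apply_of]
    have e : KZero.clSub PZ ((Scheme.Modules.pullback i).obj S.X₂) =
        KZero.clSub PZ ((Scheme.Modules.pullback i).obj S.X₁) + KZero.clSub PZ ((Scheme.Modules.pullback i).obj S.X₃) :=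
      H27KZero.clSub_shortExact (P := PZ) (shortExact_pull i hS h₁.2 h₂.2) (isCoh_pull i h₁.1) (isCoh_pull i h₂.1)
        (isCoh_pull i h₃.1)
    rw [e]
    abel
  let p := QuotientAddGroup.lift _ p₀ hp₀
  -- the graded
  let g₀ : FreeAbelianGroup (Subtype (CohRange i)) →+ KZero.K0sub (CohKilled (X := X) i) :=
    FreeAbelianGroup.lift fun G => theta (good_cohKilled i) (adicFilt i G.1)
  have hg₀ : KZero.relSub (CohRange i) ≤ g₀.ker := by
    refine (AddSubgroup.closure_le _).mpr ?_
    rintro _ ⟨S, h₁, h₂, h₃, hS, rfl⟩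
    show g₀ _ = 0
    simp only [map_sub, g₀, FreeAbelianGroup.lift_apply_of]
    rw [theta_add i hS h₁ h₂ h₃]
    abel
  let g := QuotientAddGroup.lift _ g₀ hg₀
  have hf : ∀ F : Z.Modules, Coh.IsCoh F → f (KZero.clSub PZ F) = KZero.clSub (CohRange i) ((Coh.push i).obj F) :=
    fun F hF => by
      rw [KZero.clSub, dif_pos (show PZ F from hF)]
      exact FreeAbelianGroup.lift_apply_of
        (fun F : Subtype PZ => KZero.clSub (CohRange i) ((Coh.push i).obj F.1)) ⟨F, hF⟩
  have hp : ∀ G : X.Modules, CohKilled i G → p (KZero.clSub (CohKilled i) G) =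
      KZero.clSub PZ ((Scheme.Modules.pullback i).obj G) := fun G hG => by
    rw [KZero.clSub, dif_pos hG]
    exact FreeAbelianGroup.lift_apply_of
      (fun G : Subtype (CohKilled (X := X) i) => KZero.clSub PZ ((Scheme.Modules.pullback i).obj G.1)) ⟨G, hG⟩
  have hg : ∀ G : X.Modules, CohRange i G → g (KZero.clSub (CohRange i) G) =
      theta (good_cohKilled i) (adicFilt i G) := fun G hG => by
    rw [KZero.clSub, dif_pos hG]
    exact FreeAbelianGroup.lift_apply_of
      (fun G : Subtype (CohRange i) => theta (good_cohKilled i) (adicFilt i G.1)) ⟨G, hG⟩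
  have h1 : (p.comp g).comp f = AddMonoidHom.id _ := by
    refine QuotientAddGroup.addMonoidHom_ext _ (FreeAbelianGroup.lift_ext _ _ fun F => ?_)
    obtain ⟨F, hF⟩ := F
    have hk : CohKilled i ((Coh.push i).obj F) :=
      ⟨H24FSch.isCoh_pushforward_of_isClosedImmersion i hF, killed_push i F⟩
    have e : (QuotientAddGroup.mk (FreeAbelianGroup.of (⟨F, hF⟩ : Subtype PZ)) : KZero.K0sub PZ) = KZero.clSub PZ F := by
      rw [KZero.clSub, dif_pos (show PZ F from hF)]
    show p (g (f (QuotientAddGroup.mk (FreeAbelianGroup.of (⟨F, hF⟩ : Subtype PZ))))) = _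
    rw [e, hf F hF, hg _ (cohRange_push i hF), theta_eq_cl (good_cohKilled i) (locFin_adic i (cohRange_push i hF))
      fun j => (good_cohKilled i).sub ((adicFilt i _).ι j) (isCoh_adic i hk.1 j).1 hk]
    refine (hp _ hk).trans ?_
    haveI := isIso_counit_of_isClosedImmersion i F
    obtain ⟨O, hO⟩ := HasZeroObject.zero (C := Z.Modules)
    refine (H27KZero.clSub_iso (P := PZ) (asIso ((Scheme.Modules.pullbackPushforwardAdjunction i).counit.app F))
      (isCoh_pull i hk.1) hF hO (cohLe_of_isZero (δ := fun _ => 0) (a := 0) hO).1).trans ?_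
    exact e.symm
  have h2 : f.comp (p.comp g) = AddMonoidHom.id _ := by
    refine QuotientAddGroup.addMonoidHom_ext _ (FreeAbelianGroup.lift_ext _ _ fun G => ?_)
    obtain ⟨G, hG⟩ := G
    have hA := adm_adic i hG
    have hl : LocFin fun j : NI.{u} => (adicFilt i G).gr j.down :=
      hA.lf.mono fun j => LeadDev.support_subset_of_epi (cokernel.π ((adicFilt i G).step j.down))
    have hk : CohKilled i (∐ fun j : NI.{u} => (adicFilt i G).gr j.down) :=
      (good_cohKilled i).sigma _ hl fun j => hA.gr _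
    have e : (QuotientAddGroup.mk (FreeAbelianGroup.of (⟨G, hG⟩ : Subtype (CohRange i))) :
        KZero.K0sub (CohRange i)) = KZero.clSub (CohRange i) G := by
      rw [KZero.clSub, dif_pos hG]
    show f (p (g (QuotientAddGroup.mk (FreeAbelianGroup.of (⟨G, hG⟩ : Subtype (CohRange i)))))) = _
    rw [e, hg G hG, theta, cl, hp _ hk, hf _ (isCoh_pull i hk.1)]
    haveI := isIso_unit_of_killed i hk.2
    refine (cl_congr (good_cohRange i) (asIso ((Scheme.Modules.pullbackPushforwardAdjunction i).unit.app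
      (∐ fun j : NI.{u} => (adicFilt i G).gr j.down))).symm (cohRange_push i (isCoh_pull i hk.1))).trans ?_
    refine (theta_eq_cl (good_cohRange i) hA.lf fun j =>
      (good_cohRange i).sub ((adicFilt i G).ι j) (hA.coh j).1 hG).trans ?_
    exact e.symm
  exact ⟨AddMonoidHom.toAddEquiv f (p.comp g) h1 h2, hf⟩

end Groth.Agent.H3Cyc.KClosed
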