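import Groth.Agent.H3Cyc.KFam
import Mathlib

/-!
# Dévissage: the class of a coherent module is the class of its cycle
-/

set_option autoImplicit false
set_option linter.style.haveILetI false
set_option linter.unusedSectionVars false
universe u v

open CategoryTheory CategoryTheory.Limits AlgebraicGeometry TopologicalSpace Opposite
open Groth.Agent.H16Derived.KFlat.Stalk
open Groth.Agent.H3Cyc.KDev Groth.Agent.H3Cyc.KSky Groth.Agent.H3Cyc.KFam
open Groth.Agent.H06Mod

noncomputable section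

namespace Groth.Agent.H3Cyc.KCls

variable {X : Scheme.{u}} [IsLocallyNoetherian X] {δ : X → ℤ} {k : ℤ}

theorem sheafFun_of_eq {F : X.Modules} {x : X} (hx : δ x = k) :
    Cyc.sheafFun δ k F x = ((Module.length (X.presheaf.stalk x) (F.presheaf.stalk x)).toNat : ℤ) := if_pos hx

theorem sheafFun_of_ne {F : X.Modules} {x : X} (hx : δ x ≠ k) : Cyc.sheafFun δ k F x = 0 := if_neg hx

theorem sheafFun_nonneg (F : X.Modules) (x : X) : 0 ≤ Cyc.sheafFun δ k F x := by
  rw [Cyc.sheafFun]
  split_ifs <;> omega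

theorem sheafFun_pos_iff (hδ : Strict δ) {F : X.Modules} (hF : Cyc.CohLe δ k F) {x : X} :
    0 < Cyc.sheafFun δ k F x ↔ x ∈ top δ k F := by
  by_cases hx : δ x = k
  · rw [sheafFun_of_eq hx]
    have hl := Module.length_ne_top_iff.mpr (isFiniteLength_stalk hδ hF hx)
    show _ ↔ δ x = k ∧ _
    rw [mem_support, ← Module.length_pos_iff (R := X.presheaf.stalk x)]
    constructor
    · intro h
      exact ⟨hx, pos_iff_ne_zero.mpr fun h0 => by simp [h0] at h⟩
    · rintro ⟨-, h⟩
      have : (Module.length (X.presheaf.stalk x) (F.presheaf.stalk x)).toNat ≠ 0 := by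
        simp [ENat.toNat_eq_zero, hl, h.ne']
      omega
  · rw [sheafFun_of_ne hx]
    simp [top, hx]

theorem locallyFinite_sheafFun (hδ : Strict δ) {F : X.Modules} (hF : Cyc.CohLe δ k F) :
    LocallyFiniteSupport (Cyc.sheafFun δ k F) := fun x => by
  obtain ⟨U, hxU, hU⟩ := exists_top_finite hδ hF x
  refine ⟨U, U.isOpen.mem_nhds hxU, hU.subset fun y ⟨hyU, hy⟩ => ⟨(sheafFun_pos_iff hδ hF).mp ?_, hyU⟩⟩
  exact lt_of_le_of_ne (sheafFun_nonneg F y) (Ne.symm hy)

/-- The cycle of a module. -/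
def cycle (hδ : Strict δ) {F : X.Modules} (hF : Cyc.CohLe δ k F) : AlgebraicCycle X ℤ where
  toFun := Cyc.sheafFun δ k F
  supportWithinDomain' := Set.subset_univ _
  supportLocallyFiniteWithinDomain' z _ := locallyFinite_sheafFun hδ hF z

theorem cycle_mem (hδ : Strict δ) {F : X.Modules} (hF : Cyc.CohLe δ k F) : cycle hδ hF ∈ Cyc.Zk X δ k :=
  fun _ hx => sheafFun_of_ne hx

theorem sheafFun_shortExact (hδ : Strict δ) {S : ShortComplex X.Modules} (hS : S.ShortExact)
    (h₂ : Cyc.CohLe δ k S.X₂) :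
    Cyc.sheafFun δ k S.X₂ = Cyc.sheafFun δ k S.X₁ + Cyc.sheafFun δ k S.X₃ := by
  funext x
  simp only [Pi.add_apply, Cyc.sheafFun]
  split_ifs with hx
  · have h2 := Module.length_ne_top_iff.mpr (isFiniteLength_stalk hδ h₂ hx)
    have hl := Module.length_eq_add_of_exact _ _ (H06Mod.stalk_injective S hS x) (H06Mod.stalk_surjective S hS x)
      (H06Mod.stalk_exact S hS x)
    rw [hl] at h2 ⊢
    obtain ⟨ha, hb⟩ := WithTop.add_ne_top.mp h2
    rw [ENat.toNat_add ha hb]
    push_cast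
    ring
  · ring

theorem sheafFun_small {F : X.Modules} {b : ℤ} (hb : b < k) (hF : Cyc.CohLe δ b F) :
    Cyc.sheafFun δ k F = 0 := by
  funext x
  by_cases hx : δ x = k
  · rw [sheafFun_of_eq hx]
    rcases subsingleton_or_nontrivial (F.presheaf.stalk x) with h | h
    · simp [Module.length_eq_zero_iff.mpr h]
    · have := hF.2 x h
      omega
  · exact sheafFun_of_ne hx

/-- The length of a stalk of a coproduct. -/
theorem length_st_sigma {I : Type u} (M : I → X.Modules) {x : X} (J : Finset I)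
    (hJ : ∀ i, x ∈ CohB1.support (M i) → i ∈ J) :
    Module.length (X.presheaf.stalk x) ((∐ M).presheaf.stalk x) =
      ∑ i ∈ J, Module.length (X.presheaf.stalk x) ((M i).presheaf.stalk x) := by
  classical
  let e : (∐ M).presheaf.stalk x ≃ₗ[X.presheaf.stalk x] ((i : J) → (M i.1).presheaf.stalk x) :=
    LinearEquiv.ofBijective (LinearMap.pi fun i : J => sl (pr M i.1) x) ⟨fun a b hab => by
      rw [← sum_pr M J hJ a, ← sum_pr M J hJ b]
      refine Finset.sum_congr rfl fun i hi => ?_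
      exact congrArg (sl (Sigma.ι M i) x) (congrFun hab ⟨i, hi⟩), fun v => by
      refine ⟨∑ i : J, sl (Sigma.ι M i.1) x (v i), funext fun j => ?_⟩
      show sl (pr M j.1) x (∑ i : J, sl (Sigma.ι M i.1) x (v i)) = v j
      rw [map_sum, Finset.sum_eq_single_of_mem j (Finset.mem_univ j) fun i _ hi =>
        sl_ι_pr M j.1 i.1 x (v i) fun e => hi (Subtype.ext e)]
      show ((sl (pr M j.1) x).comp (sl (Sigma.ι M j.1) x)) (v j) = v j
      rw [← sl_comp, ι_pr_self]
      exact LinearMap.congr_fun (congrArg ModuleCat.Hom.hom ((st x).map_id (M j.1))) (v j)⟩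
  rw [e.length_eq, Module.length_pi_of_fintype]
  exact Finset.sum_coe_sort J fun i => Module.length (X.presheaf.stalk x) ((M i).presheaf.stalk x)

/-- The index set of the positive part. -/
abbrev PIdx (α : X → ℤ) : Type u := Σ ζ : {ζ : X // 0 < α ζ}, Fin (α ζ.1).toNat

theorem locFin_pos {α : X → ℤ} (hα : LocallyFiniteSupport α) :
    LocFin fun i : PIdx α => O i.1.1 := by
  refine locFin_of_onPt (fun i => i.1.1) (fun i => onPt_closureStructureSheaf _) fun x => ?_
  obtain ⟨t, ht, hfin⟩ := hα x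
  obtain ⟨U, hUt, hUo, hxU⟩ := mem_nhds_iff.mp ht
  refine ⟨⟨U, hUo⟩, hxU, ?_⟩
  refine Set.Finite.subset ((hfin.preimage (f := fun ζ : {ζ : X // 0 < α ζ} => ζ.1)
    Subtype.val_injective.injOn).preimage' (f := fun i : PIdx α => i.1) fun ζ _ => ?_) fun i hi => ⟨hUt hi, i.1.2.ne'⟩
  exact (Set.finite_range fun n : Fin (α ζ.1).toNat => (⟨ζ, n⟩ : PIdx α)).subset (by
    rintro ⟨ζ', n⟩ (rfl : ζ' = ζ)
    exact ⟨n, rfl⟩)

theorem cohLe_pos (hδ : Strict δ) {α : X → ℤ} (hα : LocallyFiniteSupport α) (hk : ∀ x, δ x ≠ k → α x = 0) :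
    Cyc.CohLe δ k (Cyc.cycleSheafPos α) :=
  cohLe_sigma (locFin_pos hα) fun i => (onPt_closureStructureSheaf _).cohLe hδ (by
    by_contra h
    exact i.1.2.ne' (hk _ h))

theorem sheafFun_cycleSheafPos (hδ : Strict δ) {α : X → ℤ} (hα : LocallyFiniteSupport α)
    (hk : ∀ x, δ x ≠ k → α x = 0) : Cyc.sheafFun δ k (Cyc.cycleSheafPos α) = fun x => max (α x) 0 := by
  classical
  funext x
  by_cases hx : δ x = k
  swap
  · simp [sheafFun_of_ne hx, hk x hx]
  rw [sheafFun_of_eq hx]
  have hmem : ∀ i : PIdx α, x ∈ CohB1.support (O i.1.1) → i.1.1 = x := fun i hi => by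
    by_contra hne
    refine (onPt_closureStructureSheaf i.1.1).notMem hδ (k := k) ?_ hx.ge (Ne.symm hne) hi
    by_contra h
    exact i.1.2.ne' (hk _ h)
  by_cases hpos : 0 < α x
  · let J : Finset (PIdx α) := Finset.univ.image fun n : Fin (α x).toNat => ⟨⟨x, hpos⟩, n⟩
    have hJ : ∀ i, x ∈ CohB1.support (O i.1.1) → i ∈ J := by
      rintro ⟨⟨ζ, hζ⟩, n⟩ hi
      obtain rfl : ζ = x := hmem _ hi
      exact Finset.mem_image.mpr ⟨n, Finset.mem_univ _, rfl⟩
    have h1 := length_st_sigma (fun i : PIdx α => O i.1.1) J hJ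
    change ((Module.length (X.presheaf.stalk x) ((∐ fun i : PIdx α => O i.1.1).presheaf.stalk x)).toNat : ℤ) = _
    rw [h1, Finset.sum_image fun a _ b _ h => by simpa using h]
    simp only [length_closureStructureSheaf, Finset.sum_const, Finset.card_univ, Fintype.card_fin, nsmul_one]
    rw [ENat.toNat_coe]
    omega
  · have h1 := length_st_sigma (fun i : PIdx α => O i.1.1) (x := x) ∅ fun i hi => absurd (hmem i hi ▸ i.1.2) hpos
    change ((Module.length (X.presheaf.stalk x) ((∐ fun i : PIdx α => O i.1.1).presheaf.stalk x)).toNat : ℤ) = _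
    rw [h1, Finset.sum_empty]
    simp only [ENat.toNat_zero, Nat.cast_zero]
    omega

/-- Two modules of length one on the closure of a point have a common target. -/
theorem exists_common (hδ : Strict δ) {ξ : X} (hξ : δ ξ = k) {G : X.Modules} (hG : OnPt G ξ)
    (h1 : Module.length (X.presheaf.stalk ξ) (G.presheaf.stalk ξ) = 1) :
    ∃ (S : X.Modules) (a : G ⟶ S) (b : O ξ ⟶ S), OnPt S ξ ∧
      (∀ y, k ≤ δ y → IsIso ((st y).map a)) ∧ (∀ y, k ≤ δ y → IsIso ((st y).map b)) := by
  obtain ⟨e⟩ := equiv_of_length_one (length_closureStructureSheaf ξ) h1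
  obtain ⟨m, hm⟩ := exists_pow_smul_eq_zero (A := X.presheaf.stalk ξ) (M := G.presheaf.stalk ξ)
    (Module.length_ne_top_iff.mp (by rw [h1]; exact ENat.one_ne_top))
  let M := G ⊞ O ξ
  have hM : Coh.IsCoh M := H27KZero.isCoh_extension (S := ShortComplex.mk (biprod.inl : G ⟶ M) biprod.snd (by simp [M]))
    (ShortComplex.Splitting.ofHasBinaryBiproduct G (O ξ)).shortExact hG.coh (onPt_closureStructureSheaf ξ).coh
  let q : M.presheaf.stalk ξ →ₗ[X.presheaf.stalk ξ] G.presheaf.stalk ξ :=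
    sl (biprod.fst : M ⟶ G) ξ + e.toLinearMap.comp (sl (biprod.snd : M ⟶ O ξ) ξ)
  have hqa : q.comp (sl (biprod.inl : G ⟶ M) ξ) = LinearMap.id := by
    simp only [q, LinearMap.add_comp, LinearMap.comp_assoc, ← sl_comp, biprod.inl_fst, biprod.inl_snd]
    rw [show sl (𝟙 G) ξ = LinearMap.id from congrArg ModuleCat.Hom.hom ((st ξ).map_id _),
      show sl (0 : G ⟶ O ξ) ξ = 0 from congrArg ModuleCat.Hom.hom ((st ξ).map_zero _ _), LinearMap.comp_zero,
      add_zero]
  have hqb : q.comp (sl (biprod.inr : O ξ ⟶ M) ξ) = e.toLinearMap := by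
    simp only [q, LinearMap.add_comp, LinearMap.comp_assoc, ← sl_comp, biprod.inr_fst, biprod.inr_snd]
    rw [show sl (𝟙 (O ξ)) ξ = LinearMap.id from congrArg ModuleCat.Hom.hom ((st ξ).map_id _),
      show sl (0 : O ξ ⟶ G) ξ = 0 from congrArg ModuleCat.Hom.hom ((st ξ).map_zero _ _), LinearMap.comp_id,
      zero_add]
  have hq : Function.Surjective q := fun v => ⟨sl (biprod.inl : G ⟶ M) ξ v, LinearMap.congr_fun hqa v⟩
  have hS : OnPt (img q) ξ := ⟨isCoh_img q hM hm, fun y hy => (support_img q hy).1⟩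
  have key : ∀ {H : X.Modules} (hH : OnPt H ξ) (j : H ⟶ M),
      Function.Bijective (q.comp (sl j ξ)) → ∀ y, k ≤ δ y → IsIso ((st y).map (j ≫ imgπ q)) := by
    intro H hH j hb y hy
    by_cases hy' : y = ξ
    · subst hy'
      rw [ConcreteCategory.isIso_iff_bijective]
      show Function.Bijective (sl (j ≫ imgπ q) y)
      refine (Function.Bijective.of_comp_iff' (imgEquiv q hq).bijective _).mp ?_
      convert hb using 1
      funext v
      show stLin (imgι q) (sl (j ≫ imgπ q) y v) = q (sl j y v)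
      rw [sl_comp]
      exact LinearMap.congr_fun (stLin_imgι q) (sl j y v)
    · exact isIso_of_notMem _ (hH.notMem hδ hξ hy hy') (hS.notMem hδ hξ hy hy')
  exact ⟨img q, biprod.inl ≫ imgπ q, biprod.inr ≫ imgπ q, hS,
    key hG _ (by rw [hqa]; exact Function.bijective_id),
    key (onPt_closureStructureSheaf ξ) _ (by rw [hqb]; exact e.bijective)⟩

/-- Dévissage. -/
theorem cls_eq (hδ : Strict δ) {F : X.Modules} (hF : Cyc.CohLe δ k F) :
    (cls F : Cyc.K0CohQuot δ k (k - 1)) = cls (Cyc.cycleSheafPos (Cyc.sheafFun δ k F)) := by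
  classical
  let T := {ξ : X // ξ ∈ top δ k F}
  have hfl : ∀ t : T, IsFiniteLength (X.presheaf.stalk t.1) (F.presheaf.stalk t.1) := fun t =>
    isFiniteLength_stalk hδ hF t.2.1
  choose C hC hlen hbot htop using fun t => exists_chain (hfl t)
  let n : T → ℕ := fun t => (Module.length (X.presheaf.stalk t.1) (F.presheaf.stalk t.1)).toNat
  let Q : T → ℕ → X.Modules := fun t j => img (C t j).mkQ
  have hQ : ∀ t j, OnPt (Q t j) t.1 := fun t j => by
    obtain ⟨m, hm⟩ := exists_pow_smul_eq_zero (hfl t)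
    refine ⟨isCoh_img (C t j).mkQ hF.1 (k := m) fun a ha v => ?_, fun y hy => (support_img _ hy).1⟩
    obtain ⟨v, rfl⟩ := Submodule.Quotient.mk_surjective _ v
    rw [← Submodule.Quotient.mk_smul, hm a ha v, Submodule.Quotient.mk_zero]
  have hstep : ∀ t j, ∃ g : Q t (j + 1) ⟶ Q t j, Epi g ∧ imgπ (C t (j + 1)).mkQ ≫ g = imgπ (C t j).mkQ :=
    fun t j => exists_imgMap _ _ (Submodule.factor (hC t j)) (Submodule.factor_comp_mk _)
  choose g hg hgπ using hstep
  haveI := hg
  let G : T → ℕ → X.Modules := fun t j => kernel (g t j)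
  have hGs : ∀ t j, (ShortComplex.mk (kernel.ι (g t j)) (g t j) (kernel.condition _)).ShortExact := fun t j =>
    { exact := ShortComplex.exact_kernel _ }
  have hG : ∀ t j, OnPt (G t j) t.1 := fun t j =>
    ⟨H10Coh.isCoh_kernel _ (hQ t (j + 1)).coh (hQ t j).coh.1,
      fun y hy => (hQ t (j + 1)).spec y (LeadDev.support_subset_of_mono (kernel.ι (g t j)) hy)⟩
  have hG1 : ∀ t j, j < n t → Module.length (X.presheaf.stalk t.1) ((G t j).presheaf.stalk t.1) = 1 := by
    intro t j hj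
    have hl := Module.length_eq_add_of_exact _ _ (H06Mod.stalk_injective _ (hGs t j) t.1)
      (H06Mod.stalk_surjective _ (hGs t j) t.1) (H06Mod.stalk_exact _ (hGs t j) t.1)
    change Module.length _ ((Q t (j + 1)).presheaf.stalk t.1) =
      Module.length _ ((G t j).presheaf.stalk t.1) + Module.length _ ((Q t j).presheaf.stalk t.1) at hl
    rw [(imgEquiv _ (Submodule.mkQ_surjective (C t (j + 1)))).length_eq,
      (imgEquiv _ (Submodule.mkQ_surjective (C t j))).length_eq, hlen t (j + 1) hj, hlen t j hj.le,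
      Nat.cast_succ, add_comm (j : ℕ∞)] at hl
    exact (WithTop.add_right_cancel (ENat.coe_ne_top j) hl).symm
  have hfinT : ∀ x : X, ∃ U : X.Opens, x ∈ U ∧ {t : T | t.1 ∈ U}.Finite := fun x => by
    obtain ⟨U, hx, hU⟩ := exists_top_finite hδ hF x
    exact ⟨U, hx, (hU.preimage (f := fun t : T => t.1) Subtype.val_injective.injOn).subset fun t ht => ⟨t.2, ht⟩⟩
  have hfinP : ∀ {m : T → ℕ} (x : X), ∃ U : X.Opens, x ∈ U ∧ {p : Σ t, Fin (m t) | p.1.1 ∈ U}.Finite :=
    fun {m} x => by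
      obtain ⟨U, hx, hU⟩ := hfinT x
      exact ⟨U, hx, hU.preimage' (f := fun p : Σ t, Fin (m t) => p.1) fun t _ =>
        (Set.finite_range fun i : Fin (m t) => (⟨t, i⟩ : Σ t, Fin (m t))).subset (by
          rintro ⟨t', i⟩ (rfl : t' = t)
          exact ⟨i, rfl⟩)⟩
  have hlfT : LocFin fun t => Q t (n t) := locFin_of_onPt (fun t => t.1) (fun t => hQ t _) hfinT
  have hQk : ∀ t j, Cyc.CohLe δ k (Q t j) := fun t j => (hQ t j).cohLe hδ t.2.1
  have hGk : ∀ t j, Cyc.CohLe δ k (G t j) := fun t j => (hG t j).cohLe hδ t.2.1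
  -- the map to the coproduct
  haveI := isIso_toProd (fun t => Q t (n t)) hlfT
  let f : F ⟶ ∐ fun t => Q t (n t) :=
    Pi.lift (fun t => imgπ (C t (n t)).mkQ) ≫ inv (Pi.lift (pr fun t => Q t (n t)))
  have hf : ∀ t, f ≫ pr (fun t => Q t (n t)) t = imgπ (C t (n t)).mkQ := fun t => by
    rw [← Pi.lift_π (pr fun t => Q t (n t)) t]
    show (Pi.lift _ ≫ inv (Pi.lift _)) ≫ Pi.lift _ ≫ Pi.π _ t = _
    rw [Category.assoc, IsIso.inv_hom_id_assoc, Pi.lift_π]
  have e1 : (cls F : Cyc.K0CohQuot δ k (k - 1)) = cls (∐ fun t => Q t (n t)) := by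
    refine cls_of_map f hF (cohLe_sigma hlfT fun t => hQk t _) fun y hy => ?_
    by_cases hyF : y ∈ CohB1.support F
    · have hyk : δ y = k := le_antisymm ((cohLe_iff.mp hF).2 y hyF) (by omega)
      let t : T := ⟨y, hyk, hyF⟩
      have hJ : ∀ i : T, y ∈ CohB1.support (Q i (n i)) → i ∈ ({t} : Finset T) := fun i hi =>
        Finset.mem_singleton.mpr (Subtype.ext (hδ.eq_of_specializes i.2.1 ((hQ i _).spec y hi) hyk.ge).symm)
      rw [ConcreteCategory.isIso_iff_bijective]
      have hbij : Function.Bijective ((sl (pr (fun t => Q t (n t)) t) y).comp (sl f y)) := by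
        rw [← sl_comp, hf]
        refine (Function.Bijective.of_comp_iff' (imgEquiv _ (Submodule.mkQ_surjective (C t (n t)))).bijective _).mp ?_
        have hq : (C t (n t)) = ⊥ := hbot t
        have hm : Function.Bijective (C t (n t)).mkQ :=
          ⟨by rw [← LinearMap.ker_eq_bot, Submodule.ker_mkQ, hq], Submodule.mkQ_surjective _⟩
        have he : (imgEquiv _ (Submodule.mkQ_surjective (C t (n t))) : _ → _) ∘ sl (imgπ (C t (n t)).mkQ) y =
            (C t (n t)).mkQ := funext fun v => LinearMap.congr_fun (stLin_imgι (C t (n t)).mkQ) v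
        rw [he]
        exact hm
      refine ⟨fun a b hab => hbij.1 (congrArg (sl (pr (fun t => Q t (n t)) t) y) hab), fun v => ?_⟩
      obtain ⟨a, ha⟩ := hbij.2 (sl (pr (fun t => Q t (n t)) t) y v)
      refine ⟨a, ?_⟩
      rw [← sum_pr (fun t => Q t (n t)) {t} hJ v, ← sum_pr (fun t => Q t (n t)) {t} hJ ((st y).map f a),
        Finset.sum_singleton, Finset.sum_singleton]
      exact congrArg (sl (Sigma.ι (fun t => Q t (n t)) t) y) ha
    · refine isIso_of_notMem f hyF fun h => ?_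
      obtain ⟨t, ht⟩ := Set.mem_iUnion.mp (support_sigma _ h)
      exact hyF (support_img _ ht).2
  -- telescoping
  have hlfQ : LocFin fun p : Σ t, Fin (n t + 1) => Q p.1 p.2 :=
    locFin_of_onPt (fun p => p.1.1) (fun p => hQ _ _) hfinP
  have h0 : ∀ t, IsZero (Q t 0) := fun t => by
    have hz : homOfStalk (C t 0).mkQ = 0 := sky_hom_ext (by
      rw [stLin_homOfStalk]
      haveI : Subsingleton (F.presheaf.stalk t.1 ⧸ C t 0) := Submodule.Quotient.subsingleton_iff.mpr (htop t)
      exact Subsingleton.elim _ _)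
    rw [IsZero.iff_id_eq_zero]
    show 𝟙 (img (C t 0).mkQ) = 0
    rw [← cancel_mono (imgι (C t 0).mkQ), ← cancel_epi (imgπ (C t 0).mkQ)]
    simp [imgπ_ι, hz]
  have e2 := cls_telescope (a := k) (b := k - 1) n Q G
    (fun t j _ => ⟨kernel.ι (g t j), g t j, kernel.condition _, hGs t j⟩) h0 (fun t j _ => hQk t j)
    (fun t j _ => hGk t j) hlfQ
  -- comparison with the closures
  choose S a b hS ha hb using fun p : Σ t, Fin (n t) => exists_common hδ p.1.2.1 (hG p.1 p.2) (hG1 p.1 p.2 p.2.2)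
  have hlG : LocFin fun p : Σ t, Fin (n t) => G p.1 p.2 := locFin_of_onPt (fun p => p.1.1) (fun p => hG _ _) hfinP
  have hlS : LocFin S := locFin_of_onPt (fun p => p.1.1) hS hfinP
  have hlO : LocFin fun p : Σ t, Fin (n t) => O p.1.1 :=
    locFin_of_onPt (fun p => p.1.1) (fun p => onPt_closureStructureSheaf _) hfinP
  have e3 : (cls (∐ fun p : Σ t, Fin (n t) => G p.1 p.2) : Cyc.K0CohQuot δ k (k - 1)) = cls (∐ S) :=
    cls_of_map (Limits.Sigma.map a) (cohLe_sigma hlG fun p => hGk _ _)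
      (cohLe_sigma hlS fun p => (hS p).cohLe hδ p.1.2.1) fun y hy => isIso_st_sigmaMap a y fun p => ha p y (by omega)
  have e4 : (cls (∐ fun p : Σ t, Fin (n t) => O p.1.1) : Cyc.K0CohQuot δ k (k - 1)) = cls (∐ S) :=
    cls_of_map (Limits.Sigma.map b) (cohLe_sigma hlO fun p => (onPt_closureStructureSheaf _).cohLe hδ p.1.2.1)
      (cohLe_sigma hlS fun p => (hS p).cohLe hδ p.1.2.1) fun y hy => isIso_st_sigmaMap b y fun p => hb p y (by omega)
  -- reindexing
  let α := Cyc.sheafFun δ k F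
  let σ : (Σ t, Fin (n t)) ≃ PIdx α :=
    { toFun := fun p => ⟨⟨p.1.1, (sheafFun_pos_iff hδ hF).mpr p.1.2⟩, ⟨p.2.1, by
        simp only [α, sheafFun_of_eq p.1.2.1, Int.toNat_natCast]
        exact p.2.2⟩⟩
      invFun := fun i => ⟨⟨i.1.1, (sheafFun_pos_iff hδ hF).mp i.1.2⟩, ⟨i.2.1, by
        have := i.2.2
        simpa only [α, n, sheafFun_of_eq ((sheafFun_pos_iff hδ hF).mp i.1.2).1, Int.toNat_natCast] using this⟩⟩
      left_inv := fun p => rfl
      right_inv := fun i => rfl }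
  have e5 := cls_reindex (a := k) (b := k - 1) σ (fun i : PIdx α => O i.1.1)
    (locFin_pos (locallyFinite_sheafFun hδ hF))
    fun i => (onPt_closureStructureSheaf _).cohLe hδ ((sheafFun_pos_iff hδ hF).mp i.1.2).1
  rw [e1, ← e2, e3, ← e4]
  exact e5

end Groth.Agent.H3Cyc.KCls
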