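import Groth.Agent.H3Cyc.KTwist
import Groth.Agent.H3Cyc.C1Map
import Groth.Agent.H3Cyc.SetupLft
import Groth.Agent.H26ChowK.Euler
import Mathlib

/-!
# The degree of an invertible module on a proper curve is the degree of its first Chern class
-/

set_option autoImplicit false
set_option linter.style.haveILetI false
set_option linter.unusedSectionVars false
set_option backward.isDefEq.respectTransparency.types false
universe u

open CategoryTheory CategoryTheory.Limits AlgebraicGeometry TopologicalSpace Opposite IsLocalRing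
open Groth.Agent.H3Cyc.KDev Groth.Agent.H3Cyc.KFam Groth.Agent.H3Cyc.KCls

noncomputable section

namespace Groth.Agent.H3Cyc.KDegree

variable {k : Type u} [Field k] {X : Scheme.{u}} [X.Over (Spec (CommRingCat.of k))]
  [IsProper (X ↘ Spec (CommRingCat.of k))] {δ : X → ℤ}
  (hδ : Cyc.DeltaCompat (X ↘ Spec (CommRingCat.of k)) δ (fun _ => 0))

theorem finrank_stk' (Q : X.Modules) (x : X)
    (hQ : Module.length (X.presheaf.stalk x) (Q.presheaf.stalk x) ≠ ⊤) :
    Module.finrank k (H25Par.Stk k Q x) = (X ↘ Spec (CommRingCat.of k)).residueDegree x *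
      (Module.length (X.presheaf.stalk x) (Q.presheaf.stalk x)).toNat := by
  letI := (H25Par.constStalk (k := k) x).toAlgebra
  letI := Module.compHom (Q.presheaf.stalk x) (algebraMap k (X.presheaf.stalk x))
  haveI : IsScalarTower k (X.presheaf.stalk x) (Q.presheaf.stalk x) := IsScalarTower.of_algebraMap_smul fun _ _ => rfl
  show Module.finrank k (Q.presheaf.stalk x) = _
  rw [← CurveDeg.toNat_length, CurveDeg.length_eq_mul _ hQ, ENat.toNat_mul, CurveDeg.toNat_length,
    CurveDeg.residueDegree_eq_finrank (k := k) x]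

include hδ

theorem isSetup : Cyc.IsSetup X δ :=
  isSetup_of_locallyOfFiniteType (X ↘ Spec (CommRingCat.of k)) H26ChowK.isSetup_spec_field hδ

theorem nonneg (x : X) : 0 ≤ δ x := by
  obtain ⟨n, -, h⟩ := hδ x
  change δ x = 0 + (n : ℤ) at h
  omega

theorem le_one (hdim : topologicalKrullDim X ≤ 1) (x : X) : δ x ≤ 1 := by
  obtain ⟨c, hc1, hc2⟩ := H22Alg.CycBasic.exists_cdim (X ↘ Spec (CommRingCat.of k)) hδ x
  have h1 : H8Props.FieldDim.cdim ((X ↘ Spec (CommRingCat.of k)).asFiber x) ≤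
      topologicalKrullDim ((X ↘ Spec (CommRingCat.of k)).fiber ((X ↘ Spec (CommRingCat.of k)) x)) :=
    H8Props.FieldDim.dim_mono (Set.subset_univ _) |>.trans
      (le_of_eq (Homeomorph.Set.univ _).isHomeomorph.topologicalKrullDim_eq)
  have h2 : topologicalKrullDim ((X ↘ Spec (CommRingCat.of k)).fiber ((X ↘ Spec (CommRingCat.of k)) x)) ≤
      topologicalKrullDim X :=
    ((X ↘ Spec (CommRingCat.of k)).fiberι _).isEmbedding.isInducing.topologicalKrullDim_le
  have h3 : (c : WithBot ℕ∞) ≤ (1 : ℕ) := hc1 ▸ h1.trans (h2.trans hdim)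
  have h4 : c ≤ 1 := by exact_mod_cast h3
  omega

theorem isClosed_of_zero {x : X} (hx : δ x = 0) : IsClosed ({x} : Set X) :=
  haveI := (isSetup hδ).1
  closure_subset_iff_isClosed.mp fun y hy => ((strict_of_isSetup (isSetup hδ)).eq_of_specializes hx
    (specializes_iff_mem_closure.mpr hy) (nonneg hδ y)).symm ▸ rfl

/-- The Euler characteristic of a module of dimension zero is the degree of its cycle. -/
theorem euler_eq_degree {Q : X.Modules} (hQ : Cyc.CohLe δ 0 Q) :
    Curv2.euler k X Q =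
      ∑ᶠ x : X, ((X ↘ Spec (CommRingCat.of k)).residueDegree x : ℤ) * Cyc.sheafFun δ 0 Q x := by
  classical
  have hX := isSetup hδ
  haveI := hX.1
  haveI : CompactSpace X := QuasiCompact.compactSpace_of_compactSpace (X ↘ Spec (CommRingCat.of k))
  haveI : IsNoetherian X := {}
  have hs := strict_of_isSetup hX
  obtain ⟨U, hU⟩ : ∃ S : Finset X, ∀ x, x ∈ S ↔ x ∈ top δ 0 Q := by
    choose U hxU hU using exists_top_finite hs hQ
    obtain ⟨t, ht⟩ := CompactSpace.elim_nhds_subcover (fun x => (U x : Set X)) fun x => (U x).isOpen.mem_nhds (hxU x)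
    have hfin : (top δ 0 Q).Finite := ((t.finite_toSet).biUnion fun x _ => hU x).subset fun z hz => by
      obtain ⟨x, hx, hzx⟩ := Set.mem_iUnion₂.mp (show z ∈ ⋃ x ∈ t, (U x : Set X) by rw [ht]; trivial)
      exact Set.mem_iUnion₂.mpr ⟨x, hx, hz, hzx⟩
    exact ⟨hfin.toFinset, fun x => hfin.mem_toFinset⟩
  have hoff : ∀ y, y ∉ U → Subsingleton (Q.presheaf.stalk y) := fun y hy =>
    not_nontrivial_iff_subsingleton.mp fun h => hy ((hU y).mpr
      ⟨le_antisymm (hQ.2 y h) (nonneg hδ y), mem_support.mpr h⟩)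
  have hcl : ∀ z ∈ U, IsClosed ({z} : Set X) := fun z hz => isClosed_of_zero hδ ((hU z).mp hz).1
  have hb := H25Par.germs_bijective (k := k) Q U.finite_toSet hcl hoff
  haveI : Module.Finite k (Coh.HH X Q 0) := H10Coh.finite_HH_proper k X Q hQ.1 0
  haveI : Module.Finite k (∀ y : (U : Set X), H25Par.Stk k Q y.1) :=
    Module.Finite.equiv (LinearEquiv.ofBijective _ hb)
  haveI : ∀ y : (U : Set X), Module.Finite k (H25Par.Stk k Q y.1) := fun y =>
    Module.Finite.of_surjective (LinearMap.proj (R := k) (φ := fun y : (U : Set X) => H25Par.Stk k Q y.1) y)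
      (LinearMap.proj_surjective y)
  rw [H25Euler.euler_eq_sum Q 1 fun p hp => H25Par.subsingleton_HH_of_finite_support Q U.finite_toSet hcl hoff hp,
    Finset.sum_range_one, pow_zero, one_mul, (LinearEquiv.ofBijective _ hb).finrank_eq,
    Module.finrank_pi_fintype, Nat.cast_sum]
  refine (Finset.sum_coe_sort U (fun x => (Module.finrank k (H25Par.Stk k Q x) : ℤ))).trans ?_
  rw [finsum_eq_sum_of_support_subset _ (s := U) ?_]
  · refine Finset.sum_congr rfl fun x hx => ?_
    rw [sheafFun_of_eq ((hU x).mp hx).1, finrank_stk' Q x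
      (Module.length_ne_top_iff.mpr (isFiniteLength_stalk hs hQ ((hU x).mp hx).1))]
    push_cast
    ring
  · intro x hx
    by_contra hxU
    refine hx ?_
    haveI := hoff x hxU
    by_cases h0 : δ x = 0
    · simp [sheafFun_of_eq h0, Module.length_eq_zero_iff.mpr ‹Subsingleton (Q.presheaf.stalk x)›]
    · simp [sheafFun_of_ne h0]

/-- The Euler characteristic on `K₀(Coh_{≤1}/Coh_{≤ -1})`. -/
theorem exists_euler_hom :
    ∃ χ : Cyc.K0CohQuot δ (0 + 1) (0 - 1) →+ ℤ, ∀ F : X.Modules, Cyc.CohLe δ (0 + 1) F →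
      χ (Cyc.toK0CohQuot δ (0 + 1) (0 - 1) F) = Curv2.euler k X F := by
  have hX := isSetup hδ
  haveI := hX.1
  haveI : CompactSpace X := QuasiCompact.compactSpace_of_compactSpace (X ↘ Spec (CommRingCat.of k))
  haveI : IsNoetherian X := {}
  have hA : H26ChowK.IsAddG δ (0 - 1) (Curv2.euler k X) :=
    H26ChowK.isAddG_euler fun x => by have := nonneg hδ x; omega
  let L : FreeAbelianGroup (Subtype (Cyc.CohLe δ (0 + 1))) →+ ℤ := FreeAbelianGroup.lift fun F => Curv2.euler k X F.1
  have hL : KZero.relSub (Cyc.CohLe δ (0 + 1)) ≤ L.ker := by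
    refine (AddSubgroup.closure_le _).mpr ?_
    rintro _ ⟨S, h₁, h₂, h₃, hS, rfl⟩
    show L _ = 0
    simp only [map_sub, L, FreeAbelianGroup.lift_apply_of]
    rw [hA.add S hS h₁.1 h₂.1 h₃.1]
    abel
  let L' := QuotientAddGroup.lift _ L hL
  have hval : ∀ F, Cyc.CohLe δ (0 + 1) F → L' (KZero.clSub (Cyc.CohLe δ (0 + 1)) F) = Curv2.euler k X F := fun F hF => by
    rw [KZero.clSub, dif_pos hF]
    exact FreeAbelianGroup.lift_apply_of (fun F : Subtype (Cyc.CohLe δ (0 + 1)) => Curv2.euler k X F.1) ⟨F, hF⟩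
  have hL' : AddSubgroup.closure {c : KZero.K0sub (Cyc.CohLe δ (0 + 1)) |
      ∃ F : X.Modules, Cyc.CohLe δ (0 - 1) F ∧ c = KZero.clSub (Cyc.CohLe δ (0 + 1)) F} ≤ L'.ker := by
    refine (AddSubgroup.closure_le _).mpr ?_
    rintro _ ⟨F, hF, rfl⟩
    show L' _ = 0
    rw [hval F (cohLe_mono (by omega) hF)]
    exact hA.small F hF.1 fun x hx => hF.2 x (mem_support.mp hx)
  exact ⟨QuotientAddGroup.lift _ L' hL', hval⟩

theorem deg_eq (hdim : topologicalKrullDim X ≤ 1) (L : X.Modules) (hL : PicF.IsInvertible L)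
    (s : (ξ : X) → Cyc.secFibre L ξ) (hs : ∀ ξ, s ξ ≠ 0) :
    Curv2.deg k X L 1 = ∑ᶠ x : X, ((X ↘ Spec (CommRingCat.of k)).residueDegree x : ℤ) *
      Cyc.c1CapFun δ L (Cyc.subschemeFun δ 1 (𝟙 X)) s x := by
  classical
  have hX := isSetup hδ
  haveI := hX.1
  have hsd := strict_of_isSetup hX
  have hO : Cyc.CohLe δ (0 + 1) (Coh.structureModule X) :=
    ⟨H10Coh.isCoh_structureModule' _, fun x _ => le_one hδ hdim x⟩
  have hfun : Cyc.subschemeFun δ 1 (𝟙 X) = Cyc.sheafFun δ (0 + 1) (Coh.structureModule X) := by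
    funext x
    simp only [Cyc.subschemeFun, Cyc.sheafFun, zero_add]
    split
    · rw [show {z : X | (𝟙 X : X ⟶ X) z = x} = ({x} : Set X) from Set.ext fun z => Iff.rfl, finsum_mem_singleton]
      rw [← (LinearEquiv.ofBijective (LinearMap.toSpanSingleton (X.presheaf.stalk x) _ (H06EGA9.oneStalk x))
        (H06EGA9.bijective_smul_oneStalk x)).length_eq]
    · rfl
  obtain ⟨γ, hγ, hγk⟩ := C1Api.exists_c1Cap_cycle hX.2.2 hL 0 (cycle hsd hO) (cycle_mem hsd hO) s hs
  have h := KTwist.cls_twist hX hL hO s hs hγk hγ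
  obtain ⟨χ, hχ⟩ := exists_euler_hom hδ
  have hlf : LocallyFiniteSupport ⇑γ := γ.locallyFiniteSupport
  have hlf' : LocallyFiniteSupport (-⇑γ) := (-γ).locallyFiniteSupport
  have hk : ∀ x, δ x ≠ 0 → (-⇑γ) x = 0 := fun x hx => by simp [hγk x hx]
  have hp := cohLe_pos hsd hlf hγk
  have hn := cohLe_pos hsd hlf' hk
  have e := congrArg χ h
  have hT : Cyc.CohLe δ (0 + 1) (CohB1.tensorMod (Coh.structureModule X) L) := KTwist.cohLe_twist hL hO
  rw [map_sub, map_sub, hχ _ hT, hχ _ hO, hχ _ (cohLe_mono (by omega) hp),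
    show Cyc.cycleSheafNeg ⇑γ = Cyc.cycleSheafPos (-⇑γ) from rfl, hχ _ (cohLe_mono (by omega) hn),
    euler_eq_degree hδ hp, euler_eq_degree hδ hn, sheafFun_cycleSheafPos hsd hlf hγk,
    sheafFun_cycleSheafPos hsd hlf' hk, H25Euler.euler_congr (H10Coh.Tw.leftUnitIso L)] at e
  haveI : CompactSpace X := QuasiCompact.compactSpace_of_compactSpace (X ↘ Spec (CommRingCat.of k))
  have hfin : (Function.support ⇑γ).Finite :=
    (γ.locallyFiniteSupport.finite_inter_support_of_isCompact isCompact_univ).subset fun x hx => ⟨trivial, hx⟩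
  have hf : ∀ a : X → ℤ, (∀ x, γ x = 0 → a x = 0) →
      (Function.support fun x : X => ((X ↘ Spec (CommRingCat.of k)).residueDegree x : ℤ) * a x).Finite :=
    fun a ha => hfin.subset fun x hx h0 => hx (by simp [ha x h0])
  rw [← finsum_sub_distrib (hf _ fun x h0 => by simp [h0]) (hf _ fun x h0 => by simp [h0])] at e
  rw [hfun]
  simp only [Curv2.deg, Nat.cast_one, one_mul]
  rw [e]
  refine finsum_congr fun x => ?_
  have hγx : γ x = Cyc.c1CapFun δ L (Cyc.sheafFun δ (0 + 1) (Coh.structureModule X)) s x := congrFun hγ x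
  rw [← hγx, ← mul_sub]
  congr 1
  show max (γ x) 0 - max (-γ x) 0 = γ x
  omega

end Groth.Agent.H3Cyc.KDegree
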