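import Groth.Agent.H3Cyc.KQuot
import Groth.Agent.H3Cyc.CurveDeg
import Groth.Agent.H3Cyc.Transfer
import Groth.Agent.H22Alg.KPushCl
import Mathlib

/-!
# Principal divisors as differences of coherent modules
-/

set_option autoImplicit false
set_option linter.style.haveILetI false
set_option linter.unusedSectionVars false
set_option backward.isDefEq.respectTransparency.types false
universe u v

open CategoryTheory CategoryTheory.Limits AlgebraicGeometry TopologicalSpace Opposite IsLocalRing
open Groth.Agent.H16Derived.KFlat.Stalk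
open Groth.Agent.H3Cyc.KDev Groth.Agent.H3Cyc.KSky Groth.Agent.H3Cyc.KFam Groth.Agent.H3Cyc.KCls

noncomputable section

namespace Groth.Agent.H3Cyc.KDiv

section integral

variable {W : Scheme.{u}} [IsIntegral W] [IsLocallyNoetherian W] {δ : W → ℤ}

theorem ringKrullDim_le_one (hδ : Cyc.IsDimFun W δ) {w : W} (hw : δ w + 1 = δ (genericPoint W)) :
    ringKrullDim (W.presheaf.stalk w) ≤ 1 :=
  ((H22Alg.CycFlatDiv.dim_stalk_eq_one_iff hδ w).mpr (by omega)).le

theorem ordAt_eq (w : W) (g : W.functionField) :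
    Cyc.ordAt w (genericPoint W) (genericPoint_specializes w) ((W.residue (genericPoint W)).hom g) =
      CycAlg.ordFrac (W.presheaf.stalk w) W.functionField g := by
  obtain ⟨hinj, -⟩ := PushDiv.isFractionRing_specMap w (genericPoint W) (genericPoint_specializes w) rfl
  rw [PushDiv.ordAt_eq_ordFrac _ _ _ hinj]
  have hb : Function.Bijective (W.residue (genericPoint W)).hom := by
    letI : Field (W.presheaf.stalk (genericPoint W)) := inferInstanceAs (Field W.functionField)
    exact ⟨RingHom.injective _, IsLocalRing.residue_surjective⟩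
  exact @H22Alg.CycDiv.ordFrac_congr _ _ _ _ _ _ _ _ _ (Cyc.specMap w (genericPoint W) (genericPoint_specializes w)).toAlgebra
    (RingEquiv.refl (W.presheaf.stalk w)) (RingEquiv.ofBijective (W.residue (genericPoint W)).hom hb) (fun _ => rfl) g

/-- A divisor on an integral scheme, through the ideal of denominators. -/
theorem exists_pair (hδ : Cyc.IsDimFun W δ) {k : ℤ} (hη : δ (genericPoint W) = k + 1)
    {g : W.residueField (genericPoint W)} (hg : g ≠ 0) :
    ∃ (J O : W.Modules) (a b : J ⟶ O), Mono a ∧ Mono b ∧ Coh.IsCoh J ∧ Coh.IsCoh O ∧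
      Cyc.CohLe δ k (cokernel a) ∧ Cyc.CohLe δ k (cokernel b) ∧
      ∀ w, Cyc.sheafFun δ k (cokernel b) w - Cyc.sheafFun δ k (cokernel a) w =
        Cyc.divFun δ (genericPoint W) g w := by
  classical
  obtain ⟨f, rfl⟩ := IsLocalRing.residue_surjective (R := W.presheaf.stalk (genericPoint W)) g
  have hf : (f : W.functionField) ≠ 0 := fun e =>
    hg ((congrArg (IsLocalRing.residue _) (show f = 0 from e)).trans (map_zero _))
  obtain ⟨β, hβ⟩ := Colon.exists_mulHom (X := W) f
  haveI := Colon.mono_mulHom hf hβ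
  let α := ClSub.idealModι (Colon.colonSheaf (X := W) f)
  haveI : Mono α := inferInstanceAs (Mono (kernel.ι _))
  have hJ : Coh.IsCoh (ClSub.idealMod (Colon.colonSheaf (X := W) f)) :=
    H10Coh.isCoh_kernel _ (H10Coh.isCoh_structureModule' _)
      (H24FSch.isCoh_pushforward_of_isClosedImmersion (Colon.colonSheaf (X := W) f).subschemeι
        (H10Coh.isCoh_structureModule' _)).1
  have hcoh : ∀ μ : ClSub.idealMod (Colon.colonSheaf (X := W) f) ⟶ Coh.structureModule W,
      Coh.IsCoh (cokernel μ) := fun μ => H10Coh.isCoh_cokernel μ hJ.1 (H10Coh.isCoh_structureModule' _)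
  have hgen : ∀ (μ : ClSub.idealMod (Colon.colonSheaf (X := W) f) ⟶ Coh.structureModule W) [Mono μ]
      {z : W.presheaf.stalk (genericPoint W)}, z ≠ 0 → z ∈ Colon.vals μ (genericPoint W) →
      genericPoint W ∉ CohB1.support (cokernel μ) := by
    intro μ _ z hz hzm
    have htop : Colon.vals μ (genericPoint W) = ⊤ := Ideal.eq_top_of_isUnit_mem _ hzm
      (IsUnit.mk0 (G₀ := W.functionField) z hz)
    obtain ⟨e⟩ := Colon.exists_equiv_vals μ (genericPoint W)
    haveI : Subsingleton (W.presheaf.stalk (genericPoint W) ⧸ Colon.vals μ (genericPoint W)) :=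
      Submodule.Quotient.subsingleton_iff.mpr htop
    exact not_not.2 e.symm.toEquiv.subsingleton
  obtain ⟨U, hU, hηU, -⟩ := exists_isAffineOpen_mem_and_subset (show genericPoint W ∈ (⊤ : W.Opens) from trivial)
  obtain ⟨a, b, hb, hab, hbc⟩ := Colon.exists_frac_mem f hU hηU
  have hbI := Colon.germ_mem_vals hU hηU hbc
  have hgα : genericPoint W ∉ CohB1.support (cokernel α) := hgen α hb hbI
  have hgβ : genericPoint W ∉ CohB1.support (cokernel β) := hgen β (z := W.presheaf.germ U _ hηU a)
    (show Colon.gη hηU a ≠ 0 by rw [hab]; exact mul_ne_zero hb hf)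
    ((Colon.mem_vals_mulHom_iff hβ _ _).mpr ⟨_, hbI, by rw [Colon.algebraMap_germ, Colon.algebraMap_germ]; exact hab⟩)
  have hle : ∀ M : W.Modules, Coh.IsCoh M → genericPoint W ∉ CohB1.support M → Cyc.CohLe δ k M := fun M hM hn =>
    cohLe_iff.mpr ⟨hM, fun y hy => by
      have := (hδ (genericPoint W) y (genericPoint_specializes y) (by rintro rfl; exact hn hy)).1
      omega⟩
  refine ⟨_, _, α, β, ‹_›, ‹_›, hJ, H10Coh.isCoh_structureModule' _, hle _ (hcoh α) hgα, hle _ (hcoh β) hgβ,
    fun w => ?_⟩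
  by_cases hw : δ w = k
  swap
  · simp only [sheafFun_of_ne hw, sub_zero, Cyc.divFun]
    rw [dif_neg]
    rintro ⟨-, h⟩
    omega
  simp only [Cyc.divFun, sheafFun_of_eq hw]
  rw [dif_pos ⟨genericPoint_specializes w, by omega⟩]
  refine Eq.trans ?_ (ordAt_eq w f).symm
  haveI : Ring.KrullDimLE 1 (W.presheaf.stalk w) :=
    Ring.krullDimLE_iff.mpr (ringKrullDim_le_one hδ (w := w) (by omega))
  obtain ⟨eα⟩ := Colon.exists_equiv_vals α w
  obtain ⟨eβ⟩ := Colon.exists_equiv_vals β w
  rw [← eα.length_eq, ← eβ.length_eq]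
  obtain ⟨U, hU, hwU, -⟩ := exists_isAffineOpen_mem_and_subset (show w ∈ (⊤ : W.Opens) from trivial)
  obtain ⟨a, b, hb, hab, hbc⟩ := Colon.exists_frac_mem f hU (Colon.mem_generic hwU)
  refine (CurveDeg.length_sub_eq (a := W.presheaf.germ U w hwU a) (b := W.presheaf.germ U w hwU b) ?_ ?_ ?_ _ _
    (fun z => Colon.mem_vals_mulHom_iff hβ w z) (Colon.germ_mem_vals hU hwU hbc)
    fun v hv => Colon.exists_of_mem_vals hv).2.2
  · intro e
    have := congrArg (algebraMap _ W.functionField) e
    rw [Colon.algebraMap_germ, map_zero, hab] at this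
    exact mul_ne_zero hb hf this
  · intro e
    have := congrArg (algebraMap _ W.functionField) e
    rw [Colon.algebraMap_germ, map_zero] at this
    exact hb this
  · rw [Colon.algebraMap_germ, Colon.algebraMap_germ]
    exact hab

end integral

section push

variable {X W : Scheme.{u}} (i : W ⟶ X) [IsClosedImmersion i]

theorem notMem_support_push (M : W.Modules) {x : X} (hx : x ∉ Set.range i) :
    x ∉ CohB1.support ((Coh.push i).obj M) :=
  not_not.mpr (H16Derived.ProjFormula.subsingleton_stalk_push i M x hx)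

theorem length_push (M : W.Modules) (w : W) :
    Module.length (X.presheaf.stalk (i w)) (((Coh.push i).obj M).presheaf.stalk (i w)) =
      Module.length (W.presheaf.stalk w) (M.presheaf.stalk w) := by
  letI := (i.stalkMap w).hom.toAlgebra
  letI := Module.compHom (M.presheaf.stalk w) (algebraMap (X.presheaf.stalk (i w)) (W.presheaf.stalk w))
  haveI : IsScalarTower (X.presheaf.stalk (i w)) (W.presheaf.stalk w) (M.presheaf.stalk w) :=
    IsScalarTower.of_algebraMap_smul fun _ _ => rfl
  let e : ((Coh.push i).obj M).presheaf.stalk (i w) ≃ₗ[X.presheaf.stalk (i w)] M.presheaf.stalk w :=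
    LinearEquiv.ofBijective
      ({ toFun := H16Derived.ProjFormula.pushStalk i M w
         map_add' := map_add _
         map_smul' := H16Derived.ProjFormula.pushStalk_smul i M w } :
        ((Coh.push i).obj M).presheaf.stalk (i w) →ₗ[X.presheaf.stalk (i w)] M.presheaf.stalk w)
      (H16Derived.ProjFormula.pushStalk_bijective i M w)
  rw [e.length_eq]
  exact Module.length_eq_of_surjective (R := W.presheaf.stalk w) (S := X.presheaf.stalk (i w))
    (show Function.Surjective (i.stalkMap w).hom from i.stalkMap_surjective w)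

theorem cohLe_push [IsLocallyNoetherian X] [IsLocallyNoetherian W] {δ : X → ℤ} {k : ℤ} {M : W.Modules}
    (hM : Cyc.CohLe (fun w => δ (i w)) k M) : Cyc.CohLe δ k ((Coh.push i).obj M) := by
  refine cohLe_iff.mpr ⟨H24FSch.isCoh_pushforward_of_isClosedImmersion i hM.1, fun x hx => ?_⟩
  by_cases hr : x ∈ Set.range i
  · obtain ⟨w, rfl⟩ := hr
    refine hM.2 w ?_
    rw [← Module.length_pos_iff (R := W.presheaf.stalk w), ← length_push i M w, Module.length_pos_iff]
    exact mem_support.mp hx
  · exact absurd hx (notMem_support_push i M hr)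

theorem sheafFun_push {δ : X → ℤ} {k : ℤ} (M : W.Modules) (w : W) :
    Cyc.sheafFun δ k ((Coh.push i).obj M) (i w) = Cyc.sheafFun (fun w => δ (i w)) k M w := by
  simp only [Cyc.sheafFun]
  rw [length_push i M w]

theorem sheafFun_push_of_notMem {δ : X → ℤ} {k : ℤ} (M : W.Modules) {x : X} (hx : x ∉ Set.range i) :
    Cyc.sheafFun δ k ((Coh.push i).obj M) x = 0 := by
  haveI : Subsingleton (((Coh.push i).obj M).presheaf.stalk x) := not_not.mp (notMem_support_push i M hx)
  simp [Cyc.sheafFun, Module.length_eq_zero_iff.mpr ‹_›]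

end push

/-- A principal divisor as a difference of modules on the closure. -/
theorem exists_pair_push {X : Scheme.{u}} {δ : X → ℤ} (hX : Cyc.IsSetup X δ) {k : ℤ} {ξ : X} (hξ : δ ξ = k + 1)
    {f : X.residueField ξ} (hf : f ≠ 0) :
    ∃ S T : ShortComplex X.Modules, S.ShortExact ∧ T.ShortExact ∧ Nonempty (S.X₁ ≅ T.X₁) ∧ Nonempty (S.X₂ ≅ T.X₂) ∧
      (∀ x ∈ CohB1.support S.X₂, ξ ⤳ x) ∧ (∀ x ∈ CohB1.support T.X₂, ξ ⤳ x) ∧
      Cyc.CohLe δ (k + 1) S.X₂ ∧ Cyc.CohLe δ (k + 1) T.X₂ ∧ Cyc.CohLe δ (k + 1) S.X₁ ∧ Cyc.CohLe δ (k + 1) T.X₁ ∧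
      Cyc.CohLe δ k S.X₃ ∧ Cyc.CohLe δ k T.X₃ ∧
      ∀ x, Cyc.sheafFun δ k T.X₃ x - Cyc.sheafFun δ k S.X₃ x = Cyc.divFun δ ξ f x := by
  haveI := hX.1
  obtain ⟨W, _, i, _, rfl⟩ := Transfer.exists_integral_closed ξ
  have hW := Reduction.isSetup_closedImmersion i hX
  haveI : IsLocallyNoetherian W := hW.1
  have hg : i.residueFieldMap (genericPoint W) f ≠ 0 := fun e =>
    hf ((i.residueFieldMap (genericPoint W)).hom.injective (e.trans (map_zero _).symm))
  obtain ⟨J, O', a, b, _, _, hJ, hO, hA, hB, hval⟩ := exists_pair hW.2.2 (k := k) hξ hg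
  let S := (ShortComplex.mk a (cokernel.π a) (cokernel.condition a)).map (Scheme.Modules.pushforward i)
  let T := (ShortComplex.mk b (cokernel.π b) (cokernel.condition b)).map (Scheme.Modules.pushforward i)
  have hS : S.ShortExact := H22Alg.KPushCl.shortExact_push i { exact := ShortComplex.exact_cokernel a }
  have hT : T.ShortExact := H22Alg.KPushCl.shortExact_push i { exact := ShortComplex.exact_cokernel b }
  have hle : ∀ M : W.Modules, Coh.IsCoh M → Cyc.CohLe (fun w => δ (i w)) (k + 1) M := fun M hM =>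
    ⟨hM, fun w _ => ((strict_of_isSetup hX).le_of_specializes
      ((genericPoint_specializes w).map i.continuous)).trans hξ.le⟩
  have hsupp : ∀ M : W.Modules, ∀ x ∈ CohB1.support ((Coh.push i).obj M), i (genericPoint W) ⤳ x := fun M x hx => by
    by_cases hr : x ∈ Set.range i
    · exact specializes_iff_mem_closure.mpr (Transfer.range_subset_closure i hr)
    · exact absurd hx (notMem_support_push i M hr)
  refine ⟨S, T, hS, hT, ⟨Iso.refl _⟩, ⟨Iso.refl _⟩, hsupp O', hsupp O', cohLe_push i (hle _ hO),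
    cohLe_push i (hle _ hO), cohLe_push i (hle _ hJ), cohLe_push i (hle _ hJ), cohLe_push i hA, cohLe_push i hB,
    fun x => ?_⟩
  show Cyc.sheafFun δ k ((Coh.push i).obj (cokernel b)) x - Cyc.sheafFun δ k ((Coh.push i).obj (cokernel a)) x = _
  by_cases hr : x ∈ Set.range i
  · obtain ⟨w, rfl⟩ := hr
    rw [sheafFun_push, sheafFun_push, hval, Reduction.divFun_immersion]
  · rw [sheafFun_push_of_notMem i _ hr, sheafFun_push_of_notMem i _ hr,
      Reduction.divFun_eq_zero_of_notMem i δ _ f hr, sub_zero]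

end Groth.Agent.H3Cyc.KDiv
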