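import Groth.Agent.H3Cyc.KSky
import Groth.Agent.H3CAlg.PrimeMod
import Groth.Agent.H24FSch.ModSysPush
import Groth.Agent.H22Alg.CohSupport
import Groth.Agent.H17.FPExt.Colimit
import Mathlib

/-!
# Families of modules supported on closures of points of dimension `k`
-/

set_option autoImplicit false
set_option linter.style.haveILetI false
set_option linter.unusedSectionVars false
universe u v

open CategoryTheory CategoryTheory.Limits AlgebraicGeometry TopologicalSpace Opposite
open Groth.Agent.H16Derived.KFlat.Stalk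
open Groth.Agent.H3Cyc.KDev Groth.Agent.H3Cyc.KSky

noncomputable section

namespace Groth.Agent.H3Cyc.KFam

variable {X : Scheme.{u}} [IsLocallyNoetherian X] {δ : X → ℤ} {k : ℤ}

/-- Dimension drops strictly along specializations. -/
def Strict (δ : X → ℤ) : Prop := ∀ x y : X, x ⤳ y → x ≠ y → δ y < δ x

theorem strict_of_isSetup (hX : Cyc.IsSetup X δ) : Strict δ := fun x y h hne => (hX.2.2 x y h hne).1

theorem Strict.eq_of_specializes (hδ : Strict δ) {ξ y : X} (hξ : δ ξ = k) (h : ξ ⤳ y) (hy : k ≤ δ y) :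
    y = ξ := by
  by_contra hne
  have := hδ ξ y h (Ne.symm hne)
  omega

theorem Strict.le_of_specializes (hδ : Strict δ) {ξ y : X} (h : ξ ⤳ y) : δ y ≤ δ ξ := by
  rcases eq_or_ne ξ y with rfl | hne
  · exact le_rfl
  · exact (hδ ξ y h hne).le

/-- The points of dimension `k` in the support. -/
def top (δ : X → ℤ) (k : ℤ) (F : X.Modules) : Set X := {ξ | δ ξ = k ∧ ξ ∈ CohB1.support F}

/-- They are locally finite. -/
theorem exists_top_finite (hδ : Strict δ) {F : X.Modules} (hF : Cyc.CohLe δ k F) (x : X) :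
    ∃ U : X.Opens, x ∈ U ∧ (top δ k F ∩ (U : Set X)).Finite := by
  obtain ⟨U, hU, hxU, -⟩ := exists_isAffineOpen_mem_and_subset (X := X) (x := x) (U := ⊤) trivial
  refine ⟨U, hxU, ?_⟩
  haveI : IsNoetherianRing Γ(X, U) := IsLocallyNoetherian.component_noetherian ⟨U, hU⟩
  haveI : F.IsQuasicoherent := hF.1.1
  haveI : Module.Finite Γ(X, U) Γ(F, U) := H10Coh.finite_sections F hF.1.2 hU
  let f : ↥(top δ k F ∩ (U : Set X)) → (Module.annihilator Γ(X, U) Γ(F, U)).minimalPrimes := fun ξ =>
    ⟨(hU.primeIdealOf ⟨ξ.1, ξ.2.2⟩).asIdeal, ⟨⟨inferInstance, by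
      have h := (H22Alg.CohSupport.nontrivial_stalk_iff F hF.1.1 hU ⟨ξ.1, ξ.2.2⟩).mp (mem_support.mp ξ.2.1.2)
      rw [Module.support_eq_zeroLocus] at h
      exact h⟩, fun q hq hle => by
        let qq : PrimeSpectrum Γ(X, U) := ⟨q, hq.1⟩
        have hyU : hU.fromSpec qq ∈ U := by
          rw [← SetLike.mem_coe, ← hU.range_fromSpec]
          exact ⟨qq, rfl⟩
        have hpy : hU.primeIdealOf ⟨hU.fromSpec qq, hyU⟩ = qq :=
          hU.fromSpec.isOpenEmbedding.injective (hU.fromSpec_primeIdealOf _)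
        have hy : Nontrivial (F.presheaf.stalk (hU.fromSpec qq)) :=
          (H22Alg.CohSupport.nontrivial_stalk_iff F hF.1.1 hU ⟨hU.fromSpec qq, hyU⟩).mpr (by
            rw [hpy, Module.support_eq_zeroLocus]
            exact hq.2)
        have hsp : hU.fromSpec qq ⤳ ξ.1 := by
          have := ((PrimeSpectrum.le_iff_specializes qq (hU.primeIdealOf ⟨ξ.1, ξ.2.2⟩)).mp hle).map
            hU.fromSpec.continuous
          rwa [hU.fromSpec_primeIdealOf] at this
        have he : hU.fromSpec qq = ξ.1 := by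
          by_contra hne
          have := hδ _ _ hsp hne
          have := hF.2 _ hy
          have := ξ.2.1.1
          omega
        have he' : qq = hU.primeIdealOf ⟨ξ.1, ξ.2.2⟩ := by
          rw [← hpy]
          exact congrArg hU.primeIdealOf (Subtype.ext he)
        exact le_of_eq (congrArg PrimeSpectrum.asIdeal he').symm⟩⟩
  haveI := (Ideal.finite_minimalPrimes_of_isNoetherianRing Γ(X, U)
    (Module.annihilator Γ(X, U) Γ(F, U))).to_subtype
  refine Set.finite_coe_iff.mp (Finite.of_injective f fun a b h => Subtype.ext ?_)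
  have := congrArg hU.fromSpec (PrimeSpectrum.ext (congrArg Subtype.val h) :
    hU.primeIdealOf ⟨a.1, a.2.2⟩ = hU.primeIdealOf ⟨b.1, b.2.2⟩)
  rwa [hU.fromSpec_primeIdealOf, hU.fromSpec_primeIdealOf] at this

/-- Stalks at points of dimension `k` have finite length. -/
theorem isFiniteLength_stalk (hδ : Strict δ) {F : X.Modules} (hF : Cyc.CohLe δ k F) {x : X} (hx : δ x = k) :
    IsFiniteLength (X.presheaf.stalk x) (F.presheaf.stalk x) := by
  rw [← Module.length_ne_top_iff]
  refine (H22Alg.CohSupport.length_stalk_lt_top F hF.1 x fun y hy h => ?_).ne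
  by_contra hne
  have := hδ y x h hne
  have := hF.2 y hy
  omega

/-- `M` lives on the closure of `ξ`. -/
structure OnPt (M : X.Modules) (ξ : X) : Prop where
  coh : Coh.IsCoh M
  spec : ∀ y ∈ CohB1.support M, ξ ⤳ y

theorem OnPt.cohLe (hδ : Strict δ) {M : X.Modules} {ξ : X} (h : OnPt M ξ) (hξ : δ ξ = k) : Cyc.CohLe δ k M :=
  cohLe_iff.mpr ⟨h.coh, fun y hy => (hδ.le_of_specializes (h.spec y hy)).trans hξ.le⟩

theorem OnPt.notMem (hδ : Strict δ) {M : X.Modules} {ξ y : X} (h : OnPt M ξ) (hξ : δ ξ = k) (hy : k ≤ δ y)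
    (hne : y ≠ ξ) : y ∉ CohB1.support M := fun hm => hne (hδ.eq_of_specializes hξ (h.spec y hm) hy)

theorem isIso_of_notMem {M N : X.Modules} (φ : M ⟶ N) {y : X} (hM : y ∉ CohB1.support M)
    (hN : y ∉ CohB1.support N) : IsIso ((st y).map φ) :=
  ⟨0, (notMem_support.mp hM).eq_of_src _ _, (notMem_support.mp hN).eq_of_src _ _⟩

/-- Locally finitely many closures give locally finite families. -/
theorem locFin_of_onPt {I : Type u} {M : I → X.Modules} (p : I → X) (hM : ∀ i, OnPt (M i) (p i))
    (hp : ∀ x : X, ∃ U : X.Opens, x ∈ U ∧ {i | p i ∈ U}.Finite) : LocFin M := fun x => by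
  obtain ⟨U, hx, hU⟩ := hp x
  exact ⟨U, hx, hU.subset fun i ⟨y, hy, hyU⟩ => ((hM i).spec y hy).mem_open U.2 hyU⟩

/-- A coproduct of morphisms is an isomorphism on a stalk if the components are. -/
theorem isIso_st_sigmaMap {I : Type u} {M N : I → X.Modules} (φ : ∀ i, M i ⟶ N i) (x : X)
    (h : ∀ i, IsIso ((st x).map (φ i))) : IsIso ((st x).map (Limits.Sigma.map φ)) := by
  haveI := h
  let hc := isColimitOfPreserves (st x) (coproductIsCoproduct N)
  let g : (st x).obj (∐ N) ⟶ (st x).obj (∐ M) := hc.desc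
    { pt := (st x).obj (∐ M)
      ι := Discrete.natTrans fun i => inv ((st x).map (φ i.as)) ≫ (st x).map (Sigma.ι M i.as) }
  have hg : ∀ i, (st x).map (Sigma.ι N i) ≫ g = inv ((st x).map (φ i)) ≫ (st x).map (Sigma.ι M i) :=
    fun i => hc.fac _ ⟨i⟩
  refine ⟨g, stalk_sigma_ext M x fun i => ?_, stalk_sigma_ext N x fun i => ?_⟩
  · rw [← Category.assoc, ← Functor.map_comp, Sigma.ι_map, Functor.map_comp, Category.assoc, hg,
      IsIso.hom_inv_id_assoc, Category.comp_id]
  · rw [← Category.assoc, hg, Category.assoc, ← Functor.map_comp, Sigma.ι_map, Functor.map_comp,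
      IsIso.inv_hom_id_assoc, Category.comp_id]

/-- The closure of a point. -/
abbrev O (ξ : X) : X.Modules := Cyc.closureStructureSheaf ξ

theorem onPt_closureStructureSheaf (ξ : X) : OnPt (O ξ) ξ :=
  ⟨H24FSch.isCoh_pushforward_of_isClosedImmersion _ (H10Coh.isCoh_structureModule' _),
    fun y hy => H3CAlg.PrimeMod.specializes_of_nontrivial ξ y (mem_support.mp hy)⟩

theorem length_closureStructureSheaf (ξ : X) :
    Module.length (X.presheaf.stalk ξ) ((O ξ).presheaf.stalk ξ) = 1 :=
  H3CAlg.PrimeMod.length_self ξ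

/-! ### Projections from a coproduct -/

open scoped Classical in
/-- The projection to a factor. -/
def pr {I : Type u} (M : I → X.Modules) (i : I) : (∐ M) ⟶ M i :=
  Sigma.desc fun j => if h : j = i then eqToHom (congrArg M h) else 0

theorem ι_pr_self {I : Type u} (M : I → X.Modules) (i : I) : Sigma.ι M i ≫ pr M i = 𝟙 (M i) := by
  rw [pr, Sigma.ι_desc, dif_pos rfl, eqToHom_refl]

theorem ι_pr_ne {I : Type u} (M : I → X.Modules) {i j : I} (h : j ≠ i) : Sigma.ι M j ≫ pr M i = 0 := by
  rw [pr, Sigma.ι_desc, dif_neg h]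

theorem sl_ι_pr {I : Type u} (M : I → X.Modules) (i j : I) (x : X) (a : (M j).presheaf.stalk x) (h : j ≠ i) :
    sl (pr M i) x (sl (Sigma.ι M j) x a) = 0 := by
  rw [← LinearMap.comp_apply, ← sl_comp, ι_pr_ne M h, show sl (0 : M j ⟶ M i) x = 0 from
    congrArg ModuleCat.Hom.hom ((st x).map_zero _ _)]
  rfl

/-- An element of a stalk of a coproduct is the sum of its components. -/
theorem sum_pr {I : Type u} (M : I → X.Modules) {x : X} (J : Finset I)
    (hJ : ∀ i, x ∈ CohB1.support (M i) → i ∈ J) (a : (∐ M).presheaf.stalk x) :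
    ∑ i ∈ J, sl (Sigma.ι M i) x (sl (pr M i) x a) = a := by
  classical
  have h : ModuleCat.ofHom (∑ i ∈ J, (sl (Sigma.ι M i) x).comp (sl (pr M i) x)) = 𝟙 ((st x).obj (∐ M)) := by
    refine stalk_sigma_ext M x fun j => ?_
    ext b
    show (∑ i ∈ J, (sl (Sigma.ι M i) x).comp (sl (pr M i) x)) (sl (Sigma.ι M j) x b) = sl (Sigma.ι M j) x b
    rw [LinearMap.sum_apply]
    by_cases hj : x ∈ CohB1.support (M j)
    · rw [Finset.sum_eq_single_of_mem j (hJ j hj) fun i _ hi => by
        rw [LinearMap.comp_apply, sl_ι_pr M i j x b (Ne.symm hi), map_zero]]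
      rw [LinearMap.comp_apply]
      congr 1
      show ((sl (pr M j) x).comp (sl (Sigma.ι M j) x)) b = b
      rw [← sl_comp, ι_pr_self, show sl (𝟙 (M j)) x = LinearMap.id from
        congrArg ModuleCat.Hom.hom ((st x).map_id _)]
      rfl
    · have hb : b = 0 := (ModuleCat.isZero_iff_subsingleton.mp (notMem_support.mp hj)).elim _ _
      subst hb
      have hz : sl (Sigma.ι M j) x (0 : (M j).presheaf.stalk x) = 0 := map_zero _
      refine Eq.trans (Finset.sum_eq_zero fun i _ => ?_) hz.symm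
      exact (congrArg ((sl (Sigma.ι M i) x).comp (sl (pr M i) x)) hz).trans (map_zero _)
  have h2 := congrArg (fun m => ModuleCat.Hom.hom m a) h
  exact (LinearMap.sum_apply J (fun i => (sl (Sigma.ι M i) x).comp (sl (pr M i) x)) a).symm.trans h2

/-- Locally finite coproducts are products. -/
theorem isIso_toProd {I : Type u} (M : I → X.Modules) (hlf : LocFin M) :
    IsIso (Pi.lift (pr M)) := by
  classical
  let c := Pi.lift (pr M)
  suffices h : ∀ x, IsIso ((st x).map c) by
    haveI : Mono c := Preadditive.mono_of_isZero_kernel _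
      (H17.FPExt.isZero_of_stalk _ fun y => not_not.mp (H26ChowK.notMem_support_kernel c (h y)))
    haveI : Epi c := Preadditive.epi_of_isZero_cokernel _
      (H17.FPExt.isZero_of_stalk _ fun y => not_not.mp (H26ChowK.notMem_support_cokernel c (h y)))
    exact isIso_of_mono_of_epi c
  intro x
  rw [ConcreteCategory.isIso_iff_bijective]
  obtain ⟨U, hxU, hU⟩ := hlf x
  have hJ : ∀ i, x ∈ CohB1.support (M i) → i ∈ hU.toFinset := fun i hi => hU.mem_toFinset.mpr ⟨x, hi, hxU⟩
  refine ⟨fun a b hab => ?_, fun z => ?_⟩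
  · change sl c x a = sl c x b at hab
    rw [← sum_pr M hU.toFinset hJ a, ← sum_pr M hU.toFinset hJ b]
    refine Finset.sum_congr rfl fun i _ => ?_
    have hi : pr M i = c ≫ Pi.π M i := (Pi.lift_π _ i).symm
    rw [hi, sl_comp]
    exact congrArg (fun v => sl (Sigma.ι M i) x (sl (Pi.π M i) x v)) hab
  · obtain ⟨V, hxV, s, rfl⟩ := (∏ᶜ M).presheaf.exists_germ_eq (x := x) z
    let W : X.Opens := V ⊓ U
    let s' : Γ(∏ᶜ M, W) := (∏ᶜ M).presheaf.map (homOfLE (inf_le_left : W ≤ V)).op s
    let t : Γ(∐ M, W) := ∑ i ∈ hU.toFinset, (Sigma.ι M i).app W ((Pi.π M i).app W s')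
    refine ⟨(∐ M).presheaf.germ W x ⟨hxV, hxU⟩ t, ?_⟩
    erw [DerSch.stalkFunctor_map_germ]
    have hts : c.app W t = s' := by
      refine sub_eq_zero.mp (H17.Primary.eq_zero_of_jointly_mono (fun i => Pi.π M i)
        (fun T a b h => Pi.hom_ext _ _ h) W _ fun j => ?_)
      rw [map_sub, sub_eq_zero, ← ConcreteCategory.comp_apply, ← Scheme.Modules.Hom.comp_app, Pi.lift_π, map_sum]
      by_cases hj : j ∈ hU.toFinset
      · rw [Finset.sum_eq_single_of_mem j hj fun i _ hi => by
          rw [← ConcreteCategory.comp_apply, ← Scheme.Modules.Hom.comp_app, ι_pr_ne M hi,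
            Scheme.Modules.Hom.zero_app]; rfl]
        rw [← ConcreteCategory.comp_apply, ← Scheme.Modules.Hom.comp_app, ι_pr_self]
        rfl
      · haveI : Subsingleton Γ(M j, W) := by
          refine ⟨fun a b => TopCat.Presheaf.section_ext
            (⟨(M j).presheaf, (M j).isSheaf⟩ : TopCat.Sheaf Ab.{u} X.toTopCat) W _ _ fun y hy => ?_⟩
          haveI : Subsingleton ((M j).presheaf.stalk y) :=
            not_not.mp fun h => hj (hU.mem_toFinset.mpr ⟨y, h, hy.2⟩)
          exact Subsingleton.elim _ _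
        exact Subsingleton.elim _ _
    rw [hts]
    exact (∏ᶜ M).presheaf.germ_res_apply _ x _ s

end Groth.Agent.H3Cyc.KFam
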