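import Mathlib

/-!
# Subquotients of two filtrations in an abelian category
-/

set_option autoImplicit false
universe v u

open CategoryTheory CategoryTheory.Limits

noncomputable section

namespace Groth.Agent.H3Cyc.KFilt

variable {C : Type u} [Category.{v} C] [Abelian C]

/-- A square with the lifting property of a pullback gives a monomorphism on cokernels. -/
theorem mono_cokernel_map {B' B F' F : C} (t : B' ⟶ B) (s : F' ⟶ F) (b' : B' ⟶ F') (b : B ⟶ F) (w : t ≫ b = b' ≫ s)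
    (hlift : ∀ {T : C} (x : T ⟶ B) (y : T ⟶ F'), x ≫ b = y ≫ s → ∃ z : T ⟶ B', z ≫ t = x) :
    Mono (cokernel.map t s b' b w) := by
  refine Preadditive.mono_of_cancel_zero _ fun {T} g hg => ?_
  obtain ⟨T', p, hp, x, hx⟩ := surjective_up_to_refinements_of_epi (cokernel.π t) g
  have h0 : (x ≫ b) ≫ cokernel.π s = 0 := by
    have h1 : (x ≫ cokernel.π t) ≫ cokernel.map t s b' b w = 0 := by rw [← hx, Category.assoc, hg, comp_zero]
    simpa [cokernel.map] using h1
  obtain ⟨T'', p', hp', y, hy⟩ := (ShortComplex.exact_cokernel s).exact_up_to_refinements (x ≫ b) h0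
  have hy' : (p' ≫ x) ≫ b = y ≫ s := by rw [Category.assoc]; exact hy
  obtain ⟨z, hz⟩ := hlift (p' ≫ x) y hy'
  haveI := hp
  haveI := hp'
  rw [← cancel_epi p, comp_zero, hx, ← cancel_epi p', comp_zero, ← Category.assoc, ← hz, Category.assoc,
    cokernel.condition, comp_zero]

section cross

variable {B₁ B₂ B C₁ C₂ D : C} (t : B₁ ⟶ B) (u : B₂ ⟶ B) (t' : C₁ ⟶ D) (u' : C₂ ⟶ D)
  (e : B ⟶ D) (e₁ : B₁ ⟶ C₂) (e₂ : B₂ ⟶ C₁) (ht : t ≫ e = e₁ ≫ u') (hu : u ≫ e = e₂ ≫ t')

/-- Comparison of double cokernels with the roles exchanged. -/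
def crossHom : cokernel (u ≫ cokernel.π t) ⟶ cokernel (u' ≫ cokernel.π t') :=
  cokernel.desc _ (cokernel.desc t (e ≫ cokernel.π t' ≫ cokernel.π (u' ≫ cokernel.π t')) (by
      rw [← Category.assoc, ht, Category.assoc, ← Category.assoc u', cokernel.condition, comp_zero]))
    (by rw [Category.assoc, cokernel.π_desc, ← Category.assoc, hu, Category.assoc, ← Category.assoc t',
      cokernel.condition, zero_comp, comp_zero])

theorem π_crossHom : cokernel.π t ≫ cokernel.π (u ≫ cokernel.π t) ≫ crossHom t u t' u' e e₁ e₂ ht hu =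
    e ≫ cokernel.π t' ≫ cokernel.π (u' ≫ cokernel.π t') := by
  rw [crossHom, cokernel.π_desc, cokernel.π_desc]

end cross

/-- The double cokernel is symmetric. -/
def crossIso {B₁ B₂ B C₁ C₂ D : C} (t : B₁ ⟶ B) (u : B₂ ⟶ B) (t' : C₁ ⟶ D) (u' : C₂ ⟶ D) (e : B ≅ D)
    (e₁ : B₁ ≅ C₂) (e₂ : B₂ ≅ C₁) (ht : t ≫ e.hom = e₁.hom ≫ u') (hu : u ≫ e.hom = e₂.hom ≫ t') :
    cokernel (u ≫ cokernel.π t) ≅ cokernel (u' ≫ cokernel.π t') where
  hom := crossHom t u t' u' e.hom e₁.hom e₂.hom ht hu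
  inv := crossHom t' u' t u e.inv e₂.inv e₁.inv
    (by rw [Iso.comp_inv_eq, Category.assoc, hu, Iso.inv_hom_id_assoc])
    (by rw [Iso.comp_inv_eq, Category.assoc, ht, Iso.inv_hom_id_assoc])
  hom_inv_id := by
    rw [← cancel_epi (cokernel.π (u ≫ cokernel.π t)), ← cancel_epi (cokernel.π t), Category.comp_id,
      ← Category.assoc (cokernel.π (u ≫ cokernel.π t)), ← Category.assoc (cokernel.π t), π_crossHom]
    simp only [Category.assoc]
    rw [π_crossHom, Iso.hom_inv_id_assoc]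
  inv_hom_id := by
    rw [← cancel_epi (cokernel.π (u' ≫ cokernel.π t')), ← cancel_epi (cokernel.π t'), Category.comp_id,
      ← Category.assoc (cokernel.π (u' ≫ cokernel.π t')), ← Category.assoc (cokernel.π t'), π_crossHom]
    simp only [Category.assoc]
    rw [π_crossHom, Iso.inv_hom_id_assoc]

/-- A decreasing filtration of an object. -/
structure Filt (G : C) where
  obj : ℕ → C
  ι : ∀ j, obj j ⟶ G
  mono : ∀ j, Mono (ι j)
  step : ∀ j, obj (j + 1) ⟶ obj j
  step_ι : ∀ j, step j ≫ ι j = ι (j + 1)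
  top : IsIso (ι 0)

namespace Filt

variable {G : C} (Φ Ψ : Filt G)

attribute [instance] Filt.mono

/-- The graded pieces. -/
abbrev gr (j : ℕ) : C := cokernel (Φ.step j)

instance (j : ℕ) : Mono (Φ.step j) := by
  haveI : Mono (Φ.step j ≫ Φ.ι j) := by rw [Φ.step_ι]; infer_instance
  exact mono_of_mono (Φ.step j) (Φ.ι j)

/-- The intersections of two filtrations. -/
abbrev inter (j l : ℕ) : C := pullback (Φ.ι j) (Ψ.ι l)

/-- The inclusion in the first index. -/
def t (j l : ℕ) : inter Φ Ψ (j + 1) l ⟶ inter Φ Ψ j l :=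
  pullback.lift (pullback.fst _ _ ≫ Φ.step j) (pullback.snd _ _)
    (by rw [Category.assoc, Φ.step_ι, pullback.condition])

/-- The inclusion in the second index. -/
def u (j l : ℕ) : inter Φ Ψ j (l + 1) ⟶ inter Φ Ψ j l :=
  pullback.lift (pullback.fst _ _) (pullback.snd _ _ ≫ Ψ.step l)
    (by rw [Category.assoc, Ψ.step_ι, pullback.condition])

theorem t_fst (j l : ℕ) : t Φ Ψ j l ≫ pullback.fst _ _ = pullback.fst _ _ ≫ Φ.step j := pullback.lift_fst _ _ _

theorem t_snd (j l : ℕ) : t Φ Ψ j l ≫ pullback.snd _ _ = pullback.snd _ _ := pullback.lift_snd _ _ _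

theorem u_fst (j l : ℕ) : u Φ Ψ j l ≫ pullback.fst _ _ = pullback.fst _ _ := pullback.lift_fst _ _ _

theorem u_snd (j l : ℕ) : u Φ Ψ j l ≫ pullback.snd _ _ = pullback.snd _ _ ≫ Ψ.step l := pullback.lift_snd _ _ _

/-- The filtration induced by `Ψ` on the `j`-th graded piece of `Φ`. -/
abbrev A (j l : ℕ) : C := cokernel (t Φ Ψ j l)

/-- Its inclusion. -/
def m (j l : ℕ) : A Φ Ψ j l ⟶ Φ.gr j := cokernel.map _ _ (pullback.fst _ _) (pullback.fst _ _) (t_fst Φ Ψ j l)

instance mono_m (j l : ℕ) : Mono (m Φ Ψ j l) :=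
  mono_cokernel_map _ _ _ _ (t_fst Φ Ψ j l) fun x y h => ⟨pullback.lift y (x ≫ pullback.snd _ _) (by
      rw [← Φ.step_ι, ← Category.assoc, ← h, Category.assoc, Category.assoc, pullback.condition]),
    pullback.hom_ext (by rw [Category.assoc, t_fst, pullback.lift_fst_assoc, h])
      (by rw [Category.assoc, t_snd, pullback.lift_snd])⟩

/-- The steps of the induced filtration. -/
def a (j l : ℕ) : A Φ Ψ j (l + 1) ⟶ A Φ Ψ j l :=
  cokernel.map _ _ (u Φ Ψ (j + 1) l) (u Φ Ψ j l) (pullback.hom_ext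
    (by simp only [Category.assoc, u_fst, t_fst]; rw [← Category.assoc (u Φ Ψ (j + 1) l), u_fst])
    (by simp only [Category.assoc, u_snd, t_snd]; rw [← Category.assoc, t_snd]))

theorem π_a (j l : ℕ) : cokernel.π (t Φ Ψ j (l + 1)) ≫ a Φ Ψ j l = u Φ Ψ j l ≫ cokernel.π (t Φ Ψ j l) :=
  cokernel.π_desc _ _ _

theorem a_m (j l : ℕ) : a Φ Ψ j l ≫ m Φ Ψ j l = m Φ Ψ j (l + 1) := by
  apply coequalizer.hom_ext
  show cokernel.π (t Φ Ψ j (l + 1)) ≫ _ ≫ _ = cokernel.π (t Φ Ψ j (l + 1)) ≫ _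
  rw [← Category.assoc, π_a, Category.assoc, m, cokernel.π_desc, ← Category.assoc, u_fst, m, cokernel.π_desc]

instance mono_a (j l : ℕ) : Mono (a Φ Ψ j l) := by
  haveI : Mono (a Φ Ψ j l ≫ m Φ Ψ j l) := by rw [a_m]; infer_instance
  exact mono_of_mono (a Φ Ψ j l) (m Φ Ψ j l)

instance isIso_m_zero (j : ℕ) : IsIso (m Φ Ψ j 0) := by
  haveI := Ψ.top
  haveI : Epi (pullback.fst (Φ.ι j) (Ψ.ι 0) ≫ cokernel.π (Φ.step j)) := epi_comp _ _
  haveI : Epi (m Φ Ψ j 0) := epi_of_epi_fac (f := cokernel.π (t Φ Ψ j 0)) (cokernel.π_desc _ _ _)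
  exact isIso_of_mono_of_epi _

/-- The double subquotient. -/
abbrev cross (j l : ℕ) : C := cokernel (u Φ Ψ j l ≫ cokernel.π (t Φ Ψ j l))

/-- It is the graded piece of the induced filtration. -/
def crossGrIso (j l : ℕ) : cokernel (a Φ Ψ j l) ≅ cross Φ Ψ j l :=
  (cokernelEpiComp (cokernel.π (t Φ Ψ j (l + 1))) (a Φ Ψ j l)).symm ≪≫ cokernelIsoOfEq (π_a Φ Ψ j l)

/-- The double subquotient does not depend on the order of the filtrations. -/
def crossSymm (j l : ℕ) : cross Φ Ψ j l ≅ cross Ψ Φ l j :=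
  crossIso _ _ _ _ (pullbackSymmetry _ _) (pullbackSymmetry _ _) (pullbackSymmetry _ _)
    (pullback.hom_ext (by simp only [Iso.trans_hom, Category.assoc, pullbackSymmetry_hom_comp_fst, pullbackSymmetry_hom_comp_snd, pullbackSymmetry_hom_comp_fst_assoc, pullbackSymmetry_hom_comp_snd_assoc, t_fst, t_snd, u_fst, u_snd]) (by simp only [Iso.trans_hom, Category.assoc, pullbackSymmetry_hom_comp_fst, pullbackSymmetry_hom_comp_snd, pullbackSymmetry_hom_comp_fst_assoc, pullbackSymmetry_hom_comp_snd_assoc, t_fst, t_snd, u_fst, u_snd]))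
    (pullback.hom_ext (by simp only [Iso.trans_hom, Category.assoc, pullbackSymmetry_hom_comp_fst, pullbackSymmetry_hom_comp_snd, pullbackSymmetry_hom_comp_fst_assoc, pullbackSymmetry_hom_comp_snd_assoc, t_fst, t_snd, u_fst, u_snd]) (by simp only [Iso.trans_hom, Category.assoc, pullbackSymmetry_hom_comp_fst, pullbackSymmetry_hom_comp_snd, pullbackSymmetry_hom_comp_fst_assoc, pullbackSymmetry_hom_comp_snd_assoc, t_fst, t_snd, u_fst, u_snd]))

end Filt


section short

variable {S : ShortComplex C}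

/-- The filtration induced on the subobject. -/
abbrev subFilt [Mono S.f] (Φ : Filt S.X₂) : Filt S.X₁ where
  obj j := pullback S.f (Φ.ι j)
  ι j := pullback.fst _ _
  mono _ := inferInstance
  step j := pullback.lift (pullback.fst _ _) (pullback.snd _ _ ≫ Φ.step j)
    (by rw [Category.assoc, Φ.step_ι, pullback.condition])
  step_ι _ := pullback.lift_fst _ _ _
  top := by haveI := Φ.top; infer_instance

theorem subFilt_step_snd [Mono S.f] (Φ : Filt S.X₂) (j : ℕ) :
    (subFilt Φ).step j ≫ pullback.snd S.f (Φ.ι j) = pullback.snd S.f (Φ.ι (j + 1)) ≫ Φ.step j :=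
  pullback.lift_snd _ _ _

theorem quotι_cond (Φ : Filt S.X₂) (j : ℕ) : pullback.snd S.f (Φ.ι j) ≫ Φ.ι j ≫ S.g = 0 := by
  rw [← Category.assoc, ← pullback.condition, Category.assoc, S.zero, comp_zero]

/-- The map to the quotient. -/
abbrev quotι (Φ : Filt S.X₂) (j : ℕ) : cokernel (pullback.snd S.f (Φ.ι j)) ⟶ S.X₃ :=
  cokernel.desc _ (Φ.ι j ≫ S.g) (quotι_cond Φ j)

theorem mono_quotι (hS : S.ShortExact) (Φ : Filt S.X₂) (j : ℕ) : Mono (quotι Φ j) := by
  haveI := hS.mono_f
  haveI := hS.epi_g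
  haveI : IsIso (cokernel.desc S.f S.g S.zero) := by
    have h := hS.gIsCokernel
    exact ⟨h.desc (CokernelCofork.ofπ (cokernel.π S.f) (cokernel.condition _)),
      coequalizer.hom_ext (by
        show cokernel.π S.f ≫ cokernel.desc S.f S.g S.zero ≫ _ = cokernel.π S.f ≫ 𝟙 _
        rw [cokernel.π_desc_assoc, Category.comp_id]
        exact h.fac _ WalkingParallelPair.one), by
      rw [← cancel_epi S.g, Category.comp_id, ← Category.assoc]
      have hh : S.g ≫ h.desc (CokernelCofork.ofπ (cokernel.π S.f) (cokernel.condition _)) = cokernel.π S.f :=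
        h.fac _ WalkingParallelPair.one
      rw [hh, cokernel.π_desc]⟩
  haveI : Mono (cokernel.map (pullback.snd S.f (Φ.ι j)) S.f (pullback.fst _ _) (Φ.ι j) pullback.condition.symm) :=
    mono_cokernel_map _ _ _ _ pullback.condition.symm fun x y h =>
      ⟨pullback.lift y x h.symm, pullback.lift_snd _ _ _⟩
  have e : cokernel.map (pullback.snd S.f (Φ.ι j)) S.f (pullback.fst _ _) (Φ.ι j) pullback.condition.symm ≫
      cokernel.desc S.f S.g S.zero = quotι Φ j := by
    rw [← cancel_epi (cokernel.π (pullback.snd S.f (Φ.ι j)))]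
    simp [quotι, cokernel.map]
  rw [← e]
  exact mono_comp _ _

/-- The filtration induced on the quotient. -/
abbrev quotFilt [Mono S.f] (hS : S.ShortExact) (Φ : Filt S.X₂) : Filt S.X₃ where
  obj j := cokernel (pullback.snd S.f (Φ.ι j))
  ι j := quotι Φ j
  mono j := mono_quotι hS Φ j
  step j := cokernel.map _ _ ((subFilt Φ).step j) (Φ.step j) (subFilt_step_snd Φ j).symm
  step_ι j := by
    rw [← cancel_epi (cokernel.π (pullback.snd S.f (Φ.ι (j + 1))))]
    simp only [quotι, cokernel.map, cokernel.π_desc_assoc, cokernel.π_desc, Category.assoc]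
    rw [← Category.assoc, Φ.step_ι]
  top := by
    haveI := Φ.top
    haveI := hS.epi_g
    haveI := mono_quotι hS Φ 0
    haveI : Epi (Φ.ι 0 ≫ S.g) := epi_comp _ _
    haveI : Epi (quotι Φ 0) := epi_of_epi_fac (f := cokernel.π (pullback.snd S.f (Φ.ι 0))) (cokernel.π_desc _ _ _)
    exact isIso_of_mono_of_epi _

/-- The induced map of graded pieces. -/
def grIn [Mono S.f] (Φ : Filt S.X₂) (j : ℕ) : (subFilt Φ).gr j ⟶ Φ.gr j :=
  cokernel.map _ _ (pullback.snd _ _) (pullback.snd _ _) (subFilt_step_snd Φ j)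

/-- The induced map of graded pieces. -/
def grOut [Mono S.f] (hS : S.ShortExact) (Φ : Filt S.X₂) (j : ℕ) : Φ.gr j ⟶ (quotFilt hS Φ).gr j :=
  cokernel.map _ _ (cokernel.π _) (cokernel.π _) (by simp [cokernel.map])

theorem π_grIn [Mono S.f] (Φ : Filt S.X₂) (j : ℕ) :
    cokernel.π ((subFilt Φ).step j) ≫ grIn Φ j = pullback.snd S.f (Φ.ι j) ≫ cokernel.π (Φ.step j) :=
  cokernel.π_desc _ _ _

theorem π_grOut [Mono S.f] (hS : S.ShortExact) (Φ : Filt S.X₂) (j : ℕ) :
    cokernel.π (Φ.step j) ≫ grOut hS Φ j =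
      cokernel.π (pullback.snd S.f (Φ.ι j)) ≫ cokernel.π ((quotFilt hS Φ).step j) :=
  cokernel.π_desc _ _ _

theorem grIn_grOut [Mono S.f] (hS : S.ShortExact) (Φ : Filt S.X₂) (j : ℕ) : grIn Φ j ≫ grOut hS Φ j = 0 := by
  rw [← cancel_epi (cokernel.π ((subFilt Φ).step j)), ← Category.assoc, π_grIn, Category.assoc, π_grOut,
    ← Category.assoc, cokernel.condition, zero_comp, comp_zero]

theorem shortExact_gr [Mono S.f] (hS : S.ShortExact) (Φ : Filt S.X₂) (j : ℕ) :
    (ShortComplex.mk (grIn Φ j) (grOut hS Φ j) (grIn_grOut hS Φ j)).ShortExact := by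
  haveI : Epi (grOut hS Φ j) := by
    haveI : Epi (cokernel.π (pullback.snd S.f (Φ.ι j)) ≫ cokernel.π ((quotFilt hS Φ).step j)) := epi_comp _ _
    exact epi_of_epi_fac (π_grOut hS Φ j)
  haveI : Mono (grIn Φ j) := mono_cokernel_map _ _ _ _ (subFilt_step_snd Φ j) fun x y h =>
    ⟨pullback.lift (x ≫ pullback.fst _ _) y (by
        rw [Category.assoc, pullback.condition, ← Φ.step_ι, ← Category.assoc x, h, Category.assoc]),
      pullback.hom_ext
        (by rw [Category.assoc, pullback.lift_fst, pullback.lift_fst])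
        (by rw [Category.assoc, subFilt_step_snd, pullback.lift_snd_assoc, h])⟩
  refine { exact := ShortComplex.exact_of_g_is_cokernel _ ?_ }
  refine CokernelCofork.IsColimit.ofπ' _ _ fun {T} k hk => ?_
  have h1 : pullback.snd S.f (Φ.ι j) ≫ cokernel.π (Φ.step j) ≫ k = 0 := by
    rw [← Category.assoc, ← π_grIn, Category.assoc, show grIn Φ j ≫ k = 0 from hk, comp_zero]
  have h2 : (quotFilt hS Φ).step j ≫ cokernel.desc _ (cokernel.π (Φ.step j) ≫ k) h1 = 0 := by
    rw [← cancel_epi (cokernel.π (pullback.snd S.f (Φ.ι (j + 1))))]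
    simp [cokernel.map]
  refine ⟨cokernel.desc _ _ h2, ?_⟩
  show grOut hS Φ j ≫ _ = k
  rw [← cancel_epi (cokernel.π (Φ.step j)), ← Category.assoc, π_grOut, Category.assoc, cokernel.π_desc,
    cokernel.π_desc]

end short

end Groth.Agent.H3Cyc.KFilt
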