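import Groth.Agent.H3Cyc.KDev
import Groth.Agent.H3Cyc.KFilt
import Groth.Agent.H8Props.QCohExtend
import Mathlib

/-!
# Classes of locally finite coproducts in `K₀` of a subcategory of coherent modules
-/

set_option autoImplicit false
set_option linter.style.haveILetI false
set_option linter.unusedSectionVars false
set_option backward.isDefEq.respectTransparency.types false
universe u

open CategoryTheory CategoryTheory.Limits AlgebraicGeometry TopologicalSpace Opposite
open Groth.Agent.H16Derived.KFlat.Stalk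
open Groth.Agent.H3Cyc.KDev Groth.Agent.H3Cyc.KFilt

noncomputable section

namespace Groth.Agent.H3Cyc.KGood

variable {X : Scheme.{u}} [IsLocallyNoetherian X]

/-- The natural numbers in the universe of `X`. -/
abbrev NI : Type u := ULift.{u} ℕ

/-- A class of coherent modules closed under submodules, quotients and locally finite coproducts. -/
structure Good (P : ObjectProperty X.Modules) : Prop where
  coh : ∀ {F : X.Modules}, P F → Coh.IsCoh F
  zero : ∀ {F : X.Modules}, IsZero F → P F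
  sub : ∀ {F G : X.Modules} (i : F ⟶ G) [Mono i], Coh.IsQCoh F → P G → P F
  quot : ∀ {F G : X.Modules} (p : F ⟶ G) [Epi p], Coh.IsQCoh G → P F → P G
  sigma : ∀ {I : Type u} (M : I → X.Modules), LocFin M → (∀ i, P (M i)) → P (∐ M)

variable {P : ObjectProperty X.Modules} (hP : Good P)

/-- The class. -/
abbrev cl (P : ObjectProperty X.Modules) (F : X.Modules) : KZero.K0sub P := KZero.clSub P F

include hP

theorem Good.congr {F G : X.Modules} (e : F ≅ G) (h : P F) : P G :=
  hP.sub e.inv (H10Coh.isCoh_of_iso e (hP.coh h)).1 h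

theorem cl_congr {F G : X.Modules} (e : F ≅ G) (hF : P F) : cl P F = cl P G := by
  obtain ⟨O, hO⟩ := HasZeroObject.zero (C := X.Modules)
  exact H27KZero.clSub_iso e hF (hP.congr e hF) hO (hP.zero hO)

theorem cl_isZero {F : X.Modules} (hF : IsZero F) : cl P F = 0 := H27KZero.clSub_zero hF (hP.zero hF)

theorem cl_sum {I J : Type u} (M : I ⊕ J → X.Modules) (hlf : LocFin M) (hM : ∀ k, P (M k)) :
    cl P (∐ M) = cl P (∐ fun i => M (.inl i)) + cl P (∐ fun j => M (.inr j)) := by
  have h₁ : P (∐ fun i => M (.inl i)) := hP.sigma _ (hlf.comp Sum.inl fun k =>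
    (Set.finite_singleton k).preimage Sum.inl_injective.injOn) fun i => hM _
  have h₃ : P (∐ fun j => M (.inr j)) := hP.sigma _ (hlf.comp Sum.inr fun k =>
    (Set.finite_singleton k).preimage Sum.inr_injective.injOn) fun i => hM _
  let f : (∐ fun i => M (.inl i)) ⟶ ∐ M := Sigma.desc fun i => Sigma.ι M (.inl i)
  let g : (∐ M) ⟶ ∐ fun j => M (.inr j) := Sigma.desc fun k =>
    match k with
    | .inl _ => 0
    | .inr j => Sigma.ι (fun j => M (.inr j)) j
  let r : (∐ M) ⟶ ∐ fun i => M (.inl i) := Sigma.desc fun k =>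
    match k with
    | .inl i => Sigma.ι (fun i => M (.inl i)) i
    | .inr _ => 0
  let s : (∐ fun j => M (.inr j)) ⟶ ∐ M := Sigma.desc fun j => Sigma.ι M (.inr j)
  let S := ShortComplex.mk f g (Sigma.hom_ext _ _ fun i => by simp [f, g])
  have sp : S.Splitting :=
    { r := r
      s := s
      f_r := Sigma.hom_ext _ _ fun i => by simp [S, f, r]
      s_g := Sigma.hom_ext _ _ fun j => by simp [S, g, s]
      id := Sigma.hom_ext _ _ fun k => by
        rcases k with i | j <;> simp [S, f, g, r, s] }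
  exact H27KZero.clSub_shortExact (S := S) sp.shortExact h₁ (hP.sigma _ hlf hM) h₃

theorem cl_reindex {I J : Type u} (e : I ≃ J) (M : J → X.Modules) (hlf : LocFin M) (hM : ∀ j, P (M j)) :
    cl P (∐ fun i => M (e i)) = cl P (∐ M) :=
  cl_congr hP (Sigma.whiskerEquiv e fun _ => Iso.refl _)
    (hP.sigma _ (hlf.comp e fun j => (Set.finite_singleton j).preimage e.injective.injOn) fun i => hM _)

theorem cl_sigma_congr {I : Type u} {M N : I → X.Modules} (φ : ∀ i, M i ≅ N i) (hlf : LocFin M)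
    (hM : ∀ i, P (M i)) : cl P (∐ M) = cl P (∐ N) :=
  cl_congr hP (Sigma.mapIso φ) (hP.sigma _ hlf hM)

/-- Telescoping along locally finite decreasing chains. -/
theorem cl_telescope {I : Type u} (A : I → ℕ → X.Modules) (s : ∀ i j, A i (j + 1) ⟶ A i j)
    [hs : ∀ i j, Mono (s i j)] (hlf : LocFin fun p : I × NI.{u} => A p.1 p.2.down) (hA : ∀ i j, P (A i j)) :
    cl P (∐ fun p : I × NI.{u} => cokernel (s p.1 p.2.down)) = cl P (∐ fun i => A i 0) := by
  let S : I × NI.{u} → ShortComplex X.Modules := fun p =>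
    ShortComplex.mk (s p.1 p.2.down) (cokernel.π _) (cokernel.condition _)
  have hS : ∀ p, (S p).ShortExact := fun p => { exact := ShortComplex.exact_cokernel _ }
  let up : I ⊕ (I × NI.{u}) ≃ I × NI.{u} :=
    { toFun := Sum.elim (fun i => (i, ⟨0⟩)) fun p => (p.1, ⟨p.2.down + 1⟩)
      invFun := fun p => match p.2 with
        | ⟨0⟩ => Sum.inl p.1
        | ⟨j + 1⟩ => Sum.inr (p.1, ⟨j⟩)
      left_inv := by rintro (i | ⟨i, ⟨j⟩⟩) <;> rfl
      right_inv := by rintro ⟨i, ⟨_ | j⟩⟩ <;> rfl }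
  let M : I × NI.{u} → X.Modules := fun p => A p.1 p.2.down
  have hlu : LocFin fun k => M (up k) :=
    hlf.comp up fun t => (Set.finite_singleton t).preimage up.injective.injOn
  have e1 := cl_sum hP (fun k => M (up k)) hlu fun k => hA _ _
  rw [cl_reindex hP up M hlf fun p => hA _ _] at e1
  have hl1 : LocFin fun p => (S p).X₁ := hlu.comp Sum.inr fun k =>
    (Set.finite_singleton k).preimage Sum.inr_injective.injOn
  haveI : ∀ p, Epi (S p).g := fun p => (hS p).epi_g
  have hl3 : LocFin fun p => (S p).X₃ := hlf.mono fun p => LeadDev.support_subset_of_epi (S p).g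
  have h3 : ∀ p, P (S p).X₃ := fun p => hP.quot (S p).g
    (@H10Coh.isQuasicoherent_cokernel _ _ _ (s p.1 p.2.down) (hP.coh (hA _ _)).1 (hP.coh (hA _ _)).1) (hA _ _)
  have e2 := H27KZero.clSub_shortExact (sigma_shortExact S hS) (hP.sigma _ hl1 fun p => hA _ _)
    (hP.sigma _ hlf fun p => hA _ _) (hP.sigma _ hl3 h3)
  have e3 : cl P (∐ fun i => A i 0) + cl P (∐ fun p => (S p).X₁) =
      cl P (∐ fun p => (S p).X₁) + cl P (∐ fun p => (S p).X₃) := e1.symm.trans e2
  rw [add_comm] at e3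
  exact (add_left_cancel e3).symm

/-- The class of the graded of a filtration. -/
def theta (_ : Good P) {G : X.Modules} (Φ : Filt G) : KZero.K0sub P :=
  cl P (∐ fun j : NI.{u} => Φ.gr j.down)

omit hP in
/-- Locally finite, quasi-coherent, with graded pieces in `P`. -/
structure Adm (P : ObjectProperty X.Modules) {G : X.Modules} (Φ : Filt G) : Prop where
  coh : ∀ j, Coh.IsCoh (Φ.obj j)
  lf : LocFin fun j : NI.{u} => Φ.obj j.down
  gr : ∀ j, P (Φ.gr j)

/-- Independence of the filtration. -/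
theorem theta_eq {G : X.Modules} (hG : Coh.IsQCoh G) {Φ Ψ : Filt G} (hΦ : Adm P Φ) (hΨ : Adm P Ψ) :
    theta hP Φ = theta hP Ψ := by
  have key : ∀ {Φ Ψ : Filt G}, Adm P Φ → Adm P Ψ →
      (∀ j l, P (Φ.cross Ψ j l)) ∧ LocFin (fun p : NI.{u} × NI.{u} => Φ.cross Ψ p.1.down p.2.down) ∧
        theta hP Φ = cl P (∐ fun p : NI.{u} × NI.{u} => Φ.cross Ψ p.1.down p.2.down) := by
    intro Φ Ψ hΦ hΨ
    have hB : ∀ j l, Coh.IsCoh (Φ.inter Ψ j l) := fun j l => by
      haveI : (Φ.obj j).IsQuasicoherent := (hΦ.coh j).1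
      haveI : (Ψ.obj l).IsQuasicoherent := (hΨ.coh l).1
      haveI : G.IsQuasicoherent := hG
      exact H10Coh.isCoh_of_mono (pullback.fst (Φ.ι j) (Ψ.ι l))
        (H8Props.QCohExtend.isQuasicoherent_pullback (Φ.ι j) (Ψ.ι l)) (hΦ.coh j)
    have hA : ∀ j l, P (Φ.A Ψ j l) := fun j l =>
      hP.sub (Φ.m Ψ j l) (H10Coh.isCoh_cokernel (Φ.t Ψ j l) (hB (j + 1) l).1 (hB j l)).1 (hΦ.gr j)
    have hlA : LocFin fun p : NI.{u} × NI.{u} => Φ.A Ψ p.1.down p.2.down := fun x => by
      obtain ⟨U, hxU, hU⟩ := hΦ.lf x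
      obtain ⟨V, hxV, hV⟩ := hΨ.lf x
      refine ⟨U ⊓ V, ⟨hxU, hxV⟩, (hU.prod hV).subset ?_⟩
      rintro ⟨j, l⟩ ⟨y, hy, hyU, hyV⟩
      have hy' := LeadDev.support_subset_of_epi (cokernel.π (Φ.t Ψ j.down l.down)) hy
      exact ⟨⟨y, LeadDev.support_subset_of_mono (pullback.fst (Φ.ι j.down) (Ψ.ι l.down)) hy', hyU⟩,
        ⟨y, LeadDev.support_subset_of_mono (pullback.snd (Φ.ι j.down) (Ψ.ι l.down)) hy', hyV⟩⟩
    have hc : ∀ j l, P (cokernel (Φ.a Ψ j l)) := fun j l =>
      hP.quot (cokernel.π _) (@H10Coh.isQuasicoherent_cokernel _ _ _ (Φ.a Ψ j l) (hP.coh (hA _ _)).1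
        (hP.coh (hA _ _)).1) (hA j l)
    have hlc : LocFin fun p : NI.{u} × NI.{u} => cokernel (Φ.a Ψ p.1.down p.2.down) :=
      hlA.mono fun p => LeadDev.support_subset_of_epi (cokernel.π _)
    have e := cl_telescope hP (fun (j : NI.{u}) l => Φ.A Ψ j.down l) (fun j l => Φ.a Ψ j.down l) hlA
      fun j l => hA _ _
    have e0 := cl_sigma_congr hP (fun j : NI.{u} => asIso (Φ.m Ψ j.down 0))
      (hlA.comp (fun j : NI.{u} => (j, (⟨0⟩ : NI.{u}))) fun p =>
        (Set.finite_singleton p).preimage (fun a _ b _ h => congrArg Prod.fst h)) fun j => hA _ _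
    have e' := cl_sigma_congr hP (fun p : NI.{u} × NI.{u} => Φ.crossGrIso Ψ p.1.down p.2.down) hlc fun p => hc _ _
    exact ⟨fun j l => hP.congr (Φ.crossGrIso Ψ j l) (hc j l),
      hlc.mono fun p => LeadDev.support_subset_of_mono (Φ.crossGrIso Ψ p.1.down p.2.down).inv,
      e0.symm.trans (e.symm.trans e')⟩
  obtain ⟨hc, hl, e1⟩ := key hΦ hΨ
  obtain ⟨hc', hl', e2⟩ := key hΨ hΦ
  rw [e1, e2, ← cl_reindex hP (Equiv.prodComm NI.{u} NI.{u})
    (fun p => Ψ.cross Φ p.1.down p.2.down) hl' fun p => hc' _ _]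
  exact cl_sigma_congr hP (fun p => Φ.crossSymm Ψ p.1.down p.2.down) hl fun p => hc _ _

/-- In a class containing the filtered pieces the graded has the class of the module. -/
theorem theta_eq_cl {G : X.Modules} {Φ : Filt G} (hlf : LocFin fun j : NI.{u} => Φ.obj j.down)
    (hobj : ∀ j, P (Φ.obj j)) : theta hP Φ = cl P G := by
  have hl : LocFin fun p : PUnit.{u + 1} × NI.{u} => Φ.obj p.2.down :=
    hlf.comp Prod.snd fun j => (Set.finite_singleton (PUnit.unit, j)).subset fun p hp => Prod.ext rfl hp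
  have e := cl_telescope hP (fun (_ : PUnit.{u + 1}) j => Φ.obj j) (fun _ j => Φ.step j) hl fun _ j => hobj j
  haveI := Φ.top
  have hl0 : LocFin fun _ : PUnit.{u + 1} => Φ.obj 0 := hl.comp (fun i => (i, ⟨0⟩)) fun _ => Set.toFinite _
  have e0 : cl P (∐ fun _ : PUnit.{u + 1} => Φ.obj 0) = cl P G :=
    cl_congr hP (coproductUniqueIso (fun _ : PUnit.{u + 1} => Φ.obj 0) ≪≫ asIso (Φ.ι 0))
      (hP.sigma _ hl0 fun _ => hobj 0)
  have hgr : ∀ j, P (Φ.gr j) := fun j => hP.quot (cokernel.π _)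
    (@H10Coh.isQuasicoherent_cokernel _ _ _ (Φ.step j) (hP.coh (hobj _)).1 (hP.coh (hobj _)).1) (hobj j)
  have e1 := cl_reindex hP (Equiv.punitProd NI.{u}) (fun j => Φ.gr j.down)
    (hlf.mono fun j => LeadDev.support_subset_of_epi (cokernel.π (Φ.step j.down))) fun j => hgr _
  exact e1.symm.trans (e.trans e0)

end Groth.Agent.H3Cyc.KGood
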