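import Groth.Agent.H3Cyc.KDet
import Groth.Agent.H3Cyc.KGood
import Groth.Agent.H3Cyc.RatRel
import Mathlib

/-!
# Generic frames and the first Chern class of the determinant
-/

set_option autoImplicit false
set_option linter.style.haveILetI false
set_option linter.unusedSectionVars false
set_option backward.isDefEq.respectTransparency.types false
universe u v

open CategoryTheory CategoryTheory.Limits AlgebraicGeometry TopologicalSpace Opposite IsLocalRing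
open Groth.Agent.H16Derived.KFlat.Stalk
open Groth.Agent.H06Mod (sky homOfStalk)
open Groth.Agent.H3Cyc.KDev Groth.Agent.H3Cyc.KSky Groth.Agent.H3Cyc.KFam Groth.Agent.H3Cyc.KCls
open Groth.Agent.H3Cyc.KIndex Groth.Agent.H3Cyc.KDet Groth.Agent.H3Cyc.KGood

noncomputable section

namespace Groth.Agent.H3Cyc.KFrame

section algebra

variable {R : Type u} [CommRing R] [IsLocalRing R] {M M' : Type u} [AddCommGroup M] [Module R M] [AddCommGroup M']
  [Module R M']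

theorem exists_equiv_pow (hM : ∀ r ∈ maximalIdeal R, ∀ v : M, r • v = 0) (hf : IsFiniteLength R M) :
    Nonempty (M ≃ₗ[R] (_root_.Fin (Module.length R M).toNat → ResidueField R)) := by
  have hT : Module.IsTorsionBySet R M (maximalIdeal R : Set R) := fun v r => hM r.1 r.2 v
  letI : Module (ResidueField R) M := hT.module
  haveI : IsScalarTower R (ResidueField R) M := hT.isScalarTower
  haveI : IsNoetherian R M := (isFiniteLength_iff_isNoetherian_isArtinian.mp hf).1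
  haveI : Module.Finite (ResidueField R) M := Module.Finite.of_restrictScalars_finite R (ResidueField R) M
  let e : M ≃ₗ[R] (_root_.Fin (Module.finrank (ResidueField R) M) → ResidueField R) :=
    (Module.finBasis (ResidueField R) M).equivFun.restrictScalars R
  have h1 : Module.length R (ResidueField R) = 1 := Module.length_eq_one_iff.mpr
    (isSimpleModule_iff_quot_maximal.mpr ⟨_, IsLocalRing.maximalIdeal.isMaximal R, ⟨LinearEquiv.refl _ _⟩⟩)
  have hn : (Module.length R M).toNat = Module.finrank (ResidueField R) M := by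
    rw [e.length_eq, Module.length_pi_of_fintype, Finset.sum_congr rfl fun i _ => h1]
    simp
  rw [hn]
  exact ⟨e⟩

theorem exists_retraction (hM : ∀ r ∈ maximalIdeal R, ∀ v : M, r • v = 0)
    (hM' : ∀ r ∈ maximalIdeal R, ∀ v : M', r • v = 0) (f : M' →ₗ[R] M) (hf : Function.Injective f) :
    ∃ τ : M →ₗ[R] M', τ.comp f = LinearMap.id := by
  have hT : Module.IsTorsionBySet R M (maximalIdeal R : Set R) := fun v r => hM r.1 r.2 v
  have hT' : Module.IsTorsionBySet R M' (maximalIdeal R : Set R) := fun v r => hM' r.1 r.2 v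
  letI : Module (ResidueField R) M := hT.module
  haveI : IsScalarTower R (ResidueField R) M := hT.isScalarTower
  letI : Module (ResidueField R) M' := hT'.module
  haveI : IsScalarTower R (ResidueField R) M' := hT'.isScalarTower
  let f' : M' →ₗ[ResidueField R] M :=
    { toFun := f
      map_add' := map_add f
      map_smul' := fun c v => by
        obtain ⟨r, rfl⟩ := IsLocalRing.residue_surjective c
        rw [RingHom.id_apply, show IsLocalRing.residue R r • v = r • v from algebraMap_smul _ r v, map_smul]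
        exact (algebraMap_smul _ r (f v)).symm }
  obtain ⟨g, hg⟩ := f'.exists_leftInverse_of_injective (LinearMap.ker_eq_bot.mpr hf)
  exact ⟨g.restrictScalars R, LinearMap.ext fun v => LinearMap.congr_fun hg v⟩

end algebra

theorem finsum_eq_subtype {α : Type v} (p : α → Prop) (f : α → ℤ) (h : ∀ a, ¬ p a → f a = 0) :
    ∑ᶠ a, f a = ∑ᶠ a : {a : α // p a}, f a.1 := by
  classical
  rw [finsum_subtype_eq_finsum_cond p (f := f)]
  refine finsum_congr fun a => ?_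
  by_cases ha : p a
  · rw [finsum_eq_if, if_pos ha]
  · rw [h a ha, finsum_eq_if, if_neg ha]

variable {X : Scheme.{u}}

/-- Points of dimension `k + 1`. -/
abbrev Pt (δ : X → ℤ) (k : ℤ) : Type u := {ξ : X // δ ξ = k + 1}

/-- Locally finite multiplicities. -/
def LF {δ : X → ℤ} {k : ℤ} (n : Pt δ k → ℕ) : Prop :=
  ∀ x : X, ∃ U : X.Opens, x ∈ U ∧ {t : Pt δ k | n t ≠ 0 ∧ t.1 ∈ U}.Finite

variable [IsLocallyNoetherian X] {δ : X → ℤ} {k : ℤ}

/-- The model. -/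
abbrev Mo (n : Pt δ k → ℕ) : X.Modules := ∐ fun t : Pt δ k => Rn t.1 (n t)

theorem empty_support_Rn {ξ : X} {n : ℕ} (hn : n = 0) (y : X) : y ∉ CohB1.support (Rn ξ n) := fun hy => by
  subst hn
  obtain ⟨i, -⟩ := Set.mem_iUnion.mp (support_sigma _ hy)
  exact i.down.elim0

theorem locFin_of_pt {n : Pt δ k → ℕ} (hn : LF n) {M : Pt δ k → X.Modules}
    (hM : ∀ t, ∀ y ∈ CohB1.support (M t), n t ≠ 0 ∧ t.1 ⤳ y) : LocFin M := fun x => by
  obtain ⟨U, hxU, hU⟩ := hn x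
  refine ⟨U, hxU, hU.subset ?_⟩
  rintro t ⟨y, hy, hyU⟩
  exact ⟨(hM t y hy).1, (hM t y hy).2.mem_open U.isOpen hyU⟩

variable (hδ : Strict δ)

theorem support_Rn {n : Pt δ k → ℕ} (t : Pt δ k) (y : X) (hy : y ∈ CohB1.support (Rn t.1 (n t))) :
    n t ≠ 0 ∧ t.1 ⤳ y :=
  ⟨fun h => empty_support_Rn h y hy, (onPt_Rn t.1 (n t)).spec y hy⟩

include hδ

theorem cohLe_Mo {n : Pt δ k → ℕ} (hn : LF n) : Cyc.CohLe δ (k + 1) (Mo n) :=
  cohLe_sigma (locFin_of_pt hn support_Rn) fun t => (onPt_Rn t.1 _).cohLe hδ t.2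

theorem eq_of_mem {M : Pt δ k → X.Modules} (hM : ∀ t, ∀ y ∈ CohB1.support (M t), t.1 ⤳ y) (t s : Pt δ k)
    (h : t.1 ∈ CohB1.support (M s)) : s = t :=
  Subtype.ext (hδ.eq_of_specializes s.2 (hM s _ h) t.2.ge).symm

theorem bijective_ι {M : Pt δ k → X.Modules} (hM : ∀ t, ∀ y ∈ CohB1.support (M t), t.1 ⤳ y) (t : Pt δ k) :
    Function.Bijective (sl (Sigma.ι M t) t.1) ∧ Function.Bijective (sl (pr M t) t.1) := by
  classical
  have hJ : ∀ s, t.1 ∈ CohB1.support (M s) → s ∈ ({t} : Finset (Pt δ k)) := fun s hs =>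
    Finset.mem_singleton.mpr (eq_of_mem hδ hM t s hs)
  have hp : Function.Bijective (sl (pr M t) t.1) := ⟨fun a b h => by
      rw [← sum_pr M {t} hJ a, ← sum_pr M {t} hJ b, Finset.sum_singleton, Finset.sum_singleton]
      exact congrArg _ h,
    fun v => ⟨sl (Sigma.ι M t) t.1 v, by rw [← sl_comp_apply, ι_pr_self, sl_id]; rfl⟩⟩
  refine ⟨?_, hp⟩
  refine (Function.Bijective.of_comp_iff' hp _).mp ?_
  rw [show sl (pr M t) t.1 ∘ sl (Sigma.ι M t) t.1 = id from funext fun v => by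
    show sl (pr M t) t.1 (sl (Sigma.ι M t) t.1 v) = v
    rw [← sl_comp_apply, ι_pr_self, sl_id]; rfl]
  exact Function.bijective_id

omit hδ in
/-- The coherent modules killed by the maximal ideal at their points of dimension `k + 1`. -/
def P (δ : X → ℤ) (k : ℤ) : ObjectProperty X.Modules := fun F => Cyc.CohLe δ (k + 1) F ∧
  ∀ ξ : X, δ ξ = k + 1 → ∀ r ∈ maximalIdeal (X.presheaf.stalk ξ), ∀ v : F.presheaf.stalk ξ, r • v = 0

omit hδ in
theorem good_P : Good (P δ k) where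
  coh h := h.1.1
  zero h := ⟨cohLe_of_isZero h, fun ξ _ r _ v =>
    (ModuleCat.isZero_iff_subsingleton.mp ((st ξ).map_isZero h)).elim _ _⟩
  sub j _ hq h := ⟨cohLe_of_mono j hq h.1, fun ξ hξ r hr v => sl_injective j ξ (by
    rw [map_smul, h.2 ξ hξ r hr, map_zero])⟩
  quot := fun {F G} p _ hq h => ⟨by
    haveI : Epi (cokernel.desc (kernel.ι p) p (kernel.condition p)) := epi_of_epi_fac (cokernel.π_desc _ _ _)
    haveI : IsIso (cokernel.desc (kernel.ι p) p (kernel.condition p)) := isIso_of_mono_of_epi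
      (Abelian.factorThruCoimage p)
    exact cohLe_congr (asIso (cokernel.desc (kernel.ι p) p (kernel.condition p)))
      (cohLe_cokernel _ (@H10Coh.isQuasicoherent_kernel _ _ _ p h.1.1.1 hq) h.1),
    fun ξ hξ r hr v => by
      obtain ⟨a, rfl⟩ := sl_surjective p ξ v
      rw [← map_smul, h.2 ξ hξ r hr, map_zero]⟩
  sigma M hlf hM := ⟨cohLe_sigma hlf fun i => (hM i).1, fun ξ hξ r hr v => by
    have h : r • 𝟙 ((st ξ).obj (∐ M)) = 0 := stalk_sigma_ext M ξ fun i => by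
      ext a
      show r • sl (Sigma.ι M i) ξ a = 0
      rw [← map_smul, (hM i).2 ξ hξ r hr, map_zero]
    exact LinearMap.congr_fun (congrArg ModuleCat.Hom.hom h) v⟩

omit hδ in
/-- The multiplicities of a module. -/
def nF (δ : X → ℤ) (k : ℤ) (F : X.Modules) : Pt δ k → ℕ :=
  fun t => (Module.length (X.presheaf.stalk t.1) (F.presheaf.stalk t.1)).toNat

omit hδ in
theorem subsingleton_of_above {F : X.Modules} (hF : Cyc.CohLe δ (k + 1) F) {y : X} (h1 : k + 1 ≤ δ y)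
    (h2 : δ y ≠ k + 1) : y ∉ CohB1.support F := fun hy => h2 (le_antisymm ((cohLe_iff.mp hF).2 y hy) h1)

theorem lf_nF {F : X.Modules} (hF : Cyc.CohLe δ (k + 1) F) : LF (nF δ k F) := fun x => by
  obtain ⟨U, hxU, hU⟩ := exists_top_finite hδ hF x
  refine ⟨U, hxU, (hU.preimage (f := fun t : Pt δ k => t.1) Subtype.val_injective.injOn).subset
    fun t ht => ⟨⟨t.2, mem_support.mpr (not_subsingleton_iff_nontrivial.mp fun h => ht.1 ?_)⟩, ht.2⟩⟩
  show (Module.length _ _).toNat = 0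
  rw [Module.length_eq_zero_iff.mpr h]
  rfl

/-- A map to a coproduct of images, with prescribed stalks at the points of dimension `k + 1`. -/
theorem exists_toSigma {F : X.Modules} (hF : Cyc.CohLe δ (k + 1) F) (N : Pt δ k → Type u)
    [∀ t, AddCommGroup (N t)] [∀ t : Pt δ k, Module (X.presheaf.stalk t.1) (N t)]
    (q : ∀ t : Pt δ k, F.presheaf.stalk t.1 →ₗ[X.presheaf.stalk t.1] N t) (hq : ∀ t, Function.Surjective (q t))
    (hN : ∀ t : Pt δ k, ∀ r ∈ maximalIdeal (X.presheaf.stalk t.1), ∀ v : N t, r • v = 0) :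
    ∃ (T : X.Modules) (r : F ⟶ T) (e : ∀ t : Pt δ k, T.presheaf.stalk t.1 ≃ₗ[X.presheaf.stalk t.1] N t),
      Cyc.CohLe δ (k + 1) T ∧ ∀ t v, e t (sl r t.1 v) = q t v := by
  classical
  have hQ : ∀ t, OnPt (img (q t)) t.1 := fun t =>
    ⟨isCoh_img (q t) hF.1 (k := 1) fun a ha v => hN t a (by rwa [pow_one] at ha) v, fun y hy => (support_img _ hy).1⟩
  have hne : ∀ t, ∀ y ∈ CohB1.support (img (q t)), nF δ k F t ≠ 0 ∧ t.1 ⤳ y := fun t y hy => by
    refine ⟨fun h0 => ?_, (support_img _ hy).1⟩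
    have hfl := Module.length_ne_top_iff.mpr (isFiniteLength_stalk hδ hF t.2)
    have hsub : Subsingleton (F.presheaf.stalk t.1) := Module.length_eq_zero_iff.mp
      ((ENat.toNat_eq_zero.mp h0).resolve_right hfl)
    haveI : Subsingleton (N t) := (hq t).subsingleton
    have hz : homOfStalk (q t) = 0 := sky_hom_ext (by
      rw [stLin_homOfStalk]
      exact Subsingleton.elim _ _)
    have h : IsZero (img (q t)) := by
      rw [IsZero.iff_id_eq_zero]
      show 𝟙 (img (q t)) = 0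
      rw [← cancel_mono (imgι (q t)), ← cancel_epi (imgπ (q t))]
      simp [imgπ_ι, hz]
    exact notMem_support.mpr ((st y).map_isZero h) hy
  have hlf : LocFin fun t => img (q t) := locFin_of_pt (lf_nF hδ hF) hne
  haveI := isIso_toProd (fun t => img (q t)) hlf
  let r : F ⟶ ∐ fun t => img (q t) :=
    Pi.lift (fun t => imgπ (q t)) ≫ inv (Pi.lift (pr fun t => img (q t)))
  have hr : ∀ t, r ≫ pr (fun t => img (q t)) t = imgπ (q t) := fun t => by
    rw [← Pi.lift_π (pr fun t => img (q t)) t]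
    show (Pi.lift _ ≫ inv (Pi.lift _)) ≫ Pi.lift _ ≫ Pi.π _ t = _
    rw [Category.assoc, IsIso.inv_hom_id_assoc, Pi.lift_π]
  refine ⟨_, r, fun t => (LinearEquiv.ofBijective (sl (pr (fun t => img (q t)) t) t.1)
      (bijective_ι hδ (fun t y hy => (hne t y hy).2) t).2).trans (imgEquiv (q t) (hq t)),
    cohLe_sigma hlf fun t => (hQ t).cohLe hδ t.2, fun t v => ?_⟩
  show imgEquiv (q t) (hq t) (sl (pr (fun t => img (q t)) t) t.1 (sl r t.1 v)) = q t v
  rw [← sl_comp_apply, hr]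
  exact LinearMap.congr_fun (stLin_imgι (q t)) v

theorem ti_of_pt {A B : X.Modules} (hA : Cyc.CohLe δ (k + 1) A) (hB : Cyc.CohLe δ (k + 1) B) (f : A ⟶ B)
    (h : ∀ t : Pt δ k, Function.Bijective (sl f t.1)) : TI δ k f :=
  ⟨hA, hB, fun y hy => by
    by_cases e : δ y = k + 1
    · exact h ⟨y, e⟩
    · exact bijective_of_notMem f (subsingleton_of_above hA hy e) (subsingleton_of_above hB hy e)⟩

omit hδ in
/-- A generic frame. -/
structure Frame (δ : X → ℤ) (k : ℤ) (F : X.Modules) (n : Pt δ k → ℕ) where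
  S : X.Modules
  φ : F ⟶ S
  ρ : Mo n ⟶ S
  hφ : TI δ k φ
  hρ : TI δ k ρ

omit hδ in
/-- The cycle of a frame. -/
def Frame.D {F : X.Modules} {n : Pt δ k → ℕ} (Φ : Frame δ k F n) : X → ℤ := chi δ k Φ.φ - chi δ k Φ.ρ

theorem length_Rn (t : Pt δ k) (n : ℕ) :
    Module.length (X.presheaf.stalk t.1) ((Rn t.1 n).presheaf.stalk t.1) = n := by
  have h1 : Module.length (X.presheaf.stalk t.1) (ResidueField (X.presheaf.stalk t.1)) = 1 :=
    Module.length_eq_one_iff.mpr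
      (isSimpleModule_iff_quot_maximal.mpr ⟨_, IsLocalRing.maximalIdeal.isMaximal _, ⟨LinearEquiv.refl _ _⟩⟩)
  rw [(coords t.1 n).length_eq, Module.length_pi_of_fintype, Finset.sum_congr rfl fun i _ => h1]
  simp

omit hδ in
/-- The stalk isomorphism of a frame. -/
def Frame.equiv {F : X.Modules} {n : Pt δ k → ℕ} (Φ : Frame δ k F n) (t : Pt δ k) :
    F.presheaf.stalk t.1 ≃ₗ[X.presheaf.stalk t.1] (Mo n).presheaf.stalk t.1 :=
  (LinearEquiv.ofBijective _ (Φ.hφ.bij t.1 t.2.ge)).trans (LinearEquiv.ofBijective _ (Φ.hρ.bij t.1 t.2.ge)).symm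

theorem Frame.n_eq {F : X.Modules} {n : Pt δ k → ℕ} (Φ : Frame δ k F n) : n = nF δ k F := funext fun t => by
  show n t = (Module.length _ _).toNat
  rw [(Φ.equiv t).length_eq,
    ← (LinearEquiv.ofBijective _ (bijective_ι hδ (fun t y hy => (support_Rn (n := n) t y hy).2) t).1).length_eq,
    length_Rn hδ]
  rfl

theorem exists_frame {F : X.Modules} (hF : P δ k F) : Nonempty (Frame δ k F (nF δ k F)) := by
  classical
  have hn := lf_nF hδ hF.1
  have hM : Cyc.CohLe δ (k + 1) (F ⊞ Mo (nF δ k F)) :=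
    cohLe_X₂ (ShortComplex.Splitting.ofHasBinaryBiproduct F _).shortExact hF.1 (cohLe_Mo hδ hn)
  have he : ∀ t : Pt δ k, Nonempty ((Mo (nF δ k F)).presheaf.stalk t.1 ≃ₗ[X.presheaf.stalk t.1] F.presheaf.stalk t.1) :=
    fun t => by
      obtain ⟨e⟩ := exists_equiv_pow (hF.2 t.1 t.2) (isFiniteLength_stalk hδ hF.1 t.2)
      exact ⟨(LinearEquiv.ofBijective _
        (bijective_ι hδ (fun t y hy => (support_Rn (n := nF δ k F) t y hy).2) t).1).symm.trans
          ((coords t.1 _).trans e.symm)⟩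
  let e := fun t => (he t).some
  let q : ∀ t : Pt δ k, (F ⊞ Mo (nF δ k F)).presheaf.stalk t.1 →ₗ[X.presheaf.stalk t.1] F.presheaf.stalk t.1 :=
    fun t => sl (biprod.fst : F ⊞ Mo (nF δ k F) ⟶ F) t.1 + (e t).toLinearMap.comp (sl biprod.snd t.1)
  have hqa : ∀ t v, q t (sl (biprod.inl : F ⟶ F ⊞ Mo (nF δ k F)) t.1 v) = v := fun t v => by
    simp [q, ← sl_comp_apply, sl_id, sl_zero]
  have hqb : ∀ t v, q t (sl (biprod.inr : Mo (nF δ k F) ⟶ F ⊞ Mo (nF δ k F)) t.1 v) = e t v := fun t v => by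
    simp [q, ← sl_comp_apply, sl_id, sl_zero]
  obtain ⟨T, r, eT, hT, hr⟩ := exists_toSigma hδ hM (fun t => F.presheaf.stalk t.1) q
    (fun t v => ⟨_, hqa t v⟩) (fun t => hF.2 t.1 t.2)
  refine ⟨⟨T, biprod.inl ≫ r, biprod.inr ≫ r, ti_of_pt hδ hF.1 hT _ fun t => ?_,
    ti_of_pt hδ (cohLe_Mo hδ hn) hT _ fun t => ?_⟩⟩
  · refine (Function.Bijective.of_comp_iff' (eT t).bijective _).mp ?_
    rw [show ⇑(eT t) ∘ ⇑(sl (biprod.inl ≫ r) t.1) = id from funext fun v => by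
      show eT t (sl (biprod.inl ≫ r) t.1 v) = v
      rw [sl_comp_apply, hr, hqa]]
    exact Function.bijective_id
  · refine (Function.Bijective.of_comp_iff' (eT t).bijective _).mp ?_
    rw [show ⇑(eT t) ∘ ⇑(sl (biprod.inr ≫ r) t.1) = e t from funext fun v => by
      show eT t (sl (biprod.inr ≫ r) t.1 v) = e t v
      rw [sl_comp_apply, hr, hqb]]
    exact (e t).bijective

omit hδ in
/-- The functions underlying cycles rationally equivalent to zero. -/
def ratFun (δ : X → ℤ) (k : ℤ) : AddSubgroup (X → ℤ) where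
  carrier := {d | ∃ γ : AlgebraicCycle X ℤ, ⇑γ = d ∧ Cyc.RatEquivZero δ k γ}
  add_mem' := by rintro _ _ ⟨a, rfl, ha⟩ ⟨b, rfl, hb⟩; exact ⟨a + b, rfl, RatRel.add ha hb⟩
  zero_mem' := ⟨0, rfl, RatRel.zero⟩
  neg_mem' := by rintro _ ⟨a, rfl, ha⟩; exact ⟨-a, rfl, RatRel.neg ha⟩

theorem exists_ptRoof (hX : Cyc.IsSetup X δ) (t : Pt δ k) (m : ℕ) {V W : Type u} [AddCommGroup V]
    [Module (X.presheaf.stalk t.1) V] [AddCommGroup W] [Module (X.presheaf.stalk t.1) W]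
    (τ σ : W →ₗ[X.presheaf.stalk t.1] V) (ι : (Rn t.1 m).presheaf.stalk t.1 →ₗ[X.presheaf.stalk t.1] W)
    (hτ : Function.Bijective τ) (hσ : Function.Bijective σ) (hι : Function.Bijective ι) :
    ∃ (T : X.Modules) (a b : Rn t.1 m ⟶ T) (c : X.residueField t.1), OnPt T t.1 ∧
      (∀ y ∈ CohB1.support T, m ≠ 0) ∧ TI δ k a ∧ TI δ k b ∧ c ≠ 0 ∧ (m = 0 → c = 1) ∧
      chi δ k a - chi δ k b = Cyc.divFun δ t.1 c ∧
      ∀ v w, σ (ι v) = τ (ι w) → sl b t.1 v = sl a t.1 w := by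
  by_cases h0 : m = 0
  · haveI := subsingleton_of_notMem (empty_support_Rn (X := X) (ξ := t.1) h0 t.1)
    refine ⟨Rn t.1 m, 𝟙 _, 𝟙 _, 1, onPt_Rn _ _, fun y hy => absurd hy (empty_support_Rn h0 y),
      TI.id ((onPt_Rn _ _).cohLe hδ t.2), TI.id ((onPt_Rn _ _).cohLe hδ t.2), one_ne_zero, fun _ => rfl, ?_,
      fun v w _ => congrArg _ (Subsingleton.elim v w)⟩
    funext x
    simp [divFun_one]
  · let e := (LinearEquiv.ofBijective ι hι).trans (LinearEquiv.ofBijective τ hτ)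
    let g := e.symm.toLinearMap.comp (σ.comp ι)
    have hg : Function.Bijective g := e.symm.bijective.comp (hσ.comp hι)
    obtain ⟨A, hA, hev⟩ := exists_ev t.1 m g hg
    obtain ⟨T, a, b, hT, ha, hb, hab, hd⟩ := rep_det hδ t.2 hX A hA
    refine ⟨T, a, b, (A.det : X.residueField t.1), hT, fun _ _ => h0, ha, hb, hA, fun h => absurd h h0, hd.symm,
      fun v w h => ?_⟩
    rw [hab, hev, LinearMap.comp_apply]
    refine congrArg (sl a t.1) ?_
    show e.symm (σ (ι v)) = w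
    rw [h]
    exact e.symm_apply_apply w

/-- The cycle of a frame is well defined modulo rational equivalence. -/
theorem D_sub_mem (hX : Cyc.IsSetup X δ) {F : X.Modules} {n : Pt δ k → ℕ} (hn : LF n) (Φ Φ' : Frame δ k F n) :
    Φ.D - Φ'.D ∈ ratFun δ k := by
  classical
  obtain ⟨hi, hj⟩ := Φ.hφ.po Φ'.hφ
  obtain ⟨σ, hσdef⟩ : ∃ σ : Mo n ⟶ po Φ.φ Φ'.φ, σ = Φ'.ρ ≫ poInr Φ.φ Φ'.φ := ⟨_, rfl⟩
  obtain ⟨τ, hτdef⟩ : ∃ τ : Mo n ⟶ po Φ.φ Φ'.φ, τ = Φ.ρ ≫ poInl Φ.φ Φ'.φ := ⟨_, rfl⟩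
  have hσ : TI δ k σ := hσdef ▸ Φ'.hρ.comp hj
  have hτ : TI δ k τ := hτdef ▸ Φ.hρ.comp hi
  have eD : Φ.D - Φ'.D = chi δ k σ - chi δ k τ := by
    have e0 : chi δ k Φ.φ + chi δ k (poInl Φ.φ Φ'.φ) = chi δ k Φ'.φ + chi δ k (poInr Φ.φ Φ'.φ) := by
      rw [← chi_comp hδ Φ.hφ hi, ← chi_comp hδ Φ'.hφ hj, po_w]
    rw [hσdef, hτdef]
    simp only [Frame.D, chi_comp hδ Φ'.hρ hj, chi_comp hδ Φ.hρ hi]
    funext x
    have := congrFun e0 x
    simp only [Pi.add_apply, Pi.sub_apply] at this ⊢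
    linarith
  rw [eD]
  have hι := fun t : Pt δ k => (bijective_ι hδ (fun t y hy => (support_Rn (n := n) t y hy).2) t).1
  have hroof := fun t : Pt δ k => exists_ptRoof hδ hX t (n t) (sl τ t.1) (sl σ t.1)
    (sl (Sigma.ι (fun t : Pt δ k => Rn t.1 (n t)) t) t.1) (hτ.bij t.1 t.2.ge) (hσ.bij t.1 t.2.ge) (hι t)
  choose T a b c hT hT0 ha hb hc hc0 hab hrel using hroof
  have hlR : LocFin fun t : Pt δ k => Rn t.1 (n t) := locFin_of_pt hn support_Rn
  have hlT : LocFin T := locFin_of_pt hn fun t y hy => ⟨hT0 t y hy, (hT t).spec y hy⟩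
  obtain ⟨tA, cA⟩ := chi_sigma hδ hlR hlT ha
  obtain ⟨tB, cB⟩ := chi_sigma hδ hlR hlT hb
  let A := Limits.Sigma.map a
  let B := Limits.Sigma.map b
  obtain ⟨hp, hq⟩ := hτ.po tA
  have e1 : chi δ k (σ ≫ poInl τ A) = chi δ k (B ≫ poInr τ A) := by
    refine chi_congr_top hδ (hσ.comp hp) (tB.comp hq) fun y hy => ?_
    by_cases e : δ y = k + 1
    swap
    · haveI := subsingleton_of_notMem (subsingleton_of_above (cohLe_Mo hδ hn) hy e)
      exact LinearMap.ext fun v => by rw [Subsingleton.elim v 0, map_zero, map_zero]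
    refine LinearMap.ext fun v => ?_
    obtain ⟨v, rfl⟩ := (hι ⟨y, e⟩).2 v
    obtain ⟨z, hz⟩ := (hτ.bij y hy).2 (sl σ y (sl (Sigma.ι (fun t : Pt δ k => Rn t.1 (n t)) ⟨y, e⟩) y v))
    obtain ⟨w, rfl⟩ := (hι ⟨y, e⟩).2 z
    have hw' := hz.symm
    have h1 := hrel ⟨y, e⟩ v w hw'
    rw [sl_comp_apply σ (poInl τ A), hw', ← sl_comp_apply τ (poInl τ A), po_w, sl_comp_apply A (poInr τ A),
      sl_comp_apply B (poInr τ A)]
    refine congrArg (sl (poInr τ A) y) ?_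
    have hA' : sl A y (sl (Sigma.ι (fun t => Rn t.1 (n t)) ⟨y, e⟩) y w) = sl (Sigma.ι T ⟨y, e⟩) y (sl (a ⟨y, e⟩) y w) := by
      rw [← sl_comp_apply, ← sl_comp_apply, Sigma.ι_map]
    have hB' : sl B y (sl (Sigma.ι (fun t => Rn t.1 (n t)) ⟨y, e⟩) y v) = sl (Sigma.ι T ⟨y, e⟩) y (sl (b ⟨y, e⟩) y v) := by
      rw [← sl_comp_apply, ← sl_comp_apply, Sigma.ι_map]
    rw [hA', hB', h1]
  have e2 : chi δ k (τ ≫ poInl τ A) = chi δ k (A ≫ poInr τ A) := by rw [po_w]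
  rw [chi_comp hδ hσ hp, chi_comp hδ tB hq] at e1
  rw [chi_comp hδ hτ hp, chi_comp hδ tA hq] at e2
  have e3 : chi δ k σ - chi δ k τ = chi δ k B - chi δ k A := by
    funext x
    have h1 := congrFun e1 x
    have h2 := congrFun e2 x
    simp only [Pi.add_apply, Pi.sub_apply] at h1 h2 ⊢
    linarith
  rw [e3, ← neg_sub]
  refine neg_mem ?_
  obtain ⟨γA, hγA⟩ := exists_cycle hδ tA
  obtain ⟨γB, hγB⟩ := exists_cycle hδ tB
  refine ⟨γA - γB, by rw [← hγA, ← hγB]; rfl, {t : Pt δ k // n t ≠ 0}, fun t => t.1.1, fun t => c t.1,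
    fun t => t.1.2, fun t => hc t.1, fun x => ?_, fun x => ?_⟩
  · obtain ⟨U, hxU, hU⟩ := hn x
    refine ⟨U, U.isOpen, hxU, (hU.preimage (f := fun t : {t : Pt δ k // n t ≠ 0} => t.1)
      Subtype.val_injective.injOn).subset ?_⟩
    rintro t ⟨y, hy, hyU⟩
    exact ⟨t.2, (specializes_iff_mem_closure.mpr hy).mem_open U.isOpen hyU⟩
  · show γA x - γB x = _
    rw [hγA, hγB, (cA x).2, (cB x).2, ← finsum_sub_distrib (cA x).1 (cB x).1]
    have e4 : ∀ t : Pt δ k, chi δ k (a t) x - chi δ k (b t) x = Cyc.divFun δ t.1 (c t) x := fun t =>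
      congrFun (hab t) x
    rw [finsum_congr e4]
    exact finsum_eq_subtype (fun t : Pt δ k => n t ≠ 0) _ fun t h0 => by
      rw [hc0 t (not_not.mp h0), divFun_one]

/-- The class of a frame, in functions modulo rational equivalence. -/
def psi (δ : X → ℤ) (k : ℤ) (F : X.Modules) : (X → ℤ) ⧸ ratFun δ k :=
  open scoped Classical in
  if h : Nonempty (Frame δ k F (nF δ k F)) then QuotientAddGroup.mk h.some.D else 0

theorem psi_eq (hX : Cyc.IsSetup X δ) {F : X.Modules} {n : Pt δ k → ℕ} (Φ : Frame δ k F n) :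
    psi δ k F = QuotientAddGroup.mk Φ.D := by
  obtain rfl := Φ.n_eq hδ
  have h : Nonempty (Frame δ k F (nF δ k F)) := ⟨Φ⟩
  rw [psi, dif_pos h, QuotientAddGroup.eq_iff_sub_mem]
  exact D_sub_mem hδ hX (lf_nF hδ Φ.hφ.src) _ _

theorem psi_small (hX : Cyc.IsSetup X δ) {G : X.Modules} (hG : Cyc.CohLe δ k G) :
    psi δ k G = QuotientAddGroup.mk (Cyc.sheafFun δ k G) := by
  have hn : LF (fun _ : Pt δ k => 0) := fun x => ⟨⊤, trivial, by simp⟩
  have hG' : Cyc.CohLe δ (k + 1) G := cohLe_mono (by omega) hG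
  have hno : ∀ y, y ∉ CohB1.support (Mo (fun _ : Pt δ k => 0)) := fun y hy => by
    obtain ⟨t, ht⟩ := Set.mem_iUnion.mp (support_sigma _ hy)
    exact empty_support_Rn rfl y ht
  let Φ : Frame δ k G (fun _ => 0) :=
    { S := Mo (fun _ => 0)
      φ := 0
      ρ := 𝟙 _
      hφ := ⟨hG', cohLe_Mo hδ hn, fun y hy => bijective_of_notMem _ (fun h => by
        have := (cohLe_iff.mp hG).2 y h
        omega) (hno y)⟩
      hρ := TI.id (cohLe_Mo hδ hn) }
  rw [psi_eq hδ hX Φ]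
  congr 1
  funext x
  show chi δ k (0 : G ⟶ Mo (fun _ : Pt δ k => 0)) x - chi δ k (𝟙 (Mo (fun _ : Pt δ k => 0))) x = _
  rw [show chi δ k (𝟙 (Mo (fun _ : Pt δ k => 0))) x = 0 from congrFun (chi_iso _) x, sub_zero]
  by_cases hx : δ x = k
  · haveI := subsingleton_of_notMem (hno x)
    haveI : Subsingleton ((Mo (fun _ : Pt δ k => 0)).presheaf.stalk x ⧸
        LinearMap.range (sl (0 : G ⟶ Mo (fun _ : Pt δ k => 0)) x)) :=
      (Submodule.Quotient.mk_surjective _).subsingleton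
    have hk : LinearMap.ker (sl (0 : G ⟶ Mo (fun _ : Pt δ k => 0)) x) = ⊤ :=
      eq_top_iff.mpr fun v _ => Subsingleton.elim _ _
    simp [chi, hx, sheafFun_of_eq hx, idx, Module.length_eq_zero_iff.mpr ‹Subsingleton (_ ⧸ _)›,
      (LinearEquiv.ofEq _ _ hk).length_eq, Module.length_top]
  · simp [chi, hx, sheafFun_of_ne hx]

omit hδ in
/-- Copies add up. -/
def RnAdd (ξ : X) (a b : ℕ) : Rn ξ (a + b) ≅ Rn ξ a ⊞ Rn ξ b where
  hom := Sigma.desc fun i => Fin.addCases (motive := fun _ => Md ξ ⟶ Rn ξ a ⊞ Rn ξ b)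
    (fun j => Sigma.ι (fun _ : ULift.{u} (_root_.Fin a) => Md ξ) ⟨j⟩ ≫ biprod.inl)
    (fun j => Sigma.ι (fun _ : ULift.{u} (_root_.Fin b) => Md ξ) ⟨j⟩ ≫ biprod.inr) i.down
  inv := biprod.desc
    (Sigma.desc fun j => Sigma.ι (fun _ : ULift.{u} (_root_.Fin (a + b)) => Md ξ) ⟨Fin.castAdd b j.down⟩)
    (Sigma.desc fun j => Sigma.ι (fun _ : ULift.{u} (_root_.Fin (a + b)) => Md ξ) ⟨Fin.natAdd a j.down⟩)
  hom_inv_id := Sigma.hom_ext _ _ fun ⟨i⟩ => by
    induction i using Fin.addCases with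
    | left i => simp
    | right i => simp
  inv_hom_id := biprod.hom_ext' _ _ (Sigma.hom_ext _ _ fun i => by simp) (Sigma.hom_ext _ _ fun i => by simp)

omit hδ in
/-- Coproducts commute with biproducts. -/
def sigmaBiprod {I : Type u} (A B : I → X.Modules) : (∐ fun i => A i ⊞ B i) ≅ (∐ A) ⊞ (∐ B) where
  hom := Sigma.desc fun i => biprod.map (Sigma.ι A i) (Sigma.ι B i)
  inv := biprod.desc (Sigma.desc fun i => biprod.inl ≫ Sigma.ι (fun i => A i ⊞ B i) i)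
    (Sigma.desc fun i => biprod.inr ≫ Sigma.ι (fun i => A i ⊞ B i) i)
  hom_inv_id := Sigma.hom_ext _ _ fun i => biprod.hom_ext' _ _ (by simp) (by simp)
  inv_hom_id := biprod.hom_ext' _ _ (Sigma.hom_ext _ _ fun i => by simp) (Sigma.hom_ext _ _ fun i => by simp)

omit hδ in
/-- Models add up. -/
def MoAdd (n n' : Pt δ k → ℕ) : Mo (n + n') ≅ Mo n ⊞ Mo n' :=
  Sigma.mapIso (fun t => RnAdd t.1 (n t) (n' t)) ≪≫ sigmaBiprod _ _

theorem psi_add (hX : Cyc.IsSetup X δ) {S : ShortComplex X.Modules} (hS : S.ShortExact) (h₁ : P δ k S.X₁)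
    (h₂ : P δ k S.X₂) (h₃ : P δ k S.X₃) : psi δ k S.X₂ = psi δ k S.X₁ + psi δ k S.X₃ := by
  classical
  haveI := hS.mono_f
  haveI := hS.epi_g
  obtain ⟨Φ₁⟩ := exists_frame hδ h₁
  obtain ⟨Φ₃⟩ := exists_frame hδ h₃
  choose τ hτ using fun t : Pt δ k =>
    exists_retraction (h₂.2 t.1 t.2) (h₁.2 t.1 t.2) (sl S.f t.1) (sl_injective S.f t.1)
  obtain ⟨T, r, eT, hT, hr⟩ := exists_toSigma hδ h₂.1 (fun t => S.X₁.presheaf.stalk t.1) τ
    (fun t v => ⟨_, LinearMap.congr_fun (hτ t) v⟩) (fun t => h₁.2 t.1 t.2)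
  let u := S.f ≫ r
  have hu : TI δ k u := ti_of_pt hδ h₁.1 hT u fun t => by
    refine (Function.Bijective.of_comp_iff' (eT t).bijective _).mp ?_
    rw [show ⇑(eT t) ∘ ⇑(sl u t.1) = id from funext fun v => by
      show eT t (sl (S.f ≫ r) t.1 v) = v
      rw [sl_comp_apply, hr]
      exact LinearMap.congr_fun (hτ t) v]
    exact Function.bijective_id
  let v : S.X₂ ⟶ T ⊞ S.X₃ := biprod.lift r S.g
  obtain ⟨cv, bv⟩ := chi_restrict (δ := δ) (k := k) hS
    (ShortComplex.Splitting.ofHasBinaryBiproduct T S.X₃).shortExact rfl u v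
    (biprod.hom_ext _ _ (by simp [u, v]) (by simp [u, v, S.zero])) (by simp [v])
  have hT3 : Cyc.CohLe δ (k + 1) (T ⊞ S.X₃) :=
    cohLe_X₂ (ShortComplex.Splitting.ofHasBinaryBiproduct T S.X₃).shortExact hT h₃.1
  have hv : TI δ k v := ⟨h₂.1, hT3, fun y hy => bv y (hu.bij y hy)⟩
  obtain ⟨hi, hj⟩ := hu.po Φ₁.hφ
  obtain ⟨t1, c1⟩ := chi_biprodMap hδ hi Φ₃.hφ
  obtain ⟨t2, c2⟩ := chi_biprodMap hδ (Φ₁.hρ.comp hj) Φ₃.hρ
  have hn := lf_nF hδ h₁.1
  have hn' := lf_nF hδ h₃.1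
  have hM : Cyc.CohLe δ (k + 1) (Mo (nF δ k S.X₁ + nF δ k S.X₃)) :=
    cohLe_congr (MoAdd _ _).symm (cohLe_X₂ (ShortComplex.Splitting.ofHasBinaryBiproduct _ _).shortExact
      (cohLe_Mo hδ hn) (cohLe_Mo hδ hn'))
  let Φ : Frame δ k S.X₂ (nF δ k S.X₁ + nF δ k S.X₃) :=
    { S := po u Φ₁.φ ⊞ Φ₃.S
      φ := v ≫ biprod.map (poInl u Φ₁.φ) Φ₃.φ
      ρ := (MoAdd _ _).hom ≫ biprod.map (Φ₁.ρ ≫ poInr u Φ₁.φ) Φ₃.ρ
      hφ := hv.comp t1
      hρ := (TI.of_iso (MoAdd _ _) hM).comp t2 }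
  rw [psi_eq hδ hX Φ, psi_eq hδ hX Φ₁, psi_eq hδ hX Φ₃, ← QuotientAddGroup.mk_add]
  refine congrArg _ ?_
  show chi δ k (v ≫ biprod.map (poInl u Φ₁.φ) Φ₃.φ) -
    chi δ k ((MoAdd _ _).hom ≫ biprod.map (Φ₁.ρ ≫ poInr u Φ₁.φ) Φ₃.ρ) = Φ₁.D + Φ₃.D
  rw [chi_comp hδ hv t1, chi_comp hδ (TI.of_iso (MoAdd _ _) hM) t2, c1, c2, cv, chi_comp hδ Φ₁.hρ hj,
    chi_iso (MoAdd _ _).hom]
  have e0 : chi δ k u + chi δ k (poInl u Φ₁.φ) = chi δ k Φ₁.φ + chi δ k (poInr u Φ₁.φ) := by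
    rw [← chi_comp hδ hu hi, ← chi_comp hδ Φ₁.hφ hj, po_w]
  funext x
  have := congrFun e0 x
  simp only [Frame.D, Pi.add_apply, Pi.sub_apply, Pi.zero_apply] at this ⊢
  linarith

end Groth.Agent.H3Cyc.KFrame
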