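import Groth.Agent.H3Cyc.KCls
import Mathlib

/-!
# The index of maps of coherent modules which are isomorphisms in dimension `> k`
-/

set_option autoImplicit false
set_option linter.style.haveILetI false
set_option linter.unusedSectionVars false
set_option backward.isDefEq.respectTransparency.types false
universe u v

open CategoryTheory CategoryTheory.Limits AlgebraicGeometry TopologicalSpace Opposite
open Groth.Agent.H16Derived.KFlat.Stalk
open Groth.Agent.H3Cyc.KDev Groth.Agent.H3Cyc.KSky Groth.Agent.H3Cyc.KFam Groth.Agent.H3Cyc.KCls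

noncomputable section

namespace Groth.Agent.H3Cyc.KIndex

section algebra

variable {R : Type u} [CommRing R] {M N P : Type u} [AddCommGroup M] [Module R M] [AddCommGroup N] [Module R N]
  [AddCommGroup P] [Module R P]

/-- The index of a linear map. -/
def idx (f : M →ₗ[R] N) : ℤ :=
  ((Module.length R (LinearMap.ker f)).toNat : ℤ) - ((Module.length R (N ⧸ LinearMap.range f)).toNat : ℤ)

/-- Kernel and cokernel have finite length. -/
structure Fin (f : M →ₗ[R] N) : Prop where
  ker : Module.length R (LinearMap.ker f) ≠ ⊤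
  coker : Module.length R (N ⧸ LinearMap.range f) ≠ ⊤

theorem length_surj (h : M →ₗ[R] N) (hs : Function.Surjective h) :
    Module.length R M = Module.length R (LinearMap.ker h) + Module.length R N :=
  Module.length_eq_add_of_exact (LinearMap.ker h).subtype h (LinearMap.ker h).injective_subtype hs
    (LinearMap.exact_iff.mpr (Submodule.range_subtype _).symm)

theorem idx_comp {f : M →ₗ[R] N} {g : N →ₗ[R] P} (hf : Fin f) (hg : Fin g) :
    Fin (g.comp f) ∧ idx (g.comp f) = idx f + idx g := by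
  let K := LinearMap.ker g
  let W := LinearMap.range f ⊔ K
  let c : K →ₗ[R] N ⧸ LinearMap.range f := (LinearMap.range f).mkQ.comp K.subtype
  let π : LinearMap.ker (g.comp f) →ₗ[R] LinearMap.ker c :=
    { toFun := fun m => ⟨⟨f m.1, m.2⟩, (Submodule.Quotient.mk_eq_zero _).mpr ⟨m.1, rfl⟩⟩
      map_add' := fun a b => Subtype.ext (Subtype.ext (map_add f _ _))
      map_smul' := fun r a => Subtype.ext (Subtype.ext (map_smul f r _)) }
  have hπ : Function.Surjective π := fun ⟨⟨n, hn⟩, hn'⟩ => by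
    obtain ⟨m, hm⟩ := (Submodule.Quotient.mk_eq_zero _).mp (show (LinearMap.range f).mkQ n = 0 from hn')
    exact ⟨⟨m, show g (f m) = 0 by rw [hm]; exact hn⟩, Subtype.ext (Subtype.ext hm)⟩
  have e1 : LinearMap.ker π ≃ₗ[R] LinearMap.ker f :=
    { toFun := fun m => ⟨m.1.1, congrArg (fun v : LinearMap.ker c => (v.1.1 : N)) (show π m.1 = 0 from m.2)⟩
      invFun := fun m => ⟨⟨m.1, show g (f m.1) = 0 by rw [show f m.1 = 0 from m.2, map_zero]⟩,
        Subtype.ext (Subtype.ext m.2)⟩
      left_inv := fun _ => rfl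
      right_inv := fun _ => rfl
      map_add' := fun _ _ => rfl
      map_smul' := fun _ _ => rfl }
  have h1 : Module.length R (LinearMap.ker (g.comp f)) =
      Module.length R (LinearMap.ker f) + Module.length R (LinearMap.ker c) := by
    rw [length_surj π hπ, e1.length_eq]
  have h2 : Module.length R K = Module.length R (LinearMap.ker c) + Module.length R (LinearMap.range c) := by
    rw [length_surj c.rangeRestrict c.surjective_rangeRestrict, LinearMap.ker_rangeRestrict]
  let fac : (N ⧸ LinearMap.range f) →ₗ[R] N ⧸ W := Submodule.factor le_sup_left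
  have hfac : Function.Surjective fac := Submodule.factor_surjective le_sup_left
  have hkf : LinearMap.ker fac = LinearMap.range c := by
    ext q
    obtain ⟨n, rfl⟩ := Submodule.Quotient.mk_surjective _ q
    constructor
    · intro h
      obtain ⟨a, ha, b, hb, rfl⟩ := Submodule.mem_sup.mp ((Submodule.Quotient.mk_eq_zero W).mp h)
      refine ⟨⟨b, hb⟩, (Submodule.Quotient.eq _).mpr ?_⟩
      show b - (a + b) ∈ LinearMap.range f
      rw [sub_add_cancel_right]
      exact neg_mem ha
    · rintro ⟨⟨b, hb⟩, he⟩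
      refine (Submodule.Quotient.mk_eq_zero W).mpr ?_
      have : b - n ∈ LinearMap.range f := (Submodule.Quotient.eq _).mp he
      rw [← sub_sub_cancel b n]
      exact sub_mem (Submodule.mem_sup_right hb) (Submodule.mem_sup_left this)
  have h3 : Module.length R (N ⧸ LinearMap.range f) = Module.length R (LinearMap.range c) + Module.length R (N ⧸ W) := by
    rw [length_surj fac hfac, hkf]
  let d : N →ₗ[R] P ⧸ LinearMap.range (g.comp f) := (LinearMap.range (g.comp f)).mkQ.comp g
  have hd : LinearMap.ker d = W := by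
    show LinearMap.ker ((LinearMap.range (g.comp f)).mkQ.comp g) = _
    rw [LinearMap.ker_comp, Submodule.ker_mkQ, LinearMap.range_comp, Submodule.comap_map_eq]
  let fac2 : (P ⧸ LinearMap.range (g.comp f)) →ₗ[R] P ⧸ LinearMap.range g :=
    Submodule.factor (LinearMap.range_comp_le_range f g)
  have hk2 : LinearMap.ker fac2 = LinearMap.range d := by
    ext q
    obtain ⟨p, rfl⟩ := Submodule.Quotient.mk_surjective _ q
    constructor
    · intro h
      obtain ⟨n, rfl⟩ := (Submodule.Quotient.mk_eq_zero (LinearMap.range g)).mp h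
      exact ⟨n, rfl⟩
    · rintro ⟨n, hn⟩
      refine (Submodule.Quotient.mk_eq_zero (LinearMap.range g)).mpr ?_
      have : g n - p ∈ LinearMap.range g := LinearMap.range_comp_le_range f g ((Submodule.Quotient.eq _).mp hn)
      rw [← sub_sub_cancel (g n) p]
      exact sub_mem ⟨n, rfl⟩ this
  have h4 : Module.length R (P ⧸ LinearMap.range (g.comp f)) =
      Module.length R (N ⧸ W) + Module.length R (P ⧸ LinearMap.range g) := by
    rw [length_surj fac2 (Submodule.factor_surjective _), hk2, ← d.quotKerEquivRange.length_eq,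
      (Submodule.quotEquivOfEq _ _ hd).length_eq]
  have hK := hg.ker
  have hA := hf.coker
  rw [show LinearMap.ker g = K from rfl, h2] at hK
  rw [h3] at hA
  replace hK := not_or.mp (mt ENat.add_eq_top.mpr hK)
  replace hA := not_or.mp (mt ENat.add_eq_top.mpr hA)
  obtain ⟨a, ha⟩ := ENat.ne_top_iff_exists.mp hf.ker
  obtain ⟨b, hb⟩ := ENat.ne_top_iff_exists.mp hK.1
  obtain ⟨r, hr⟩ := ENat.ne_top_iff_exists.mp hK.2
  obtain ⟨w, hw⟩ := ENat.ne_top_iff_exists.mp hA.2
  obtain ⟨z, hz⟩ := ENat.ne_top_iff_exists.mp hg.coker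
  rw [← ha, ← hb, ← Nat.cast_add] at h1
  rw [← hb, ← hr, ← Nat.cast_add] at h2
  rw [← hr, ← hw, ← Nat.cast_add] at h3
  rw [← hw, ← hz, ← Nat.cast_add] at h4
  refine ⟨⟨by rw [h1]; exact ENat.natCast_ne_top _, by rw [h4]; exact ENat.natCast_ne_top _⟩, ?_⟩
  have h2' : Module.length R (LinearMap.ker g) = ((b + r : ℕ) : ℕ∞) := h2
  simp only [idx, h1, h3, h4, h2', ← ha, ← hz, ENat.toNat_natCast]
  push_cast
  ring

theorem idx_of_bijective {f : M →ₗ[R] N} (hf : Function.Bijective f) : Fin f ∧ idx f = 0 := by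
  haveI : Subsingleton (LinearMap.ker f) := by
    rw [LinearMap.ker_eq_bot.mpr hf.1]; infer_instance
  haveI : Subsingleton (N ⧸ LinearMap.range f) :=
    Submodule.Quotient.subsingleton_iff.mpr (LinearMap.range_eq_top.mpr hf.2)
  have e1 : Module.length R (LinearMap.ker f) = 0 := Module.length_eq_zero_iff.mpr ‹_›
  have e2 : Module.length R (N ⧸ LinearMap.range f) = 0 := Module.length_eq_zero_iff.mpr ‹_›
  exact ⟨⟨by rw [e1]; exact ENat.zero_ne_top, by rw [e2]; exact ENat.zero_ne_top⟩, by simp [idx, e1, e2]⟩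

/-- A map of short exact sequences which is the identity on the quotient has the index of its restriction. -/
theorem idx_restrict {M₁ N₁ Q : Type u} [AddCommGroup M₁] [Module R M₁] [AddCommGroup N₁] [Module R N₁]
    [AddCommGroup Q] [Module R Q] (i : M₁ →ₗ[R] M) (p : M →ₗ[R] Q) (j : N₁ →ₗ[R] N) (q : N →ₗ[R] Q)
    (hi : Function.Injective i) (hj : Function.Injective j) (hp : Function.Surjective p)
    (he : Function.Exact i p) (he' : Function.Exact j q) (u : M₁ →ₗ[R] N₁) (v : M →ₗ[R] N)
    (w : v.comp i = j.comp u) (w' : q.comp v = p) :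
    idx v = idx u ∧ (Function.Bijective u → Function.Bijective v) := by
  have w1 : ∀ m, v (i m) = j (u m) := fun m => LinearMap.congr_fun w m
  have w2 : ∀ m, q (v m) = p m := fun m => LinearMap.congr_fun w' m
  have hker : ∀ m, v m = 0 → ∃ m₁, u m₁ = 0 ∧ i m₁ = m := fun m hm => by
    obtain ⟨m₁, rfl⟩ := (he m).mp (by rw [← w2, hm, map_zero])
    exact ⟨m₁, hj (by rw [← w1, hm, map_zero]), rfl⟩
  have hcok : ∀ n, ∃ m n₁, n = v m + j n₁ := fun n => by
    obtain ⟨m, hm⟩ := hp (q n)
    obtain ⟨n₁, hn₁⟩ := (he' (n - v m)).mp (by rw [map_sub, w2, hm, sub_self])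
    exact ⟨m, n₁, by rw [hn₁, add_sub_cancel]⟩
  let ek : LinearMap.ker u →ₗ[R] LinearMap.ker v :=
    { toFun := fun m => ⟨i m.1, show v (i m.1) = 0 by rw [w1, show u m.1 = 0 from m.2, map_zero]⟩
      map_add' := fun a b => Subtype.ext (map_add i _ _)
      map_smul' := fun r a => Subtype.ext (map_smul i r _) }
  have hek : Function.Bijective ek := ⟨fun a b h => Subtype.ext (hi (congrArg Subtype.val h)), fun ⟨m, hm⟩ => by
    obtain ⟨m₁, h₁, h₂⟩ := hker m hm
    exact ⟨⟨m₁, h₁⟩, Subtype.ext h₂⟩⟩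
  let ec : (N₁ ⧸ LinearMap.range u) →ₗ[R] N ⧸ LinearMap.range v :=
    Submodule.mapQ _ _ j (by rintro _ ⟨m, rfl⟩; exact ⟨i m, w1 m⟩)
  have hec : Function.Bijective ec := by
    refine ⟨(injective_iff_map_eq_zero ec).mpr fun a ha => ?_, fun b => ?_⟩
    · obtain ⟨n₁, rfl⟩ := Submodule.Quotient.mk_surjective _ a
      obtain ⟨m, hm⟩ := (Submodule.Quotient.mk_eq_zero (LinearMap.range v)).mp ha
      obtain ⟨m₁, rfl⟩ := (he m).mp (by rw [← w2, hm]; exact he'.apply_apply_eq_zero n₁)
      exact (Submodule.Quotient.mk_eq_zero _).mpr ⟨m₁, hj (by rw [← w1, hm])⟩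
    · obtain ⟨n, rfl⟩ := Submodule.Quotient.mk_surjective _ b
      obtain ⟨m, n₁, rfl⟩ := hcok n
      exact ⟨Submodule.Quotient.mk n₁, (Submodule.Quotient.eq _).mpr ⟨-m, by rw [map_neg]; abel⟩⟩
  refine ⟨?_, fun hu => ⟨fun a b hab => ?_, fun n => ?_⟩⟩
  · simp only [idx, (LinearEquiv.ofBijective ek hek).length_eq, (LinearEquiv.ofBijective ec hec).length_eq]
  · obtain ⟨m₁, h₁, h₂⟩ := hker (a - b) (by rw [map_sub, hab, sub_self])
    rw [hu.1 (h₁.trans (map_zero u).symm), map_zero] at h₂
    exact sub_eq_zero.mp h₂.symm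
  · obtain ⟨m, n₁, rfl⟩ := hcok n
    obtain ⟨m₁, rfl⟩ := hu.2 n₁
    exact ⟨m + i m₁, by rw [map_add, w1]⟩

/-- The index of a product of maps. -/
theorem idx_pi {J : Type u} [Fintype J] {A B : J → Type u} [∀ j, AddCommGroup (A j)] [∀ j, Module R (A j)]
    [∀ j, AddCommGroup (B j)] [∀ j, Module R (B j)] (f : ∀ j, A j →ₗ[R] B j) (hf : ∀ j, Fin (f j)) :
    idx (LinearMap.pi fun j => (f j).comp (LinearMap.proj j)) = ∑ j, idx (f j) := by
  let F : ((j : J) → A j) →ₗ[R] (j : J) → B j := LinearMap.pi fun j => (f j).comp (LinearMap.proj j)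
  let ek : LinearMap.ker F ≃ₗ[R] ((j : J) → LinearMap.ker (f j)) :=
    { toFun := fun a j => ⟨a.1 j, congrFun (show F a.1 = 0 from a.2) j⟩
      invFun := fun a => ⟨fun j => (a j).1, funext fun j => (a j).2⟩
      left_inv := fun _ => rfl
      right_inv := fun _ => rfl
      map_add' := fun _ _ => rfl
      map_smul' := fun _ _ => rfl }
  let Q : ((j : J) → B j) →ₗ[R] ((j : J) → B j ⧸ LinearMap.range (f j)) :=
    LinearMap.pi fun j => (LinearMap.range (f j)).mkQ.comp (LinearMap.proj j)
  have hQ : Function.Surjective Q := fun b => by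
    choose a ha using fun j => Submodule.Quotient.mk_surjective (LinearMap.range (f j)) (b j)
    exact ⟨a, funext ha⟩
  have hQk : LinearMap.ker Q = LinearMap.range F := by
    ext b
    constructor
    · intro h
      choose a ha using fun j => (Submodule.Quotient.mk_eq_zero (LinearMap.range (f j))).mp (congrFun h j)
      exact ⟨a, funext ha⟩
    · rintro ⟨a, rfl⟩
      exact funext fun j => (Submodule.Quotient.mk_eq_zero _).mpr ⟨a j, rfl⟩
  have ec := (Submodule.quotEquivOfEq _ _ hQk.symm).trans (Q.quotKerEquivOfSurjective hQ)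
  show idx F = _
  simp only [idx]
  rw [ek.length_eq, ec.length_eq, Module.length_pi_of_fintype, Module.length_pi_of_fintype,
    ENat.toNat_sum (fun j _ => (hf j).ker), ENat.toNat_sum (fun j _ => (hf j).coker), Nat.cast_sum, Nat.cast_sum,
    ← Finset.sum_sub_distrib]

end algebra

variable {X : Scheme.{u}} {δ : X → ℤ} {k : ℤ}

theorem sl_id (F : X.Modules) (x : X) : sl (𝟙 F) x = LinearMap.id :=
  congrArg ModuleCat.Hom.hom ((st x).map_id _)

theorem sl_zero {F G : X.Modules} (x : X) : sl (0 : F ⟶ G) x = 0 :=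
  congrArg ModuleCat.Hom.hom ((st x).map_zero _ _)

theorem sl_sub {F G : X.Modules} (f g : F ⟶ G) (x : X) : sl (f - g) x = sl f x - sl g x :=
  congrArg ModuleCat.Hom.hom ((st x).map_sub (f := f) (g := g))

theorem sl_add {F G : X.Modules} (f g : F ⟶ G) (x : X) : sl (f + g) x = sl f x + sl g x :=
  congrArg ModuleCat.Hom.hom ((st x).map_add (f := f) (g := g))

theorem sl_comp_apply {F G H : X.Modules} (f : F ⟶ G) (g : G ⟶ H) (x : X) (a : F.presheaf.stalk x) :
    sl (f ≫ g) x a = sl g x (sl f x a) := LinearMap.congr_fun (sl_comp f g x) a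

theorem sl_exact {S : ShortComplex X.Modules} (h : S.Exact) (x : X) : Function.Exact (sl S.f x) (sl S.g x) :=
  (ShortComplex.ShortExact.moduleCat_exact_iff_function_exact (S.map (st x))).mp (h.map (st x))

theorem sl_bijective_of_iso {F G : X.Modules} (e : F ≅ G) (x : X) : Function.Bijective (sl e.hom x) :=
  ⟨sl_injective e.hom x, sl_surjective e.hom x⟩

theorem subsingleton_of_notMem {F : X.Modules} {x : X} (h : x ∉ CohB1.support F) :
    Subsingleton (F.presheaf.stalk x) :=
  ModuleCat.isZero_iff_subsingleton.mp (notMem_support.mp h)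

theorem bijective_of_notMem {F G : X.Modules} (f : F ⟶ G) {x : X} (hF : x ∉ CohB1.support F)
    (hG : x ∉ CohB1.support G) : Function.Bijective (sl f x) := by
  haveI := subsingleton_of_notMem hF
  haveI := subsingleton_of_notMem hG
  exact ⟨fun _ _ _ => Subsingleton.elim _ _, fun b => ⟨0, Subsingleton.elim _ _⟩⟩

/-- An isomorphism in dimension `> k` between modules of dimension `≤ k + 1`. -/
structure TI (δ : X → ℤ) (k : ℤ) {A B : X.Modules} (f : A ⟶ B) : Prop where
  src : Cyc.CohLe δ (k + 1) A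
  tgt : Cyc.CohLe δ (k + 1) B
  bij : ∀ y, k + 1 ≤ δ y → Function.Bijective (sl f y)

/-- The cycle of the kernel minus that of the cokernel. -/
def chi (δ : X → ℤ) (k : ℤ) {A B : X.Modules} (f : A ⟶ B) : X → ℤ :=
  fun x => if δ x = k then idx (sl f x) else 0

theorem TI.comp {A B C : X.Modules} {f : A ⟶ B} {g : B ⟶ C} (hf : TI δ k f) (hg : TI δ k g) : TI δ k (f ≫ g) :=
  ⟨hf.src, hg.tgt, fun y hy => by rw [sl_comp]; exact (hg.bij y hy).comp (hf.bij y hy)⟩

theorem TI.id {A : X.Modules} (hA : Cyc.CohLe δ (k + 1) A) : TI δ k (𝟙 A) :=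
  ⟨hA, hA, fun y _ => by rw [sl_id]; exact Function.bijective_id⟩

section

variable [IsLocallyNoetherian X] (hδ : Strict δ)

theorem TI.of_iso {A B : X.Modules} (e : A ≅ B) (hA : Cyc.CohLe δ (k + 1) A) : TI δ k e.hom :=
  ⟨hA, cohLe_congr e hA, fun y _ => sl_bijective_of_iso e y⟩

theorem TI.ker {A B : X.Modules} {f : A ⟶ B} (hf : TI δ k f) : Cyc.CohLe δ k (kernel f) := by
  refine cohLe_iff.mpr ⟨(cohLe_kernel f hf.src hf.tgt.1.1).1, fun y hy => ?_⟩
  by_contra h
  have h1 := hf.bij y (by omega)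
  refine hy ?_
  refine subsingleton_of_forall_eq 0 fun a => sl_injective (kernel.ι f) y ?_
  refine h1.1 ?_
  rw [map_zero, map_zero, ← sl_comp_apply, kernel.condition, sl_zero]
  rfl

theorem TI.coker {A B : X.Modules} {f : A ⟶ B} (hf : TI δ k f) : Cyc.CohLe δ k (cokernel f) := by
  refine cohLe_iff.mpr ⟨(cohLe_cokernel f hf.src.1.1 hf.tgt).1, fun y hy => ?_⟩
  by_contra h
  have h1 := hf.bij y (by omega)
  refine hy ?_
  refine subsingleton_of_forall_eq 0 fun c => ?_
  obtain ⟨b, rfl⟩ := sl_surjective (cokernel.π f) y c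
  obtain ⟨a, rfl⟩ := h1.2 b
  rw [← sl_comp_apply, cokernel.condition, sl_zero]
  rfl

/-- The kernel on stalks. -/
def kerEquiv {A B : X.Modules} (f : A ⟶ B) (x : X) :
    (kernel f).presheaf.stalk x ≃ₗ[X.presheaf.stalk x] LinearMap.ker (sl f x) :=
  LinearEquiv.ofBijective ((sl (kernel.ι f) x).codRestrict _ fun a => by
      rw [LinearMap.mem_ker, ← sl_comp_apply, kernel.condition, sl_zero]; rfl)
    ⟨fun a b h => sl_injective (kernel.ι f) x (congrArg Subtype.val h), fun ⟨a, ha⟩ => by
      obtain ⟨c, hc⟩ := (sl_exact (S := ShortComplex.mk (kernel.ι f) f (kernel.condition f))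
        (ShortComplex.exact_kernel f) x a).mp ha
      exact ⟨c, Subtype.ext hc⟩⟩

/-- The cokernel on stalks. -/
def cokerEquiv {A B : X.Modules} (f : A ⟶ B) (x : X) :
    (B.presheaf.stalk x ⧸ LinearMap.range (sl f x)) ≃ₗ[X.presheaf.stalk x] (cokernel f).presheaf.stalk x :=
  (Submodule.quotEquivOfEq _ _ (LinearMap.exact_iff.mp (sl_exact
      (S := ShortComplex.mk f (cokernel.π f) (cokernel.condition f)) (ShortComplex.exact_cokernel f) x)).symm).trans
    ((sl (cokernel.π f) x).quotKerEquivOfSurjective (sl_surjective (cokernel.π f) x))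

include hδ in
theorem TI.fin {A B : X.Modules} {f : A ⟶ B} (hf : TI δ k f) {x : X} (hx : δ x = k) : Fin (sl f x) :=
  ⟨by
    rw [← (kerEquiv f x).length_eq]
    exact Module.length_ne_top_iff.mpr (isFiniteLength_stalk hδ hf.ker hx), by
    rw [(cokerEquiv f x).length_eq]
    exact Module.length_ne_top_iff.mpr (isFiniteLength_stalk hδ hf.coker hx)⟩

theorem chi_eq {A B : X.Modules} (f : A ⟶ B) :
    chi δ k f = Cyc.sheafFun δ k (kernel f) - Cyc.sheafFun δ k (cokernel f) := by
  funext x
  by_cases hx : δ x = k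
  · simp only [chi, if_pos hx, Pi.sub_apply, sheafFun_of_eq hx, idx, (kerEquiv f x).length_eq,
      (cokerEquiv f x).length_eq]
  · simp only [chi, if_neg hx, Pi.sub_apply, sheafFun_of_ne hx, sub_zero]

include hδ in
/-- The index as a cycle. -/
theorem exists_cycle {A B : X.Modules} {f : A ⟶ B} (hf : TI δ k f) :
    ∃ γ : AlgebraicCycle X ℤ, ⇑γ = chi δ k f :=
  ⟨cycle hδ hf.ker - cycle hδ hf.coker, (chi_eq f).symm⟩

include hδ in
theorem chi_comp {A B C : X.Modules} {f : A ⟶ B} {g : B ⟶ C} (hf : TI δ k f) (hg : TI δ k g) :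
    chi δ k (f ≫ g) = chi δ k f + chi δ k g := by
  funext x
  by_cases hx : δ x = k
  · simp only [chi, if_pos hx, Pi.add_apply, sl_comp]
    exact (idx_comp (hf.fin hδ hx) (hg.fin hδ hx)).2
  · simp only [chi, if_neg hx, Pi.add_apply, add_zero]

theorem chi_iso {A B : X.Modules} (f : A ⟶ B) [IsIso f] : chi δ k f = 0 := by
  funext x
  by_cases hx : δ x = k
  · simp only [chi, if_pos hx, Pi.zero_apply]
    exact (idx_of_bijective (sl_bijective_of_iso (asIso f) x)).2
  · simp only [chi, if_neg hx, Pi.zero_apply]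

include hδ in
/-- Maps which agree in dimension `> k` have the same index. -/
theorem chi_congr_top {A B : X.Modules} {f g : A ⟶ B} (hf : TI δ k f) (hg : TI δ k g)
    (h : ∀ y, k + 1 ≤ δ y → sl f y = sl g y) : chi δ k f = chi δ k g := by
  let q := cokernel.π (f - g)
  have hC : Cyc.CohLe δ (k + 1) (cokernel (f - g)) := cohLe_cokernel _ hf.src.1.1 hf.tgt
  have hq : TI δ k q := by
    refine ⟨hf.tgt, hC, fun y hy => ⟨(injective_iff_map_eq_zero _).mpr fun a ha => ?_, sl_surjective q y⟩⟩
    obtain ⟨c, hc⟩ := (sl_exact (S := ShortComplex.mk (f - g) q (cokernel.condition _))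
      (ShortComplex.exact_cokernel (f - g)) y a).mp ha
    rw [← hc]
    show sl (f - g) y c = 0
    rw [sl_sub, h y hy, sub_self]
    rfl
  have e : f ≫ q = g ≫ q := sub_eq_zero.mp (by rw [← Preadditive.sub_comp]; exact cokernel.condition _)
  have e1 := chi_comp hδ hf hq
  rw [e, chi_comp hδ hg hq] at e1
  exact (add_right_cancel e1).symm

/-- A map of short exact sequences which is the identity on the quotient. -/
theorem chi_restrict {S T : ShortComplex X.Modules} (hS : S.ShortExact) (hT : T.ShortExact) (e : S.X₃ = T.X₃)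
    (u : S.X₁ ⟶ T.X₁) (v : S.X₂ ⟶ T.X₂) (w : S.f ≫ v = u ≫ T.f) (w' : v ≫ T.g = S.g ≫ eqToHom e) :
    chi δ k v = chi δ k u ∧ ∀ x, Function.Bijective (sl u x) → Function.Bijective (sl v x) := by
  haveI := hS.mono_f
  haveI := hT.mono_f
  haveI := hS.epi_g
  have key : ∀ x, idx (sl v x) = idx (sl u x) ∧ (Function.Bijective (sl u x) → Function.Bijective (sl v x)) :=
    fun x => by
      haveI : Epi (S.g ≫ eqToHom e) := epi_comp _ _
      refine idx_restrict (sl S.f x) (sl (S.g ≫ eqToHom e) x) (sl T.f x) (sl T.g x) (sl_injective _ x)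
        (sl_injective _ x) (sl_surjective _ x) (fun a => ⟨fun ha => (sl_exact hS.exact x a).mp ?_, ?_⟩)
        (sl_exact hT.exact x) (sl u x) (sl v x) (by rw [← sl_comp, ← sl_comp, w]) (by rw [← sl_comp, w'])
      · refine sl_injective (eqToHom e) x ?_
        rw [map_zero, ← sl_comp_apply]
        exact ha
      · rintro ⟨c, rfl⟩
        rw [← sl_comp_apply, ← Category.assoc, S.zero, zero_comp, sl_zero]
        rfl
  refine ⟨?_, fun x => (key x).2⟩
  funext x
  simp only [chi, (key x).1]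

section biprod

variable {A B A' B' : X.Modules}

include hδ in
theorem chi_biprodMap {f : A ⟶ A'} {g : B ⟶ B'} (hf : TI δ k f) (hg : TI δ k g) :
    TI δ k (biprod.map f g) ∧ chi δ k (biprod.map f g) = chi δ k f + chi δ k g := by
  have h1 := chi_restrict (δ := δ) (k := k) (ShortComplex.Splitting.ofHasBinaryBiproduct A B).shortExact
    (ShortComplex.Splitting.ofHasBinaryBiproduct A' B).shortExact rfl f (biprod.map f (𝟙 B))
    (by simp) (by simp)
  let S₂ : ∀ Z : X.Modules, ShortComplex X.Modules := fun Z =>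
    ShortComplex.mk (biprod.inr : Z ⟶ A' ⊞ Z) biprod.fst (by simp)
  have hS₂ : ∀ Z : X.Modules, (S₂ Z).ShortExact := fun Z =>
    ShortComplex.Splitting.shortExact
      { r := biprod.snd
        s := biprod.inl
        f_r := by simp [S₂]
        s_g := by simp [S₂]
        id := by simp [S₂, add_comm, biprod.total] }
  have h2 := chi_restrict (δ := δ) (k := k) (hS₂ B) (hS₂ B') rfl g (biprod.map (𝟙 A') g) (by simp [S₂]) (by simp [S₂])
  have c1 : Cyc.CohLe δ (k + 1) (A ⊞ B) :=
    cohLe_X₂ (ShortComplex.Splitting.ofHasBinaryBiproduct A B).shortExact hf.src hg.src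
  have c2 : Cyc.CohLe δ (k + 1) (A' ⊞ B) :=
    cohLe_X₂ (ShortComplex.Splitting.ofHasBinaryBiproduct A' B).shortExact hf.tgt hg.src
  have c3 : Cyc.CohLe δ (k + 1) (A' ⊞ B') :=
    cohLe_X₂ (ShortComplex.Splitting.ofHasBinaryBiproduct A' B').shortExact hf.tgt hg.tgt
  have t1 : TI δ k (biprod.map f (𝟙 B)) := ⟨c1, c2, fun y hy => h1.2 y (hf.bij y hy)⟩
  have t2 : TI δ k (biprod.map (𝟙 A') g) := ⟨c2, c3, fun y hy => h2.2 y (hg.bij y hy)⟩
  have e : biprod.map f g = biprod.map f (𝟙 B) ≫ biprod.map (𝟙 A') g := biprod.hom_ext _ _ (by simp) (by simp)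
  rw [e]
  exact ⟨t1.comp t2, by rw [chi_comp hδ t1 t2, h1.1, h2.1]⟩

end biprod

/-- A pushout of two maps. -/
abbrev po {A B C : X.Modules} (f : A ⟶ B) (g : A ⟶ C) : X.Modules := cokernel (biprod.lift f (-g))

/-- The first leg. -/
abbrev poInl {A B C : X.Modules} (f : A ⟶ B) (g : A ⟶ C) : B ⟶ po f g := biprod.inl ≫ cokernel.π _

/-- The second leg. -/
abbrev poInr {A B C : X.Modules} (f : A ⟶ B) (g : A ⟶ C) : C ⟶ po f g := biprod.inr ≫ cokernel.π _

theorem po_w {A B C : X.Modules} (f : A ⟶ B) (g : A ⟶ C) : f ≫ poInl f g = g ≫ poInr f g := by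
  have e : biprod.lift f (-g) ≫ cokernel.π (biprod.lift f (-g)) = 0 := cokernel.condition _
  have h : biprod.lift f (-g) = f ≫ biprod.inl - g ≫ biprod.inr := biprod.hom_ext _ _ (by simp) (by simp)
  show f ≫ biprod.inl ≫ cokernel.π (biprod.lift f (-g)) = g ≫ biprod.inr ≫ cokernel.π (biprod.lift f (-g))
  rw [← sub_eq_zero, ← Category.assoc f, ← Category.assoc g, ← Preadditive.sub_comp, ← h]
  exact e

theorem support_po {A B C : X.Modules} (f : A ⟶ B) (g : A ⟶ C) :
    CohB1.support (po f g) ⊆ CohB1.support B ∪ CohB1.support C := by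
  intro y hy
  by_contra h
  rw [Set.mem_union, not_or] at h
  haveI := subsingleton_of_notMem h.1
  haveI := subsingleton_of_notMem h.2
  refine hy (subsingleton_of_forall_eq 0 fun c => ?_)
  obtain ⟨v, rfl⟩ := sl_surjective (cokernel.π (biprod.lift f (-g))) y c
  have e : v = sl (biprod.inl : B ⟶ B ⊞ C) y (sl biprod.fst y v) + sl (biprod.inr : C ⟶ B ⊞ C) y (sl biprod.snd y v) := by
    rw [← sl_comp_apply, ← sl_comp_apply, ← LinearMap.add_apply, ← sl_add, biprod.total, sl_id]
    rfl
  rw [e, Subsingleton.elim (sl biprod.fst y v) 0, Subsingleton.elim (sl biprod.snd y v) 0]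
  simp

theorem TI.po {A B C : X.Modules} {f : A ⟶ B} {g : A ⟶ C} (hf : TI δ k f) (hg : TI δ k g) :
    TI δ k (poInl f g) ∧ TI δ k (poInr f g) := by
  have hBC : Cyc.CohLe δ (k + 1) (B ⊞ C) :=
    cohLe_X₂ (ShortComplex.Splitting.ofHasBinaryBiproduct B C).shortExact hf.tgt hg.tgt
  have hU : Cyc.CohLe δ (k + 1) (KIndex.po f g) := cohLe_cokernel _ hf.src.1.1 hBC
  have h1 : ∀ y, k + 1 ≤ δ y → Function.Bijective (sl (poInl f g) y) := fun y hy => by
    have hex := sl_exact (S := ShortComplex.mk (biprod.lift f (-g)) (cokernel.π _) (cokernel.condition _))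
      (ShortComplex.exact_cokernel _) y
    refine ⟨(injective_iff_map_eq_zero _).mpr fun b hb => ?_, fun c => ?_⟩
    · obtain ⟨a, ha⟩ := (hex (sl (biprod.inl : B ⟶ B ⊞ C) y b)).mp (by rw [← sl_comp_apply]; exact hb)
      change sl (biprod.lift f (-g)) y a = _ at ha
      have h2 := congrArg (sl (biprod.snd : B ⊞ C ⟶ C) y) ha
      rw [← sl_comp_apply, ← sl_comp_apply, biprod.lift_snd, biprod.inl_snd, sl_zero, LinearMap.zero_apply] at h2
      have h3 := congrArg (sl (biprod.fst : B ⊞ C ⟶ B) y) ha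
      rw [← sl_comp_apply, ← sl_comp_apply, biprod.lift_fst, biprod.inl_fst, sl_id, LinearMap.id_apply] at h3
      have hneg : sl (-g) y a = -sl g y a := by
        rw [← zero_sub g, sl_sub, sl_zero, zero_sub]
        rfl
      rw [hneg, neg_eq_zero] at h2
      rw [← h3, (hg.bij y hy).1 (h2.trans (map_zero _).symm), map_zero]
    · obtain ⟨v, rfl⟩ := sl_surjective (cokernel.π (biprod.lift f (-g))) y c
      obtain ⟨a, ha⟩ := (hg.bij y hy).2 (sl (biprod.snd : B ⊞ C ⟶ C) y v)
      refine ⟨sl (biprod.fst : B ⊞ C ⟶ B) y v + sl f y a, ?_⟩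
      have e : v = sl (biprod.inl : B ⟶ B ⊞ C) y (sl biprod.fst y v) + sl (biprod.inr : C ⟶ B ⊞ C) y (sl biprod.snd y v) := by
        rw [← sl_comp_apply, ← sl_comp_apply, ← LinearMap.add_apply, ← sl_add, biprod.total, sl_id]
        rfl
      conv_rhs => rw [e]
      rw [map_add, map_add, ← ha, ← sl_comp_apply f, po_w, sl_comp_apply g]
      simp only [sl_comp_apply]
  refine ⟨⟨hf.tgt, hU, h1⟩, hg.tgt, hU, fun y hy => ?_⟩
  have e : sl (poInr f g) y ∘ sl g y = sl (poInl f g) y ∘ sl f y := funext fun a => by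
    simp only [Function.comp_apply, ← sl_comp_apply]
    rw [po_w]
  refine (Function.Bijective.of_comp_iff _ (hg.bij y hy)).mp ?_
  rw [e]
  exact (h1 y hy).comp (hf.bij y hy)

section sigma

variable {I : Type u} {M N : I → X.Modules}

open scoped Classical in
/-- The stalk of a locally finite coproduct. -/
def sigmaEquiv (M : I → X.Modules) {x : X} (J : Finset I) (hJ : ∀ i, x ∈ CohB1.support (M i) → i ∈ J) :
    (∐ M).presheaf.stalk x ≃ₗ[X.presheaf.stalk x] ((i : J) → (M i.1).presheaf.stalk x) :=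
  LinearEquiv.ofBijective (LinearMap.pi fun i : J => sl (pr M i.1) x) ⟨fun a b h => by
      rw [← sum_pr M J hJ a, ← sum_pr M J hJ b]
      exact Finset.sum_congr rfl fun i hi => congrArg (sl (Sigma.ι M i) x) (congrFun h ⟨i, hi⟩),
    fun v => ⟨∑ i : J, sl (Sigma.ι M i.1) x (v i), funext fun i => by
      show sl (pr M i.1) x (∑ j : J, sl (Sigma.ι M j.1) x (v j)) = v i
      rw [map_sum, Finset.sum_eq_single i (fun j _ h => sl_ι_pr M i.1 j.1 x (v j) fun e => h (Subtype.ext e))
        (fun h => absurd (Finset.mem_univ i) h), ← sl_comp_apply, ι_pr_self, sl_id]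
      rfl⟩⟩

theorem map_pr (φ : ∀ i, M i ⟶ N i) (i : I) : Limits.Sigma.map φ ≫ pr N i = pr M i ≫ φ i := by
  refine Sigma.hom_ext _ _ fun j => ?_
  rw [Sigma.ι_map_assoc]
  by_cases h : j = i
  · subst h
    rw [ι_pr_self, ← Category.assoc, ι_pr_self, Category.id_comp, Category.comp_id]
  · rw [ι_pr_ne N h, ← Category.assoc, ι_pr_ne M h, zero_comp, comp_zero]

include hδ in
theorem chi_sigma (hM : LocFin M) (hN : LocFin N) {φ : ∀ i, M i ⟶ N i} (hφ : ∀ i, TI δ k (φ i)) :
    TI δ k (Limits.Sigma.map φ) ∧ ∀ x, (Function.support fun i => chi δ k (φ i) x).Finite ∧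
      chi δ k (Limits.Sigma.map φ) x = ∑ᶠ i, chi δ k (φ i) x := by
  classical
  have hsq : ∀ x (J : Finset I) (hJM : ∀ i, x ∈ CohB1.support (M i) → i ∈ J)
      (hJN : ∀ i, x ∈ CohB1.support (N i) → i ∈ J),
      (sigmaEquiv N J hJN).toLinearMap.comp (sl (Limits.Sigma.map φ) x) =
        (LinearMap.pi fun i : J => (sl (φ i.1) x).comp (LinearMap.proj i)).comp (sigmaEquiv M J hJM).toLinearMap := by
    intro x J hJM hJN
    refine LinearMap.ext fun a => funext fun i => ?_
    show sl (pr N i.1) x (sl (Limits.Sigma.map φ) x a) = sl (φ i.1) x (sl (pr M i.1) x a)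
    rw [← sl_comp_apply, map_pr, sl_comp_apply]
  have hset : ∀ x, ∃ J : Finset I, (∀ i, x ∈ CohB1.support (M i) → i ∈ J) ∧
      (∀ i, x ∈ CohB1.support (N i) → i ∈ J) := fun x => by
    obtain ⟨U, hxU, hU⟩ := hM x
    obtain ⟨V, hxV, hV⟩ := hN x
    exact ⟨hU.toFinset ∪ hV.toFinset, fun i hi => Finset.mem_union_left _ (hU.mem_toFinset.mpr ⟨x, hi, hxU⟩),
      fun i hi => Finset.mem_union_right _ (hV.mem_toFinset.mpr ⟨x, hi, hxV⟩)⟩
  refine ⟨⟨cohLe_sigma hM fun i => (hφ i).src, cohLe_sigma hN fun i => (hφ i).tgt, fun y hy => ?_⟩, fun x => ?_⟩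
  · obtain ⟨J, hJM, hJN⟩ := hset y
    have h : Function.Bijective ((sigmaEquiv N J hJN) ∘ sl (Limits.Sigma.map φ) y) := by
      show Function.Bijective ⇑((sigmaEquiv N J hJN).toLinearMap.comp (sl (Limits.Sigma.map φ) y))
      rw [hsq y J hJM hJN]
      refine Function.Bijective.comp (g := ⇑(LinearMap.pi fun i : J => (sl (φ i.1) y).comp (LinearMap.proj i))) ?_
        (sigmaEquiv M J hJM).bijective
      exact Function.Bijective.piMap fun i => (hφ i.1).bij y hy
    exact (Function.Bijective.of_comp_iff' (sigmaEquiv N J hJN).bijective _).mp h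
  · obtain ⟨J, hJM, hJN⟩ := hset x
    have h0 : ∀ i, i ∉ J → chi δ k (φ i) x = 0 := fun i hi => by
      simp only [chi]
      split
      · exact (idx_of_bijective (bijective_of_notMem _ (fun h => hi (hJM i h)) fun h => hi (hJN i h))).2
      · rfl
    refine ⟨J.finite_toSet.subset fun i hi => by_contra fun h => hi (h0 i h), ?_⟩
    rw [finsum_eq_sum_of_support_subset _ (s := J) fun i hi => by_contra fun h => hi (h0 i h)]
    by_cases hx : δ x = k
    · simp only [chi, if_pos hx]
      rw [← Finset.sum_coe_sort J, ← idx_pi _ fun i : J => (hφ i.1).fin hδ hx]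
      have e1 := idx_of_bijective (sigmaEquiv M J hJM).bijective
      have e2 := idx_of_bijective (sigmaEquiv N J hJN).bijective
      have hF : Fin (sl (Limits.Sigma.map φ) x) := (show TI δ k (Limits.Sigma.map φ) from
        ⟨cohLe_sigma hM fun i => (hφ i).src, cohLe_sigma hN fun i => (hφ i).tgt, fun y hy => by
          obtain ⟨J, hJM, hJN⟩ := hset y
          have h : Function.Bijective ((sigmaEquiv N J hJN) ∘ sl (Limits.Sigma.map φ) y) := by
            show Function.Bijective ⇑((sigmaEquiv N J hJN).toLinearMap.comp (sl (Limits.Sigma.map φ) y))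
            rw [hsq y J hJM hJN]
            refine Function.Bijective.comp (g := ⇑(LinearMap.pi fun i : J => (sl (φ i.1) y).comp (LinearMap.proj i))) ?_
              (sigmaEquiv M J hJM).bijective
            exact Function.Bijective.piMap fun i => (hφ i.1).bij y hy
          exact (Function.Bijective.of_comp_iff' (sigmaEquiv N J hJN).bijective _).mp h⟩).fin hδ hx
      have c := (idx_comp hF e2.1).2
      rw [e2.2, add_zero, hsq x J hJM hJN] at c
      have hP : Fin (LinearMap.pi fun i : J => (sl (φ i.1) x).comp (LinearMap.proj i)) := by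
        have h' := (idx_comp (idx_of_bijective (sigmaEquiv M J hJM).symm.bijective).1 (idx_comp hF e2.1).1).1
        rw [hsq x J hJM hJN, LinearMap.comp_assoc, LinearEquiv.comp_coe, LinearEquiv.symm_trans_self,
          LinearEquiv.refl_toLinearMap, LinearMap.comp_id] at h'
        exact h'
      rw [← c, (idx_comp e1.1 hP).2, e1.2, zero_add]
    · simp [chi, hx]

end sigma

end

end Groth.Agent.H3Cyc.KIndex
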