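import Groth.Agent.H3Cyc.KDegree
import Groth.Agent.H3Cyc.SpFun
import Groth.Agent.H3Cyc.BCPush
import Groth.Agent.H28Int.Core
import Groth.Agent.S1899
import Groth.Prelude.Def_FGA
import Mathlib

/-!
# Intersection numbers are degrees of iterated first Chern classes
-/

set_option autoImplicit false
set_option linter.style.haveILetI false
set_option linter.unusedSectionVars false
set_option backward.isDefEq.respectTransparency.types false
universe u

open CategoryTheory CategoryTheory.Limits AlgebraicGeometry TopologicalSpace Opposite IsLocalRing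
open Groth.Agent.H3Cyc.KDev Groth.Agent.H3Cyc.KFam Groth.Agent.H3Cyc.KCls

noncomputable section

namespace Groth.Agent.H3Cyc.KIntNum

variable {k : Type u} [Field k] {X : Scheme.{u}} [X.Over (Spec (CommRingCat.of k))]
  [IsProper (X ↘ Spec (CommRingCat.of k))] {δ : X → ℤ}
  (hδ : Cyc.DeltaCompat (X ↘ Spec (CommRingCat.of k)) δ (fun _ => 0))

/-- The degree of a coefficient function. -/
def degFun (k : Type u) [Field k] {X : Scheme.{u}} [X.Over (Spec (CommRingCat.of k))] (a : X → ℤ) : ℤ :=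
  ∑ᶠ x : X, ((X ↘ Spec (CommRingCat.of k)).residueDegree x : ℤ) * a x

omit [IsProper (X ↘ Spec (CommRingCat.of k))] in
theorem degFun_sub {a b : X → ℤ} (ha : (Function.support a).Finite) (hb : (Function.support b).Finite) :
    degFun k (a - b) = degFun k a - degFun k b := by
  rw [degFun, degFun, degFun, ← finsum_sub_distrib
    (ha.subset fun x hx => right_ne_zero_of_mul hx) (hb.subset fun x hx => right_ne_zero_of_mul hx)]
  exact finsum_congr fun x => mul_sub _ _ _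

/-- The iterated cap with first Chern classes. -/
def capIter (δ : X → ℤ) : (r : ℕ) → (L : Fin r → X.Modules) → ((i : Fin r) → (ξ : X) → Cyc.secFibre (L i) ξ) →
    (X → ℤ) → (X → ℤ)
  | 0, _, _, a => a
  | r + 1, L, s, a => capIter δ r (fun i => L i.succ) (fun i => s i.succ) (Cyc.c1CapFun δ (L 0) a (s 0))

omit [X.Over (Spec (CommRingCat.of k))] [IsProper (X ↘ Spec (CommRingCat.of k))] in
theorem capIter_eq (δ : X → ℤ) : ∀ (r : ℕ) (L : Fin r → X.Modules) (s : (i : Fin r) → (ξ : X) → Cyc.secFibre (L i) ξ)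
    (γ : ℕ → X → ℤ), (∀ (i : ℕ) (h : i < r), γ (i + 1) = Cyc.c1CapFun δ (L ⟨i, h⟩) (γ i) (s ⟨i, h⟩)) →
    γ r = capIter δ r L s (γ 0)
  | 0, _, _, _, _ => rfl
  | r + 1, L, s, γ, h => by
    show γ (r + 1) = capIter δ r _ _ (Cyc.c1CapFun δ (L 0) (γ 0) (s 0))
    rw [show (0 : Fin (r + 1)) = ⟨0, r.succ_pos⟩ from rfl, ← h 0 r.succ_pos]
    exact capIter_eq δ r (fun i => L i.succ) (fun i => s i.succ) (fun i => γ (i + 1)) fun i hi => h (i + 1) (by omega)

include hδ

theorem finite_support {c : AlgebraicCycle X ℤ} : (Function.support ⇑c).Finite := by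
  haveI : CompactSpace X := QuasiCompact.compactSpace_of_compactSpace (X ↘ Spec (CommRingCat.of k))
  exact (c.locallyFiniteSupport.finite_inter_support_of_isCompact isCompact_univ).subset fun x hx => ⟨trivial, hx⟩

theorem capIter_cycle : ∀ (r : ℕ) (L : Fin r → X.Modules) (_ : ∀ i, PicF.IsInvertible (L i))
    (s : (i : Fin r) → (ξ : X) → Cyc.secFibre (L i) ξ) (_ : ∀ i ξ, s i ξ ≠ 0) (c : AlgebraicCycle X ℤ),
    c ∈ Cyc.Zk X δ r → ∃ c' : AlgebraicCycle X ℤ, ⇑c' = capIter δ r L s ⇑c ∧ c' ∈ Cyc.Zk X δ 0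
  | 0, _, _, _, _, c, hc => ⟨c, rfl, by simpa using hc⟩
  | r + 1, L, hL, s, hs, c, hc => by
    have hX := KDegree.isSetup hδ
    haveI := hX.1
    obtain ⟨c₁, hc₁, hc₁k⟩ := C1Api.exists_c1Cap_cycle hX.2.2 (hL 0) (r : ℤ) c
      (by simpa using hc) (s 0) (hs 0)
    obtain ⟨c', hc', hc'k⟩ := capIter_cycle r (fun i => L i.succ) (fun i => hL _) (fun i => s i.succ) (fun i => hs _) c₁ hc₁k
    exact ⟨c', by rw [hc', hc₁]; rfl, hc'k⟩

theorem c1CapFun_sub (L : X.Modules) (s : (ξ : X) → Cyc.secFibre L ξ) (a b : AlgebraicCycle X ℤ) :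
    Cyc.c1CapFun δ L (⇑a - ⇑b) s = Cyc.c1CapFun δ L ⇑a s - Cyc.c1CapFun δ L ⇑b s := by
  haveI := (KDegree.isSetup hδ).1
  funext x
  simp only [Cyc.c1CapFun, Pi.sub_apply, sub_mul]
  exact finsum_sub_distrib (C1Api.finite_support_term a x _ fun ξ h => C1Api.secDivFun_ne_zero h)
    (C1Api.finite_support_term b x _ fun ξ h => C1Api.secDivFun_ne_zero h)

theorem capIter_sub : ∀ (r : ℕ) (L : Fin r → X.Modules) (_ : ∀ i, PicF.IsInvertible (L i))
    (s : (i : Fin r) → (ξ : X) → Cyc.secFibre (L i) ξ) (_ : ∀ i ξ, s i ξ ≠ 0) (a b : AlgebraicCycle X ℤ),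
    a ∈ Cyc.Zk X δ r → b ∈ Cyc.Zk X δ r →
    capIter δ r L s (⇑a - ⇑b) = capIter δ r L s ⇑a - capIter δ r L s ⇑b
  | 0, _, _, _, _, _, _, _, _ => rfl
  | r + 1, L, hL, s, hs, a, b, ha, hb => by
    have hX := KDegree.isSetup hδ
    haveI := hX.1
    obtain ⟨a₁, ha₁, ha₁k⟩ := C1Api.exists_c1Cap_cycle hX.2.2 (hL 0) (r : ℤ) a (by simpa using ha) (s 0) (hs 0)
    obtain ⟨b₁, hb₁, hb₁k⟩ := C1Api.exists_c1Cap_cycle hX.2.2 (hL 0) (r : ℤ) b (by simpa using hb) (s 0) (hs 0)
    show capIter δ r _ _ (Cyc.c1CapFun δ (L 0) (⇑a - ⇑b) (s 0)) = _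
    rw [c1CapFun_sub hδ, ← ha₁, ← hb₁, capIter_sub r _ (fun i => hL _) _ (fun i => hs _) a₁ b₁ ha₁k hb₁k,
      ha₁, hb₁]
    rfl

/-- **Iterated differences of Euler characteristics are degrees.** -/
theorem D_eq_deg : ∀ (r : ℕ) (L M : Fin r → X.Modules), (∀ i, PicF.IsInvertible (L i)) →
    (∀ i, PicF.IsInvertible (M i)) → (∀ i, Nonempty (CohB1.tensorMod (M i) (L i) ≅ Coh.structureModule X)) →
    ∀ (s : (i : Fin r) → (ξ : X) → Cyc.secFibre (L i) ξ), (∀ i ξ, s i ξ ≠ 0) →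
    ∀ F : X.Modules, Cyc.CohLe δ (r : ℤ) F →
      H28Int.D k (List.ofFn M) F = degFun k (capIter δ r L s (Cyc.sheafFun δ (r : ℤ) F)) := by
  intro r
  induction r with
  | zero =>
    intro L M _ _ _ s _ F hF
    rw [List.ofFn_zero]
    exact KDegree.euler_eq_degree hδ (by simpa using hF)
  | succ r ih =>
    intro L M hL hM hML s hs F hF
    classical
    have hX := KDegree.isSetup hδ
    haveI := hX.1
    haveI := H28Int.isNoetherian k (X := X)
    have hsd := strict_of_isSetup hX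
    obtain ⟨e₀⟩ := hML 0
    let L' := fun i : Fin r => L i.succ
    let M' := fun i : Fin r => M i.succ
    let s' := fun i : Fin r => s i.succ
    let l := List.ofFn M'
    have hl : ∀ A ∈ l, PicF.IsInvertible A := fun A hA => by
      obtain ⟨i, rfl⟩ := List.mem_ofFn.mp hA
      exact hM _
    have hP := ih L' M' (fun i => hL _) (fun i => hM _) (fun i => hML _) s' (fun i => hs _)
    have hAdd := H28Int.isAddFn_D k l hl
    have hzero : ∀ G, Cyc.CohLe δ ((r : ℤ) - 1) G → H28Int.D k l G = 0 := fun G hG => by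
      rw [hP G (cohLe_mono (by omega) hG), sheafFun_small (by omega) hG]
      have hz0 : capIter δ r L' s' 0 = 0 := by
        have := capIter_sub hδ r L' (fun i => hL _) s' (fun i => hs _) 0 0 (fun x _ => rfl) (fun x _ => rfl)
        simpa using this
      rw [hz0]
      simp [degFun]
    -- the homomorphism
    obtain ⟨χ, hχ⟩ : ∃ χ : Cyc.K0CohQuot δ ((r : ℤ) + 1) ((r : ℤ) - 1) →+ ℤ, ∀ G, Cyc.CohLe δ ((r : ℤ) + 1) G →
        χ (Cyc.toK0CohQuot δ ((r : ℤ) + 1) ((r : ℤ) - 1) G) = H28Int.D k l G := by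
      let C := Cyc.CohLe δ ((r : ℤ) + 1)
      let Φ : FreeAbelianGroup (Subtype C) →+ ℤ := FreeAbelianGroup.lift fun G => H28Int.D k l G.1
      have hΦ : KZero.relSub C ≤ Φ.ker := by
        refine (AddSubgroup.closure_le _).mpr ?_
        rintro _ ⟨S, h₁, h₂, h₃, hS, rfl⟩
        show Φ _ = 0
        simp only [map_sub, Φ, FreeAbelianGroup.lift_apply_of]
        rw [hAdd.add S hS h₁.1 h₂.1 h₃.1]
        abel
      let Φ' := QuotientAddGroup.lift _ Φ hΦ
      have hval : ∀ G, C G → Φ' (KZero.clSub C G) = H28Int.D k l G := fun G hG => by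
        rw [KZero.clSub, dif_pos hG]
        exact FreeAbelianGroup.lift_apply_of (fun G : Subtype C => H28Int.D k l G.1) ⟨G, hG⟩
      have hΦ' : AddSubgroup.closure {c : KZero.K0sub C |
          ∃ G : X.Modules, Cyc.CohLe δ ((r : ℤ) - 1) G ∧ c = KZero.clSub C G} ≤ Φ'.ker := by
        refine (AddSubgroup.closure_le _).mpr ?_
        rintro _ ⟨G, hG, rfl⟩
        show Φ' _ = 0
        rw [hval G (cohLe_mono (by omega) hG), hzero G hG]
      exact ⟨QuotientAddGroup.lift _ Φ' hΦ', hval⟩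
    let F' := CohB1.tensorMod (M 0) F
    have hF1 : Cyc.CohLe δ ((r : ℤ) + 1) F := by simpa using hF
    have hF' : Cyc.CohLe δ ((r : ℤ) + 1) F' := by
      have h := KTwist.cohLe_twist (hM 0) hF1
      exact ⟨H28Int.isCoh_twist (hM 0) hF.1, fun x hx => h.2 x (mem_support.mp
        ((LeadDev.support_subset_of_iso (H10Coh.Tw.commIso (M 0) F)) (mem_support.mpr hx)))⟩
    have hsf : Cyc.sheafFun δ ((r : ℤ) + 1) F' = Cyc.sheafFun δ ((r : ℤ) + 1) F := by
      funext x
      simp only [Cyc.sheafFun]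
      split
      · have e := ((st x).mapIso (H10Coh.Tw.commIso (M 0) F)).toLinearEquiv.length_eq
        have e2 : Module.length (X.presheaf.stalk x) (F'.presheaf.stalk x) =
            Module.length (X.presheaf.stalk x) ((CohB1.tensorMod F (M 0)).presheaf.stalk x) := e
        rw [e2, KTwist.length_twist (hM 0)]
      · rfl
    obtain ⟨γ, hγ, hγk⟩ := C1Api.exists_c1Cap_cycle hX.2.2 (hL 0) (r : ℤ) (cycle hsd hF') (cycle_mem hsd hF')
      (s 0) (hs 0)
    have h := KTwist.cls_twist hX (hL 0) hF' (s 0) (hs 0) hγk hγ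
    have hlf : LocallyFiniteSupport ⇑γ := γ.locallyFiniteSupport
    have hlf' : LocallyFiniteSupport (-⇑γ) := (-γ).locallyFiniteSupport
    have hk' : ∀ x, δ x ≠ (r : ℤ) → (-⇑γ) x = 0 := fun x hx => by simp [hγk x hx]
    have hp := cohLe_pos hsd hlf hγk
    have hn := cohLe_pos hsd hlf' hk'
    have eiso : CohB1.tensorMod F' (L 0) ≅ F :=
      PicGrp.tensorModIso (H10Coh.Tw.commIso (M 0) F) (Iso.refl (L 0)) ≪≫ H10Coh.Tw.assoc _ _ _ ≪≫
        PicGrp.tensorModIso (Iso.refl F) e₀ ≪≫ H10Coh.Tw.rightUnitIso _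
    have hT : Cyc.CohLe δ ((r : ℤ) + 1) (CohB1.tensorMod F' (L 0)) := KTwist.cohLe_twist (hL 0) hF'
    have e := congrArg χ h
    rw [map_sub, map_sub, hχ _ hT, hχ _ hF', hχ _ (cohLe_mono (by omega) hp),
      show Cyc.cycleSheafNeg ⇑γ = Cyc.cycleSheafPos (-⇑γ) from rfl, hχ _ (cohLe_mono (by omega) hn),
      hP _ hp, hP _ hn, sheafFun_cycleSheafPos hsd hlf hγk, sheafFun_cycleSheafPos hsd hlf' hk',
      hAdd.congr eiso] at e
    have hD : H28Int.D k (List.ofFn M) F = H28Int.D k l F - H28Int.D k l F' := by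
      rw [List.ofFn_succ]; rfl
    rw [hD, e]
    let P : AlgebraicCycle X ℤ := ⟨fun x => max (γ x) 0, by simp, fun x _ => by
      obtain ⟨t, ht, hfin⟩ := γ.supportLocallyFiniteWithinDomain x trivial
      exact ⟨t, ht, hfin.subset fun y hy => ⟨hy.1, fun h0 => hy.2 (by show max (γ y) 0 = 0; rw [h0, max_self])⟩⟩⟩
    let N : AlgebraicCycle X ℤ := ⟨fun x => max (-γ x) 0, by simp, fun x _ => by
      obtain ⟨t, ht, hfin⟩ := γ.supportLocallyFiniteWithinDomain x trivial
      exact ⟨t, ht, hfin.subset fun y hy => ⟨hy.1, fun h0 => hy.2 (by show max (-γ y) 0 = 0; rw [h0, neg_zero, max_self])⟩⟩⟩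
    have hPk : P ∈ Cyc.Zk X δ r := fun x hx => by show max (γ x) 0 = 0; rw [hγk x hx, max_self]
    have hNk : N ∈ Cyc.Zk X δ r := fun x hx => by show max (-γ x) 0 = 0; rw [hγk x hx, neg_zero, max_self]
    have hPN : (⇑P - ⇑N) = ⇑γ := funext fun x => by show max (γ x) 0 - max (-γ x) 0 = γ x; omega
    obtain ⟨P', hP', -⟩ := capIter_cycle hδ r L' (fun i => hL _) s' (fun i => hs _) P hPk
    obtain ⟨N', hN', -⟩ := capIter_cycle hδ r L' (fun i => hL _) s' (fun i => hs _) N hNk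
    show degFun k (capIter δ r L' s' ⇑P) - degFun k (capIter δ r L' s' ⇑N) = _
    rw [← degFun_sub (hP' ▸ finite_support hδ) (hN' ▸ finite_support hδ),
      ← capIter_sub hδ r L' (fun i => hL _) s' (fun i => hs _) P N hPk hNk, hPN, hγ]
    show _ = degFun k (capIter δ r L' s' (Cyc.c1CapFun δ (L 0) (Cyc.sheafFun δ ((r + 1 : ℕ) : ℤ) F) (s 0)))
    rw [show ⇑(cycle hsd hF') = Cyc.sheafFun δ ((r : ℤ) + 1) F' from rfl, hsf]
    push_cast
    rfl

theorem delta_le_dim {Z : Scheme.{u}} (ι : Z ⟶ X) [IsClosedImmersion ι] {d : ℕ} (hd : topologicalKrullDim Z ≤ d)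
    (z : Z) : δ (ι z) ≤ d := by
  have hc := BCPush.deltaCompat_comp ι (X ↘ Spec (CommRingCat.of k)) (SpFun.deltaCompat_preimmersion ι δ) hδ
  obtain ⟨c, hc1, hc2⟩ := H22Alg.CycBasic.exists_cdim (ι ≫ (X ↘ Spec (CommRingCat.of k))) hc z
  have h1 : H8Props.FieldDim.cdim ((ι ≫ (X ↘ Spec (CommRingCat.of k))).asFiber z) ≤
      topologicalKrullDim ((ι ≫ (X ↘ Spec (CommRingCat.of k))).fiber ((ι ≫ (X ↘ Spec (CommRingCat.of k))) z)) :=
    H8Props.FieldDim.dim_mono (Set.subset_univ _) |>.trans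
      (le_of_eq (Homeomorph.Set.univ _).isHomeomorph.topologicalKrullDim_eq)
  have h2 : topologicalKrullDim ((ι ≫ (X ↘ Spec (CommRingCat.of k))).fiber ((ι ≫ (X ↘ Spec (CommRingCat.of k))) z)) ≤
      topologicalKrullDim Z :=
    ((ι ≫ (X ↘ Spec (CommRingCat.of k))).fiberι _).isEmbedding.isInducing.topologicalKrullDim_le
  have h3 : (c : WithBot ℕ∞) ≤ (d : ℕ) := hc1 ▸ h1.trans (h2.trans hd)
  have h4 : c ≤ d := by exact_mod_cast h3
  have h5 : δ (ι z) = 0 + (c : ℤ) := hc2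
  omega

theorem deg_cycle (α : AlgebraicCycle X ℤ) (hα : α ∈ Cyc.Zk X δ 0) :
    ChowOps.deg (X ↘ Spec (CommRingCat.of k)) δ α = degFun k ⇑α := by
  classical
  show ∑ᶠ x ∈ (X ↘ Spec (CommRingCat.of k)) ⁻¹' {closedPoint k},
    α x * ((AlgebraicCycle.mapCoeff (X ↘ Spec (CommRingCat.of k)) δ (fun _ => (0 : ℤ)) x : ℕ) : ℤ) = _
  rw [show (X ↘ Spec (CommRingCat.of k)) ⁻¹' {closedPoint k} = Set.univ from
    Set.eq_univ_of_forall fun x => Subsingleton.elim (α := PrimeSpectrum k) _ _, finsum_mem_univ]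
  refine finsum_congr fun x => ?_
  unfold AlgebraicCycle.mapCoeff
  by_cases hx : δ x = 0
  · rw [if_pos hx]; ring
  · rw [hα x hx]; ring

/-- Euler characteristics of coherent modules with small support. -/
theorem eulerCharLE_eq {d : ℕ} {F : X.Modules} (hF : F.IsQuasicoherent)
    (S : Closeds X) (hS : topologicalKrullDim (S : Set X) ≤ d) (hFS : CohB1.support F ⊆ S) :
    FGA.eulerCharLE k X F d = Curv2.euler k X F := by
  haveI := H28Int.isNoetherian k (X := X)
  haveI : X.IsSeparated := Scheme.IsSeparated.mk (by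
    rw [← terminal.comp_from (X ↘ Spec (CommRingCat.of k))]; infer_instance)
  refine (H25Euler.euler_eq_sum F (d + 1) fun p hp => ?_).symm
  have h := H28Int.subsingleton_HnM_of_support (X := X) S d hS F hF hFS p (by omega)
  exact (H10Coh.HHEquiv F p).toEquiv.subsingleton

theorem intNum_eq_deg {Z : Scheme.{u}} (ι : Z ⟶ X) [IsClosedImmersion ι] (d : ℕ) (hd : topologicalKrullDim Z = d)
    (L M : Fin d → X.Modules) (hL : ∀ i, PicF.IsInvertible (L i))
    (hML : ∀ i, Nonempty (CohB1.tensorMod (M i) (L i) ≅ Coh.structureModule X))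
    (s : (i : Fin d) → (ξ : X) → Cyc.secFibre (L i) ξ) (hs : ∀ i ξ, s i ξ ≠ 0) (γ : ℕ → X → ℤ)
    (hγ0 : γ 0 = Cyc.subschemeFun δ d ι)
    (hγs : ∀ (i : ℕ) (h : i < d), γ (i + 1) = Cyc.c1CapFun δ (L ⟨i, h⟩) (γ i) (s ⟨i, h⟩))
    (α : AlgebraicCycle X ℤ) (hα : ⇑α = γ d) :
    FGA.intNum k X d M ((Coh.push ι).obj (Coh.structureModule Z)) = ChowOps.deg (X ↘ Spec (CommRingCat.of k)) δ α := by
  classical
  have hX := KDegree.isSetup hδ
  haveI := hX.1
  haveI := H28Int.isNoetherian k (X := X)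
  have hM : ∀ i, PicF.IsInvertible (M i) := fun i =>
    H17.InvertibleTensor.isInvertible_of_tensor_iso (M i) (L i) (hML i).some
  have hle : ∀ z : Z, δ (ι z) ≤ d := delta_le_dim hδ ι hd.le
  let F := (Coh.push ι).obj (Coh.structureModule Z)
  have hsupp : CohB1.support F ⊆ Set.range ι := fun x hx => by
    by_contra hn
    exact LeadDev.notMem_support_push ι _ hn hx
  have hFc : Coh.IsCoh F := H10Coh.isCoh_push_of_isFinite (f := ι) _ (H10Coh.isCoh_structureModule' _)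
  have hF : Cyc.CohLe δ (d : ℤ) F := ⟨hFc, fun x hx => by
    obtain ⟨z, rfl⟩ := hsupp (mem_support.mpr hx)
    exact hle z⟩
  have hS : topologicalKrullDim (Set.range ι) ≤ d :=
    (ι.isEmbedding.toHomeomorph.isHomeomorph.topologicalKrullDim_eq).symm.le.trans hd.le
  have h1 : FGA.intNum k X d M F = H28Int.D k (List.ofFn M) F := by
    rw [← H28Int.sum_eq_D k d M hM F, FGA.intNum]
    refine Finset.sum_congr rfl fun I _ => ?_
    rw [eulerCharLE_eq hδ (H28Int.isCoh_twist (H28Int.isInvertible_tensorList _ (by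
      simp only [List.mem_map]
      rintro _ ⟨i, -, rfl⟩
      exact hM i)) hFc).1 ⟨_, ι.isClosedEmbedding.isClosed_range⟩ hS ((H28Int.support_twist _ F).trans hsupp)]
  obtain ⟨c', hc', hc'k⟩ := capIter_cycle hδ d L hL s hs (cycle (strict_of_isSetup hX) hF) (cycle_mem _ hF)
  have hfun : γ d = capIter δ d L s (Cyc.sheafFun δ (d : ℤ) F) := by
    rw [capIter_eq δ d L s γ hγs, hγ0, Groth.Agent.S1899.result X Z δ hX ι d hle]
  have hαk : α ∈ Cyc.Zk X δ 0 := fun x hx => by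
    rw [hα, hfun]
    exact (congrFun hc' x).symm.trans (hc'k x hx)
  rw [h1, D_eq_deg hδ d L M hL hM hML s hs F hF, deg_cycle hδ α hαk, hα, hfun]

end Groth.Agent.H3Cyc.KIntNum
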