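import Groth.Agent.H3Cyc.KGood
import Groth.Agent.H3CAlg.IntPt
import Groth.Agent.H22Alg.CohSupport
import Groth.Agent.H16Derived.ProjFormula.ClosedImm
import Groth.Agent.H29Fitt.Sheaf
import Groth.Agent.H3CAlg.ChiPull
import Groth.Agent.H24FSch.ModSysPush
import Mathlib

/-!
# The filtration by powers of the ideal of a closed subscheme
-/

set_option autoImplicit false
set_option linter.style.haveILetI false
set_option linter.unusedSectionVars false
set_option backward.isDefEq.respectTransparency.types false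
universe u

open CategoryTheory CategoryTheory.Limits AlgebraicGeometry TopologicalSpace Opposite TensorProduct
open Groth.Agent.H16Derived.KFlat.Stalk Groth.Agent.H16Derived.ProjFormula
open Groth.Agent.H3Cyc.KDev Groth.Agent.H3Cyc.KFilt Groth.Agent.H3Cyc.KGood

attribute [local instance] Groth.Agent.H06Mod.stalkAlgebra

noncomputable section

namespace Groth.Agent.H3Cyc.KKill

variable {X Z : Scheme.{u}} (i : Z ⟶ X)

/-- The linear map on a stalk. -/
abbrev lin {F G : X.Modules} (φ : F ⟶ G) (x : X) :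
    F.presheaf.stalk x →ₗ[X.presheaf.stalk x] G.presheaf.stalk x := ((KDev.st x).map φ).hom

theorem killed_sub {F G : X.Modules} (j : F ⟶ G) [Mono j] (hG : Killed i G) : Killed i F := by
  have hinj : ∀ y, Function.Injective (lin j y) := fun y =>
    (ModuleCat.mono_iff_injective ((KDev.st y).map j)).mp ((KDev.st y).map_mono j)
  exact ⟨fun z r hr a => hinj _ (by rw [map_smul, hG.smul_eq_zero z r hr, map_zero]),
    fun y hy => haveI := hG.subsingleton y hy; (hinj y).subsingleton⟩

theorem killed_quot {F G : X.Modules} (p : F ⟶ G) [Epi p] (hF : Killed i F) : Killed i G := by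
  have hsur : ∀ y, Function.Surjective (lin p y) := fun y =>
    (ModuleCat.epi_iff_surjective ((KDev.st y).map p)).mp ((KDev.st y).map_epi p)
  refine ⟨fun z r hr a => ?_, fun y hy => haveI := hF.subsingleton y hy; (hsur y).subsingleton⟩
  obtain ⟨a, rfl⟩ := hsur _ a
  rw [← map_smul, hF.smul_eq_zero z r hr, map_zero]

theorem killed_sigma {I : Type u} (M : I → X.Modules) (hM : ∀ k, Killed i (M k)) : Killed i (∐ M) := by
  refine ⟨fun z r hr a => ?_, fun y hy => ?_⟩
  · have h : r • 𝟙 ((KDev.st (i z)).obj (∐ M)) = 0 := stalk_sigma_ext M (i z) fun k => by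
      ext v
      show r • lin (Sigma.ι M k) (i z) v = 0
      rw [← map_smul, (hM k).smul_eq_zero z r hr, map_zero]
    exact LinearMap.congr_fun (congrArg ModuleCat.Hom.hom h) a
  · refine not_not.mp fun h => ?_
    obtain ⟨k, hk⟩ := Set.mem_iUnion.mp (support_sigma M h)
    exact hk ((hM k).subsingleton y hy)

theorem killed_of_isZero {F : X.Modules} (h : IsZero F) : Killed i F := by
  have hs : ∀ y, Subsingleton (F.presheaf.stalk y) := fun y =>
    ModuleCat.isZero_iff_subsingleton.mp ((KDev.st y).map_isZero h)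
  exact ⟨fun z r _ a => (hs _).elim _ _, fun y _ => hs y⟩

/-- Coherent modules killed by the ideal. -/
def CohKilled : ObjectProperty X.Modules := fun F => Coh.IsCoh F ∧ Killed i F

/-- Coherent modules supported on the image. -/
abbrev CohRange : ObjectProperty X.Modules :=
  fun G => Coh.IsCoh G ∧ ∀ x : X, Nontrivial (G.presheaf.stalk x) → x ∈ Set.range ⇑i

variable [IsClosedImmersion i] [IsLocallyNoetherian X]

theorem good_cohKilled : Good (CohKilled i) where
  coh h := h.1
  zero h := ⟨(cohLe_of_isZero (δ := fun _ => 0) (a := 0) h).1, killed_of_isZero i h⟩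
  sub j _ hq h := ⟨H10Coh.isCoh_of_mono j hq h.1, killed_sub i j h.2⟩
  quot p _ hq h := ⟨by
    haveI : Epi (cokernel.desc (kernel.ι p) p (kernel.condition p)) := epi_of_epi_fac (cokernel.π_desc _ _ _)
    haveI : IsIso (cokernel.desc (kernel.ι p) p (kernel.condition p)) := isIso_of_mono_of_epi
      (Abelian.factorThruCoimage p)
    exact H10Coh.isCoh_of_iso (asIso (cokernel.desc (kernel.ι p) p (kernel.condition p)))
      (H10Coh.isCoh_cokernel _ (@H10Coh.isQuasicoherent_kernel _ _ _ p h.1.1 hq) h.1), killed_quot i p h.2⟩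
  sigma M hlf hM := ⟨isCoh_sigma M hlf fun k => (hM k).1, killed_sigma i M fun k => (hM k).2⟩

theorem cohRange_of_killed {F : X.Modules} (h : CohKilled i F) : CohRange i F :=
  ⟨h.1, fun x hx => by_contra fun hn => not_subsingleton _ (h.2.subsingleton x hn)⟩

theorem good_cohRange : Good (CohRange i) where
  coh h := h.1
  zero h := ⟨(cohLe_of_isZero (δ := fun _ => 0) (a := 0) h).1,
    fun x hx => absurd (mem_support.mpr hx) (notMem_support.mpr ((KDev.st x).map_isZero h))⟩
  sub j _ hq h := ⟨H10Coh.isCoh_of_mono j hq h.1,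
    fun x hx => h.2 x (mem_support.mp (LeadDev.support_subset_of_mono j (mem_support.mpr hx)))⟩
  quot p _ hq h := ⟨by
    haveI : Epi (cokernel.desc (kernel.ι p) p (kernel.condition p)) := epi_of_epi_fac (cokernel.π_desc _ _ _)
    haveI : IsIso (cokernel.desc (kernel.ι p) p (kernel.condition p)) := isIso_of_mono_of_epi
      (Abelian.factorThruCoimage p)
    exact H10Coh.isCoh_of_iso (asIso (cokernel.desc (kernel.ι p) p (kernel.condition p)))
      (H10Coh.isCoh_cokernel _ (@H10Coh.isQuasicoherent_kernel _ _ _ p h.1.1 hq) h.1),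
    fun x hx => h.2 x (mem_support.mp (LeadDev.support_subset_of_epi p (mem_support.mpr hx)))⟩
  sigma M hlf hM := ⟨isCoh_sigma M hlf fun k => (hM k).1, fun x hx => by
    obtain ⟨k, hk⟩ := Set.mem_iUnion.mp (support_sigma M (mem_support.mpr hx))
    exact (hM k).2 x (mem_support.mp hk)⟩

/-- The unit. -/
abbrev η (G : X.Modules) : G ⟶ (Scheme.Modules.pushforward i).obj ((Scheme.Modules.pullback i).obj G) :=
  (Scheme.Modules.pullbackPushforwardAdjunction i).unit.app G

theorem isQCoh_pushPull [IsLocallyNoetherian Z] {G : X.Modules} (hG : Coh.IsCoh G) :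
    Coh.IsQCoh ((Scheme.Modules.pushforward i).obj ((Scheme.Modules.pullback i).obj G)) :=
  (H24FSch.isCoh_pushforward_of_isClosedImmersion i ⟨H29Fitt.isQCoh_pullback _ G hG.1, H29Fitt.isFT_pullback _ G hG.1 hG.2⟩).1

/-- The iterated kernels of the unit. -/
def iterKer (G : X.Modules) : ℕ → Σ M : X.Modules, M ⟶ G
  | 0 => ⟨G, 𝟙 G⟩
  | j + 1 => ⟨kernel (η i (iterKer G j).1), kernel.ι _ ≫ (iterKer G j).2⟩

/-- The filtration by powers of the ideal. -/
def adicFilt (G : X.Modules) : Filt G where
  obj j := (iterKer i G j).1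
  ι j := (iterKer i G j).2
  mono j := by
    induction j with
    | zero => exact inferInstanceAs (Mono (𝟙 G))
    | succ j ih =>
      haveI := ih
      exact inferInstanceAs (Mono (kernel.ι (η i (iterKer i G j).1) ≫ (iterKer i G j).2))
  step j := kernel.ι (η i (iterKer i G j).1)
  step_ι _ := rfl
  top := inferInstanceAs (IsIso (𝟙 G))

variable [IsLocallyNoetherian Z]

theorem isCoh_adic {G : X.Modules} (hG : Coh.IsCoh G) : ∀ j, Coh.IsCoh ((adicFilt i G).obj j)
  | 0 => hG
  | j + 1 => H10Coh.isCoh_kernel _ (isCoh_adic hG j) (isQCoh_pushPull i (isCoh_adic hG j))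

theorem cohKilled_gr {G : X.Modules} (hG : Coh.IsCoh G) (j : ℕ) : CohKilled i ((adicFilt i G).gr j) :=
  ⟨H10Coh.isCoh_cokernel _ (isCoh_adic i hG (j + 1)).1 (isCoh_adic i hG j),
    @killed_sub _ _ i ((adicFilt i G).gr j) _ (Abelian.factorThruCoimage (η i (iterKer i G j).1))
      (inferInstanceAs (Mono (Abelian.factorThruCoimage (η i (iterKer i G j).1)))) (killed_push i _)⟩

/-- Sections in the kernel of the unit are multiples of the ideal. -/
theorem mem_smul_of_pullStalk_eq_zero (G : X.Modules) (z : Z) {v : G.presheaf.stalk (i z)}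
    (hv : H06Mod.pullStalk i G z v = 0) :
    v ∈ RingHom.ker (i.stalkMap z).hom • (⊤ : Submodule (X.presheaf.stalk (i z)) (G.presheaf.stalk (i z))) := by
  have hsurj : Function.Surjective (i.stalkMap z).hom := i.stalkMap_surjective z
  let A := X.presheaf.stalk (i z)
  let B := Z.presheaf.stalk z
  let M := G.presheaf.stalk (i z)
  let JM : Submodule A M := RingHom.ker (i.stalkMap z).hom • ⊤
  let g := Function.surjInv hsurj
  have hg : ∀ b, (i.stalkMap z).hom (g b) = b := Function.surjInv_eq hsurj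
  have key : ∀ r s : A, (i.stalkMap z).hom r = (i.stalkMap z).hom s → ∀ m : M ⧸ JM, r • m = s • m := fun r s hrs m => by
    obtain ⟨m, rfl⟩ := Submodule.Quotient.mk_surjective JM m
    rw [← sub_eq_zero, ← sub_smul, ← Submodule.Quotient.mk_smul, Submodule.Quotient.mk_eq_zero]
    exact Submodule.smul_mem_smul (RingHom.mem_ker.mpr (by rw [map_sub, hrs, sub_self])) trivial
  let back : B ⊗[A] M →ₗ[A] M ⧸ JM := TensorProduct.lift
    { toFun := fun b =>
        { toFun := fun m => g b • Submodule.Quotient.mk m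
          map_add' := fun m n => by rw [Submodule.Quotient.mk_add, smul_add]
          map_smul' := fun s m => by rw [RingHom.id_apply, Submodule.Quotient.mk_smul, smul_comm] }
      map_add' := fun b c => LinearMap.ext fun m => by
        show g (b + c) • (Submodule.Quotient.mk m : M ⧸ JM) = g b • Submodule.Quotient.mk m + g c • Submodule.Quotient.mk m
        rw [← add_smul]
        exact key _ _ (by rw [map_add, hg, hg, hg]) _
      map_smul' := fun s b => LinearMap.ext fun m => by
        show g (s • b) • (Submodule.Quotient.mk m : M ⧸ JM) = s • g b • Submodule.Quotient.mk m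
        rw [smul_smul]
        exact key _ _ (by rw [map_mul, hg, hg, Algebra.smul_def]; rfl) _ }
  have hb : back ((1 : B) ⊗ₜ[A] v) = Submodule.Quotient.mk v := by
    show g 1 • (Submodule.Quotient.mk v : M ⧸ JM) = _
    exact (key _ 1 (by rw [hg, map_one]) _).trans (one_smul A _)
  have h2 : H06Mod.pullStalkEquiv i G z ((1 : B) ⊗ₜ[A] v) = 0 :=
    ((H06Mod.pullStalkLin_tmul i G z 1 v).trans (one_smul _ _)).trans hv
  rw [(H06Mod.pullStalkEquiv i G z).map_eq_zero_iff] at h2
  rw [h2, map_zero] at hb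
  exact (Submodule.Quotient.mk_eq_zero JM).mp hb.symm

theorem mem_pow_of_adic (G : X.Modules) (z : Z) : ∀ (j : ℕ) (v : ((adicFilt i G).obj j).presheaf.stalk (i z)),
    lin ((adicFilt i G).ι j) (i z) v ∈
      RingHom.ker (i.stalkMap z).hom ^ j • (⊤ : Submodule (X.presheaf.stalk (i z)) (G.presheaf.stalk (i z))) := by
  intro j
  induction j with
  | zero => exact fun v => by simp [pow_zero, Ideal.one_eq_top, Submodule.top_smul]
  | succ j ih =>
    intro v
    let M := (adicFilt i G).obj j
    let w : M.presheaf.stalk (i z) := lin (kernel.ι (η i M)) (i z) v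
    have hw0 : lin (η i M) (i z) w = 0 := by
      show ((KDev.st (i z)).map (kernel.ι (η i M)) ≫ (KDev.st (i z)).map (η i M)) v = 0
      rw [← Functor.map_comp, kernel.condition, Functor.map_zero]
      rfl
    have hp : H06Mod.pullStalk i M z w = 0 := by
      rw [← pushStalk_unit i M z w]
      exact (congrArg (pushStalk i _ z) hw0).trans (map_zero _)
    have hwJ := mem_smul_of_pullStalk_eq_zero i M z hp
    have e : lin ((adicFilt i G).ι (j + 1)) (i z) v = lin ((adicFilt i G).ι j) (i z) w :=
      congrArg (fun φ => φ v) ((KDev.st (i z)).map_comp (kernel.ι (η i M)) ((adicFilt i G).ι j))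
    rw [e, pow_succ', Submodule.mul_smul]
    have h1 := Submodule.mem_map_of_mem (f := lin ((adicFilt i G).ι j) (i z)) hwJ
    rw [Submodule.map_smul''] at h1
    refine Submodule.smul_mono le_rfl ?_ h1
    rintro _ ⟨a, -, rfl⟩
    exact ih a

theorem locFin_adic {G : X.Modules} (hG : CohRange i G) :
    LocFin fun j : NI.{u} => (adicFilt i G).obj j.down := by
  intro x
  obtain ⟨U, hU, hxU, -⟩ := exists_isAffineOpen_mem_and_subset (X := X) (x := x) (U := ⊤) trivial
  haveI : IsNoetherianRing Γ(X, U) := IsLocallyNoetherian.component_noetherian ⟨U, hU⟩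
  haveI : G.IsQuasicoherent := hG.1.1
  haveI : Module.Finite Γ(X, U) Γ(G, U) := H10Coh.finite_sections G hG.1.2 hU
  let 𝔞 := i.ker.ideal ⟨U, hU⟩
  have hle : 𝔞 ≤ (Module.annihilator Γ(X, U) Γ(G, U)).radical := by
    rw [Ideal.radical_eq_sInf]
    refine le_sInf fun p ⟨hp, hpp⟩ => ?_
    let qq : PrimeSpectrum Γ(X, U) := ⟨p, hpp⟩
    have hyU : hU.fromSpec qq ∈ U := by
      rw [← SetLike.mem_coe, ← hU.range_fromSpec]
      exact ⟨qq, rfl⟩
    have hpy : hU.primeIdealOf ⟨hU.fromSpec qq, hyU⟩ = qq :=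
      hU.fromSpec.isOpenEmbedding.injective (hU.fromSpec_primeIdealOf _)
    have hy := (H22Alg.CohSupport.nontrivial_stalk_iff G hG.1.1 hU ⟨hU.fromSpec qq, hyU⟩).mpr (by
      rw [hpy, Module.support_eq_zeroLocus]
      exact hp)
    obtain ⟨z, hz⟩ := hG.2 _ hy
    have hzU : i z ∈ U := hz ▸ hyU
    intro a ha
    have h1 : X.presheaf.germ U (i z) hzU a ∈ IntMult.stalkIdeal i.ker (i z) := by
      show X.presheaf.germ U (i z) hzU a ∈ IntMult.stalkIdeal i.ker (i z)
      rw [H29Ref.stalkIdeal_eq i.ker (i z) ⟨U, hU⟩ hzU]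
      exact Ideal.mem_map_of_mem _ ha
    rw [H3CAlg.IntPt.stalkIdeal_ker] at h1
    have h2 : ¬ IsUnit (X.presheaf.germ U (i z) hzU a) := fun hu => by
      have := hu.map (i.stalkMap z).hom
      rw [RingHom.mem_ker.mp h1] at this
      exact not_isUnit_zero this
    have h3 : a ∈ (hU.primeIdealOf ⟨i z, hzU⟩).asIdeal := by
      by_contra hna
      refine h2 ?_
      letI := TopCat.Presheaf.algebra_section_stalk X.presheaf (⟨i z, hzU⟩ : U)
      haveI := hU.isLocalization_stalk ⟨i z, hzU⟩
      exact IsLocalization.map_units (X.presheaf.stalk (i z))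
        (⟨a, hna⟩ : (hU.primeIdealOf ⟨i z, hzU⟩).asIdeal.primeCompl)
    have h4 : hU.primeIdealOf ⟨i z, hzU⟩ = qq := by
      rw [← hpy]
      exact congrArg hU.primeIdealOf (Subtype.ext hz)
    rw [h4] at h3
    exact h3
  obtain ⟨N, hN⟩ := Ideal.exists_pow_le_of_le_radical_of_fg hle (IsNoetherian.noetherian 𝔞)
  refine ⟨U, hxU, ((Set.finite_lt_nat N).image ULift.up).subset ?_⟩
  rintro ⟨j⟩ ⟨y, hy, hyU⟩
  refine ⟨j, ?_, rfl⟩
  by_contra hjN
  rw [Set.mem_ofPred_eq, not_lt] at hjN
  refine hy ?_
  have hinj : Function.Injective (lin ((adicFilt i G).ι j) y) :=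
    (ModuleCat.mono_iff_injective ((KDev.st y).map ((adicFilt i G).ι j))).mp
      ((KDev.st y).map_mono ((adicFilt i G).ι j))
  by_cases hyr : y ∈ Set.range i
  swap
  · haveI : Subsingleton (G.presheaf.stalk y) := not_nontrivial_iff_subsingleton.mp fun h => hyr (hG.2 y h)
    exact hinj.subsingleton
  obtain ⟨z, rfl⟩ := hyr
  letI := TopCat.Presheaf.algebra_section_stalk X.presheaf (⟨i z, hyU⟩ : U)
  letI := Module.compHom (G.presheaf.stalk (i z)) (algebraMap Γ(X, U) (X.presheaf.stalk (i z)))
  haveI : IsScalarTower Γ(X, U) (X.presheaf.stalk (i z)) (G.presheaf.stalk (i z)) :=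
    IsScalarTower.of_algebraMap_smul fun _ _ => rfl
  haveI := Groth.Agent.H29Fitt.isLocalizedModule_germLin G hG.1.1 hU (⟨i z, hyU⟩ : U)
  haveI := hU.isLocalization_stalk ⟨i z, hyU⟩
  have hzero : RingHom.ker (i.stalkMap z).hom ^ j •
      (⊤ : Submodule (X.presheaf.stalk (i z)) (G.presheaf.stalk (i z))) = ⊥ := by
    have hJ : RingHom.ker (i.stalkMap z).hom = 𝔞.map (algebraMap Γ(X, U) (X.presheaf.stalk (i z))) :=
      (H3CAlg.IntPt.stalkIdeal_ker i z).symm.trans (H29Ref.stalkIdeal_eq i.ker (i z) ⟨U, hU⟩ hyU)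
    rw [eq_bot_iff, hJ, ← Ideal.map_pow, Submodule.smul_le]
    intro r hr m _
    rw [Submodule.mem_bot]
    induction hr using Submodule.span_induction with
    | mem r hr =>
      obtain ⟨a, ha, rfl⟩ := hr
      have ha' : a ∈ Module.annihilator Γ(X, U) Γ(G, U) := hN (Ideal.pow_le_pow_right hjN ha)
      obtain ⟨⟨w, s⟩, hws⟩ := IsLocalizedModule.surj (hU.primeIdealOf ⟨i z, hyU⟩).asIdeal.primeCompl
        (Groth.Agent.H29Fitt.germLin G (⟨i z, hyU⟩ : U)) m
      refine (IsLocalization.map_units (X.presheaf.stalk (i z)) s).smul_left_cancel.mp ?_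
      rw [smul_zero, smul_comm, algebraMap_smul, algebraMap_smul, ← Submonoid.smul_def, hws, ← map_smul,
        Module.mem_annihilator.mp ha', map_zero]
    | zero => exact zero_smul _ m
    | add a b _ _ ha hb => rw [add_smul, ha, hb, add_zero]
    | smul c a _ ha => rw [smul_eq_mul, mul_smul, ha, smul_zero]
  refine subsingleton_of_forall_eq 0 fun v => hinj ?_
  have h := mem_pow_of_adic i G z j v
  rw [hzero, Submodule.mem_bot] at h
  rw [h, map_zero]

theorem adm_adic {G : X.Modules} (hG : CohRange i G) : Adm (CohKilled i) (adicFilt i G) :=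
  ⟨isCoh_adic i hG.1, locFin_adic i hG, cohKilled_gr i hG.1⟩

end Groth.Agent.H3Cyc.KKill
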