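import Groth.Agent.H3Cyc.KFrame
import Groth.Agent.H3Cyc.KKill
import Groth.Agent.H17.Reduced
import Groth.Agent.H10Coh.Support
import Mathlib

/-!
# The map `K₀(Coh_{≤ k+1}/Coh_{≤ k−1}) → CH_k`
-/

set_option autoImplicit false
set_option linter.style.haveILetI false
set_option linter.unusedSectionVars false
set_option backward.isDefEq.respectTransparency.types false
universe u v

open CategoryTheory CategoryTheory.Limits AlgebraicGeometry TopologicalSpace Opposite IsLocalRing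
open Groth.Agent.H16Derived.KFlat.Stalk
open Groth.Agent.H3Cyc.KDev Groth.Agent.H3Cyc.KFam Groth.Agent.H3Cyc.KCls Groth.Agent.H3Cyc.KFilt
open Groth.Agent.H3Cyc.KIndex Groth.Agent.H3Cyc.KGood Groth.Agent.H3Cyc.KKill Groth.Agent.H3Cyc.KFrame

noncomputable section

namespace Groth.Agent.H3Cyc.KPsi

variable {X : Scheme.{u}} [IsLocallyNoetherian X] {δ : X → ℤ} {k : ℤ}

section reduced

variable {G : X.Modules} (hG : Coh.IsCoh G)

/-- The ideal of the reduced support. -/
abbrev redIdeal : X.IdealSheafData :=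
  Scheme.IdealSheafData.vanishingIdeal (⟨CohB1.support G, H10Coh.isClosed_support G hG.2⟩ : Closeds X)

/-- The reduced support. -/
abbrev redι : (redIdeal hG).subscheme ⟶ X := (redIdeal hG).subschemeι

theorem range_redι : Set.range (redι hG) = CohB1.support G :=
  H17.range_vanishingIdeal_subschemeι _

theorem cohRange_redι : CohRange (redι hG) G :=
  ⟨hG, fun x hx => by rw [range_redι]; exact mem_support.mpr hx⟩

instance : IsLocallyNoetherian (redIdeal hG).subscheme := LocallyOfFiniteType.isLocallyNoetherian (redι hG)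

theorem adm_red (hδ : Strict δ) (hle : Cyc.CohLe δ (k + 1) G) :
    Adm (P δ k) (adicFilt (redι hG) G) := by
  have hA := adm_adic (redι hG) (cohRange_redι hG)
  refine ⟨hA.coh, hA.lf, fun j => ?_⟩
  have hg := hA.gr j
  have hsupp : CohB1.support ((adicFilt (redι hG) G).gr j) ⊆ CohB1.support G :=
    (LeadDev.support_subset_of_epi (cokernel.π ((adicFilt (redι hG) G).step j))).trans
      (LeadDev.support_subset_of_mono ((adicFilt (redι hG) G).ι j))
  refine ⟨cohLe_iff.mpr ⟨hg.1, fun y hy => (cohLe_iff.mp hle).2 y (hsupp hy)⟩, fun ξ hξ r hr v => ?_⟩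
  by_cases hs : ξ ∈ Set.range (redι hG)
  swap
  · exact (hg.2.subsingleton ξ hs).elim _ _
  obtain ⟨z, rfl⟩ := hs
  refine hg.2.smul_eq_zero z r ?_ v
  haveI : AlgebraicGeometry.IsReduced (redIdeal hG).subscheme := H17.isReduced_vanishingIdeal_subscheme _
  let B := (redIdeal hG).subscheme.presheaf.stalk z
  have hO : Cyc.CohLe δ (k + 1) ((Coh.push (redι hG)).obj (Coh.structureModule (redIdeal hG).subscheme)) :=
    KDiv.cohLe_push (redι hG) ⟨H10Coh.isCoh_structureModule' _, fun w _ =>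
      (cohLe_iff.mp hle).2 _ (by rw [← range_redι hG]; exact Set.mem_range_self w)⟩
  have hfl : IsFiniteLength B ((Coh.structureModule (redIdeal hG).subscheme).presheaf.stalk z) := by
    rw [← Module.length_ne_top_iff, ← KDiv.length_push (redι hG) (Coh.structureModule _) z]
    exact Module.length_ne_top_iff.mpr (isFiniteLength_stalk hδ hO hξ)
  have eB := LinearEquiv.ofBijective (LinearMap.toSpanSingleton B
    ((Coh.structureModule (redIdeal hG).subscheme).presheaf.stalk z) (H06EGA9.oneStalk z))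
    (H06EGA9.bijective_smul_oneStalk z)
  haveI : IsArtinianRing B :=
    (isFiniteLength_iff_isNoetherian_isArtinian.mp (eB.symm.isFiniteLength hfl)).2
  have hf : IsField B := IsArtinianRing.isField_of_isReduced_of_isLocalRing B
  by_contra hne
  obtain ⟨c, hc⟩ := hf.mul_inv_cancel hne
  exact (IsLocalRing.mem_maximalIdeal r).mp hr
    (isUnit_of_map_unit ((redι hG).stalkMap z).hom r (IsUnit.of_mul_eq_one c hc))

end reduced

/-- The class of the graded of the filtration by the ideal of the reduced support. -/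
def theta0 (δ : X → ℤ) (k : ℤ) (G : X.Modules) : KZero.K0sub (P δ k) :=
  open scoped Classical in
  if h : Coh.IsCoh G then theta good_P (adicFilt (redι h) G) else 0

variable (hδ : Strict δ)
include hδ

theorem theta0_add {S : ShortComplex X.Modules} (hS : S.ShortExact) (h₁ : Cyc.CohLe δ (k + 1) S.X₁)
    (h₂ : Cyc.CohLe δ (k + 1) S.X₂) (h₃ : Cyc.CohLe δ (k + 1) S.X₃) :
    theta0 δ k S.X₂ = theta0 δ k S.X₁ + theta0 δ k S.X₃ := by
  have hP := good_P (X := X) (δ := δ) (k := k)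
  simp only [theta0, dif_pos h₁.1, dif_pos h₂.1, dif_pos h₃.1]
  let Φ := adicFilt (redι h₂.1) S.X₂
  have hA := adm_red h₂.1 hδ h₂
  haveI := hS.mono_f
  have hc₁ : ∀ j, Coh.IsCoh ((subFilt Φ).obj j) := fun j => by
    haveI : S.X₁.IsQuasicoherent := h₁.1.1
    haveI : (Φ.obj j).IsQuasicoherent := (hA.coh j).1
    haveI : S.X₂.IsQuasicoherent := h₂.1.1
    exact H10Coh.isCoh_of_mono (pullback.snd S.f (Φ.ι j)) (H8Props.QCohExtend.isQuasicoherent_pullback _ _) (hA.coh j)
  have hc₃ : ∀ j, Coh.IsCoh ((quotFilt hS Φ).obj j) := fun j =>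
    H10Coh.isCoh_cokernel _ (hc₁ j).1 (hA.coh j)
  have hgr : ∀ j, (ShortComplex.mk (grIn Φ j) (grOut hS Φ j) (grIn_grOut hS Φ j)).ShortExact :=
    shortExact_gr hS Φ
  have hA₁ : Adm (P δ k) (subFilt Φ) := ⟨hc₁,
    hA.lf.mono fun j => LeadDev.support_subset_of_mono (pullback.snd S.f (Φ.ι j.down)), fun j => by
      haveI : Mono (grIn Φ j) := (hgr j).mono_f
      exact hP.sub (grIn Φ j) (H10Coh.isCoh_cokernel _ (hc₁ (j + 1)).1 (hc₁ j)).1 (hA.gr j)⟩
  have hA₃ : Adm (P δ k) (quotFilt hS Φ) := ⟨hc₃,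
    hA.lf.mono fun j => LeadDev.support_subset_of_epi (cokernel.π (pullback.snd S.f (Φ.ι j.down))), fun j => by
      haveI : Epi (grOut hS Φ j) := (hgr j).epi_g
      exact hP.quot (grOut hS Φ j) (H10Coh.isCoh_cokernel _ (hc₃ (j + 1)).1 (hc₃ j)).1 (hA.gr j)⟩
  have hl : ∀ {G : X.Modules} {Ψ : Filt G}, Adm (P δ k) Ψ → LocFin fun j : NI.{u} => Ψ.gr j.down :=
    fun {G Ψ} hΨ => hΨ.lf.mono fun j => LeadDev.support_subset_of_epi (cokernel.π (Ψ.step j.down))
  rw [theta_eq hP h₁.1.1 (adm_red h₁.1 hδ h₁) hA₁, theta_eq hP h₃.1.1 (adm_red h₃.1 hδ h₃) hA₃]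
  exact H27KZero.clSub_shortExact
    (sigma_shortExact (fun j : NI.{u} => ShortComplex.mk (grIn Φ j.down) (grOut hS Φ j.down) (grIn_grOut hS Φ j.down))
      fun j => hgr j.down)
    (hP.sigma _ (hl hA₁) fun j => hA₁.gr _) (hP.sigma _ (hl hA) fun j => hA.gr _)
    (hP.sigma _ (hl hA₃) fun j => hA₃.gr _)

theorem theta0_small {G : X.Modules} (hG : Cyc.CohLe δ k G) : P δ k G ∧ theta0 δ k G = cl (P δ k) G := by
  have hsub : ∀ {F : X.Modules}, Cyc.CohLe δ k F → P δ k F := fun {F} hF =>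
    ⟨cohLe_mono (by omega) hF, fun ξ hξ r _ v => by
      haveI := subsingleton_of_notMem (F := F) (x := ξ) fun h => by
        have := (cohLe_iff.mp hF).2 ξ h
        omega
      exact Subsingleton.elim _ _⟩
  refine ⟨hsub hG, ?_⟩
  have hle : Cyc.CohLe δ (k + 1) G := cohLe_mono (by omega) hG
  simp only [theta0, dif_pos hG.1]
  have hA := adm_red hG.1 hδ hle
  exact theta_eq_cl good_P hA.lf fun j =>
    hsub (cohLe_of_mono ((adicFilt (redι hG.1) G).ι j) (hA.coh j).1 hG)

/-- The invariant on `K₀(Coh_{≤ k+1}/Coh_{≤ k-1})`. -/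
theorem exists_invariant (hX : Cyc.IsSetup X δ) :
    ∃ Ψ : Cyc.K0CohQuot δ (k + 1) (k - 1) →+ (X → ℤ) ⧸ ratFun δ k,
      ∀ G : X.Modules, Cyc.CohLe δ k G →
        Ψ (Cyc.toK0CohQuot δ (k + 1) (k - 1) G) = QuotientAddGroup.mk (Cyc.sheafFun δ k G) := by
  let L : FreeAbelianGroup (Subtype (P δ k)) →+ (X → ℤ) ⧸ ratFun δ k :=
    FreeAbelianGroup.lift fun F => psi δ k F.1
  have hL : KZero.relSub (P δ k) ≤ L.ker := by
    refine (AddSubgroup.closure_le _).mpr ?_
    rintro _ ⟨S, h₁, h₂, h₃, hS, rfl⟩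
    show L _ = 0
    simp only [map_sub, L, FreeAbelianGroup.lift_apply_of]
    rw [psi_add hδ hX hS h₁ h₂ h₃]
    abel
  let L' := QuotientAddGroup.lift _ L hL
  have hL' : ∀ F, P δ k F → L' (cl (P δ k) F) = psi δ k F := fun F hF => by
    show L' (KZero.clSub (P δ k) F) = _
    rw [KZero.clSub, dif_pos hF]
    exact FreeAbelianGroup.lift_apply_of (fun F : Subtype (P δ k) => psi δ k F.1) ⟨F, hF⟩
  let M : FreeAbelianGroup (Subtype (Cyc.CohLe δ (k + 1))) →+ (X → ℤ) ⧸ ratFun δ k :=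
    FreeAbelianGroup.lift fun G => L' (theta0 δ k G.1)
  have hM : KZero.relSub (Cyc.CohLe δ (k + 1)) ≤ M.ker := by
    refine (AddSubgroup.closure_le _).mpr ?_
    rintro _ ⟨S, h₁, h₂, h₃, hS, rfl⟩
    show M _ = 0
    simp only [map_sub, M, FreeAbelianGroup.lift_apply_of]
    rw [theta0_add hδ hS h₁ h₂ h₃, map_add]
    abel
  let M' := QuotientAddGroup.lift _ M hM
  have hval : ∀ G, Cyc.CohLe δ k G → M' (KZero.clSub (Cyc.CohLe δ (k + 1)) G) =
      QuotientAddGroup.mk (Cyc.sheafFun δ k G) := fun G hG => by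
    have hG' : Cyc.CohLe δ (k + 1) G := cohLe_mono (by omega) hG
    rw [KZero.clSub, dif_pos hG']
    refine (FreeAbelianGroup.lift_apply_of
      (fun G : Subtype (Cyc.CohLe δ (k + 1)) => L' (theta0 δ k G.1)) ⟨G, hG'⟩).trans ?_
    obtain ⟨hP, e⟩ := theta0_small hδ hG
    show L' (theta0 δ k G) = _
    rw [e, hL' G hP, psi_small hδ hX hG]
  have hM' : AddSubgroup.closure {c : KZero.K0sub (Cyc.CohLe δ (k + 1)) |
      ∃ F : X.Modules, Cyc.CohLe δ (k - 1) F ∧ c = KZero.clSub (Cyc.CohLe δ (k + 1)) F} ≤ M'.ker := by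
    refine (AddSubgroup.closure_le _).mpr ?_
    rintro _ ⟨F, hF, rfl⟩
    show M' _ = 0
    rw [hval F (cohLe_mono (by omega) hF)]
    rw [show Cyc.sheafFun δ k F = 0 from funext fun x => congrFun (sheafFun_small (by omega) hF) x]
    rfl
  exact ⟨QuotientAddGroup.lift _ M' hM', fun G hG => hval G hG⟩

theorem mem_of_eq (hX : Cyc.IsSetup X δ) {A B : X.Modules} (hA : Cyc.CohLe δ k A) (hB : Cyc.CohLe δ k B)
    (h : Cyc.toK0CohQuot δ (k + 1) (k - 1) A = Cyc.toK0CohQuot δ (k + 1) (k - 1) B) (γ : AlgebraicCycle X ℤ)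
    (hγ : ⇑γ = Cyc.sheafFun δ k A - Cyc.sheafFun δ k B) : Cyc.RatEquivZero δ k γ := by
  obtain ⟨Ψ, hΨ⟩ := exists_invariant (k := k) hδ hX
  have e := congrArg Ψ h
  rw [hΨ A hA, hΨ B hB, QuotientAddGroup.eq_iff_sub_mem] at e
  obtain ⟨γ', h', hr⟩ := e
  rwa [DFunLike.coe_injective (h'.trans hγ.symm)] at hr

omit hδ in
theorem cls_homology {F : X.Modules} (φ ψ : F ⟶ F) (w : φ ≫ ψ = 0) (hF : Cyc.CohLe δ (k + 1) F)
    (hH : ∀ x : X, Nontrivial ((ShortComplex.mk φ ψ w).homology.presheaf.stalk x) → δ x ≤ k) :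
    Cyc.CohLe δ k (ShortComplex.mk φ ψ w).homology ∧
      (cls (ShortComplex.mk φ ψ w).homology : Cyc.K0CohQuot δ (k + 1) (k - 1)) =
        cls (kernel ψ) + cls (kernel φ) - cls F := by
  let sc := ShortComplex.mk φ ψ w
  let t : F ⟶ sc.cycles := sc.toCycles
  have hKψ : Cyc.CohLe δ (k + 1) (kernel ψ) := cohLe_kernel ψ hF hF.1.1
  have hC : Cyc.CohLe δ (k + 1) sc.cycles := cohLe_congr sc.cyclesIsoKernel.symm hKψ
  have hKt : Cyc.CohLe δ (k + 1) (kernel t) := cohLe_kernel t hF hC.1.1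
  have hI : Cyc.CohLe δ (k + 1) (Abelian.coimage t) := cohLe_cokernel _ hKt.1.1 hF
  let A := ShortComplex.mk (kernel.ι t) (Abelian.coimage.π t) (cokernel.condition _)
  have hA : A.ShortExact := { exact := ShortComplex.exact_cokernel (kernel.ι t) }
  let B := ShortComplex.mk (Abelian.factorThruCoimage t) sc.homologyπ (by
    rw [← cancel_epi (Abelian.coimage.π t), ← Category.assoc, Abelian.coimage.fac, comp_zero]
    exact sc.toCycles_comp_homologyπ)
  haveI : Mono B.f := inferInstanceAs (Mono (Abelian.factorThruCoimage t))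
  haveI : Epi B.g := inferInstanceAs (Epi sc.homologyπ)
  have hB : B.ShortExact :=
    { exact := ShortComplex.exact_of_g_is_cokernel _ (CokernelCofork.IsColimit.ofπ' _ _ fun {T} l hl => by
        have hl' : t ≫ l = 0 := by
          rw [← Abelian.coimage.fac t, Category.assoc, show Abelian.factorThruCoimage t ≫ l = 0 from hl, comp_zero]
        exact ⟨sc.homologyIsCokernel.desc (CokernelCofork.ofπ l hl'),
          sc.homologyIsCokernel.fac (CokernelCofork.ofπ l hl') WalkingParallelPair.one⟩) }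
  have hH' : Cyc.CohLe δ k sc.homology := by
    refine ⟨?_, hH⟩
    have e : cokernel t ≅ sc.homology :=
      IsColimit.coconePointUniqueUpToIso (cokernelIsCokernel t) sc.homologyIsCokernel
    exact H10Coh.isCoh_of_iso e (cohLe_cokernel t hF.1.1 hC).1
  refine ⟨hH', ?_⟩
  have eA := cls_shortExact (δ := δ) (a := k + 1) (b := k - 1) hA hKt hF hI
  have eB := cls_shortExact (δ := δ) (a := k + 1) (b := k - 1) hB hI hC (cohLe_mono (by omega) hH')
  have e1 : (cls sc.cycles : Cyc.K0CohQuot δ (k + 1) (k - 1)) = cls (kernel ψ) := cls_congr sc.cyclesIsoKernel hC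
  have e2 : (cls (kernel t) : Cyc.K0CohQuot δ (k + 1) (k - 1)) = cls (kernel φ) :=
    cls_congr ((kernelCompMono t sc.iCycles).symm ≪≫ kernelIsoOfEq sc.toCycles_i) hKt
  change (cls F : Cyc.K0CohQuot δ (k + 1) (k - 1)) = cls (kernel t) + cls (Abelian.coimage t) at eA
  change (cls sc.cycles : Cyc.K0CohQuot δ (k + 1) (k - 1)) = cls (Abelian.coimage t) + cls sc.homology at eB
  rw [e2] at eA
  rw [e1] at eB
  rw [eA, eB]
  abel

end Groth.Agent.H3Cyc.KPsi
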