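import Groth.Agent.H3Cyc.KCls
import Groth.Agent.H3Cyc.BCPush
import Groth.Agent.H16Derived.ProjFormula.ClosedImm
import Mathlib

/-!
# Proper push forward of `k`-cycles of coherent modules
-/

set_option autoImplicit false
set_option linter.style.haveILetI false
set_option linter.unusedSectionVars false
set_option backward.isDefEq.respectTransparency.types false
universe u

open CategoryTheory AlgebraicGeometry TopologicalSpace Opposite IsLocalRing
open Groth.Agent.H3Cyc.KDev Groth.Agent.H3Cyc.KFam Groth.Agent.H3Cyc.KCls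

noncomputable section

namespace Groth.Agent.H3Cyc.KPush

variable {X Y : Scheme.{u}} (f : X ⟶ Y)

/-- Near a top point of the support, the support is the closure of that point. -/
theorem notMem_closure [IsLocallyNoetherian X] {δ : X → ℤ} {k : ℤ} (hδ : Strict δ) {F : X.Modules}
    (hF : Cyc.CohLe δ k F) {x : X} (hx : x ∈ top δ k F) :
    x ∉ closure (CohB1.support F \ closure {x}) := by
  obtain ⟨U, hU, hxU, -⟩ := exists_isAffineOpen_mem_and_subset (X := X) (x := x) (U := ⊤) trivial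
  haveI : IsNoetherianRing Γ(X, U) := IsLocallyNoetherian.component_noetherian ⟨U, hU⟩
  haveI : F.IsQuasicoherent := hF.1.1
  haveI : Module.Finite Γ(X, U) Γ(F, U) := H10Coh.finite_sections F hF.1.2 hU
  let pt : PrimeSpectrum Γ(X, U) → X := fun q => hU.fromSpec q
  have hptU : ∀ q, pt q ∈ U := fun q => by
    rw [← SetLike.mem_coe, ← hU.range_fromSpec]
    exact ⟨q, rfl⟩
  have hpt : ∀ z (hz : z ∈ U), pt (hU.primeIdealOf ⟨z, hz⟩) = z := fun z hz => hU.fromSpec_primeIdealOf _
  have hsupp : ∀ q, pt q ∈ CohB1.support F ↔ q ∈ Module.support Γ(X, U) Γ(F, U) := fun q => by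
    have e : hU.primeIdealOf ⟨pt q, hptU q⟩ = q :=
      hU.fromSpec.isOpenEmbedding.injective (hU.fromSpec_primeIdealOf _)
    rw [mem_support]
    refine (H22Alg.CohSupport.nontrivial_stalk_iff F hF.1.1 hU ⟨pt q, hptU q⟩).trans ?_
    rw [e]
  let J : Set (PrimeSpectrum Γ(X, U)) :=
    {q | q.asIdeal ∈ (Module.annihilator Γ(X, U) Γ(F, U)).minimalPrimes ∧ pt q ≠ x}
  have hJ : J.Finite := ((Ideal.finite_minimalPrimes_of_isNoetherianRing _ _).preimage
    (fun a _ b _ h => PrimeSpectrum.ext h)).subset fun q hq => hq.1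
  let W : Set X := ⋃ q ∈ J, closure {pt q}
  have hW : IsClosed W := hJ.isClosed_biUnion fun _ _ => isClosed_closure
  have hxW : x ∉ W := fun h => by
    obtain ⟨q, hq, hqx⟩ := Set.mem_iUnion₂.mp h
    have hqs : pt q ∈ CohB1.support F := (hsupp q).mpr (by
      rw [Module.support_eq_zeroLocus]
      exact hq.1.1.2)
    exact hq.2 (top_eq hδ hF hx (specializes_iff_mem_closure.mpr hqx) hqs).symm
  intro hcl
  obtain ⟨z, ⟨hzU, hzW⟩, hzs, hzx⟩ := mem_closure_iff.mp hcl ((U : Set X) ∩ Wᶜ)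
    (U.isOpen.inter hW.isOpen_compl) ⟨hxU, hxW⟩
  apply hzW
  have hz : (hU.primeIdealOf ⟨z, hzU⟩) ∈ Module.support Γ(X, U) Γ(F, U) :=
    (hsupp _).mp (by rw [hpt z hzU]; exact hzs)
  rw [Module.support_eq_zeroLocus] at hz
  obtain ⟨q, hq, hle⟩ := Ideal.exists_minimalPrimes_le (show Module.annihilator Γ(X, U) Γ(F, U) ≤ _ from hz)
  let qq : PrimeSpectrum Γ(X, U) := ⟨q, hq.1.1⟩
  have hsp : pt qq ⤳ z := by
    have := ((PrimeSpectrum.le_iff_specializes qq (hU.primeIdealOf ⟨z, hzU⟩)).mp hle).map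
      hU.fromSpec.continuous
    rwa [hU.fromSpec_primeIdealOf] at this
  refine Set.mem_iUnion₂.mpr ⟨qq, ⟨hq, fun e => hzx ?_⟩, hsp.mem_closure⟩
  rw [← e]
  exact hsp.mem_closure
where
  top_eq {δ : X → ℤ} {k : ℤ} (hδ : Strict δ) {F : X.Modules} (hF : Cyc.CohLe δ k F) {x y : X}
      (hx : x ∈ top δ k F) (h : y ⤳ x) (hy : y ∈ CohB1.support F) : x = y := by
    by_contra hne
    have h1 := hδ y x h (Ne.symm hne)
    have h2 := (cohLe_iff.mp hF).2 y hy
    have h3 := hx.1
    omega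

/-- Lengths depend only on the structure map. -/
theorem length_module_congr {A B : Type u} [Ring A] [AddCommGroup B] (m₁ m₂ : Module A B)
    (h : ∀ (r : A) (b : B), @HSMul.hSMul A B B (@instHSMul A B m₁.toSMul) r b =
      @HSMul.hSMul A B B (@instHSMul A B m₂.toSMul) r b) :
    @Module.length A B _ _ m₁ = @Module.length A B _ _ m₂ := by
  rw [Module.ext' m₁ m₂ h]

/-- The map from the stalk of the direct image to the stalk at a point over `y`. -/
def pc (F : X.Modules) {y : Y} {x : X} (hx : f x = y) :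
    ((Coh.push f).obj F).presheaf.stalk y →+ F.presheaf.stalk x :=
  (H16Derived.ProjFormula.pushStalk f F x).comp
    (((Coh.push f).obj F).presheaf.stalkSpecializes (specializes_of_eq hx)).hom

theorem pc_germ (F : X.Modules) {y : Y} {x : X} (hx : f x = y) (V : Y.Opens) (hy : y ∈ V)
    (σ : Γ((Coh.push f).obj F, V)) :
    pc f F hx (((Coh.push f).obj F).presheaf.germ V y hy σ) =
      F.presheaf.germ (f ⁻¹ᵁ V) x (show f x ∈ V from hx.symm ▸ hy) σ := by
  have e := congr($(((Coh.push f).obj F).presheaf.germ_stalkSpecializes hy (specializes_of_eq hx)) σ)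
  exact (congrArg (H16Derived.ProjFormula.pushStalk f F x) e).trans
    (H16Derived.ProjFormula.pushStalk_germ f F x V _ σ)

/-- The map of local rings. -/
def rho {y : Y} {x : X} (hx : f x = y) : Y.presheaf.stalk y →+* X.presheaf.stalk x :=
  (f.stalkMap x).hom.comp (Y.presheaf.stalkSpecializes (specializes_of_eq hx)).hom

theorem pc_smul (F : X.Modules) {y : Y} {x : X} (hx : f x = y) (r : Y.presheaf.stalk y)
    (σ : ((Coh.push f).obj F).presheaf.stalk y) : pc f F hx (r • σ) = rho f hx r • pc f F hx σ := by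
  subst hx
  simp only [pc, rho, TopCat.Presheaf.stalkSpecializes_refl, AddMonoidHom.comp_apply, RingHom.comp_apply]
  exact H16Derived.ProjFormula.pushStalk_smul f F x r σ

theorem pc_pi_bijective [UniversallyClosed f] {F : X.Modules} {y : Y} (S : Finset X)
    (hS : ∀ x ∈ S, f x = y)
    (hsupp : ∀ x, f x = y → x ∈ CohB1.support F → x ∈ S)
    (hsep : ∀ x ∈ S, x ∉ closure (CohB1.support F \ closure {x}))
    (hcl : ∀ x ∈ S, ∀ z, f z = y → x ⤳ z → z = x) :
    Function.Bijective fun (a : ((Coh.push f).obj F).presheaf.stalk y) (x : S) => pc f F (hS x.1 x.2) a := by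
  classical
  have hclosed : IsClosedMap f := f.isClosedMap
  -- a neighbourhood of `y` whose preimage lies in a given neighbourhood of the fibre
  have hnhd : ∀ U : Set X, IsOpen U → (∀ z, f z = y → z ∈ U) → ∀ V : Y.Opens, y ∈ V →
      ∃ V' : Y.Opens, y ∈ V' ∧ V' ≤ V ∧ ∀ z, f z ∈ V' → z ∈ U := fun U hU hfib V hy =>
    ⟨V ⊓ ⟨(f '' Uᶜ)ᶜ, (hclosed _ hU.isClosed_compl).isOpen_compl⟩,
      ⟨hy, by rintro ⟨z, hz, hzy⟩; exact hz (hfib z hzy)⟩, inf_le_left,
      fun z hz => by_contra fun h => hz.2 ⟨z, h, rfl⟩⟩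
  have hout : ∀ z, f z = y → z ∉ S → ∀ a b : F.presheaf.stalk z, a = b := fun z hz hzS a b => by
    haveI : Subsingleton (F.presheaf.stalk z) :=
      not_nontrivial_iff_subsingleton.mp fun h => hzS (hsupp z hz (mem_support.mpr h))
    exact Subsingleton.elim a b
  constructor
  · intro a b hab
    obtain ⟨V, hy, σ, rfl⟩ := ((Coh.push f).obj F).presheaf.exists_germ_eq a
    obtain ⟨V₂, hy₂, τ, rfl⟩ := ((Coh.push f).obj F).presheaf.exists_germ_eq b
    let U : Set X := {z | ∃ (h₁ : z ∈ f ⁻¹ᵁ V) (h₂ : z ∈ f ⁻¹ᵁ V₂),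
      F.presheaf.germ (f ⁻¹ᵁ V) z h₁ σ = F.presheaf.germ (f ⁻¹ᵁ V₂) z h₂ τ}
    have hU : IsOpen U := isOpen_iff_forall_mem_open.mpr fun z ⟨h₁, h₂, he⟩ => by
      obtain ⟨W, hzW, i₁, i₂, e⟩ := F.presheaf.germ_eq z h₁ h₂ σ τ he
      refine ⟨W, fun w hw => ⟨i₁.le hw, i₂.le hw, ?_⟩, W.isOpen, hzW⟩
      rw [← F.presheaf.germ_res_apply i₁ w hw σ, ← F.presheaf.germ_res_apply i₂ w hw τ]
      exact congrArg _ e
    obtain ⟨V', hy', hle, hV'⟩ := hnhd U hU (fun z hz => by
      have h₁ : z ∈ f ⁻¹ᵁ V := show f z ∈ V from hz.symm ▸ hy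
      have h₂ : z ∈ f ⁻¹ᵁ V₂ := show f z ∈ V₂ from hz.symm ▸ hy₂
      refine ⟨h₁, h₂, ?_⟩
      by_cases hzS : z ∈ S
      · have := congrFun hab ⟨z, hzS⟩
        simp only [pc_germ] at this
        exact this
      · exact hout z hz hzS _ _) (V ⊓ V₂) ⟨hy, hy₂⟩
    refine ((Coh.push f).obj F).presheaf.germ_ext V' hy' (homOfLE (hle.trans inf_le_left))
      (homOfLE (hle.trans inf_le_right)) ?_
    refine TopCat.Presheaf.section_ext (⟨F.presheaf, F.isSheaf⟩ : TopCat.Sheaf AddCommGrpCat.{u} X.toTopCat)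
      (f ⁻¹ᵁ V') _ _ fun z hz => ?_
    obtain ⟨h₁, h₂, e⟩ := hV' z hz
    refine (F.presheaf.germ_res_apply (homOfLE (fun w hw => hle.trans inf_le_left hw)) z hz σ).trans ?_
    exact e.trans (F.presheaf.germ_res_apply (homOfLE (fun w hw => hle.trans inf_le_right hw)) z hz τ).symm
  · intro g
    suffices h : ∀ x : S, ∃ a : ((Coh.push f).obj F).presheaf.stalk y,
        pc f F (hS x.1 x.2) a = g x ∧ ∀ x' : S, x' ≠ x → pc f F (hS x'.1 x'.2) a = 0 by
      choose a ha ha0 using h
      refine ⟨∑ x : S, a x, funext fun x => ?_⟩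
      show pc f F (hS x.1 x.2) (∑ x' : S, a x') = g x
      rw [map_sum, Finset.sum_eq_single x (fun x' _ h => ha0 x' x h.symm) (fun h => absurd (Finset.mem_univ x) h)]
      exact ha x
    intro x
    obtain ⟨U, hxU, t, ht⟩ := F.presheaf.exists_germ_eq (g x)
    let U₀ : X.Opens := U ⊓ ⟨(closure (CohB1.support F \ closure {x.1}))ᶜ, isClosed_closure.isOpen_compl⟩
    let U₁ : X.Opens := ⟨(closure {x.1})ᶜ, isClosed_closure.isOpen_compl⟩
    obtain ⟨V, hy, -, hV⟩ := hnhd ((U₀ : Set X) ∪ U₁) (U₀.isOpen.union U₁.isOpen) (fun z hz => by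
      by_cases hzc : z ∈ closure {x.1}
      · have e := hcl x.1 x.2 z hz (specializes_iff_mem_closure.mpr hzc)
        exact Or.inl ⟨e.symm ▸ hxU, e.symm ▸ hsep x.1 x.2⟩
      · exact Or.inr hzc) ⊤ trivial
    let sf : ∀ b : Bool, Γ(F, if b then U₀ else U₁) := fun b =>
      match b with
      | true => F.presheaf.map (homOfLE (inf_le_left : U₀ ≤ U)).op t
      | false => 0
    have hdisj : ∀ z, z ∈ U₀ → z ∈ U₁ → ∀ a b : F.presheaf.stalk z, a = b := fun z h₀ h₁ a b => by
      haveI : Subsingleton (F.presheaf.stalk z) := not_nontrivial_iff_subsingleton.mp fun h =>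
        h₀.2 (subset_closure ⟨mem_support.mpr h, h₁⟩)
      exact Subsingleton.elim a b
    let cv : Bool → X.Opens := fun b => (if b then U₀ else U₁) ⊓ f ⁻¹ᵁ V
    obtain ⟨s, hs, -⟩ := TopCat.Sheaf.existsUnique_gluing'
      (⟨F.presheaf, F.isSheaf⟩ : TopCat.Sheaf AddCommGrpCat.{u} X.toTopCat)
      cv (f ⁻¹ᵁ V) (fun b => homOfLE inf_le_right)
      (fun z hz => Opens.mem_iSup.2 ((hV z hz).elim (fun h => ⟨true, h, hz⟩) (fun h => ⟨false, h, hz⟩)))
      (fun b => F.presheaf.map (homOfLE inf_le_left).op (sf b)) fun b b' => by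
        refine TopCat.Presheaf.section_ext (⟨F.presheaf, F.isSheaf⟩ : TopCat.Sheaf AddCommGrpCat.{u} X.toTopCat)
          _ _ _ fun z hz => ?_
        cases b <;> cases b'
        · rfl
        · exact hdisj z hz.2.1 hz.1.1 _ _
        · exact hdisj z hz.1.1 hz.2.1 _ _
        · rfl
    refine ⟨((Coh.push f).obj F).presheaf.germ V y hy s, ?_, fun x' hne => ?_⟩
    · rw [pc_germ]
      have hx0 : x.1 ∈ cv true := ⟨⟨hxU, hsep x.1 x.2⟩, show f x.1 ∈ V from (hS x.1 x.2).symm ▸ hy⟩
      refine (F.presheaf.germ_res_apply (homOfLE inf_le_right) x.1 hx0 s).symm.trans ?_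
      refine (congrArg (F.presheaf.germ (cv true) x.1 hx0) (hs true)).trans ?_
      refine (F.presheaf.germ_res_apply (homOfLE inf_le_left) x.1 hx0 _).trans ?_
      exact (F.presheaf.germ_res_apply (homOfLE (inf_le_left : U₀ ≤ U)) x.1 hx0.1 t).trans ht
    · rw [pc_germ]
      have hx1 : x'.1 ∈ cv false := ⟨fun hc => hne (Subtype.ext (hcl x.1 x.2 x'.1 (hS x'.1 x'.2)
        (specializes_iff_mem_closure.mpr hc))), show f x'.1 ∈ V from (hS x'.1 x'.2).symm ▸ hy⟩
      refine (F.presheaf.germ_res_apply (homOfLE inf_le_right) x'.1 hx1 s).symm.trans ?_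
      refine (congrArg (F.presheaf.germ (cv false) x'.1 hx1) (hs false)).trans ?_
      refine (F.presheaf.germ_res_apply (homOfLE inf_le_left) x'.1 hx1 _).trans ?_
      exact map_zero _

theorem length_piece [LocallyOfFiniteType f] {δX : X → ℤ} {δY : Y → ℤ} (hδ : Cyc.DeltaCompat f δX δY)
    (F : X.Modules) {y : Y} {x : X} (hx : f x = y) (he : δX x = δY y)
    (hfl : IsFiniteLength (X.presheaf.stalk x) (F.presheaf.stalk x)) :
    letI := Module.compHom (F.presheaf.stalk x) (rho f hx)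
    Module.length (Y.presheaf.stalk y) (F.presheaf.stalk x) ≠ ⊤ ∧
      (Module.length (Y.presheaf.stalk y) (F.presheaf.stalk x)).toNat =
        (Module.length (X.presheaf.stalk x) (F.presheaf.stalk x)).toNat * f.residueDegree x := by
  subst hx
  letI := Module.compHom (F.presheaf.stalk x) (rho f (rfl : f x = f x))
  letI := (f.stalkMap x).hom.toAlgebra
  haveI : IsLocalHom (algebraMap (Y.presheaf.stalk (f x)) (X.presheaf.stalk x)) :=
    inferInstanceAs (IsLocalHom (f.stalkMap x).hom)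
  haveI : IsScalarTower (Y.presheaf.stalk (f x)) (X.presheaf.stalk x) (F.presheaf.stalk x) :=
    IsScalarTower.of_algebraMap_smul fun r a => by
      show (f.stalkMap x).hom r • a = rho f (rfl : f x = f x) r • a
      simp only [rho, TopCat.Presheaf.stalkSpecializes_refl]
      rfl
  have hfin := H22Alg.CycBasic.finite_residueFieldMap_of_delta_eq f hδ x he
  letI : Algebra (Y.residueField (f x)) (X.residueField x) := (f.residueFieldMap x).hom.toAlgebra
  haveI : Module.Finite (Y.residueField (f x)) (X.residueField x) := hfin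
  have hk : Module.length (ResidueField (Y.presheaf.stalk (f x))) (ResidueField (X.presheaf.stalk x)) =
      (f.residueDegree x : ℕ∞) := by
    refine Eq.trans (length_module_congr _ (f.residueFieldMap x).hom.toAlgebra.toModule fun r b => ?_)
      (Module.length_eq_finrank (Y.residueField (f x)) (X.residueField x))
    obtain ⟨r, rfl⟩ := IsLocalRing.residue_surjective r
    obtain ⟨b, rfl⟩ := IsLocalRing.residue_surjective b
    rfl
  rw [IsLocalRing.length_restrictScalars (Y.presheaf.stalk (f x)) (X.presheaf.stalk x) (F.presheaf.stalk x), hk]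
  refine ⟨WithTop.mul_ne_top (Module.length_ne_top_iff.mpr hfl) (ENat.natCast_ne_top _), ?_⟩
  rw [ENat.toNat_mul, ENat.toNat_natCast]

theorem map_cycle_eq_sheafFun_push [IsProper f] [IsLocallyNoetherian X] [IsLocallyNoetherian Y] {δX : X → ℤ}
    {δY : Y → ℤ} (hδX : Strict δX) (hδ : Cyc.DeltaCompat f δX δY) {k : ℤ} {F : X.Modules}
    (hF : Cyc.CohLe δX k F) (α : AlgebraicCycle X ℤ) (hα : ⇑α = Cyc.sheafFun δX k F) :
    ⇑(AlgebraicCycle.map f δX δY α) = Cyc.sheafFun δY k ((Coh.push f).obj F) := by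
  classical
  funext y
  show (∑ᶠ x ∈ f ⁻¹' {y}, α x * ((AlgebraicCycle.mapCoeff f δX δY x : ℕ) : ℤ)) = _
  by_cases hy : δY y = k
  swap
  · rw [sheafFun_of_ne hy]
    refine finsum_mem_eq_zero_of_forall_eq_zero fun x hx => ?_
    by_contra hne
    have h1 := left_ne_zero_of_mul hne
    have h2 := right_ne_zero_of_mul hne
    simp only [AlgebraicCycle.mapCoeff, ne_eq, Nat.cast_eq_zero, ite_eq_right_iff, Classical.not_imp] at h2
    rw [hα] at h1
    have hxk : δX x = k := by
      by_contra h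
      exact h1 (sheafFun_of_ne h)
    exact hy (by rw [← hxk, h2.1]; exact congrArg δY (Set.mem_singleton_iff.mp hx).symm)
  have hle : ∀ z, f z = y → k ≤ δX z := fun z hz => by
    have := BCPush.delta_le_of_deltaCompat f hδ z
    rw [hz, hy] at this
    exact this
  have htop : ∀ z, f z = y → z ∈ CohB1.support F → z ∈ top δX k F := fun z hz hs =>
    ⟨le_antisymm ((cohLe_iff.mp hF).2 z hs) (hle z hz), hs⟩
  have hfin : (top δX k F ∩ f ⁻¹' {y}).Finite := by
    choose U hxU hU using exists_top_finite hδX hF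
    obtain ⟨t, ht⟩ := (f.isCompact_preimage_singleton y).elim_finite_subcover (fun x => (U x : Set X))
      (fun x => (U x).isOpen) (fun x _ => Set.mem_iUnion.mpr ⟨x, hxU x⟩)
    refine ((t.finite_toSet).biUnion fun x _ => hU x).subset fun z hz => ?_
    obtain ⟨x, hx, hzx⟩ := Set.mem_iUnion₂.mp (ht hz.2)
    exact Set.mem_iUnion₂.mpr ⟨x, hx, hz.1, hzx⟩
  let S := hfin.toFinset
  have hS : ∀ x ∈ S, f x = y := fun x hx => (hfin.mem_toFinset.mp hx).2
  have hbij := pc_pi_bijective f (F := F) S hS (fun x hx hs => hfin.mem_toFinset.mpr ⟨htop x hx hs, hx⟩)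
    (fun x hx => notMem_closure hδX hF (hfin.mem_toFinset.mp hx).1)
    (fun x hx z hz hsp => (hδX.eq_of_specializes (hfin.mem_toFinset.mp hx).1.1 hsp (hle z hz)).symm ▸ rfl)
  letI : ∀ x : S, Module (Y.presheaf.stalk y) (F.presheaf.stalk x.1) := fun x =>
    Module.compHom _ (rho f (hS x.1 x.2))
  let e : ((Coh.push f).obj F).presheaf.stalk y ≃ₗ[Y.presheaf.stalk y] ((x : S) → F.presheaf.stalk x.1) :=
    LinearEquiv.ofBijective
      ({ toFun := fun a x => pc f F (hS x.1 x.2) a
         map_add' := fun a b => funext fun x => map_add _ a b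
         map_smul' := fun r a => funext fun x => pc_smul f F (hS x.1 x.2) r a } :
        ((Coh.push f).obj F).presheaf.stalk y →ₗ[Y.presheaf.stalk y] ((x : S) → F.presheaf.stalk x.1)) hbij
  have hk : ∀ x : S, δX x.1 = k := fun x => (hfin.mem_toFinset.mp x.2).1.1
  have hp := fun x : S => length_piece f hδ F (hS x.1 x.2) ((hk x).trans hy.symm)
    (isFiniteLength_stalk hδX hF (hk x))
  rw [sheafFun_of_eq hy, e.length_eq, Module.length_pi_of_fintype, ENat.toNat_sum (fun x _ => (hp x).1), Nat.cast_sum]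
  rw [finsum_mem_eq_sum_of_inter_support_eq (t := S) _ ?_]
  · rw [← Finset.sum_coe_sort S]
    refine Finset.sum_congr rfl fun x _ => ?_
    rw [(hp x).2, Nat.cast_mul, hα, sheafFun_of_eq (hk x)]
    congr 1
    simp only [AlgebraicCycle.mapCoeff]
    rw [if_pos]
    show δX x.1 = δY (f x.1)
    rw [hS x.1 x.2, hy, hk x]
  · ext x
    simp only [Set.mem_inter_iff, Function.mem_support, ne_eq, Finset.mem_coe]
    refine ⟨fun ⟨hx, hne⟩ => ⟨hfin.mem_toFinset.mpr ⟨?_, hx⟩, hne⟩,
      fun ⟨hx, hne⟩ => ⟨hS x hx, hne⟩⟩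
    have h1 := left_ne_zero_of_mul hne
    rw [hα] at h1
    have hxk : δX x = k := by
      by_contra h
      exact h1 (sheafFun_of_ne h)
    refine ⟨hxk, mem_support.mpr (not_subsingleton_iff_nontrivial.mp fun h => h1 ?_)⟩
    rw [sheafFun_of_eq hxk, Module.length_eq_zero_iff.mpr h]
    rfl

end Groth.Agent.H3Cyc.KPush
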