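import Groth.Agent.H3Cyc.KCls
import Mathlib

/-!
# `K₀(Coh_{≤k}/Coh_{≤k-1})` is the group of `k`-cycles
-/

set_option autoImplicit false
set_option linter.style.haveILetI false
set_option linter.unusedSectionVars false
universe u v

open CategoryTheory CategoryTheory.Limits AlgebraicGeometry TopologicalSpace Opposite
open Groth.Agent.H16Derived.KFlat.Stalk
open Groth.Agent.H3Cyc.KDev Groth.Agent.H3Cyc.KFam Groth.Agent.H3Cyc.KCls

noncomputable section

namespace Groth.Agent.H3Cyc.KQuot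

variable {X : Scheme.{u}} [IsLocallyNoetherian X] {δ : X → ℤ} {k a b : ℤ}

theorem toK0_eq (F : X.Modules) (hF : Cyc.CohLe δ a F) :
    (cls F : Cyc.K0CohQuot δ a b) =
      QuotientAddGroup.mk (QuotientAddGroup.mk (FreeAbelianGroup.of (⟨F, hF⟩ : Subtype (Cyc.CohLe δ a)))) := by
  exact congrArg QuotientAddGroup.mk (dif_pos hF)

theorem cls_biprod {F G : X.Modules} (hF : Cyc.CohLe δ a F) (hG : Cyc.CohLe δ a G) :
    (cls (F ⊞ G) : Cyc.K0CohQuot δ a b) = cls F + cls G ∧ Cyc.CohLe δ a (F ⊞ G) := by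
  have hs := (ShortComplex.Splitting.ofHasBinaryBiproduct F G).shortExact
  have h2 : Cyc.CohLe δ a (F ⊞ G) := cohLe_X₂ hs hF hG
  exact ⟨cls_shortExact hs hF h2 hG, h2⟩

/-- Every class is a difference of classes of modules. -/
theorem exists_eq_sub (x : Cyc.K0CohQuot δ a b) :
    ∃ F G : X.Modules, Cyc.CohLe δ a F ∧ Cyc.CohLe δ a G ∧ x = cls F - cls G := by
  obtain ⟨O, hO⟩ := HasZeroObject.zero (C := X.Modules)
  have hO' : Cyc.CohLe δ a O := cohLe_of_isZero hO
  induction x using QuotientAddGroup.induction_on with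
  | H x =>
    induction x using QuotientAddGroup.induction_on with
    | H x =>
      induction x using FreeAbelianGroup.induction_on with
      | zero => exact ⟨O, O, hO', hO', by simp⟩
      | of P => exact ⟨P.1, O, P.2, hO', by rw [cls_isZero hO, sub_zero, toK0_eq P.1 P.2]⟩
      | neg P h =>
        obtain ⟨F, G, hF, hG, e⟩ := h
        exact ⟨G, F, hG, hF, by rw [QuotientAddGroup.mk_neg, QuotientAddGroup.mk_neg, e, neg_sub]⟩
      | add p q hp hq =>
        obtain ⟨F, G, hF, hG, e⟩ := hp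
        obtain ⟨F', G', hF', hG', e'⟩ := hq
        refine ⟨F ⊞ F', G ⊞ G', (cls_biprod (b := b) hF hF').2, (cls_biprod (b := b) hG hG').2, ?_⟩
        rw [(cls_biprod hF hF').1, (cls_biprod hG hG').1, QuotientAddGroup.mk_add, QuotientAddGroup.mk_add, e, e']
        abel

/-- The cycle map. -/
theorem exists_psi (hδ : Strict δ) :
    ∃ ψ : Cyc.K0CohQuot δ k (k - 1) →+ (X → ℤ), (∀ F : X.Modules, Cyc.CohLe δ k F →
      ψ (Cyc.toK0CohQuot δ k (k - 1) F) = Cyc.sheafFun δ k F) ∧ Function.Injective ψ ∧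
      Set.range ψ = {a | ∃ α : AlgebraicCycle X ℤ, α ∈ Cyc.Zk X δ k ∧ ⇑α = a} := by
  let L : FreeAbelianGroup (Subtype (Cyc.CohLe δ k)) →+ (X → ℤ) :=
    FreeAbelianGroup.lift fun P => Cyc.sheafFun δ k P.1
  have hL : KZero.relSub (Cyc.CohLe δ k) ≤ L.ker := by
    rw [KZero.relSub, AddSubgroup.closure_le]
    rintro _ ⟨S, h₁, h₂, h₃, hS, rfl⟩
    show L _ = 0
    simp only [map_sub, L, FreeAbelianGroup.lift_apply_of]
    rw [sheafFun_shortExact hδ hS h₂]
    abel
  let L' := QuotientAddGroup.lift _ L hL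
  have hL' : AddSubgroup.closure {c : KZero.K0sub (Cyc.CohLe δ k) | ∃ F : X.Modules, Cyc.CohLe δ (k - 1) F ∧
      c = KZero.clSub (Cyc.CohLe δ k) F} ≤ L'.ker := by
    rw [AddSubgroup.closure_le]
    rintro _ ⟨F, hF, rfl⟩
    show L' _ = 0
    rw [KZero.clSub, dif_pos (cohLe_mono (by omega) hF)]
    show L _ = 0
    simp only [L, FreeAbelianGroup.lift_apply_of]
    exact sheafFun_small (by omega) hF
  let ψ : Cyc.K0CohQuot δ k (k - 1) →+ (X → ℤ) := QuotientAddGroup.lift _ L' hL'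
  have hψ : ∀ F : X.Modules, Cyc.CohLe δ k F → ψ (cls F) = Cyc.sheafFun δ k F := fun F hF => by
    refine (congrArg ψ (toK0_eq F hF)).trans ?_
    exact FreeAbelianGroup.lift_apply_of _ _
  refine ⟨ψ, hψ, ?_, ?_⟩
  · refine (injective_iff_map_eq_zero ψ).mpr fun x hx => ?_
    obtain ⟨F, G, hF, hG, rfl⟩ := exists_eq_sub x
    rw [map_sub, hψ F hF, hψ G hG, sub_eq_zero] at hx
    rw [sub_eq_zero, cls_eq hδ hF, cls_eq hδ hG, hx]
  · apply Set.Subset.antisymm
    · rintro _ ⟨x, rfl⟩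
      obtain ⟨F, G, hF, hG, rfl⟩ := exists_eq_sub x
      refine ⟨cycle hδ hF - cycle hδ hG, fun y hy => ?_, ?_⟩
      · show cycle hδ hF y - cycle hδ hG y = 0
        rw [cycle_mem hδ hF y hy, cycle_mem hδ hG y hy, sub_zero]
      · rw [map_sub, hψ F hF, hψ G hG]
        rfl
    · rintro _ ⟨α, hα, rfl⟩
      have hlf : LocallyFiniteSupport ⇑α := α.locallyFiniteSupport
      have hlf' : LocallyFiniteSupport (-⇑α) := (-α).locallyFiniteSupport
      have hk : ∀ x, δ x ≠ k → (-⇑α) x = 0 := fun x hx => by simp [hα x hx]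
      refine ⟨cls (Cyc.cycleSheafPos ⇑α) - cls (Cyc.cycleSheafNeg ⇑α), ?_⟩
      rw [show Cyc.cycleSheafNeg ⇑α = Cyc.cycleSheafPos (-⇑α) from rfl, map_sub, hψ _ (cohLe_pos hδ hlf hα),
        hψ _ (cohLe_pos hδ hlf' hk), sheafFun_cycleSheafPos hδ hlf hα, sheafFun_cycleSheafPos hδ hlf' hk]
      funext x
      show max (α x) 0 - max (-α x) 0 = α x
      omega

end Groth.Agent.H3Cyc.KQuot
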