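import Groth.Agent.H3Cyc.KDiv
import Mathlib

/-!
# Rationally trivial cycles vanish in `K₀(Coh_{≤k+1}/Coh_{≤k-1})`
-/

set_option autoImplicit false
set_option linter.style.haveILetI false
set_option linter.unusedSectionVars false
set_option backward.isDefEq.respectTransparency.types false
universe u v

open CategoryTheory CategoryTheory.Limits AlgebraicGeometry TopologicalSpace Opposite
open Groth.Agent.H16Derived.KFlat.Stalk
open Groth.Agent.H3Cyc.KDev Groth.Agent.H3Cyc.KFam Groth.Agent.H3Cyc.KCls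

noncomputable section

namespace Groth.Agent.H3Cyc.KRat

variable {X : Scheme.{u}} [IsLocallyNoetherian X] {δ : X → ℤ} {k : ℤ}

/-- Enlarging the ambient category. -/
theorem exists_incl {a a' b : ℤ} (h : a ≤ a') :
    ∃ φ : Cyc.K0CohQuot δ a b →+ Cyc.K0CohQuot δ a' b,
      ∀ F : X.Modules, Cyc.CohLe δ a F → φ (cls F) = cls F := by
  let L : FreeAbelianGroup (Subtype (Cyc.CohLe δ a)) →+ Cyc.K0CohQuot δ a' b :=
    FreeAbelianGroup.lift fun P => cls P.1
  have hL : KZero.relSub (Cyc.CohLe δ a) ≤ L.ker := by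
    rw [KZero.relSub, AddSubgroup.closure_le]
    rintro _ ⟨S, h₁, h₂, h₃, hS, rfl⟩
    show L _ = 0
    simp only [map_sub, L, FreeAbelianGroup.lift_apply_of]
    rw [cls_shortExact hS (cohLe_mono h h₁) (cohLe_mono h h₂) (cohLe_mono h h₃)]
    abel
  let L' := QuotientAddGroup.lift _ L hL
  have hL' : AddSubgroup.closure {c : KZero.K0sub (Cyc.CohLe δ a) | ∃ F : X.Modules, Cyc.CohLe δ b F ∧
      c = KZero.clSub (Cyc.CohLe δ a) F} ≤ L'.ker := by
    rw [AddSubgroup.closure_le]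
    rintro _ ⟨F, hF, rfl⟩
    show L' _ = 0
    by_cases hFa : Cyc.CohLe δ a F
    · rw [KZero.clSub, dif_pos hFa]
      show L _ = 0
      simp only [L, FreeAbelianGroup.lift_apply_of]
      exact cls_small hF
    · rw [KZero.clSub, dif_neg hFa, map_zero]
  refine ⟨QuotientAddGroup.lift _ L' hL', fun F hF => ?_⟩
  refine (congrArg (QuotientAddGroup.lift _ L' hL') (KQuot.toK0_eq (b := b) F hF)).trans ?_
  exact FreeAbelianGroup.lift_apply_of
    (fun P : Subtype (Cyc.CohLe δ a) => (cls P.1 : Cyc.K0CohQuot δ a' b)) ⟨F, hF⟩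

/-- Modules with the cycle `α` represent the class of `α`. -/
theorem cls_sub_eq_cycle (hδ : Strict δ) {A B : X.Modules} (hA : Cyc.CohLe δ k A) (hB : Cyc.CohLe δ k B)
    {α : AlgebraicCycle X ℤ} (hα : α ∈ Cyc.Zk X δ k)
    (h : ∀ x, Cyc.sheafFun δ k B x - Cyc.sheafFun δ k A x = α x) :
    (cls B : Cyc.K0CohQuot δ k (k - 1)) - cls A = cls (Cyc.cycleSheafPos ⇑α) - cls (Cyc.cycleSheafNeg ⇑α) := by
  obtain ⟨ψ, hψ, hinj, -⟩ := KQuot.exists_psi (k := k) hδ
  have hlf : LocallyFiniteSupport ⇑α := α.locallyFiniteSupport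
  have hlf' : LocallyFiniteSupport (-⇑α) := (-α).locallyFiniteSupport
  have hk : ∀ x, δ x ≠ k → (-⇑α) x = 0 := fun x hx => by simp [hα x hx]
  apply hinj
  rw [show Cyc.cycleSheafNeg ⇑α = Cyc.cycleSheafPos (-⇑α) from rfl, map_sub, map_sub, hψ _ hA, hψ _ hB,
    hψ _ (cohLe_pos hδ hlf hα), hψ _ (cohLe_pos hδ hlf' hk), sheafFun_cycleSheafPos hδ hlf hα,
    sheafFun_cycleSheafPos hδ hlf' hk]
  funext x
  show Cyc.sheafFun δ k B x - Cyc.sheafFun δ k A x = max (α x) 0 - max (-α x) 0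
  rw [h x]
  omega

/-- The cycle of a locally finite coproduct. -/
theorem sheafFun_sigma (hδ : Strict δ) {I : Type u} (M : I → X.Modules) (hM : ∀ i, Cyc.CohLe δ k (M i)) (x : X)
    (J : Finset I) (hJ : ∀ i, x ∈ CohB1.support (M i) → i ∈ J) :
    Cyc.sheafFun δ k (∐ M) x = ∑ i ∈ J, Cyc.sheafFun δ k (M i) x := by
  classical
  by_cases hx : δ x = k
  swap
  · simp [sheafFun_of_ne hx]
  simp only [sheafFun_of_eq hx]
  rw [length_st_sigma M J hJ]
  have hne : ∀ i ∈ J, Module.length (X.presheaf.stalk x) ((M i).presheaf.stalk x) ≠ ⊤ := fun i _ =>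
    Module.length_ne_top_iff.mpr (isFiniteLength_stalk hδ (hM i) hx)
  rw [ENat.toNat_sum hne]
  push_cast
  rfl

/-- **Rationally trivial cycles vanish.** -/
theorem cls_cycle_eq (hX : Cyc.IsSetup X δ) {α : AlgebraicCycle X ℤ} (hα : α ∈ Cyc.Zk X δ k)
    (h0 : Cyc.RatEquivZero δ k α) :
    Cyc.toK0CohQuot δ (k + 1) (k - 1) (Cyc.cycleSheafPos ⇑α) =
      Cyc.toK0CohQuot δ (k + 1) (k - 1) (Cyc.cycleSheafNeg ⇑α) := by
  classical
  have hδ := strict_of_isSetup hX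
  obtain ⟨I, ξ, f, hξ, hf, hlf, hsum⟩ := h0
  choose S T hS hT e₁ e₂ hS₂ hT₂ hcS₂ hcT₂ hcS₁ hcT₁ hcS₃ hcT₃ hval using
    fun i => KDiv.exists_pair_push hX (k := k) (hξ i) (hf i)
  have hloc : ∀ {M : I → X.Modules}, (∀ i, ∀ x ∈ CohB1.support (M i), ξ i ⤳ x) → LocFin M := fun {M} hM x => by
    obtain ⟨U, hUo, hxU, hU⟩ := hlf x
    exact ⟨⟨U, hUo⟩, hxU, hU.subset fun i ⟨y, hy, hyU⟩ => ⟨y, specializes_iff_mem_closure.mp (hM i y hy), hyU⟩⟩
  haveI : ∀ i, Epi (S i).g := fun i => (hS i).epi_g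
  haveI : ∀ i, Epi (T i).g := fun i => (hT i).epi_g
  haveI : ∀ i, Mono (S i).f := fun i => (hS i).mono_f
  have hS₃ : ∀ i, ∀ x ∈ CohB1.support (S i).X₃, ξ i ⤳ x := fun i x hx =>
    hS₂ i x (LeadDev.support_subset_of_epi (S i).g hx)
  have hT₃ : ∀ i, ∀ x ∈ CohB1.support (T i).X₃, ξ i ⤳ x := fun i x hx =>
    hT₂ i x (LeadDev.support_subset_of_epi (T i).g hx)
  have hS₁ : ∀ i, ∀ x ∈ CohB1.support (S i).X₁, ξ i ⤳ x := fun i x hx =>
    hS₂ i x (LeadDev.support_subset_of_mono (S i).f hx)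
  let A := ∐ fun i => (S i).X₃
  let B := ∐ fun i => (T i).X₃
  have hA : Cyc.CohLe δ k A := cohLe_sigma (hloc hS₃) hcS₃
  have hB : Cyc.CohLe δ k B := cohLe_sigma (hloc hT₃) hcT₃
  have hfun : ∀ x, Cyc.sheafFun δ k B x - Cyc.sheafFun δ k A x = α x := by
    intro x
    obtain ⟨U, hUo, hxU, hU⟩ := hlf x
    have hJ : ∀ {M : I → X.Modules}, (∀ i, ∀ x ∈ CohB1.support (M i), ξ i ⤳ x) → ∀ i, x ∈ CohB1.support (M i) →
        i ∈ hU.toFinset := fun hM i hi => hU.mem_toFinset.mpr ⟨x, specializes_iff_mem_closure.mp (hM i x hi), hxU⟩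
    rw [sheafFun_sigma hδ _ hcT₃ x hU.toFinset (hJ hT₃), sheafFun_sigma hδ _ hcS₃ x hU.toFinset (hJ hS₃),
      ← Finset.sum_sub_distrib, hsum x]
    rw [finsum_eq_sum_of_support_subset _ (s := hU.toFinset) fun i hi => hU.mem_toFinset.mpr ?_]
    · exact Finset.sum_congr rfl fun i _ => hval i x
    · refine ⟨x, ?_, hxU⟩
      by_contra hn
      refine hi ?_
      simp only [Cyc.divFun]
      exact dif_neg fun h => hn (specializes_iff_mem_closure.mp h.1)
  obtain ⟨φ, hφ⟩ := exists_incl (δ := δ) (b := k - 1) (show k ≤ k + 1 by omega)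
  have h1 := congrArg φ (cls_sub_eq_cycle hδ hA hB hα hfun)
  have hlfα : LocallyFiniteSupport ⇑α := α.locallyFiniteSupport
  have hlf' : LocallyFiniteSupport (-⇑α) := (-α).locallyFiniteSupport
  have hk : ∀ x, δ x ≠ k → (-⇑α) x = 0 := fun x hx => by simp [hα x hx]
  rw [map_sub, map_sub, hφ _ hA, hφ _ hB, hφ _ (cohLe_pos hδ hlfα hα),
    show Cyc.cycleSheafNeg ⇑α = Cyc.cycleSheafPos (-⇑α) from rfl, hφ _ (cohLe_pos hδ hlf' hk)] at h1
  have eS := cls_sigma_shortExact (a := k + 1) (b := k - 1) S hS (hloc hS₂) hcS₁ hcS₂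
    fun i => cohLe_mono (by omega) (hcS₃ i)
  have eT := cls_sigma_shortExact (a := k + 1) (b := k - 1) T hT (hloc hT₂) hcT₁ hcT₂
    fun i => cohLe_mono (by omega) (hcT₃ i)
  have q1 := cls_sigma_congr (a := k + 1) (b := k - 1) (fun i => (e₁ i).some) (hloc hS₁) hcS₁
  have q2 := cls_sigma_congr (a := k + 1) (b := k - 1) (fun i => (e₂ i).some) (hloc hS₂) hcS₂
  rw [q2, q1] at eS
  have hAB : (cls A : Cyc.K0CohQuot δ (k + 1) (k - 1)) = cls B := add_left_cancel (eS.symm.trans eT)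
  rw [hAB, sub_self] at h1
  exact sub_eq_zero.mp h1.symm

end Groth.Agent.H3Cyc.KRat
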