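import Groth.Agent.H3Cyc.KDiv
import Groth.Agent.H3Cyc.C1Api
import Mathlib

/-!
# Divisors of rational sections as differences of coherent modules on an integral scheme
-/

set_option autoImplicit false
set_option linter.style.haveILetI false
set_option linter.unusedSectionVars false
set_option backward.isDefEq.respectTransparency.types false
universe u v

open CategoryTheory CategoryTheory.Limits AlgebraicGeometry TopologicalSpace Opposite IsLocalRing
open Groth.Agent.H16Derived.KFlat.Stalk
open Groth.Agent.H3Cyc.KDev Groth.Agent.H3Cyc.KSky Groth.Agent.H3Cyc.KFam Groth.Agent.H3Cyc.KCls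
open Groth.Agent.H06Mod

noncomputable section

namespace Groth.Agent.H3Cyc.KSec

variable {W : Scheme.{u}}

/-- The specialization map on stalks. -/
abbrev spl (F : W.Modules) {η w : W} (h : η ⤳ w) (a : F.presheaf.stalk w) : F.presheaf.stalk η :=
  F.presheaf.stalkSpecializes h a

theorem spl_sl {F G : W.Modules} (φ : F ⟶ G) {η w : W} (h : η ⤳ w) (a : F.presheaf.stalk w) :
    spl G h (sl φ w a) = sl φ η (spl F h a) := by
  obtain ⟨U, hU, a, rfl⟩ := F.presheaf.exists_germ_eq a
  show G.presheaf.stalkSpecializes h ((KDev.st w).map φ (F.presheaf.germ U w hU a)) =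
    (KDev.st η).map φ (F.presheaf.stalkSpecializes h (F.presheaf.germ U w hU a))
  rw [DerSch.stalkFunctor_map_germ, TopCat.Presheaf.germ_stalkSpecializes_apply,
    TopCat.Presheaf.germ_stalkSpecializes_apply, DerSch.stalkFunctor_map_germ]

theorem oneStalk_spl {η w : W} (h : η ⤳ w) :
    spl (Coh.structureModule W) h (H06EGA9.oneStalk w) = H06EGA9.oneStalk η :=
  TopCat.Presheaf.germ_stalkSpecializes_apply (Coh.structureModule W).presheaf (U := ⊤) trivial h _

variable [IsIntegral W]

/-- The value at the generic point is faithful for skyscrapers there. -/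
theorem sky_spl_injective {N : Type u} [AddCommGroup N] [Module (W.presheaf.stalk (genericPoint W)) N] (w : W)
    {z : (sky (genericPoint W) N).presheaf.stalk w}
    (hz : stLin (𝟙 (sky (genericPoint W) N)) (spl _ (genericPoint_specializes w) z) = 0) : z = 0 := by
  obtain ⟨U, hU, z, rfl⟩ := (sky (genericPoint W) N).presheaf.exists_germ_eq z
  have hη : genericPoint W ∈ U := (genericPoint_specializes w).mem_open U.2 hU
  have e : spl _ (genericPoint_specializes w) ((sky (genericPoint W) N).presheaf.germ U w hU z) =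
      (sky (genericPoint W) N).presheaf.germ U (genericPoint W) hη z :=
    TopCat.Presheaf.germ_stalkSpecializes_apply _ hU _ z
  rw [e] at hz
  have h1 : skyEval (genericPoint W) N U hη z = 0 :=
    (stalkOfHom_germ (𝟙 (sky (genericPoint W) N)) U hη z).symm.trans hz
  rw [show z = 0 from skyEval_ext _ _ fun _ => h1.trans (map_zero _).symm, map_zero]

/-- Nonzero rational functions are fractions. -/
theorem exists_frac (w : W) {c : W.functionField} (hc : c ≠ 0) :
    ∃ x y : W.presheaf.stalk w, x ≠ 0 ∧ y ≠ 0 ∧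
      algebraMap (W.presheaf.stalk w) W.functionField y = algebraMap (W.presheaf.stalk w) W.functionField x * c := by
  obtain ⟨x, y, hy, hxy⟩ := IsFractionRing.div_surjective (W.presheaf.stalk w) (c⁻¹ : W.functionField)
  have hy0 : y ≠ 0 := nonZeroDivisors.ne_zero hy
  have hy' : (algebraMap _ W.functionField y : W.functionField) ≠ 0 := fun e0 => hy0
    (IsFractionRing.injective (W.presheaf.stalk w) W.functionField (e0.trans (map_zero _).symm))
  have hxy' : (algebraMap _ W.functionField y : W.functionField) = algebraMap _ W.functionField x * c := by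
    rw [div_eq_iff hy'] at hxy
    rw [hxy, mul_assoc, mul_comm _ c, ← mul_assoc, inv_mul_cancel₀ hc, one_mul]
  exact ⟨x, y, fun e0 => hy' (by rw [hxy', e0, map_zero, zero_mul]), hy0, hxy'⟩

variable [IsLocallyNoetherian W]

/-- The divisor of a rational section of an invertible module, through two subsheaves. -/
theorem exists_pair {δ : W → ℤ} (hδ : Cyc.IsDimFun W δ) {k : ℤ} (hη : δ (genericPoint W) = k + 1)
    {M : W.Modules} (hM : PicF.IsInvertible M) {s : Cyc.secFibre M (genericPoint W)} (hs : s ≠ 0) :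
    ∃ (J : W.Modules) (a : J ⟶ Coh.structureModule W) (b : J ⟶ M), Mono a ∧ Mono b ∧ Coh.IsCoh J ∧
      Coh.IsCoh M ∧ Cyc.CohLe δ k (cokernel a) ∧ Cyc.CohLe δ k (cokernel b) ∧
      ∀ w, Cyc.sheafFun δ k (cokernel b) w - Cyc.sheafFun δ k (cokernel a) w =
        Cyc.secDivFun δ M (genericPoint W) s w := by
  classical
  letI fld : Field (W.presheaf.stalk (genericPoint W)) := inferInstanceAs (Field W.functionField)
  have hcM : Coh.IsCoh M := H11Ample.isCoh_of_isInvertible hM
  obtain ⟨m, rfl⟩ := Submodule.Quotient.mk_surjective _ s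
  obtain ⟨V₀, e₀, hη₀, he₀⟩ := H11Ample.exists_gen hM (genericPoint W)
  have hm : m ≠ 0 := fun e => hs (by rw [e, Submodule.Quotient.mk_zero])
  have hmb : Function.Bijective fun r : W.presheaf.stalk (genericPoint W) => r • m := by
    obtain ⟨c, hc⟩ := (he₀ _ hη₀).2 m
    have hc0 : c ≠ 0 := fun e => hm (hc.symm.trans (by rw [e]; exact zero_smul _ _))
    refine ⟨fun r r' hr => ?_, fun v => ?_⟩
    · have : r * c = r' * c := (he₀ _ hη₀).1 (by
        show (r * c) • _ = (r' * c) • _
        rw [mul_smul, mul_smul, show c • M.presheaf.germ V₀ (genericPoint W) hη₀ e₀ = m from hc]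
        exact hr)
      exact mul_right_cancel₀ hc0 this
    · obtain ⟨d, hd⟩ := (he₀ _ hη₀).2 v
      refine ⟨d * c⁻¹, ?_⟩
      show (d * c⁻¹) • m = v
      rw [← hc]
      show (d * c⁻¹) • c • M.presheaf.germ V₀ (genericPoint W) hη₀ e₀ = v
      rw [smul_smul, mul_assoc, inv_mul_cancel₀ hc0, mul_one]
      exact hd
  -- the map to the skyscraper
  let N := M.presheaf.stalk (genericPoint W)
  let eO : W.presheaf.stalk (genericPoint W) ≃ₗ[W.presheaf.stalk (genericPoint W)]
      (Coh.structureModule W).presheaf.stalk (genericPoint W) :=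
    LinearEquiv.ofBijective (LinearMap.toSpanSingleton _ _ (H06EGA9.oneStalk _))
      (H06EGA9.bijective_smul_oneStalk _)
  let qO : (Coh.structureModule W).presheaf.stalk (genericPoint W) →ₗ[W.presheaf.stalk (genericPoint W)] N :=
    (LinearMap.toSpanSingleton _ _ m).comp eO.symm.toLinearMap
  have hqO : ∀ r, qO (r • H06EGA9.oneStalk (genericPoint W)) = r • m := fun r => by
    show (eO.symm (eO r)) • m = r • m
    rw [eO.symm_apply_apply]
  let P := Coh.structureModule W ⊞ M
  let q : P.presheaf.stalk (genericPoint W) →ₗ[W.presheaf.stalk (genericPoint W)] N :=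
    qO.comp (sl (biprod.fst : P ⟶ Coh.structureModule W) (genericPoint W)) -
      sl (biprod.snd : P ⟶ M) (genericPoint W)
  let ψ : P ⟶ sky (genericPoint W) N := homOfStalk q
  let J := kernel ψ
  let a : J ⟶ Coh.structureModule W := kernel.ι ψ ≫ biprod.fst
  let b : J ⟶ M := kernel.ι ψ ≫ biprod.snd
  have hsky : Coh.IsQCoh (sky (genericPoint W) N) := H17.Primary.isQCoh_sky _ N 1 fun r hr v => by
    rw [pow_one, IsLocalRing.mem_maximalIdeal, mem_nonunits_iff, isUnit_iff_ne_zero, not_not] at hr
    rw [hr, zero_smul]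
  have hP : Coh.IsCoh P := H27KZero.isCoh_extension
    (S := ShortComplex.mk (biprod.inl : Coh.structureModule W ⟶ P) biprod.snd (by simp [P]))
    (ShortComplex.Splitting.ofHasBinaryBiproduct _ M).shortExact (H10Coh.isCoh_structureModule' W) hcM
  have hJ : Coh.IsCoh J := H10Coh.isCoh_kernel ψ hP hsky
  -- stalks of the kernel
  have hsplit : ∀ (w : W) (v : P.presheaf.stalk w), v = sl (biprod.inl : Coh.structureModule W ⟶ P) w
      (sl (biprod.fst : P ⟶ Coh.structureModule W) w v) + sl (biprod.inr : M ⟶ P) w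
      (sl (biprod.snd : P ⟶ M) w v) := fun w v => by
    have h0 := congrArg (fun φ : P ⟶ P => (KDev.st w).map φ) (biprod.total (X := Coh.structureModule W) (Y := M))
    rw [CategoryTheory.Functor.map_add, CategoryTheory.Functor.map_comp, CategoryTheory.Functor.map_comp] at h0
    exact (congrArg (fun φ => φ v) (h0.trans ((KDev.st w).map_id P))).symm
  have hval : ∀ (w : W) (v : P.presheaf.stalk w),
      stLin (𝟙 _) (spl _ (genericPoint_specializes w) (sl ψ w v)) = q (spl P (genericPoint_specializes w) v) := by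
    intro w v
    rw [spl_sl, ← LinearMap.comp_apply, ← stLin_comp, Category.comp_id]
    exact LinearMap.congr_fun (stLin_homOfStalk q) _
  have hex : ∀ (w : W) (v : P.presheaf.stalk w),
      v ∈ Set.range (sl (kernel.ι ψ) w) ↔ q (spl P (genericPoint_specializes w) v) = 0 := by
    intro w v
    have hse : (ShortComplex.mk (kernel.ι ψ) ψ (kernel.condition ψ)).Exact := ShortComplex.exact_kernel ψ
    have he := (ShortComplex.ShortExact.moduleCat_exact_iff_function_exact _).mp
      ((exact_iff _).mp hse w)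
    rw [← hval]
    constructor
    · intro hv
      rw [show sl ψ w v = 0 from (he v).mpr hv, show spl _ (genericPoint_specializes w)
        (0 : (sky (genericPoint W) N).presheaf.stalk w) = 0 from map_zero _, map_zero]
    · intro hv
      exact (he v).mp (sky_spl_injective w hv)
  have ha_eq : ∀ (w : W) (j : J.presheaf.stalk w),
      sl a w j = sl (biprod.fst : P ⟶ Coh.structureModule W) w (sl (kernel.ι ψ) w j) := fun w j =>
    LinearMap.congr_fun (sl_comp (kernel.ι ψ) biprod.fst w) j
  have hb_eq : ∀ (w : W) (j : J.presheaf.stalk w),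
      sl b w j = sl (biprod.snd : P ⟶ M) w (sl (kernel.ι ψ) w j) := fun w j =>
    LinearMap.congr_fun (sl_comp (kernel.ι ψ) biprod.snd w) j
  have hab : ∀ (w : W) (r : (Coh.structureModule W).presheaf.stalk w) (l : M.presheaf.stalk w),
      (∃ j, sl a w j = r ∧ sl b w j = l) ↔
        qO (spl _ (genericPoint_specializes w) r) = spl M (genericPoint_specializes w) l := by
    intro w r l
    constructor
    · rintro ⟨j, rfl, rfl⟩
      have h := (hex w (sl (kernel.ι ψ) w j)).mp ⟨j, rfl⟩
      rw [ha_eq, hb_eq]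
      refine (congrArg qO (spl_sl (biprod.fst : P ⟶ Coh.structureModule W) _ _)).trans ?_
      refine Eq.trans ?_ (spl_sl (biprod.snd : P ⟶ M) _ _).symm
      exact sub_eq_zero.mp h
    · intro h
      let v : P.presheaf.stalk w := sl (biprod.inl : Coh.structureModule W ⟶ P) w r + sl (biprod.inr : M ⟶ P) w l
      have e1 : sl (biprod.fst : P ⟶ Coh.structureModule W) w v = r := by
        simp only [v, map_add, ← LinearMap.comp_apply, ← sl_comp, biprod.inl_fst, biprod.inr_fst]
        rw [show sl (𝟙 (Coh.structureModule W)) w = LinearMap.id from congrArg ModuleCat.Hom.hom ((KDev.st w).map_id _),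
          show sl (0 : M ⟶ Coh.structureModule W) w = 0 from congrArg ModuleCat.Hom.hom ((KDev.st w).map_zero _ _)]
        simp
      have e2 : sl (biprod.snd : P ⟶ M) w v = l := by
        simp only [v, map_add, ← LinearMap.comp_apply, ← sl_comp, biprod.inl_snd, biprod.inr_snd]
        rw [show sl (𝟙 M) w = LinearMap.id from congrArg ModuleCat.Hom.hom ((KDev.st w).map_id _),
          show sl (0 : Coh.structureModule W ⟶ M) w = 0 from congrArg ModuleCat.Hom.hom ((KDev.st w).map_zero _ _)]
        simp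
      obtain ⟨j, hj⟩ := (hex w v).mpr (by
        show qO (sl (biprod.fst : P ⟶ Coh.structureModule W) _ (spl P _ v)) -
          sl (biprod.snd : P ⟶ M) _ (spl P _ v) = 0
        rw [← spl_sl, ← spl_sl, e1, e2, h, sub_self])
      refine ⟨j, ?_, ?_⟩
      · rw [ha_eq, hj, e1]
      · rw [hb_eq, hj, e2]
  have hqinj : Function.Injective qO := hmb.1.comp eO.symm.injective
  have hspl : ∀ (w : W) (F : W.Modules) (g : F.presheaf.stalk w)
      (hg : Function.Bijective fun r : W.presheaf.stalk w => r • g) (r : W.presheaf.stalk w),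
      spl F (genericPoint_specializes w) (r • g) = algebraMap (W.presheaf.stalk w) W.functionField r •
        spl F (genericPoint_specializes w) g := fun w F g _ r => C1Api.stalkSpecializes_smul _ r g
  -- injectivity
  have hspinjO : ∀ (w : W) (r : (Coh.structureModule W).presheaf.stalk w),
      spl _ (genericPoint_specializes w) r = 0 → r = 0 := fun w r hr => by
    obtain ⟨z, rfl⟩ := (H06EGA9.bijective_smul_oneStalk w).2 r
    rw [hspl w _ _ (H06EGA9.bijective_smul_oneStalk w) z, oneStalk_spl] at hr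
    have hz := (H06EGA9.bijective_smul_oneStalk (genericPoint W)).1 (hr.trans (zero_smul _ _).symm)
    rw [IsFractionRing.injective (W.presheaf.stalk w) W.functionField (hz.trans (map_zero _).symm)]
    exact zero_smul _ _
  have hgen : ∀ w : W, ∃ (V : W.Opens) (hw : w ∈ V) (e : Γ(M, V)) (c : W.presheaf.stalk (genericPoint W)),
      H11Tilde.IsGen M e ∧ c ≠ 0 ∧ spl M (genericPoint_specializes w) (M.presheaf.germ V w hw e) = c • m := by
    intro w
    obtain ⟨V, e, hw, he⟩ := H11Ample.exists_gen hM w
    have hηV : genericPoint W ∈ V := (genericPoint_specializes w).mem_open V.2 hw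
    obtain ⟨c, hc⟩ := hmb.2 (M.presheaf.germ V (genericPoint W) hηV e)
    refine ⟨V, hw, e, c, he, fun h0 => ?_, (TopCat.Presheaf.germ_stalkSpecializes_apply M.presheaf hw _ e).trans hc.symm⟩
    refine one_ne_zero (α := W.presheaf.stalk (genericPoint W)) ((he _ hηV).1 ?_)
    show (1 : W.presheaf.stalk (genericPoint W)) • _ = (0 : W.presheaf.stalk (genericPoint W)) • _
    rw [← hc, h0]
    simp
  have hspinjM : ∀ (w : W) (l : M.presheaf.stalk w), spl _ (genericPoint_specializes w) l = 0 → l = 0 := by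
    intro w l hl
    obtain ⟨V, hw, e, c, he, hc, hce⟩ := hgen w
    obtain ⟨z, rfl⟩ := (he w hw).2 l
    rw [hspl w _ _ (he w hw) z, hce, smul_smul] at hl
    have hz := (mul_eq_zero.mp (hmb.1 (hl.trans (zero_smul _ m).symm))).resolve_right hc
    rw [IsFractionRing.injective (W.presheaf.stalk w) W.functionField (hz.trans (map_zero _).symm)]
    exact zero_smul _ _
  have mono_of : ∀ {G : W.Modules} (μ : J ⟶ G), (∀ w, Function.Injective (sl μ w)) → Mono μ := fun μ hμ =>
    Preadditive.mono_of_isZero_kernel _ (H17.FPExt.isZero_of_stalk _ fun w => by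
      refine subsingleton_of_forall_eq 0 fun z => sl_injective (kernel.ι μ) w (hμ w ?_)
      rw [map_zero, map_zero, ← LinearMap.comp_apply, ← sl_comp, kernel.condition,
        show sl (0 : kernel μ ⟶ _) w = 0 from congrArg ModuleCat.Hom.hom ((KDev.st w).map_zero _ _)]
      rfl)
  have hma : Mono a := mono_of a fun w => by
    rw [← LinearMap.ker_eq_bot, eq_bot_iff]
    intro j (hj : sl a w j = 0)
    have h := (hab w _ _).mp ⟨j, hj, rfl⟩
    rw [show spl (Coh.structureModule W) (genericPoint_specializes w) 0 = 0 from map_zero _, map_zero] at h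
    have hb0 := hspinjM w _ h.symm
    refine (Submodule.mem_bot _).mpr (sl_injective (kernel.ι ψ) w ?_)
    rw [map_zero, hsplit w (sl (kernel.ι ψ) w j), ← LinearMap.comp_apply (sl biprod.fst w),
      ← LinearMap.comp_apply (sl biprod.snd w), ← sl_comp, ← sl_comp]
    change sl biprod.inl w (sl a w j) + sl biprod.inr w (sl b w j) = 0
    rw [hj, hb0, map_zero, map_zero, add_zero]
  have hmb' : Mono b := mono_of b fun w => by
    rw [← LinearMap.ker_eq_bot, eq_bot_iff]
    intro j (hj : sl b w j = 0)
    have h := (hab w _ _).mp ⟨j, rfl, hj⟩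
    rw [show spl M (genericPoint_specializes w) 0 = 0 from map_zero _] at h
    have ha0 := hspinjO w _ (hqinj (h.trans (map_zero _).symm))
    refine (Submodule.mem_bot _).mpr (sl_injective (kernel.ι ψ) w ?_)
    rw [map_zero, hsplit w (sl (kernel.ι ψ) w j), ← LinearMap.comp_apply (sl biprod.fst w),
      ← LinearMap.comp_apply (sl biprod.snd w), ← sl_comp, ← sl_comp]
    change sl biprod.inl w (sl a w j) + sl biprod.inr w (sl b w j) = 0
    rw [hj, ha0, map_zero, map_zero, add_zero]
  -- cokernels
  have hcok : ∀ {G : W.Modules} (μ : J ⟶ G) (w : W) (g : G.presheaf.stalk w)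
      (hg : Function.Bijective fun r : W.presheaf.stalk w => r • g) (I : Ideal (W.presheaf.stalk w)),
      (∀ r, r ∈ I ↔ ∃ j, sl μ w j = r • g) →
      Nonempty ((W.presheaf.stalk w ⧸ I) ≃ₗ[W.presheaf.stalk w] (cokernel μ).presheaf.stalk w) := by
    intro G μ w g hg I hI
    have he := (ShortComplex.ShortExact.moduleCat_exact_iff_function_exact _).mp
      ((exact_iff _).mp (ShortComplex.exact_cokernel μ) w)
    let l := (sl (cokernel.π μ) w).comp (LinearMap.toSpanSingleton (W.presheaf.stalk w) _ g)
    have hl : Function.Surjective l := (sl_surjective (cokernel.π μ) w).comp hg.2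
    have hk : I = LinearMap.ker l := by
      ext r
      rw [hI]
      exact (he (r • g)).symm
    exact ⟨(Submodule.quotEquivOfEq _ _ hk).trans (l.quotKerEquivOfSurjective hl)⟩
  have key : ∀ w, ∃ (V : W.Opens) (hw : w ∈ V) (e : Γ(M, V)) (c : W.presheaf.stalk (genericPoint W)),
      H11Tilde.IsGen M e ∧ c ≠ 0 ∧ spl M (genericPoint_specializes w) (M.presheaf.germ V w hw e) = c • m ∧
      ∃ I I' : Ideal (W.presheaf.stalk w),
        Nonempty ((W.presheaf.stalk w ⧸ I) ≃ₗ[W.presheaf.stalk w] (cokernel a).presheaf.stalk w) ∧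
        Nonempty ((W.presheaf.stalk w ⧸ I') ≃ₗ[W.presheaf.stalk w] (cokernel b).presheaf.stalk w) ∧
        (∀ z, z ∈ I ↔ ∃ z' : W.presheaf.stalk w, (algebraMap _ W.functionField z : W.functionField) =
          algebraMap _ W.functionField z' * c) ∧
        (∀ z, z ∈ I' ↔ ∃ z' : W.presheaf.stalk w, (algebraMap _ W.functionField z' : W.functionField) =
          algebraMap _ W.functionField z * c) := by
    intro w
    obtain ⟨V, hw, e, c, he, hc, hce⟩ := hgen w
    refine ⟨V, hw, e, c, he, hc, hce, ?_⟩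
    have crit : ∀ z z' : W.presheaf.stalk w,
        (∃ j, sl a w j = z • H06EGA9.oneStalk w ∧ sl b w j = z' • M.presheaf.germ V w hw e) ↔
          (algebraMap _ W.functionField z : W.functionField) = algebraMap _ W.functionField z' * c := fun z z' => by
      rw [hab, hspl w _ _ (H06EGA9.bijective_smul_oneStalk w), oneStalk_spl, hqO, hspl w _ _ (he w hw), hce,
        smul_smul]
      exact ⟨fun h => hmb.1 h, fun h => congrArg (· • m) h⟩
    let Ia : Ideal (W.presheaf.stalk w) :=
      (LinearMap.range (sl a w)).comap (LinearMap.toSpanSingleton _ _ (H06EGA9.oneStalk w))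
    let Ib : Ideal (W.presheaf.stalk w) :=
      (LinearMap.range (sl b w)).comap (LinearMap.toSpanSingleton _ _ (M.presheaf.germ V w hw e))
    refine ⟨Ia, Ib, hcok a w _ (H06EGA9.bijective_smul_oneStalk w) Ia fun r => Iff.rfl,
      hcok b w _ (he w hw) Ib fun r => Iff.rfl, fun z => ?_, fun z => ?_⟩
    · constructor
      · rintro ⟨j, hj⟩
        obtain ⟨z', hz'⟩ := (he w hw).2 (sl b w j)
        exact ⟨z', (crit z z').mp ⟨j, hj, hz'.symm⟩⟩
      · rintro ⟨z', hz'⟩
        obtain ⟨j, hj, -⟩ := (crit z z').mpr hz'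
        exact ⟨j, hj⟩
    · constructor
      · rintro ⟨j, hj⟩
        obtain ⟨z', hz'⟩ := (H06EGA9.bijective_smul_oneStalk w).2 (sl a w j)
        exact ⟨z', (crit z' z).mp ⟨j, hz'.symm, hj⟩⟩
      · rintro ⟨z', hz'⟩
        obtain ⟨j, -, hj⟩ := (crit z' z).mpr hz'
        exact ⟨j, hj⟩
  have hgenpt : genericPoint W ∉ CohB1.support (cokernel a) ∧ genericPoint W ∉ CohB1.support (cokernel b) := by
    obtain ⟨V, hw, e, c, he, hc, hce, I, I', ⟨ea⟩, ⟨eb⟩, hI, hI'⟩ := key (genericPoint W)
    obtain ⟨x, y, hx0, hy0, hxy'⟩ := exists_frac (genericPoint W) (c := c) hc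
    have h1 : I = ⊤ := Ideal.eq_top_of_isUnit_mem _ ((hI y).mpr ⟨x, hxy'⟩) (IsUnit.mk0 y hy0)
    have h2 : I' = ⊤ := Ideal.eq_top_of_isUnit_mem _ ((hI' x).mpr ⟨y, hxy'⟩) (IsUnit.mk0 x hx0)
    haveI : Subsingleton (W.presheaf.stalk (genericPoint W) ⧸ I) := Submodule.Quotient.subsingleton_iff.mpr h1
    haveI : Subsingleton (W.presheaf.stalk (genericPoint W) ⧸ I') := Submodule.Quotient.subsingleton_iff.mpr h2
    exact ⟨not_not.2 ea.symm.toEquiv.subsingleton, not_not.2 eb.symm.toEquiv.subsingleton⟩
  have hle : ∀ G : W.Modules, Coh.IsCoh G → genericPoint W ∉ CohB1.support G → Cyc.CohLe δ k G := fun G hG hn =>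
    cohLe_iff.mpr ⟨hG, fun y hy => by
      have := (hδ (genericPoint W) y (genericPoint_specializes y) (by rintro rfl; exact hn hy)).1
      omega⟩
  refine ⟨J, a, b, hma, hmb', hJ, hcM,
    hle _ (H10Coh.isCoh_cokernel a hJ.1 (H10Coh.isCoh_structureModule' W)) hgenpt.1,
    hle _ (H10Coh.isCoh_cokernel b hJ.1 hcM) hgenpt.2, fun w => ?_⟩
  by_cases hw : δ w = k
  swap
  · simp only [sheafFun_of_ne hw, sub_zero, Cyc.secDivFun]
    rw [dif_neg]
    rintro ⟨-, h⟩
    omega
  obtain ⟨V, hwV, e, c, he, hc, hce, I, I', ⟨ea⟩, ⟨eb⟩, hI, hI'⟩ := key w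
  simp only [Cyc.secDivFun, sheafFun_of_eq hw]
  rw [dif_pos ⟨genericPoint_specializes w, by omega⟩, ← ea.length_eq, ← eb.length_eq]
  haveI : Ring.KrullDimLE 1 (W.presheaf.stalk w) :=
    Ring.krullDimLE_iff.mpr (KDiv.ringKrullDim_le_one hδ (w := w) (by omega))
  have hηV : genericPoint W ∈ V := (genericPoint_specializes w).mem_open V.2 hwV
  have hs' : (Submodule.Quotient.mk m : Cyc.secFibre M (genericPoint W)) =
      c⁻¹ • C1Api.fib M (genericPoint W) hηV e := by
    rw [C1Api.fib, ← Submodule.Quotient.mk_smul]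
    congr 1
    rw [← TopCat.Presheaf.germ_stalkSpecializes_apply M.presheaf hwV (genericPoint_specializes w) e]
    refine Eq.trans ?_ (congrArg (c⁻¹ • ·) hce).symm
    rw [smul_smul, inv_mul_cancel₀ hc, one_smul]
  have hres : W.residue (genericPoint W) c⁻¹ ≠ 0 :=
    fun e0 => inv_ne_zero hc ((RingHom.injective (W.residue (genericPoint W)).hom) (e0.trans (map_zero _).symm))
  rw [hs', C1Api.secOrdAt_eq he (genericPoint_specializes w) hwV c⁻¹ hres]
  refine Eq.trans ?_ (KDiv.ordAt_eq w (c⁻¹ : W.functionField)).symm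
  obtain ⟨x, y, hx0, hy0, hyx⟩ := exists_frac w (c := c) hc
  have hxy' : (algebraMap _ W.functionField x : W.functionField) = algebraMap _ W.functionField y * c⁻¹ := by
    rw [hyx, mul_assoc, mul_inv_cancel₀ hc, mul_one]
  refine (CurveDeg.length_sub_eq hx0 hy0 hxy' I I' (fun z => ?_) ?_ fun z hz => ?_).2.2
  · rw [hI']
    constructor
    · rintro ⟨z', hz'⟩
      exact ⟨z', (hI z').mpr ⟨z, hz'⟩, by rw [hz', mul_assoc, mul_inv_cancel₀ hc, mul_one]⟩
    · rintro ⟨v, -, hv⟩
      exact ⟨v, by rw [hv, mul_assoc, inv_mul_cancel₀ hc, mul_one]⟩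
  · exact (hI y).mpr ⟨x, by rw [hxy', mul_assoc, inv_mul_cancel₀ hc, mul_one]⟩
  · obtain ⟨z', hz'⟩ := (hI z).mp hz
    exact ⟨z', by rw [hz', mul_assoc, mul_inv_cancel₀ hc, mul_one]⟩

end Groth.Agent.H3Cyc.KSec
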