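import Groth.Agent.H3Cyc.KSec
import Groth.Agent.H3Cyc.KRat
import Groth.Agent.H3Cyc.C1Pull
import Groth.Agent.H3Cyc.Gysin
import Groth.Agent.H10Coh.TensorTilde
import Groth.Agent.H10Coh.SerreVanishing
import Groth.Agent.H10Coh.TensorBasics
import Groth.Agent.H16Derived.KFlat.SheafTensor
import Mathlib

/-!
# `[F ⊗ L] - [F] = c₁(L) ∩ [F]` in `K₀(Coh_{≤k+1}/Coh_{≤k-1})`
-/

set_option autoImplicit false
set_option linter.style.haveILetI false
set_option linter.unusedSectionVars false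
set_option backward.isDefEq.respectTransparency.types false
universe u v

open CategoryTheory CategoryTheory.Limits AlgebraicGeometry TopologicalSpace Opposite
open Groth.Agent.H16Derived.KFlat.Stalk
open Groth.Agent.H3Cyc.KDev Groth.Agent.H3Cyc.KSky Groth.Agent.H3Cyc.KFam Groth.Agent.H3Cyc.KCls
open Groth.Agent.H3Cyc.C1Api

noncomputable section

namespace Groth.Agent.H3Cyc.KTwist

variable {X : Scheme.{u}} {δ : X → ℤ} {k : ℤ} {L : X.Modules}

theorem length_twist (hL : PicF.IsInvertible L) (F : X.Modules) (x : X) :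
    Module.length (X.presheaf.stalk x) ((CohB1.tensorMod F L).presheaf.stalk x) =
      Module.length (X.presheaf.stalk x) (F.presheaf.stalk x) := by
  obtain ⟨V, e, hx, he⟩ := H11Ample.exists_gen hL x
  let eL : X.presheaf.stalk x ≃ₗ[X.presheaf.stalk x] L.presheaf.stalk x :=
    LinearEquiv.ofBijective (LinearMap.toSpanSingleton _ _ _) (he x hx)
  exact (((TensorProduct.rid (X.presheaf.stalk x) (F.presheaf.stalk x)).symm ≪≫ₗ
    TensorProduct.congr (LinearEquiv.refl _ _) eL) ≪≫ₗ stalkEquiv F L x).length_eq.symm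

theorem nontrivial_twist (hL : PicF.IsInvertible L) (F : X.Modules) (x : X) :
    Nontrivial ((CohB1.tensorMod F L).presheaf.stalk x) ↔ Nontrivial (F.presheaf.stalk x) := by
  rw [← Module.length_pos_iff (R := X.presheaf.stalk x), length_twist hL F x, Module.length_pos_iff]

variable [IsLocallyNoetherian X]

theorem cohLe_twist (hL : PicF.IsInvertible L) {a : ℤ} {F : X.Modules} (hF : Cyc.CohLe δ a F) :
    Cyc.CohLe δ a (CohB1.tensorMod F L) :=
  ⟨H10Coh.TT.isCoh_tensorMod hF.1 (H11Ample.isCoh_of_isInvertible hL),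
    fun x hx => hF.2 x ((nontrivial_twist hL F x).mp hx)⟩

theorem cls_twist_small (hδ : Strict δ) (hL : PicF.IsInvertible L) {G : X.Modules} (hG : Cyc.CohLe δ k G) :
    (cls (CohB1.tensorMod G L) : Cyc.K0CohQuot δ (k + 1) (k - 1)) = cls G := by
  obtain ⟨ψ, hψ, hinj, -⟩ := KQuot.exists_psi (k := k) hδ
  have h : (cls (CohB1.tensorMod G L) : Cyc.K0CohQuot δ k (k - 1)) = cls G := hinj (by
    rw [hψ _ (cohLe_twist hL hG), hψ _ hG]
    funext x
    simp only [Cyc.sheafFun, length_twist hL])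
  obtain ⟨φ, hφ⟩ := KRat.exists_incl (δ := δ) (b := k - 1) (show k ≤ k + 1 by omega)
  have h2 := congrArg φ h
  rwa [hφ _ (cohLe_twist hL hG), hφ _ hG] at h2

/-- Twisting minus the identity, on `K₀(Coh_{≤k+1}/Coh_{≤k})`. -/
theorem exists_twistHom (hδ : Strict δ) (hL : PicF.IsInvertible L) :
    ∃ Φ : Cyc.K0CohQuot δ (k + 1) k →+ Cyc.K0CohQuot δ (k + 1) (k - 1),
      ∀ F : X.Modules, Cyc.CohLe δ (k + 1) F → Φ (cls F) = cls (CohB1.tensorMod F L) - cls F := by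
  let Λ : FreeAbelianGroup (Subtype (Cyc.CohLe δ (k + 1))) →+ Cyc.K0CohQuot δ (k + 1) (k - 1) :=
    FreeAbelianGroup.lift fun P => cls (CohB1.tensorMod P.1 L) - cls P.1
  have hΛ : KZero.relSub (Cyc.CohLe δ (k + 1)) ≤ Λ.ker := by
    refine (AddSubgroup.closure_le _).mpr ?_
    rintro _ ⟨S, h₁, h₂, h₃, hS, rfl⟩
    show Λ _ = 0
    simp only [map_sub, Λ, FreeAbelianGroup.lift_apply_of]
    have e : (cls (CohB1.tensorMod S.X₂ L) : Cyc.K0CohQuot δ (k + 1) (k - 1)) =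
        cls (CohB1.tensorMod S.X₁ L) + cls (CohB1.tensorMod S.X₃ L) :=
      cls_shortExact (H10Coh.Tw.shortExact_seq hS hL) (cohLe_twist hL h₁) (cohLe_twist hL h₂) (cohLe_twist hL h₃)
    rw [e, cls_shortExact hS h₁ h₂ h₃]
    abel
  let Λ' := QuotientAddGroup.lift _ Λ hΛ
  have hΛ' : AddSubgroup.closure {c : KZero.K0sub (Cyc.CohLe δ (k + 1)) | ∃ F : X.Modules, Cyc.CohLe δ k F ∧
      c = KZero.clSub (Cyc.CohLe δ (k + 1)) F} ≤ Λ'.ker := by
    rw [AddSubgroup.closure_le]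
    rintro _ ⟨F, hF, rfl⟩
    show Λ' _ = 0
    rw [KZero.clSub, dif_pos (cohLe_mono (by omega) hF)]
    show Λ _ = 0
    simp only [Λ, FreeAbelianGroup.lift_apply_of]
    exact sub_eq_zero.mpr (cls_twist_small hδ hL hF)
  refine ⟨QuotientAddGroup.lift _ Λ' hΛ', fun F hF => ?_⟩
  refine (congrArg (QuotientAddGroup.lift _ Λ' hΛ') (KQuot.toK0_eq (b := k) F hF)).trans ?_
  exact FreeAbelianGroup.lift_apply_of
    (fun P : Subtype (Cyc.CohLe δ (k + 1)) =>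
      (cls (CohB1.tensorMod P.1 L) - cls P.1 : Cyc.K0CohQuot δ (k + 1) (k - 1))) ⟨F, hF⟩

theorem cls_eq_top (hδ : Strict δ) {F : X.Modules} (hF : Cyc.CohLe δ (k + 1) F) :
    (cls F : Cyc.K0CohQuot δ (k + 1) k) = cls (Cyc.cycleSheafPos (Cyc.sheafFun δ (k + 1) F)) := by
  have h := cls_eq hδ hF
  rwa [show k + 1 - 1 = k by ring] at h

/-- The divisor of a section on an integral closed subscheme, through two sequences. -/
theorem exists_pair_push (hX : Cyc.IsSetup X δ) (hL : PicF.IsInvertible L) {W : Scheme.{u}} [IsIntegral W]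
    (i : W ⟶ X) [IsClosedImmersion i] (hξ : δ (i (genericPoint W)) = k + 1)
    (s : (ξ : X) → Cyc.secFibre L ξ) (hs : ∀ ξ, s ξ ≠ 0) :
    ∃ S T : ShortComplex X.Modules, S.ShortExact ∧ T.ShortExact ∧ Nonempty (S.X₁ ≅ T.X₁) ∧
      Nonempty (S.X₂ ≅ (Coh.push i).obj (Coh.structureModule W)) ∧
      Nonempty (T.X₂ ≅ CohB1.tensorMod ((Coh.push i).obj (Coh.structureModule W)) L) ∧
      Cyc.CohLe δ (k + 1) S.X₁ ∧ Cyc.CohLe δ (k + 1) S.X₂ ∧ Cyc.CohLe δ (k + 1) T.X₁ ∧ Cyc.CohLe δ (k + 1) T.X₂ ∧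
      Cyc.CohLe δ k S.X₃ ∧ Cyc.CohLe δ k T.X₃ ∧
      (∀ x ∈ CohB1.support S.X₂, i (genericPoint W) ⤳ x) ∧ (∀ x ∈ CohB1.support T.X₂, i (genericPoint W) ⤳ x) ∧
      ∀ x, Cyc.sheafFun δ k T.X₃ x - Cyc.sheafFun δ k S.X₃ x =
        Cyc.secDivFun δ L (i (genericPoint W)) (s _) x := by
  have hW := Reduction.isSetup_closedImmersion i hX
  haveI : IsLocallyNoetherian W := hW.1
  obtain ⟨J, a, b, _, _, hJ, hM, hA, hB, hval⟩ := KSec.exists_pair hW.2.2 (k := k) hξ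
    (isInvertible_pullback' i hL) (pullFib_ne_zero i hL (genericPoint W) _ (hs _))
  let S := (ShortComplex.mk a (cokernel.π a) (cokernel.condition a)).map (Scheme.Modules.pushforward i)
  let T := (ShortComplex.mk b (cokernel.π b) (cokernel.condition b)).map (Scheme.Modules.pushforward i)
  have hS : S.ShortExact := H22Alg.KPushCl.shortExact_push i { exact := ShortComplex.exact_cokernel a }
  have hT : T.ShortExact := H22Alg.KPushCl.shortExact_push i { exact := ShortComplex.exact_cokernel b }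
  have hle : ∀ M : W.Modules, Coh.IsCoh M → Cyc.CohLe (fun w => δ (i w)) (k + 1) M := fun M hM =>
    ⟨hM, fun w _ => ((strict_of_isSetup hX).le_of_specializes
      ((genericPoint_specializes w).map i.continuous)).trans hξ.le⟩
  have hsupp : ∀ M : W.Modules, ∀ x ∈ CohB1.support ((Coh.push i).obj M), i (genericPoint W) ⤳ x := fun M x hx => by
    by_cases hr : x ∈ Set.range i
    · exact specializes_iff_mem_closure.mpr (Transfer.range_subset_closure i hr)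
    · exact absurd hx (KDiv.notMem_support_push i M hr)
  obtain ⟨e⟩ := H10Coh.Tw.nonempty_push_tensor_iso i (Coh.structureModule W) hL
  refine ⟨S, T, hS, hT, ⟨Iso.refl _⟩, ⟨Iso.refl _⟩,
    ⟨(Coh.push i).mapIso (H10Coh.Tw.leftUnitIso ((Scheme.Modules.pullback i).obj L)).symm ≪≫ e.symm⟩,
    KDiv.cohLe_push i (hle _ hJ), KDiv.cohLe_push i (hle _ (H10Coh.isCoh_structureModule' W)),
    KDiv.cohLe_push i (hle _ hJ), KDiv.cohLe_push i (hle _ hM), KDiv.cohLe_push i hA, KDiv.cohLe_push i hB,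
    hsupp _, hsupp _, fun x => ?_⟩
  show Cyc.sheafFun δ k ((Coh.push i).obj (cokernel b)) x - Cyc.sheafFun δ k ((Coh.push i).obj (cokernel a)) x = _
  by_cases hr : x ∈ Set.range i
  · obtain ⟨w, rfl⟩ := hr
    rw [KDiv.sheafFun_push, KDiv.sheafFun_push, hval, Gysin.secDiv_immersion i hL δ _ _ (hs _) w]
  · rw [KDiv.sheafFun_push_of_notMem i _ hr, KDiv.sheafFun_push_of_notMem i _ hr, sub_zero, Cyc.secDivFun,
      dif_neg]
    exact fun h => hr (h.1.mem_closed i.isClosedEmbedding.isClosed_range ⟨_, rfl⟩)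

/-- The pair on the closure of a point. -/
theorem exists_pair_closure (hX : Cyc.IsSetup X δ) (hL : PicF.IsInvertible L) {ξ : X} (hξ : δ ξ = k + 1)
    (s : (ξ : X) → Cyc.secFibre L ξ) (hs : ∀ ξ, s ξ ≠ 0) :
    ∃ S T : ShortComplex X.Modules, S.ShortExact ∧ T.ShortExact ∧ Nonempty (S.X₁ ≅ T.X₁) ∧
      Nonempty (S.X₂ ≅ O ξ) ∧ Nonempty (T.X₂ ≅ CohB1.tensorMod (O ξ) L) ∧
      Cyc.CohLe δ (k + 1) S.X₁ ∧ Cyc.CohLe δ (k + 1) S.X₂ ∧ Cyc.CohLe δ (k + 1) T.X₁ ∧ Cyc.CohLe δ (k + 1) T.X₂ ∧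
      Cyc.CohLe δ k S.X₃ ∧ Cyc.CohLe δ k T.X₃ ∧
      (∀ x ∈ CohB1.support S.X₂, ξ ⤳ x) ∧ (∀ x ∈ CohB1.support T.X₂, ξ ⤳ x) ∧
      ∀ x, Cyc.sheafFun δ k T.X₃ x - Cyc.sheafFun δ k S.X₃ x = Cyc.secDivFun δ L ξ (s ξ) x := by
  haveI : IsIntegral (IntMult.ptIdeal ξ).subscheme := H22Alg.isIntegral_vanishingIdeal_closure ξ
  let i := (IntMult.ptIdeal ξ).subschemeι
  have hr : Set.range i = closure {ξ} := H17.range_vanishingIdeal_subschemeι _
  have hgen : i (genericPoint (IntMult.ptIdeal ξ).subscheme) = ξ := by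
    obtain ⟨t, ht⟩ : ξ ∈ Set.range i := by rw [hr]; exact subset_closure rfl
    have h1 : ξ ⤳ i (genericPoint (IntMult.ptIdeal ξ).subscheme) := by
      rw [specializes_iff_mem_closure, ← hr]; exact Set.mem_range_self _
    have h2 : i (genericPoint (IntMult.ptIdeal ξ).subscheme) ⤳ ξ :=
      ((genericPoint_specializes t).map i.continuous).trans (specializes_of_eq ht)
    exact (h2.antisymm h1).eq
  have h := exists_pair_push hX hL i (by rw [hgen]; exact hξ) s hs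
  rwa [hgen] at h

/-- **The twist by an invertible module is `c₁(L) ∩`.** -/
theorem cls_twist (hX : Cyc.IsSetup X δ) (hL : PicF.IsInvertible L) {F : X.Modules}
    (hF : Cyc.CohLe δ (k + 1) F) (s : (ξ : X) → Cyc.secFibre L ξ) (hs : ∀ ξ, s ξ ≠ 0)
    {γ : AlgebraicCycle X ℤ} (hγk : γ ∈ Cyc.Zk X δ k)
    (hγ : ⇑γ = Cyc.c1CapFun δ L (Cyc.sheafFun δ (k + 1) F) s) :
    Cyc.toK0CohQuot δ (k + 1) (k - 1) (CohB1.tensorMod F L) - Cyc.toK0CohQuot δ (k + 1) (k - 1) F =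
      Cyc.toK0CohQuot δ (k + 1) (k - 1) (Cyc.cycleSheafPos ⇑γ) -
        Cyc.toK0CohQuot δ (k + 1) (k - 1) (Cyc.cycleSheafNeg ⇑γ) := by
  classical
  have hδ := strict_of_isSetup hX
  let α := Cyc.sheafFun δ (k + 1) F
  have hαlf : LocallyFiniteSupport α := locallyFinite_sheafFun hδ hF
  have hPI : ∀ i : PIdx α, δ i.1.1 = k + 1 := fun i => by
    by_contra h
    exact i.1.2.ne' (sheafFun_of_ne h)
  choose S T hS hT e₁ eS₂ eT₂ hcS₁ hcS₂ hcT₁ hcT₂ hcS₃ hcT₃ hS₂ hT₂ hval using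
    fun i : PIdx α => exists_pair_closure hX hL (hPI i) s hs
  have hfinI : ∀ x : X, ∃ U : X.Opens, x ∈ U ∧ {i : PIdx α | i.1.1 ∈ U}.Finite := fun x => by
    obtain ⟨t, ht, hfin⟩ := hαlf x
    obtain ⟨U, hUt, hUo, hxU⟩ := mem_nhds_iff.mp ht
    refine ⟨⟨U, hUo⟩, hxU, ?_⟩
    refine Set.Finite.subset ((hfin.preimage (f := fun ζ : {ζ : X // 0 < α ζ} => ζ.1)
      Subtype.val_injective.injOn).preimage' (f := fun i : PIdx α => i.1) fun ζ _ => ?_) fun i hi => ⟨hUt hi, i.1.2.ne'⟩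
    exact (Set.finite_range fun n : Fin (α ζ.1).toNat => (⟨ζ, n⟩ : PIdx α)).subset (by
      rintro ⟨ζ', n⟩ (rfl : ζ' = ζ)
      exact ⟨n, rfl⟩)
  have hloc : ∀ {M : PIdx α → X.Modules}, (∀ i, ∀ x ∈ CohB1.support (M i), i.1.1 ⤳ x) → LocFin M := fun {M} hM x => by
    obtain ⟨U, hx, hU⟩ := hfinI x
    exact ⟨U, hx, hU.subset fun i ⟨y, hy, hyU⟩ => (hM i y hy).mem_open U.2 hyU⟩
  haveI : ∀ i, Epi (S i).g := fun i => (hS i).epi_g
  haveI : ∀ i, Epi (T i).g := fun i => (hT i).epi_g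
  haveI : ∀ i, Mono (S i).f := fun i => (hS i).mono_f
  have hS₃ : ∀ i, ∀ x ∈ CohB1.support (S i).X₃, i.1.1 ⤳ x := fun i x hx =>
    hS₂ i x (LeadDev.support_subset_of_epi (S i).g hx)
  have hT₃ : ∀ i, ∀ x ∈ CohB1.support (T i).X₃, i.1.1 ⤳ x := fun i x hx =>
    hT₂ i x (LeadDev.support_subset_of_epi (T i).g hx)
  have hS₁ : ∀ i, ∀ x ∈ CohB1.support (S i).X₁, i.1.1 ⤳ x := fun i x hx =>
    hS₂ i x (LeadDev.support_subset_of_mono (S i).f hx)
  let A := ∐ fun i => (S i).X₃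
  let B := ∐ fun i => (T i).X₃
  have hA : Cyc.CohLe δ k A := cohLe_sigma (hloc hS₃) hcS₃
  have hB : Cyc.CohLe δ k B := cohLe_sigma (hloc hT₃) hcT₃
  have hfun : ∀ x, Cyc.sheafFun δ k B x - Cyc.sheafFun δ k A x = γ x := by
    intro x
    obtain ⟨t, ht, hfin⟩ := hαlf x
    obtain ⟨U, hUt, hUo, hxU⟩ := mem_nhds_iff.mp ht
    let Z : Finset {ζ : X // 0 < α ζ} := ((hfin.subset (Set.inter_subset_inter_left _ hUt)).preimage
      (f := fun ζ : {ζ : X // 0 < α ζ} => ζ.1) Subtype.val_injective.injOn).toFinset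
    have hZ : ∀ ζ : {ζ : X // 0 < α ζ}, ζ.1 ⤳ x → ζ ∈ Z := fun ζ h =>
      Set.Finite.mem_toFinset _ |>.mpr ⟨h.mem_open hUo hxU, ζ.2.ne'⟩
    let J : Finset (PIdx α) := Z.sigma fun _ => Finset.univ
    have hJ : ∀ {M : PIdx α → X.Modules}, (∀ i, ∀ x ∈ CohB1.support (M i), i.1.1 ⤳ x) → ∀ i,
        x ∈ CohB1.support (M i) → i ∈ J :=
      fun hM i hi => Finset.mem_sigma.mpr ⟨hZ i.1 (hM i x hi), Finset.mem_univ _⟩
    rw [KRat.sheafFun_sigma hδ _ hcT₃ x J (hJ hT₃), KRat.sheafFun_sigma hδ _ hcS₃ x J (hJ hS₃),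
      ← Finset.sum_sub_distrib, Finset.sum_congr rfl fun i _ => hval i x, hγ, Cyc.c1CapFun,
      finsum_eq_sum_of_support_subset _ (s := Z.map (Function.Embedding.subtype _)) ?_, Finset.sum_map,
      Finset.sum_sigma]
    · refine Finset.sum_congr rfl fun ζ _ => ?_
      simp only [Finset.sum_const, Finset.card_univ, Fintype.card_fin, nsmul_eq_mul,
        Function.Embedding.subtype_apply]
      rw [Int.toNat_of_nonneg (sheafFun_nonneg F ζ.1)]
    · intro ζ hζ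
      have h1 : α ζ ≠ 0 := left_ne_zero_of_mul hζ
      refine Finset.mem_coe.mpr (Finset.mem_map.mpr ⟨⟨ζ, lt_of_le_of_ne (sheafFun_nonneg F ζ) (Ne.symm h1)⟩,
        hZ _ (secDivFun_ne_zero (right_ne_zero_of_mul hζ)), rfl⟩)
  obtain ⟨φ, hφ⟩ := KRat.exists_incl (δ := δ) (b := k - 1) (show k ≤ k + 1 by omega)
  have h1 := congrArg φ (KRat.cls_sub_eq_cycle hδ hA hB hγk hfun)
  have hlfγ : LocallyFiniteSupport ⇑γ := γ.locallyFiniteSupport
  have hlf' : LocallyFiniteSupport (-⇑γ) := (-γ).locallyFiniteSupport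
  have hk : ∀ x, δ x ≠ k → (-⇑γ) x = 0 := fun x hx => by simp [hγk x hx]
  rw [map_sub, map_sub, hφ _ hA, hφ _ hB, hφ _ (cohLe_pos hδ hlfγ hγk),
    show Cyc.cycleSheafNeg ⇑γ = Cyc.cycleSheafPos (-⇑γ) from rfl, hφ _ (cohLe_pos hδ hlf' hk)] at h1
  have eS := cls_sigma_shortExact (a := k + 1) (b := k - 1) S hS (hloc hS₂) hcS₁ hcS₂
    fun i => cohLe_mono (by omega) (hcS₃ i)
  have eT := cls_sigma_shortExact (a := k + 1) (b := k - 1) T hT (hloc hT₂) hcT₁ hcT₂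
    fun i => cohLe_mono (by omega) (hcT₃ i)
  have q1 := cls_sigma_congr (a := k + 1) (b := k - 1) (fun i => (e₁ i).some) (hloc hS₁) hcS₁
  have qS := cls_sigma_congr (a := k + 1) (b := k - 1) (fun i => (eS₂ i).some) (hloc hS₂) hcS₂
  have qT := cls_sigma_congr (a := k + 1) (b := k - 1) (fun i => (eT₂ i).some) (hloc hT₂) hcT₂
  -- reduce to the cycle of `F`
  have hpos : Cyc.CohLe δ (k + 1) (Cyc.cycleSheafPos α) := cohLe_pos hδ hαlf fun x hx => sheafFun_of_ne hx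
  obtain ⟨Φ, hΦ⟩ := exists_twistHom (k := k) hδ hL
  have hmain := congrArg Φ (cls_eq_top (k := k) hδ hF)
  rw [hΦ _ hF, hΦ _ hpos] at hmain
  let Tf := (DCoh.tensorBi (X := X)).flip.obj L
  have qP : (cls (CohB1.tensorMod (Cyc.cycleSheafPos α) L) : Cyc.K0CohQuot δ (k + 1) (k - 1)) =
      cls (∐ fun i : PIdx α => CohB1.tensorMod (O i.1.1) L) :=
    cls_congr (PreservesCoproduct.iso Tf fun i : PIdx α => O i.1.1) (cohLe_twist hL hpos)
  show (cls (CohB1.tensorMod F L) : Cyc.K0CohQuot δ (k + 1) (k - 1)) - cls F =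
    cls (Cyc.cycleSheafPos ⇑γ) - cls (Cyc.cycleSheafPos (-⇑γ))
  rw [hmain, ← h1, qP, ← qT, eT, show (cls (Cyc.cycleSheafPos α) : Cyc.K0CohQuot δ (k + 1) (k - 1)) =
    cls (∐ fun i : PIdx α => O i.1.1) from rfl, ← qS, eS, q1]
  abel

end Groth.Agent.H3Cyc.KTwist
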