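import Groth.Agent.S6320
import Groth.Agent.S0612
import Groth.Agent.H22Alg.OrdFrac
import Groth.Agent.H22Alg.FiniteLength
import Groth.Agent.H22Alg.BranchBound
import Groth.Agent.H3CAlg.Tame.Degree
import Groth.Agent.H3CAlg.Tame.Value
import Mathlib

/-!
# Orders of norms along finite extensions of one dimensional local domains

For a finite extension `A ⊆ B` of domains, `A` Noetherian local of dimension `≤ 1`, the order of the
norm of `f` is the sum of the orders of `f` at the maximal ideals of `B` weighted by residue degrees.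
-/

set_option autoImplicit false
set_option linter.style.haveILetI false
set_option linter.unusedSectionVars false
universe u

open scoped nonZeroDivisors

namespace Groth.Agent.H3Cyc

variable {A B : Type u} [CommRing A] [IsDomain A] [IsLocalRing A] [IsNoetherianRing A]
  [Ring.KrullDimLE 1 A] [CommRing B] [IsDomain B] [Algebra A B] [Module.Finite A B]

theorem krullDimLE_localization (hinj : Function.Injective (algebraMap A B)) (n : MaximalSpectrum B) :
    Ring.KrullDimLE 1 (Localization.AtPrime n.asIdeal) := by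
  refine Ring.KrullDimLE.mk₁' fun P hP hPp => ?_
  set P₀ := P.comap (algebraMap B (Localization.AtPrime n.asIdeal))
  have h0 : P₀ ≠ ⊥ := fun e => hP (by
    rw [← IsLocalization.map_comap n.asIdeal.primeCompl (Localization.AtPrime n.asIdeal) P]
    show P₀.map _ = ⊥
    rw [e, Ideal.map_bot])
  haveI : P₀.IsPrime := Ideal.IsPrime.comap _
  haveI : Module.IsTorsionFree A B := Module.isTorsionFree_iff_algebraMap_injective.mpr hinj
  have h1 : P₀.comap (algebraMap A B) ≠ ⊥ := fun e => h0 (Ideal.eq_bot_of_comap_eq_bot e)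
  haveI : (P₀.comap (algebraMap A B)).IsMaximal := Ideal.isMaximal_of_isPrime_of_ne_bot _ h1
  haveI : P₀.IsMaximal := Ideal.isMaximal_of_isIntegral_of_isMaximal_comap (R := A) P₀ inferInstance
  have hle : P₀ ≤ n.asIdeal :=
    (IsLocalization.AtPrime.primeSpectrumOrderIso (Localization.AtPrime n.asIdeal) n.asIdeal ⟨P, hPp⟩).2
  have heq : P₀ = n.asIdeal := Ideal.IsMaximal.eq_of_le inferInstance n.isMaximal.ne_top hle
  have hP' : P = IsLocalRing.maximalIdeal _ := by
    rw [← IsLocalization.map_comap n.asIdeal.primeCompl (Localization.AtPrime n.asIdeal) P]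
    show P₀.map _ = _
    rw [heq, Localization.AtPrime.map_eq_maximalIdeal]
  rw [hP']
  exact IsLocalRing.maximalIdeal.isMaximal _

section lattice

variable {m : ℕ} (φ : (Fin m → A) →ₗ[A] B) (hφ : Function.Injective φ) {c : A} (hc : c ≠ 0)
  (hcB : ∀ b : B, c • b ∈ LinearMap.range φ)

include hc hcB in
theorem length_coker_ne_top : Module.length A (B ⧸ LinearMap.range φ) ≠ ⊤ := by
  refine H22Alg.length_ne_top_of_support_maximal fun p hp => ?_
  obtain ⟨z, hz⟩ := Module.mem_support_iff'.mp hp
  obtain ⟨b, rfl⟩ := Submodule.Quotient.mk_surjective _ z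
  have hcp : c ∈ p.asIdeal := by
    by_contra hcp
    exact hz c hcp ((Submodule.Quotient.mk_eq_zero _).mpr (hcB b))
  exact Ideal.isMaximal_of_isPrime_of_ne_bot _ (fun e => hc (by rw [e, Ideal.mem_bot] at hcp; exact hcp))

include hφ hc hcB in
/-- Multiplication by `x` has cokernels of the same length on `B` and on the lattice. -/
theorem length_quot_span_eq {x : B} (hx : x ≠ 0) (M : (Fin m → A) →ₗ[A] (Fin m → A))
    (hM : ∀ v, x * φ v = φ (M v)) :
    Module.length A (B ⧸ Ideal.span {x}) = Module.length A ((Fin m → A) ⧸ LinearMap.range M) := by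
  let μ : B →ₗ[A] B := LinearMap.mulLeft A x
  let X : Submodule A B := (LinearMap.range φ).map μ
  have hXF : X ≤ LinearMap.range φ := by
    rintro _ ⟨_, ⟨v, rfl⟩, rfl⟩
    exact ⟨M v, (hM v).symm⟩
  have hMX : LinearMap.range M ≤ X.comap φ := by
    rintro _ ⟨v, rfl⟩
    exact ⟨φ v, ⟨v, rfl⟩, hM v⟩
  have h1 : Module.length A (B ⧸ X) = Module.length A ((Fin m → A) ⧸ LinearMap.range M) +
      Module.length A (B ⧸ LinearMap.range φ) := by
    refine Module.length_eq_add_of_exact (Submodule.mapQ (LinearMap.range M) X φ hMX) (Submodule.factor hXF) ?_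
      (Submodule.factor_surjective hXF) ?_
    · rw [injective_iff_map_eq_zero]
      intro z hz
      obtain ⟨v, rfl⟩ := Submodule.Quotient.mk_surjective _ z
      rw [Submodule.mapQ_apply, Submodule.Quotient.mk_eq_zero] at hz
      obtain ⟨_, ⟨w, rfl⟩, hw⟩ := hz
      exact (Submodule.Quotient.mk_eq_zero _).mpr ⟨w, hφ ((hM w).symm.trans hw)⟩
    · intro z
      obtain ⟨y, rfl⟩ := Submodule.Quotient.mk_surjective _ z
      show Submodule.Quotient.mk y = 0 ↔ _
      rw [Submodule.Quotient.mk_eq_zero]
      constructor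
      · rintro ⟨v, rfl⟩
        exact ⟨Submodule.Quotient.mk v, rfl⟩
      · rintro ⟨w, hw⟩
        obtain ⟨v, rfl⟩ := Submodule.Quotient.mk_surjective _ w
        rw [Submodule.mapQ_apply, Submodule.Quotient.eq] at hw
        simpa using (LinearMap.range φ).sub_mem (LinearMap.mem_range_self φ v) (hXF hw)
  have hle : (LinearMap.range φ) ≤ X.comap μ := Submodule.le_comap_map _ _
  have hle2 : X ≤ (Ideal.span {x}).restrictScalars A := by
    rintro _ ⟨y, -, rfl⟩
    exact Ideal.mem_span_singleton'.mpr ⟨y, mul_comm _ _⟩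
  have h2 : Module.length A (B ⧸ X) = Module.length A (B ⧸ LinearMap.range φ) +
      Module.length A (B ⧸ (Ideal.span {x}).restrictScalars A) := by
    refine Module.length_eq_add_of_exact (Submodule.mapQ (LinearMap.range φ) X μ hle) (Submodule.factor hle2) ?_
      (Submodule.factor_surjective hle2) ?_
    · rw [injective_iff_map_eq_zero]
      intro z hz
      obtain ⟨y, rfl⟩ := Submodule.Quotient.mk_surjective _ z
      rw [Submodule.mapQ_apply, Submodule.Quotient.mk_eq_zero] at hz
      obtain ⟨w, hw, hwe⟩ := hz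
      refine (Submodule.Quotient.mk_eq_zero _).mpr ?_
      rw [← mul_left_cancel₀ hx hwe]
      exact hw
    · intro z
      obtain ⟨y, rfl⟩ := Submodule.Quotient.mk_surjective _ z
      show Submodule.Quotient.mk y = 0 ↔ _
      rw [Submodule.Quotient.mk_eq_zero]
      constructor
      · intro hy
        obtain ⟨w, hw⟩ := Ideal.mem_span_singleton'.mp hy
        exact ⟨Submodule.Quotient.mk w, congrArg Submodule.Quotient.mk ((mul_comm x w).trans hw)⟩
      · rintro ⟨w, hw⟩
        obtain ⟨w, rfl⟩ := Submodule.Quotient.mk_surjective _ w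
        rw [Submodule.mapQ_apply, Submodule.Quotient.eq] at hw
        have hxw : x * w ∈ (Ideal.span {x}).restrictScalars A :=
          Ideal.mem_span_singleton'.mpr ⟨w, mul_comm _ _⟩
        simpa [μ] using ((Ideal.span {x}).restrictScalars A).sub_mem hxw (hle2 hw)
  rw [h1, add_comm] at h2
  have h3 := ENat.add_right_injective_of_ne_top (length_coker_ne_top φ hc hcB) h2
  rw [← (Submodule.Quotient.restrictScalarsEquiv A (Ideal.span {x})).length_eq]
  exact h3.symm

end lattice

section norm

variable (hinj : Function.Injective (algebraMap A B)) (K : Type u) [Field K] [Algebra A K] [IsFractionRing A K]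
  (L : Type u) [Field L] [Algebra B L] [IsFractionRing B L] [Algebra K L] [Algebra A L]
  [IsScalarTower A K L] [IsScalarTower A B L]

include hinj in
theorem span_range_eq_top : Submodule.span K (Set.range (algebraMap B L)) = ⊤ := by
  rw [eq_top_iff]
  rintro g -
  obtain ⟨b, b', hb', rfl⟩ := IsFractionRing.div_surjective B g
  haveI : Module.IsTorsionFree A B := Module.isTorsionFree_iff_algebraMap_injective.mpr hinj
  obtain ⟨a, ha, d, hd⟩ := IsAlgebraic.exists_nonzero_dvd
    ((Algebra.IsIntegral.isIntegral (R := A) b').isAlgebraic) hb'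
  have hK : algebraMap A K a ≠ 0 := fun e => ha ((IsFractionRing.injective A K) (e.trans (map_zero _).symm))
  have hb0 : algebraMap B L b' ≠ 0 := IsFractionRing.to_map_ne_zero_of_mem_nonZeroDivisors hb'
  have hg : algebraMap B L b / algebraMap B L b' = (algebraMap A K a)⁻¹ • algebraMap B L (b * d) := by
    rw [eq_inv_smul_iff₀ hK, Algebra.smul_def, ← IsScalarTower.algebraMap_apply A K L,
      IsScalarTower.algebraMap_apply A B L, hd, map_mul, map_mul]
    field_simp
  rw [hg]
  exact Submodule.smul_mem _ _ (Submodule.subset_span ⟨_, rfl⟩)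

include hinj in
theorem finiteDimensional : FiniteDimensional K L := by
  obtain ⟨s, hs⟩ := (Module.Finite.fg_top (R := A) (M := B))
  classical
  refine ⟨⟨s.image (algebraMap B L), ?_⟩⟩
  rw [eq_top_iff, ← span_range_eq_top hinj K L, Submodule.span_le]
  rintro _ ⟨b, rfl⟩
  have hb : b ∈ Submodule.span A (s : Set B) := hs ▸ trivial
  induction hb using Submodule.span_induction with
  | mem x hx => exact Submodule.subset_span (Finset.mem_coe.mpr (Finset.mem_image_of_mem _ hx))
  | zero => rw [map_zero]; exact Submodule.zero_mem _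
  | add x y _ _ hx hy => rw [map_add]; exact Submodule.add_mem _ hx hy
  | smul a x _ hx =>
    rw [Algebra.smul_def, map_mul, ← IsScalarTower.algebraMap_apply A B L, IsScalarTower.algebraMap_apply A K L,
      ← Algebra.smul_def]
    exact Submodule.smul_mem _ _ hx

include hinj in
/-- A basis of the fraction field in `B` and the colength of the lattice it spans. -/
theorem exists_lattice : ∃ (m : ℕ) (bK : Module.Basis (Fin m) K L) (φ : (Fin m → A) →ₗ[A] B) (c : A),
    (∀ v, algebraMap B L (φ v) = ∑ i, algebraMap A K (v i) • bK i) ∧ Function.Injective φ ∧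
      c ≠ 0 ∧ ∀ b : B, c • b ∈ LinearMap.range φ := by
  classical
  haveI := finiteDimensional hinj K L
  obtain ⟨t, ht, hspan, hli⟩ := exists_linearIndependent K (Set.range (algebraMap B L))
  rw [span_range_eq_top hinj K L] at hspan
  let b₀ : Module.Basis t K L := Module.Basis.mk hli (by rw [Subtype.range_coe]; exact hspan.ge)
  haveI : Finite t := Module.Finite.finite_basis b₀
  haveI := Fintype.ofFinite t
  let bK : Module.Basis (Fin (Fintype.card t)) K L := b₀.reindex (Fintype.equivFin t)
  have he : ∀ i, ∃ b : B, algebraMap B L b = bK i := fun i => by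
    have hi : bK i = ((Fintype.equivFin t).symm i : L) := by simp [bK, b₀]
    rw [hi]
    exact ht ((Fintype.equivFin t).symm i).2
  choose e he using he
  let φ : (Fin (Fintype.card t) → A) →ₗ[A] B := Fintype.linearCombination A e
  have hL : ∀ v, algebraMap B L (φ v) = ∑ i, algebraMap A K (v i) • bK i := fun v => by
    simp only [φ, Fintype.linearCombination_apply, map_sum, Algebra.smul_def, map_mul, he,
      ← IsScalarTower.algebraMap_apply A B L, ← IsScalarTower.algebraMap_apply A K L]
  have hφ : Function.Injective φ := by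
    rw [injective_iff_map_eq_zero]
    intro v hv
    funext i
    have h := hL v
    rw [hv, map_zero] at h
    refine IsFractionRing.injective A K (((Fintype.linearIndependent_iff.mp bK.linearIndependent) _ h.symm i).trans
      (map_zero _).symm)
  have h1 : ∀ b : B, ∃ c : A, c ≠ 0 ∧ c • b ∈ LinearMap.range φ := fun b => by
    obtain ⟨c, hc⟩ := IsLocalization.exist_integer_multiples_of_finite A⁰ (fun i => bK.repr (algebraMap B L b) i)
    choose v hv using hc
    refine ⟨c, nonZeroDivisors.ne_zero c.2, v, IsFractionRing.injective B L ?_⟩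
    have hrepr : ∀ i, algebraMap A K (v i) = algebraMap A K c * bK.repr (algebraMap B L b) i := fun i =>
      (hv i).trans (Algebra.smul_def _ _)
    rw [hL, Algebra.smul_def, map_mul, ← IsScalarTower.algebraMap_apply A B L, IsScalarTower.algebraMap_apply A K L]
    simp only [hrepr, mul_smul, ← Finset.smul_sum]
    rw [bK.sum_repr, Algebra.smul_def]
  choose c hc hcmem using h1
  obtain ⟨s, hs⟩ := (Module.Finite.fg_top (R := A) (M := B))
  refine ⟨_, bK, φ, ∏ x ∈ s, c x, hL, hφ, Finset.prod_ne_zero_iff.mpr fun x _ => hc x, fun b => ?_⟩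
  have hb : b ∈ Submodule.span A (s : Set B) := hs ▸ trivial
  induction hb using Submodule.span_induction with
  | mem x hx =>
    rw [← Finset.mul_prod_erase s c hx, mul_comm, mul_smul]
    exact Submodule.smul_mem _ _ (hcmem x)
  | zero => rw [smul_zero]; exact Submodule.zero_mem _
  | add x y _ _ hx hy => rw [smul_add]; exact Submodule.add_mem _ hx hy
  | smul a x _ hx => rw [smul_comm]; exact Submodule.smul_mem _ _ hx

include hinj in
theorem length_quot_span {b : B} (hb : b ≠ 0) :
    Module.length A (B ⧸ Ideal.span {b}) ≠ ⊤ ∧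
      ((Module.length A (B ⧸ Ideal.span {b})).toNat : ℤ) =
        CycAlg.ordFrac A K (Algebra.norm K (algebraMap B L b)) := by
  classical
  obtain ⟨m, bK, φ, c, hL, hφ, hc, hcB⟩ := exists_lattice hinj K L
  have hmat : ∀ x : B, (∀ v, x * φ v ∈ LinearMap.range φ) → x ≠ 0 → ∃ d : A, d ≠ 0 ∧
      algebraMap A K d = Algebra.norm K (algebraMap B L x) ∧
      Module.length A (B ⧸ Ideal.span {x}) = Ring.ord A d := by
    intro x hxF hx
    let e := LinearEquiv.ofInjective φ hφ
    let M : (Fin m → A) →ₗ[A] (Fin m → A) :=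
      e.symm.toLinearMap ∘ₗ ((LinearMap.mulLeft A x).comp φ).codRestrict (LinearMap.range φ) hxF
    have hM : ∀ v, x * φ v = φ (M v) := fun v =>
      (congrArg Subtype.val (e.apply_symm_apply ⟨x * φ v, hxF v⟩)).symm
    have hdet : algebraMap A K (LinearMap.det M) = Algebra.norm K (algebraMap B L x) := by
      rw [Algebra.norm_eq_matrix_det bK, ← LinearMap.det_toMatrix', RingHom.map_det]
      congr 1
      ext i j
      rw [RingHom.mapMatrix_apply, Matrix.map_apply, Algebra.leftMulMatrix_eq_repr_mul, LinearMap.toMatrix'_apply]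
      have hj : algebraMap B L (φ fun j' => if j' = j then 1 else 0) = bK j := by simp [hL]
      rw [← hj, ← map_mul, hM, hL, bK.repr_sum_self]
      rw [show (Pi.single j 1 : Fin m → A) = fun j' => if j' = j then 1 else 0 from
        funext fun j' => Pi.single_apply j 1 j']
    have hd : LinearMap.det M ≠ 0 := fun e0 => by
      haveI := finiteDimensional hinj K L
      rw [e0, map_zero] at hdet
      exact hx ((IsFractionRing.injective B L) ((Algebra.norm_eq_zero_iff.mp hdet.symm).trans (map_zero _).symm))
    exact ⟨_, hd, hdet, (length_quot_span_eq φ hφ hc hcB hx M hM).trans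
      (Groth.Agent.S0612.result M (mem_nonZeroDivisors_of_ne_zero hd))⟩
  have hca : algebraMap A B c ≠ 0 := fun e => hc (hinj (e.trans (map_zero _).symm))
  obtain ⟨d₁, hd₁, hN₁, hl₁⟩ := hmat (algebraMap A B c)
    (fun v => ⟨c • v, by rw [map_smul, Algebra.smul_def]⟩) hca
  obtain ⟨d₂, hd₂, hN₂, hl₂⟩ := hmat (b * algebraMap A B c)
    (fun v => by
      rw [mul_comm b, mul_assoc, ← Algebra.smul_def]
      exact hcB _) (mul_ne_zero hb hca)
  have hadd := H3CAlg.Tame.length_span_mul (A := A) b (algebraMap A B c) (mem_nonZeroDivisors_of_ne_zero hca)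
  rw [hl₁, hl₂] at hadd
  have hf₁ : Ring.ord A d₁ ≠ ⊤ := Ring.ord_ne_top (mem_nonZeroDivisors_of_ne_zero hd₁)
  have hf₂ : Ring.ord A d₂ ≠ ⊤ := Ring.ord_ne_top (mem_nonZeroDivisors_of_ne_zero hd₂)
  have hfin : Module.length A (B ⧸ Ideal.span {b}) ≠ ⊤ := fun e => hf₂ (by rw [hadd, e, top_add])
  refine ⟨hfin, ?_⟩
  have hN : Algebra.norm K (algebraMap B L b) = algebraMap A K d₂ / algebraMap A K d₁ := by
    rw [eq_div_iff fun e => hd₁ ((IsFractionRing.injective A K) (e.trans (map_zero _).symm)), hN₁, hN₂,
      ← map_mul, ← map_mul]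
  rw [hN, H22Alg.cycOrdFrac_div K (mem_nonZeroDivisors_of_ne_zero hd₂) (mem_nonZeroDivisors_of_ne_zero hd₁),
    hadd, ENat.toNat_add hfin hf₁]
  push_cast
  ring

/-- The residue degree at a maximal ideal. -/
noncomputable def resDeg (A : Type u) [CommRing A] [Algebra A B] (n : MaximalSpectrum B) : ℕ :=
  Module.finrank (A ⧸ n.asIdeal.comap (algebraMap A B)) (B ⧸ n.asIdeal)

theorem over_maximal (n : MaximalSpectrum B) : n.asIdeal.comap (algebraMap A B) = IsLocalRing.maximalIdeal A :=
  (IsLocalRing.isMaximal_iff A).mp (Ideal.isMaximal_comap_of_isIntegral_of_isMaximal n.asIdeal)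

include hinj K L in
theorem length_quot_span_eq_sum {b : B} (hb : b ≠ 0) :
    Module.length A (B ⧸ Ideal.span {b}) = ∑ᶠ n : MaximalSpectrum B,
      (resDeg A n : ℕ∞) * Ring.ord (Localization.AtPrime n.asIdeal) (algebraMap B _ b) := by
  haveI := H22Alg.finite_maximalSpectrum_of_finite A B
  have hfin : IsFiniteLength B (B ⧸ Ideal.span {b}) := Module.length_ne_top_iff.mp
    (ne_top_of_le_ne_top (length_quot_span hinj K L hb).1
      (H3CAlg.Tame.length_le_restrict (A := A) (B := B) (M := B ⧸ Ideal.span {b})))
  rw [Groth.Agent.S6320.result (A := A) (B := B) over_maximal (fun n => inferInstance) _ hfin]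
  exact finsum_congr fun n => congrArg _ (H3CAlg.Tame.len_span_singleton n.asIdeal b)

include hinj in
/-- **The order of a norm is the sum of the orders.** -/
theorem ordFrac_norm {b b' : B} (hb : b ≠ 0) (hb' : b' ≠ 0) :
    CycAlg.ordFrac A K (Algebra.norm K (algebraMap B L b / algebraMap B L b')) =
      ∑ᶠ n : MaximalSpectrum B, (resDeg A n : ℤ) *
        (((Ring.ord (Localization.AtPrime n.asIdeal) (algebraMap B _ b)).toNat : ℤ) -
          ((Ring.ord (Localization.AtPrime n.asIdeal) (algebraMap B _ b')).toNat : ℤ)) := by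
  haveI := H22Alg.finite_maximalSpectrum_of_finite A B
  haveI := finiteDimensional hinj K L
  haveI := Fintype.ofFinite (MaximalSpectrum B)
  haveI : IsNoetherianRing B := .of_finite A B
  have key : ∀ x : B, x ≠ 0 → CycAlg.ordFrac A K (Algebra.norm K (algebraMap B L x)) =
      ∑ n : MaximalSpectrum B, (resDeg A n : ℤ) *
        ((Ring.ord (Localization.AtPrime n.asIdeal) (algebraMap B _ x)).toNat : ℤ) := fun x hx => by
    have hne : ∀ n : MaximalSpectrum B, Ring.ord (Localization.AtPrime n.asIdeal) (algebraMap B _ x) ≠ ⊤ := fun n => by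
      haveI := krullDimLE_localization hinj n
      exact Ring.ord_ne_top (mem_nonZeroDivisors_of_ne_zero fun e => hx
        ((IsLocalization.injective (Localization.AtPrime n.asIdeal) n.asIdeal.primeCompl_le_nonZeroDivisors)
          (e.trans (map_zero _).symm)))
    have hterm : ∀ n ∈ (Finset.univ : Finset (MaximalSpectrum B)), (resDeg A n : ℕ∞) *
        Ring.ord (Localization.AtPrime n.asIdeal) (algebraMap B _ x) ≠ ⊤ := fun n _ =>
      WithTop.mul_ne_top (ENat.natCast_ne_top _) (hne n)
    rw [← (length_quot_span hinj K L hx).2, length_quot_span_eq_sum hinj K L hx, finsum_eq_sum_of_fintype,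
      ENat.toNat_sum hterm]
    push_cast [ENat.toNat_mul, ENat.toNat_natCast]
    rfl
  have hsplit : CycAlg.ordFrac A K (Algebra.norm K (algebraMap B L b / algebraMap B L b')) =
      CycAlg.ordFrac A K (Algebra.norm K (algebraMap B L b)) -
        CycAlg.ordFrac A K (Algebra.norm K (algebraMap B L b')) := by
    have hnz : ∀ x : B, x ≠ 0 → Algebra.norm K (algebraMap B L x) ≠ 0 := fun x hx e =>
      hx ((IsFractionRing.injective B L) ((Algebra.norm_eq_zero_iff.mp e).trans (map_zero _).symm))
    have hdiv : Algebra.norm K (algebraMap B L b / algebraMap B L b') =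
        Algebra.norm K (algebraMap B L b) / Algebra.norm K (algebraMap B L b') := by
      rw [eq_div_iff (hnz b' hb'), ← map_mul, div_mul_cancel₀ _ fun e => hb' ((IsFractionRing.injective B L) (e.trans (map_zero _).symm))]
    obtain ⟨p, q, hq, hpq⟩ := IsFractionRing.div_surjective A (Algebra.norm K (algebraMap B L b))
    obtain ⟨r, s, hs, hrs⟩ := IsFractionRing.div_surjective A (Algebra.norm K (algebraMap B L b'))
    have hp : p ≠ 0 := fun e => hnz b hb (by rw [← hpq, e, map_zero, zero_div])
    have hr : r ≠ 0 := fun e => hnz b' hb' (by rw [← hrs, e, map_zero, zero_div])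
    have hp' := mem_nonZeroDivisors_of_ne_zero hp
    have hr' := mem_nonZeroDivisors_of_ne_zero hr
    rw [hdiv, ← hpq, ← hrs, div_div_div_eq, ← map_mul, ← map_mul,
      H22Alg.cycOrdFrac_div K (mul_mem hp' hs) (mul_mem hq hr'), H22Alg.cycOrdFrac_div K hp' hq,
      H22Alg.cycOrdFrac_div K hr' hs, H22Alg.ord_toNat_mul hp' hs, H22Alg.ord_toNat_mul hq hr']
    push_cast
    ring
  rw [hsplit, key b hb, key b' hb', finsum_eq_sum_of_fintype, ← Finset.sum_sub_distrib]
  exact Finset.sum_congr rfl fun n _ => (mul_sub _ _ _).symm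

end norm

end Groth.Agent.H3Cyc
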