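import Groth.Prelude.Def_P1
import Groth.Agent.H11Proj.ProjSpace
import Mathlib

/-!
# Coordinates on the two charts of the projective line over a scheme
-/

set_option autoImplicit false
set_option linter.style.haveILetI false
set_option backward.isDefEq.respectTransparency.types false
universe u

open AlgebraicGeometry CategoryTheory CategoryTheory.Limits HomogeneousLocalization MvPolynomial

namespace Groth.Agent.H3Cyc.P1C

open P1

/-- The other index. -/
def opp (i : Fin (1 + 1)) : Fin (1 + 1) := 1 - i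

theorem opp_ne (i : Fin (1 + 1)) : opp i ≠ i := by fin_cases i <;> decide

theorem eq_opp {i j : Fin (1 + 1)} (h : j ≠ i) : j = opp i := by
  fin_cases i <;> fin_cases j <;> first | rfl | exact absurd rfl h

theorem opp_opp (i : Fin (1 + 1)) : opp (opp i) = i := by fin_cases i <;> rfl

/-- `T_j / T_i` in the chart `T_i ≠ 0`. -/
noncomputable def frac (i : Fin (1 + 1)) : Away grading.{u} (T i) :=
  Away.isLocalizationElem (X_mem i) (X_mem (opp i))

theorem ringHom_R0_ext {C : Type u} [CommRing C] (a b : R0.{u} →+* C) : a = b := by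
  refine RingHom.ext fun r => ?_
  have h := RingHom.congr_fun (RingHom.ext_int (a.comp ULift.ringEquiv.symm.toRingHom)
    (b.comp ULift.ringEquiv.symm.toRingHom)) r.down
  exact h

theorem away_ext (i : Fin (1 + 1)) {C : Type u} [CommRing C] (φ ψ : Away grading.{u} (T i) →+* C)
    (h : φ (frac i) = ψ (frac i)) : φ = ψ := by
  have hj : ∀ j : {j : Fin (1 + 1) // j ≠ i},
      H11Proj.ProjSpace.chartMap 1 R0.{u} i (MvPolynomial.X j) = frac i := fun j => by
    obtain ⟨j, hj⟩ := j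
    obtain rfl := eq_opp hj
    rw [H11Proj.ProjSpace.chartMap, eval₂Hom_X']
    apply val_injective
    rw [frac, Away.isLocalizationElem, Away.val_mk, val_mk]
    congr 1
    · exact (pow_one _).symm
    · exact Subtype.ext (pow_one _).symm
  refine RingHom.ext fun a => ?_
  obtain ⟨q, rfl⟩ := (H11Proj.ProjSpace.chartMap_bijective 1 R0.{u} i).2 a
  refine RingHom.congr_fun (MvPolynomial.ringHom_ext (f := φ.comp (H11Proj.ProjSpace.chartMap 1 R0.{u} i))
    (g := ψ.comp (H11Proj.ProjSpace.chartMap 1 R0.{u} i)) (fun r => ?_) fun j => ?_) q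
  · exact RingHom.congr_fun (ringHom_R0_ext ((φ.comp (H11Proj.ProjSpace.chartMap 1 R0.{u} i)).comp MvPolynomial.C)
      ((ψ.comp (H11Proj.ProjSpace.chartMap 1 R0.{u} i)).comp MvPolynomial.C)) r
  · simp only [RingHom.comp_apply, hj, h]

/-- The standard open `T_i ≠ 0` of `P¹`. -/
noncomputable abbrev D (i : Fin (1 + 1)) : (Proj grading.{u}).Opens :=
  Proj.basicOpen grading.{u} (T i)

/-- The function `T_j / T_i` on `D i`. -/
noncomputable def sec (i : Fin (1 + 1)) : Γ(Proj grading.{u}, D i) :=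
  Proj.awayToSection grading.{u} (T i) (frac i)

noncomputable abbrev chartι (i : Fin (1 + 1)) :
    Spec (CommRingCat.of (Away grading.{u} (T i))) ⟶ Proj grading.{u} :=
  Proj.awayι grading (T i) (X_mem i) one_pos

instance (i : Fin (1 + 1)) : IsOpenImmersion (chartι.{u} i) :=
  inferInstanceAs (IsOpenImmersion (Proj.awayι _ _ _ _))

theorem chartι_preimage (i : Fin (1 + 1)) : (chartι.{u} i) ⁻¹ᵁ D i = ⊤ := by
  show chartι i ⁻¹ᵁ Proj.basicOpen grading (T i) = ⊤
  rw [← Proj.opensRange_awayι grading (T i) (X_mem i) one_pos, Scheme.Hom.preimage_opensRange]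

theorem chartι_appLE (i : Fin (1 + 1)) (a : Away grading.{u} (T i)) :
    (chartι i).appLE (D i) ⊤ (chartι_preimage i).ge (Proj.awayToSection grading (T i) a) =
      (Scheme.ΓSpecIso _).inv a := by
  have h1 := congrArg Scheme.Hom.appTop (Proj.basicOpenIsoSpec grading (T i) (X_mem i) one_pos).inv_hom_id
  rw [Scheme.Hom.comp_appTop, Proj.basicOpenIsoSpec_hom] at h1
  have h2 := congrArg (fun (t : Γ(Spec (CommRingCat.of (Away grading.{u} (T i))), ⊤) ⟶ _) => t ((Scheme.ΓSpecIso _).inv a)) h1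
  simp only [Scheme.Hom.appTop, Proj.basicOpenToSpec_app_top] at h2
  simp only [CommRingCat.hom_comp, RingHom.coe_comp, Function.comp_apply, Iso.inv_hom_id_apply] at h2
  refine Eq.trans ?_ h2
  show ((Proj.basicOpenIsoSpec grading (T i) (X_mem i) one_pos).inv ≫ (Proj.basicOpen grading (T i)).ι).appLE (D i) ⊤ _
    (Proj.awayToSection grading (T i) a) = _
  rw [← Scheme.Hom.appLE_comp_appLE _ (Proj.basicOpen grading (T i)).ι (D i) ⊤ ⊤ (fun y _ => y.2) le_rfl,
    ConcreteCategory.comp_apply, Scheme.Opens.ι_appLE]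
  simp [Scheme.Hom.app_eq_appLE]
  rfl

/-- A point of `P¹` in `D i` given by the value of `T_j / T_i`. -/
theorem eq_of_sec {Y : Scheme.{u}} (i : Fin (1 + 1)) (a b : Y ⟶ Proj grading.{u})
    (ha : a ⁻¹ᵁ D i = ⊤) (hb : b ⁻¹ᵁ D i = ⊤)
    (h : a.appLE (D i) ⊤ ha.ge (sec i) = b.appLE (D i) ⊤ hb.ge (sec i)) : a = b := by
  have hlift : ∀ (c : Y ⟶ Proj grading.{u}), c ⁻¹ᵁ D i = ⊤ →
      ∃ c' : Y ⟶ Spec (CommRingCat.of (Away grading.{u} (T i))), c' ≫ chartι i = c := fun c hc => by
    refine ⟨IsOpenImmersion.lift (chartι i) c ?_, IsOpenImmersion.lift_fac _ _ _⟩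
    rintro _ ⟨y, rfl⟩
    have hy : y ∈ c ⁻¹ᵁ D i := hc.ge trivial
    change c y ∈ Proj.basicOpen grading (T i) at hy
    rw [← Proj.opensRange_awayι grading (T i) (X_mem i) one_pos] at hy
    exact hy
  obtain ⟨a', rfl⟩ := hlift a ha
  obtain ⟨b', rfl⟩ := hlift b hb
  congr 1
  refine ext_to_Spec (CommRingCat.hom_ext (away_ext i _ _ ?_))
  have key : ∀ (c' : Y ⟶ Spec (CommRingCat.of (Away grading.{u} (T i)))) (hc : (c' ≫ chartι i) ⁻¹ᵁ D i = ⊤),
      (c' ≫ chartι i).appLE (D i) ⊤ hc.ge (sec i) = c'.appTop ((Scheme.ΓSpecIso _).inv (frac i)) := fun c' hc => by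
    rw [← Scheme.Hom.appLE_comp_appLE c' (chartι i) (D i) ⊤ ⊤ (chartι_preimage i).ge (by simp),
      ConcreteCategory.comp_apply, sec, chartι_appLE, Scheme.Hom.appTop, Scheme.Hom.app_eq_appLE]
    rfl
  rw [key a' ha, key b' hb] at h
  exact h

variable (S : Scheme.{u})

/-- The projection to `P¹_ℤ`. -/
noncomputable def toP : CohB1.ProjSpaceOver 1 S ⟶ Proj grading.{u} := pullback.fst _ _

theorem hom_ext {Y : Scheme.{u}} {g h : Y ⟶ CohB1.ProjSpaceOver 1 S} (h1 : g ≫ toP S = h ≫ toP S)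
    (h2 : g ≫ CohB1.ProjSpaceOver.toBase 1 S = h ≫ CohB1.ProjSpaceOver.toBase 1 S) : g = h :=
  pullback.hom_ext h1 h2

theorem sect_toBase (i : Fin (1 + 1)) : P1.sect S i ≫ CohB1.ProjSpaceOver.toBase 1 S = 𝟙 S :=
  pullback.lift_snd _ _ _

/-- The chart `T_i ≠ 0` of `P¹_S`. -/
noncomputable def U (i : Fin (1 + 1)) : (CohB1.ProjSpaceOver 1 S).Opens := toP S ⁻¹ᵁ D i

/-- The coordinate on `U i`. -/
noncomputable def coord (i : Fin (1 + 1)) : Γ(CohB1.ProjSpaceOver 1 S, U S i) :=
  (toP S).app (D i) (sec i)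

theorem sup_U : U S 0 ⊔ U S 1 = ⊤ := by
  refine top_le_iff.mp fun p _ => ?_
  have h := (H11Proj.ProjSpace.iSup_basicOpen 1 R0.{u}).ge (show toP S p ∈ (⊤ : (Proj grading.{u}).Opens) from trivial)
  obtain ⟨i, hi⟩ := TopologicalSpace.Opens.mem_iSup.mp h
  fin_cases i
  · exact Or.inl hi
  · exact Or.inr hi

theorem sec_chartι_comp {Y : Scheme.{u}} {i : Fin (1 + 1)} (h : Y ⟶ Spec (CommRingCat.of (Away grading.{u} (T i))))
    (e : (h ≫ chartι i) ⁻¹ᵁ D i = ⊤) :
    (h ≫ chartι i).appLE (D i) ⊤ e.ge (sec i) = h.appTop ((Scheme.ΓSpecIso _).inv (frac i)) := by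
  rw [← Scheme.Hom.appLE_comp_appLE h (chartι i) (D i) ⊤ ⊤ (chartι_preimage i).ge (by simp),
    ConcreteCategory.comp_apply, sec, chartι_appLE, Scheme.Hom.appTop, Scheme.Hom.app_eq_appLE]
  rfl

theorem evalAway_frac (i : Fin (1 + 1)) : evalAway.{u} i (frac i) = 0 := by
  rw [evalAway, RingHom.comp_apply, HomogeneousLocalization.algebraMap_apply, frac, Away.isLocalizationElem, Away.val_mk,
    Localization.mk_eq_mk', IsLocalization.Away.lift, IsLocalization.lift_mk'_spec]
  simp [opp_ne]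

theorem sect_toP_eq (i : Fin (1 + 1)) :
    P1.sect S i ≫ toP S = (specULiftZIsTerminal.from S ≫ Spec.map (CommRingCat.ofHom (evalAway i))) ≫ chartι i :=
  (pullback.lift_fst _ _ _).trans (Category.assoc _ _ _).symm

theorem sect_preimage (i : Fin (1 + 1)) : P1.sect S i ⁻¹ᵁ U S i = ⊤ := by
  rw [U, ← Scheme.Hom.comp_preimage, sect_toP_eq, Scheme.Hom.comp_preimage, chartι_preimage, Scheme.Hom.preimage_top]

theorem coord_comp {Y : Scheme.{u}} (i : Fin (1 + 1)) (g : Y ⟶ CohB1.ProjSpaceOver 1 S) (hg : g ⁻¹ᵁ U S i = ⊤) :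
    g.appLE (U S i) ⊤ hg.ge (coord S i) = (g ≫ toP S).appLE (D i) ⊤ hg.ge (sec i) := by
  rw [Scheme.Hom.comp_appLE]
  rfl

theorem sect_coord (i : Fin (1 + 1)) :
    (P1.sect S i).appLE (U S i) ⊤ (sect_preimage S i).ge (coord S i) = 0 := by
  rw [coord_comp S i _ (sect_preimage S i)]
  have e : ((specULiftZIsTerminal.from S ≫ Spec.map (CommRingCat.ofHom (evalAway i))) ≫ chartι i) ⁻¹ᵁ D i = ⊤ := by
    rw [← sect_toP_eq]; exact sect_preimage S i
  simp only [sect_toP_eq]
  rw [sec_chartι_comp _ e, Scheme.Hom.comp_appTop, ConcreteCategory.comp_apply]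
  have n1 := congrArg (fun t => t (frac i)) (Scheme.ΓSpecIso_inv_naturality (CommRingCat.ofHom (evalAway.{u} i)))
  simp only [ConcreteCategory.comp_apply] at n1
  rw [← n1]
  simp [evalAway_frac]

/-- A morphism into `U i` killing the coordinate factors through the section. -/
theorem factor {Y : Scheme.{u}} (i : Fin (1 + 1)) (g : Y ⟶ CohB1.ProjSpaceOver 1 S) (hg : g ⁻¹ᵁ U S i = ⊤)
    (h0 : g.appLE (U S i) ⊤ hg.ge (coord S i) = 0) :
    g = (g ≫ CohB1.ProjSpaceOver.toBase 1 S) ≫ P1.sect S i := by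
  refine hom_ext S ?_ ?_
  · have hb : ((g ≫ CohB1.ProjSpaceOver.toBase 1 S) ≫ P1.sect S i) ⁻¹ᵁ U S i = ⊤ := by
      rw [Scheme.Hom.comp_preimage, sect_preimage, Scheme.Hom.preimage_top]
    refine eq_of_sec i _ _ hg hb ?_
    rw [← coord_comp S i g hg, ← coord_comp S i _ hb, h0]
    rw [← Scheme.Hom.appLE_comp_appLE _ (P1.sect S i) (U S i) ⊤ ⊤ (sect_preimage S i).ge (by simp),
      ConcreteCategory.comp_apply, sect_coord, map_zero]
  · rw [Category.assoc (g ≫ _), sect_toBase, Category.comp_id]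

theorem basicOpen_sec (i : Fin (1 + 1)) :
    (Proj grading.{u}).basicOpen (sec i) = D i ⊓ D (opp i) := by
  refine TopologicalSpace.Opens.ext (Set.ext fun q => ?_)
  by_cases hq : q ∈ D i
  swap
  · exact iff_of_false (fun h => hq ((Proj grading.{u}).basicOpen_le _ h)) fun h => hq h.1
  change q ∈ Proj.basicOpen grading (T i) at hq
  rw [← Proj.opensRange_awayι grading (T i) (X_mem i) one_pos] at hq
  obtain ⟨z, rfl⟩ := hq
  have h1' : chartι i ⁻¹ᵁ (Proj grading.{u}).basicOpen (sec i) =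
      (Spec (CommRingCat.of (Away grading.{u} (T i)))).basicOpen ((Scheme.ΓSpecIso _).inv (frac i)) := by
    rw [sec, ← chartι_appLE i (frac i), Scheme.basicOpen_appLE, top_inf_eq]
  have h1 : chartι i ⁻¹ᵁ (Proj grading.{u}).basicOpen (sec i) = PrimeSpectrum.basicOpen (frac i) :=
    h1'.trans (basicOpen_eq_of_affine (R := CommRingCat.of (Away grading.{u} (T i))) (frac i))
  have h2 : chartι i ⁻¹ᵁ D (opp i) = PrimeSpectrum.basicOpen (frac i) :=
    Proj.awayι_preimage_basicOpen grading (X_mem i) one_pos (X_mem (opp i)) one_pos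
  change z ∈ chartι i ⁻¹ᵁ (Proj grading.{u}).basicOpen (sec i) ↔
    z ∈ chartι i ⁻¹ᵁ D i ∧ z ∈ chartι i ⁻¹ᵁ D (opp i)
  rw [h1, h2, chartι_preimage]
  simp

theorem basicOpen_coord (i : Fin (1 + 1)) :
    (CohB1.ProjSpaceOver 1 S).basicOpen (coord S i) = U S i ⊓ U S (opp i) := by
  refine (Scheme.preimage_basicOpen (toP S) (sec i)).symm.trans ?_
  rw [basicOpen_sec]
  rfl

theorem frac_mul (i : Fin (1 + 1)) :
    awayMap grading (X_mem (opp i)) (rfl : T.{u} i * T (opp i) = T i * T (opp i)) (frac i) *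
      awayMap grading (X_mem i) (mul_comm (T.{u} i) (T (opp i))) (frac (opp i)) = 1 := by
  apply val_injective
  rw [val_mul, val_one, frac, frac, Away.isLocalizationElem, Away.isLocalizationElem, Away.mk, Away.mk, val_awayMap_mk, val_awayMap_mk,
    Localization.mk_mul, ← Localization.mk_one, Localization.mk_eq_mk_iff, Localization.r_iff_exists]
  refine ⟨1, ?_⟩
  simp [opp_opp]
  ring

theorem sec_mul (i : Fin (1 + 1)) (V : (Proj grading.{u}).Opens) (h : V ≤ D i) (h' : V ≤ D (opp i)) :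
    (Proj grading.{u}).presheaf.map (homOfLE h).op (sec i) *
      (Proj grading.{u}).presheaf.map (homOfLE h').op (sec (opp i)) = 1 := by
  have hV : V ≤ Proj.basicOpen grading.{u} (T i * T (opp i)) := by
    rw [Proj.basicOpen_mul]; exact le_inf h h'
  have e := congrArg (fun t => (Proj grading.{u}).presheaf.map (homOfLE hV).op
    (Proj.awayToSection grading (T i * T (opp i)) t)) (frac_mul i)
  simp only [map_mul, map_one] at e
  have e1 := congrArg (fun t => (Proj grading.{u}).presheaf.map (homOfLE hV).op (t (frac i)))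
    (Proj.awayMap_awayToSection grading (f := T.{u} i) (X_mem (opp i)) (x := T i * T (opp i)) rfl)
  have e2 := congrArg (fun t => (Proj grading.{u}).presheaf.map (homOfLE hV).op (t (frac (opp i))))
    (Proj.awayMap_awayToSection grading (f := T.{u} (opp i)) (X_mem i) (x := T i * T (opp i)) (mul_comm _ _))
  simp only [CommRingCat.hom_comp, CommRingCat.hom_ofHom, RingHom.coe_comp, Function.comp_apply] at e1 e2
  rw [e1, e2] at e
  simp only [← CategoryTheory.comp_apply, ← Functor.map_comp] at e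
  exact e

theorem germ_coord_mul (i : Fin (1 + 1)) (p : ↥(CohB1.ProjSpaceOver 1 S)) (h : p ∈ U S i) (h' : p ∈ U S (opp i)) :
    (CohB1.ProjSpaceOver 1 S).presheaf.germ _ p h (coord S i) *
      (CohB1.ProjSpaceOver 1 S).presheaf.germ _ p h' (coord S (opp i)) = 1 := by
  have e := congrArg ((Proj grading.{u}).presheaf.germ (D i ⊓ D (opp i)) (toP S p) ⟨h, h'⟩)
    (sec_mul i (D i ⊓ D (opp i)) inf_le_left inf_le_right)
  rw [map_mul, map_one, TopCat.Presheaf.germ_res_apply, TopCat.Presheaf.germ_res_apply] at e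
  have e' := congrArg ((toP S).stalkMap p) e
  rw [map_mul, map_one, Scheme.Hom.germ_stalkMap_apply, Scheme.Hom.germ_stalkMap_apply] at e'
  exact e'

theorem chartMap_frac (i : Fin (1 + 1)) (B : Type u) [CommRing B] (b : B) :
    P1.chartMap.{u} i B b (frac i) = b := by
  rw [P1.chartMap, RingHom.comp_apply, HomogeneousLocalization.algebraMap_apply, frac, Away.isLocalizationElem, Away.val_mk,
    Localization.mk_eq_mk', IsLocalization.Away.lift, IsLocalization.lift_mk'_spec]
  simp [opp_ne]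

end Groth.Agent.H3Cyc.P1C
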