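import Groth.Agent.H3Cyc.P1Sheaf
import Groth.Agent.H24Hilb.ClosedCounit
import Groth.Agent.H06EGA9.StructureStalk
import Groth.Agent.H10Coh.AffinePush
import Mathlib

/-!
# The fibres over `0` and `∞` of a closed subscheme of `P¹_X`
-/

set_option autoImplicit false
set_option linter.style.haveILetI false
set_option backward.isDefEq.respectTransparency.types false
universe u

open AlgebraicGeometry CategoryTheory CategoryTheory.Limits IsLocalRing
open scoped Pointwise Classical TensorProduct

namespace Groth.Agent.H3Cyc.P1C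

variable {Z Y : Scheme.{u}} (ι : Z ⟶ Y) [IsClosedImmersion ι]

/-- The direct image of the structure module. -/
noncomputable abbrev pushO : Y.Modules := (Scheme.Modules.pushforward ι).obj (Coh.structureModule Z)

/-- The stalk of `ι_* O_Z` at `ι z`. -/
noncomputable def pushOStalk (z : Z) :
    letI := (ι.stalkMap z).hom.toAlgebra
    (pushO ι).presheaf.stalk (ι z) ≃ₗ[Y.presheaf.stalk (ι z)] Z.presheaf.stalk z :=
  letI := (ι.stalkMap z).hom.toAlgebra
  let e1 : (pushO ι).presheaf.stalk (ι z) ≃+ (Coh.structureModule Z).presheaf.stalk z :=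
    AddEquiv.ofBijective (H24Hilb.Closed.pushStalk ι (Coh.structureModule Z) z)
      (H24Hilb.Closed.pushStalk_bijective ι (Coh.structureModule Z) z)
  let e2 : Z.presheaf.stalk z ≃ₗ[Z.presheaf.stalk z] (Coh.structureModule Z).presheaf.stalk z :=
    LinearEquiv.ofBijective (LinearMap.toSpanSingleton _ _ (H06EGA9.oneStalk z)) (H06EGA9.bijective_smul_oneStalk z)
  { e1.trans e2.symm.toAddEquiv with
    map_smul' := fun r σ => by
      show e2.symm (H24Hilb.Closed.pushStalk ι (Coh.structureModule Z) z (r • σ)) =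
        r • e2.symm (H24Hilb.Closed.pushStalk ι (Coh.structureModule Z) z σ)
      rw [H24Hilb.Closed.pushStalk_smul, map_smul]
      rfl }

theorem isAssociatedPrime_pushO (z : Z)
    (h : IsAssociatedPrime (maximalIdeal (Y.presheaf.stalk (ι z))) ((pushO ι).presheaf.stalk (ι z))) :
    IsAssociatedPrime (maximalIdeal (Z.presheaf.stalk z)) (Z.presheaf.stalk z) := by
  letI := (ι.stalkMap z).hom.toAlgebra
  obtain ⟨-, m, hm⟩ := h
  refine ⟨(maximalIdeal.isMaximal _).isPrime, pushOStalk ι z m, ?_⟩
  have hs : Function.Surjective (ι.stalkMap z).hom := ι.stalkMap_surjective z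
  refine Ideal.comap_injective_of_surjective _ hs ?_
  rw [Ideal.comap_radical, IsLocalRing.maximalIdeal_comap, hm]
  congr 1
  ext r
  rw [Ideal.mem_comap, Submodule.mem_colon_singleton, Submodule.mem_colon_singleton, Submodule.mem_bot, Submodule.mem_bot]
  show r • m = 0 ↔ (ι.stalkMap z).hom r • pushOStalk ι z m = 0
  rw [show (ι.stalkMap z).hom r • pushOStalk ι z m = pushOStalk ι z (r • m) from (map_smul (pushOStalk ι z) r m).symm,
    LinearEquiv.map_eq_zero_iff]

theorem nontrivial_range (y : Y) (h : Nontrivial ((pushO ι).presheaf.stalk y)) : y ∈ Set.range ι := by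
  by_contra hn
  haveI := H24Hilb.Closed.subsingleton_stalk_push ι (Coh.structureModule Z) y hn
  exact not_subsingleton ((pushO ι).presheaf.stalk y) inferInstance

section P1

attribute [local instance] H06Mod.stalkAlgebra

variable {X : Scheme.{u}} (j : Z ⟶ CohB1.ProjSpaceOver 1 X) [IsClosedImmersion j]

theorem mem_range_of_fibre (i : Fin (1 + 1)) (x : X)
    (h : Nontrivial (((Scheme.Modules.pullback (P1.sect X i)).obj (pushO j)).presheaf.stalk x)) :
    ∃ z, j z = P1.sect X i x := by
  refine nontrivial_range j _ ?_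
  by_contra hn
  rw [not_nontrivial_iff_subsingleton] at hn
  haveI : Subsingleton ((pushO j).presheaf.stalk ((P1.sect X i).base x)) := hn
  haveI : Subsingleton (X.presheaf.stalk x ⊗[(CohB1.ProjSpaceOver 1 X).presheaf.stalk ((P1.sect X i).base x)]
      (pushO j).presheaf.stalk ((P1.sect X i).base x)) :=
    subsingleton_of_forall_eq 0 fun t => by
      induction t with
      | zero => rfl
      | tmul a b => rw [Subsingleton.elim b 0, TensorProduct.tmul_zero]
      | add a b ha hb => rw [ha, hb, add_zero]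
  haveI := (H06Mod.pullStalkEquiv (P1.sect X i) (pushO j) x).symm.toEquiv.subsingleton
  exact not_subsingleton (((Scheme.Modules.pullback (P1.sect X i)).obj (pushO j)).presheaf.stalk x) inferInstance

theorem sheafFun_fib (δ : X → ℤ) (k : ℤ) (i : Fin (1 + 1)) (x : X) :
    Cyc.sheafFun δ k ((Scheme.Modules.pullback (P1.sect X i)).obj (pushO j)) x =
      Cyc.subschemeFun δ k (pullback.snd j (P1.sect X i)) x := by
  by_cases hx : δ x = k
  swap
  · simp only [Cyc.sheafFun, Cyc.subschemeFun, if_neg hx]
  rw [subscheme_fib j k i x hx]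
  simp only [Cyc.sheafFun, if_pos hx]
  by_cases hz : ∃ z, j z = P1.sect X i x
  · obtain ⟨z, hz⟩ := hz
    rw [show {z' | j z' = P1.sect X i x} = {z} from Set.ext fun z' =>
      ⟨fun e => j.isEmbedding.injective (e.trans hz.symm), fun e => e ▸ hz⟩, finsum_mem_singleton]
    have key : ∀ (p : ↥(CohB1.ProjSpaceOver 1 X)) (hp : p = j z) (hU : p ∈ U X i),
        ((Module.length ((CohB1.ProjSpaceOver 1 X).presheaf.stalk p) ((pushO j).presheaf.stalk p ⧸
          germC i p hU • (⊤ : Submodule ((CohB1.ProjSpaceOver 1 X).presheaf.stalk p) ((pushO j).presheaf.stalk p)))).toNat : ℤ) =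
          fibLen j i z := by
      rintro p rfl hU
      letI := (j.stalkMap z).hom.toAlgebra
      rw [fibLen_of_mem j hU]
      congr 2
      let A := (CohB1.ProjSpaceOver 1 X).presheaf.stalk (j z)
      let a : A := germC i (j z) hU
      have h1 : Submodule.map (pushOStalk j z : (pushO j).presheaf.stalk (j z) →ₗ[A] Z.presheaf.stalk z) (a • ⊤) =
          (Ideal.span {fibEq j i z hU}).restrictScalars A := by
        rw [Submodule.map_pointwise_smul, Submodule.map_top, LinearEquiv.range]
        ext t
        rw [Submodule.mem_smul_pointwise_iff_exists, Submodule.restrictScalars_mem, Ideal.mem_span_singleton']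
        constructor
        · rintro ⟨s, -, rfl⟩
          exact ⟨s, mul_comm _ _⟩
        · rintro ⟨s, rfl⟩
          exact ⟨s, trivial, mul_comm _ _⟩
      rw [(Submodule.Quotient.equiv _ _ (pushOStalk j z) h1).length_eq,
        (Submodule.Quotient.restrictScalarsEquiv A (Ideal.span {fibEq j i z hU})).length_eq,
        Module.length_eq_of_surjective (S := A) (R := Z.presheaf.stalk z) (j.stalkMap_surjective z)]
    have hU := (mem_U_of_mem_range (i := i) (p := P1.sect X i x) ⟨x, rfl⟩).1
    rw [length_stalk_sect i (pushO j) x hU]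
    exact key _ hz.symm hU
  · refine Eq.trans ?_ (finsum_mem_eq_zero_of_forall_eq_zero (s := {z | j z = P1.sect X i x}) fun z hz' => (hz ⟨z, hz'⟩).elim).symm
    rcases subsingleton_or_nontrivial (((Scheme.Modules.pullback (P1.sect X i)).obj (pushO j)).presheaf.stalk x) with h | h
    · rw [Module.length_eq_zero]; rfl
    · exact (hz (mem_range_of_fibre j i x h)).elim

/-- **The fibres of a closed subscheme.** -/
theorem ratEquiv_fibres_closed {δ : X → ℤ} {δP : ↥(CohB1.ProjSpaceOver 1 X) → ℤ} (hX : Cyc.IsSetup X δ)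
    (hP : Cyc.DeltaCompat (CohB1.ProjSpaceOver.toBase 1 X) δP δ) (k : ℤ) (hZ : ∀ z : Z, δP (j z) ≤ k + 1)
    (hZ0 : ∀ z : Z, j z ∈ Set.range ⇑(P1.sect X 0) ∪ Set.range ⇑(P1.sect X 1) → δP (j z) ≤ k)
    (hemb : ∀ z : Z, IsAssociatedPrime (maximalIdeal (Z.presheaf.stalk z)) (Z.presheaf.stalk z) →
      j z ∉ Set.range ⇑(P1.sect X 0) ∪ Set.range ⇑(P1.sect X 1) ∨ δP (j z) < k)
    (α β : AlgebraicCycle X ℤ) (hα : ⇑α = Cyc.subschemeFun δ k (pullback.snd j (P1.sect X 0)))
    (hβ : ⇑β = Cyc.subschemeFun δ k (pullback.snd j (P1.sect X 1))) : Cyc.RatEquiv δ k α β := by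
  haveI := hX.1
  have hPs := isSetup_of_locallyOfFiniteType (CohB1.ProjSpaceOver.toBase 1 X) hX hP
  haveI := hPs.1
  haveI : IsLocallyNoetherian Z := LocallyOfFiniteType.isLocallyNoetherian j
  refine ratEquiv_fibres hX hP k (pushO j)
    (H10Coh.isCoh_push_of_isFinite j (Coh.structureModule Z) (H10Coh.isCoh_structureModule' Z)) ?_ ?_ ?_ α β
    (fun x => by rw [hα, sheafFun_fib]) (fun x => by rw [hβ, sheafFun_fib])
  · intro p hp
    obtain ⟨z, rfl⟩ := nontrivial_range j p hp
    exact hZ z
  · intro i x hx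
    obtain ⟨z, hz⟩ := mem_range_of_fibre j i x hx
    rw [← delta_sect hP i x, ← hz]
    refine hZ0 z ?_
    rw [hz]
    fin_cases i
    · exact Or.inl ⟨x, rfl⟩
    · exact Or.inr ⟨x, rfl⟩
  · intro p hp
    have hnt : Nontrivial ((pushO j).presheaf.stalk p) := by
      by_contra hn
      rw [not_nontrivial_iff_subsingleton] at hn
      exact not_isAssociatedPrime_of_subsingleton hp
    obtain ⟨z, rfl⟩ := nontrivial_range j p hnt
    exact hemb z (isAssociatedPrime_pushO j z hp)

end P1

end Groth.Agent.H3Cyc.P1C
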