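import Groth.Agent.H3Cyc.P1Fib
import Groth.Agent.H3Cyc.PushRat
import Groth.Agent.H3Cyc.RatSplit
import Groth.Agent.H3Cyc.SetupLft
import Groth.Agent.H3Cyc.Gysin
import Groth.Agent.H27Weil.Geometry
import Mathlib

/-!
# The cycle identity for the fibres over `0` and `∞`
-/

set_option autoImplicit false
set_option linter.style.haveILetI false
set_option backward.isDefEq.respectTransparency.types false
universe u

open AlgebraicGeometry CategoryTheory CategoryTheory.Limits
open scoped Classical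

namespace Groth.Agent.H3Cyc.P1C

variable {X Z : Scheme.{u}} {δ : X → ℤ} {δP : ↥(CohB1.ProjSpaceOver 1 X) → ℤ}

theorem delta_sect (hP : Cyc.DeltaCompat (CohB1.ProjSpaceOver.toBase 1 X) δP δ) (i : Fin (1 + 1)) (x : X) :
    δP (P1.sect X i x) = δ x := by
  obtain ⟨n, hn, he⟩ := hP (P1.sect X i x)
  have hx : CohB1.ProjSpaceOver.toBase 1 X (P1.sect X i x) = x := by
    rw [← Scheme.Hom.comp_apply, sect_toBase]; rfl
  have h1 := Reduction.td_comp (P1.sect X i) (CohB1.ProjSpaceOver.toBase 1 X) x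
  have h2 : Reduction.td (P1.sect X i ≫ CohB1.ProjSpaceOver.toBase 1 X) x = 0 := by
    rw [sect_toBase]; exact Reduction.td_immersion (𝟙 X) x
  rw [h2, add_eq_zero] at h1
  have h3 : n = 0 := by
    have h4 : (n : Cardinal.{u}) = 0 := hn.symm.trans h1.1
    exact_mod_cast h4
  rw [he, hx, h3]
  simp

variable (ι : Z ⟶ CohB1.ProjSpaceOver 1 X)

/-- The length of the fibre at `i` at a point of `Z`. -/
noncomputable def fibLen (i : Fin (1 + 1)) (z : Z) : ℤ := by
  classical
  exact if h : ι z ∈ U X i then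
    ((Module.length (Z.presheaf.stalk z) (Z.presheaf.stalk z ⧸ Ideal.span {fibEq ι i z h})).toNat : ℤ) else 0

theorem fibLen_of_mem {i : Fin (1 + 1)} {z : Z} (h : ι z ∈ U X i) :
    fibLen ι i z =
      ((Module.length (Z.presheaf.stalk z) (Z.presheaf.stalk z ⧸ Ideal.span {fibEq ι i z h})).toNat : ℤ) := by
  rw [fibLen, dif_pos h]

theorem length_stalk_fib (i : Fin (1 + 1)) (w : ↥(pullback ι (P1.sect X i)))
    (h : ι (pullback.fst ι (P1.sect X i) w) ∈ U X i) :
    Module.length ((pullback ι (P1.sect X i)).presheaf.stalk w) ((pullback ι (P1.sect X i)).presheaf.stalk w) =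
      Module.length (Z.presheaf.stalk (pullback.fst ι (P1.sect X i) w))
        (Z.presheaf.stalk (pullback.fst ι (P1.sect X i) w) ⧸ Ideal.span {fibEq ι i _ h}) := by
  haveI : IsClosedImmersion (pullback.fst ι (P1.sect X i)) :=
    MorphismProperty.pullback_fst (P := @IsClosedImmersion) ι (P1.sect X i) inferInstance
  letI := ((pullback.fst ι (P1.sect X i)).stalkMap w).hom.toAlgebra
  rw [← Module.length_eq_of_surjective (S := Z.presheaf.stalk (pullback.fst ι (P1.sect X i) w))
    (R := (pullback ι (P1.sect X i)).presheaf.stalk w) ((pullback.fst ι (P1.sect X i)).stalkMap_surjective w)]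
  exact ((Submodule.quotEquivOfEq _ _ (ker_fst_stalkMap ι i w h).symm).trans
    (Ideal.quotientKerAlgEquivOfSurjective
      (f := Algebra.ofId (Z.presheaf.stalk (pullback.fst ι (P1.sect X i) w)) ((pullback ι (P1.sect X i)).presheaf.stalk w))
      ((pullback.fst ι (P1.sect X i)).stalkMap_surjective w)).toLinearEquiv).length_eq.symm

theorem subscheme_fib [IsClosedImmersion ι] (k : ℤ) (i : Fin (1 + 1)) (x : X) (hx : δ x = k) :
    Cyc.subschemeFun δ k (pullback.snd ι (P1.sect X i)) x = ∑ᶠ z ∈ {z : Z | ι z = P1.sect X i x}, fibLen ι i z := by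
  haveI : IsClosedImmersion (pullback.snd ι (P1.sect X i)) :=
    MorphismProperty.pullback_snd (P := @IsClosedImmersion) ι (P1.sect X i) inferInstance
  simp only [Cyc.subschemeFun, hx, if_true]
  by_cases h : ∃ z, ι z = P1.sect X i x
  · obtain ⟨z, hz⟩ := h
    obtain ⟨w, hw1, hw2⟩ := Scheme.Pullback.exists_preimage_pullback z x hz
    rw [show {w' | pullback.snd ι (P1.sect X i) w' = x} = {w} from Set.ext fun w' =>
        ⟨fun e => (pullback.snd ι (P1.sect X i)).isEmbedding.injective (e.trans hw2.symm), fun e => e ▸ hw2⟩,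
      show {z' | ι z' = P1.sect X i x} = {z} from Set.ext fun z' =>
        ⟨fun e => ι.isEmbedding.injective (e.trans hz.symm), fun e => e ▸ hz⟩,
      finsum_mem_singleton, finsum_mem_singleton]
    subst hw1
    have hU := (mem_U_of_mem_range ⟨x, hz.symm⟩).1
    rw [fibLen_of_mem ι hU, length_stalk_fib ι i w hU]
  · rw [finsum_mem_eq_zero_of_forall_eq_zero, finsum_mem_eq_zero_of_forall_eq_zero]
    · exact fun z hz => (h ⟨z, hz⟩).elim
    · intro w hw
      exact (h ⟨pullback.fst ι (P1.sect X i) w, by rw [fst_mem, show pullback.snd ι (P1.sect X i) w = x from hw]⟩).elim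

section integral

variable [IsIntegral Z] [IsClosedImmersion ι]

theorem generic_mem (h : ∀ i, ι (genericPoint Z) ∉ Set.range (P1.sect X i)) (i : Fin (1 + 1)) :
    ι (genericPoint Z) ∈ U X i :=
  mem_U_of_notMem_range (h _)

/-- The rational function `T₁ / T₀` on `Z`. -/
noncomputable def coordFun (h : ∀ i, ι (genericPoint Z) ∉ Set.range (P1.sect X i)) : Z.functionField :=
  fibEq ι 0 (genericPoint Z) (generic_mem ι h 0)

theorem isUnit_fibEq_generic (h : ∀ i, ι (genericPoint Z) ∉ Set.range (P1.sect X i)) (i : Fin (1 + 1)) :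
    IsUnit (fibEq ι i (genericPoint Z) (generic_mem ι h i)) :=
  IsUnit.of_mul_eq_one _ (fibEq_mul ι i (genericPoint Z) (generic_mem ι h i) (generic_mem ι h (opp i)))

theorem residue_coordFun_ne_zero (h : ∀ i, ι (genericPoint Z) ∉ Set.range (P1.sect X i)) :
    Z.residue (genericPoint Z) (coordFun ι h) ≠ 0 :=
  ((isUnit_fibEq_generic ι h 0).map (Z.residue (genericPoint Z)).hom).ne_zero

theorem fibEq_mem_nonZeroDivisors (h : ∀ i, ι (genericPoint Z) ∉ Set.range (P1.sect X i)) {i : Fin (1 + 1)} {z : Z}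
    (hz : ι z ∈ U X i) : fibEq ι i z hz ∈ nonZeroDivisors (Z.presheaf.stalk z) := by
  refine mem_nonZeroDivisors_of_ne_zero fun e => (isUnit_fibEq_generic ι h i).ne_zero ?_
  rw [← fibEq_specializes ι i (genericPoint_specializes z) hz, e, map_zero]

theorem divFun_coord (hX : Cyc.IsDimFun Z fun z => δP (ι z)) (k : ℤ) (hk : δP (ι (genericPoint Z)) = k + 1)
    (h : ∀ i, ι (genericPoint Z) ∉ Set.range (P1.sect X i)) [IsLocallyNoetherian Z] (z : Z) (hz : δP (ι z) = k) :
    Cyc.divFun (fun z => δP (ι z)) (genericPoint Z) (Z.residue _ (coordFun ι h)) z =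
      (if ι z ∈ Set.range (P1.sect X 0) then fibLen ι 0 z else 0) -
        (if ι z ∈ Set.range (P1.sect X 1) then fibLen ι 1 z else 0) := by
  classical
  have hz' : δP (ι z) = k + 1 - 1 := by omega
  by_cases h1 : ι z ∈ Set.range (P1.sect X 1)
  · have h0 : ι z ∉ Set.range (P1.sect X 0) := fun e => notMem_U_opp h1 (mem_U_of_mem_range e).1
    obtain ⟨hU, -⟩ := mem_U_of_mem_range h1
    rw [if_neg h0, if_pos h1, CommLocal.divFun_generic hX hk z hz' (coordFun ι h) (one_mem _)
      (fibEq_mem_nonZeroDivisors ι h hU) ?_, Ring.ord_one, fibLen_of_mem ι hU]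
    · simp [Ring.ord]
    · rw [map_one]
      show coordFun ι h * Z.presheaf.stalkSpecializes _ (fibEq ι 1 z hU) = 1
      rw [fibEq_specializes]
      exact fibEq_mul ι 0 _ _ _
  · have hU : ι z ∈ U X 0 := mem_U_of_notMem_range h1
    rw [if_neg h1, sub_zero, CommLocal.divFun_generic hX hk z hz' (coordFun ι h)
      (fibEq_mem_nonZeroDivisors ι h hU) (one_mem _) ?_, Ring.ord_one]
    · by_cases h0 : ι z ∈ Set.range (P1.sect X 0)
      · rw [if_pos h0, fibLen_of_mem ι hU]
        simp [Ring.ord]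
      · have hu : IsUnit (fibEq ι 0 z hU) := (mem_U_opp hU h0).2.map (ι.stalkMap z).hom
        rw [if_neg h0, Ring.ord_of_isUnit hu]
        simp
    · rw [map_one, mul_one]
      show coordFun ι h = Z.presheaf.stalkSpecializes _ (fibEq ι 0 z hU)
      rw [fibEq_specializes]
      rfl

/-- **The pushforward of the divisor of `T₁ / T₀` is the difference of the fibres.** -/
theorem fib_sub_eq_pushDiv (hX : Cyc.IsSetup X δ) (hP : Cyc.DeltaCompat (CohB1.ProjSpaceOver.toBase 1 X) δP δ)
    (k : ℤ) (hk : δP (ι (genericPoint Z)) = k + 1) (h : ∀ i, ι (genericPoint Z) ∉ Set.range (P1.sect X i)) (x : X) :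
    Cyc.subschemeFun δ k (pullback.snd ι (P1.sect X 0)) x - Cyc.subschemeFun δ k (pullback.snd ι (P1.sect X 1)) x =
      PushRat.pushDiv (ι ≫ CohB1.ProjSpaceOver.toBase 1 X) (fun z => δP (ι z)) δ (genericPoint Z)
        (Z.residue _ (coordFun ι h)) x := by
  classical
  have hPs := isSetup_of_locallyOfFiniteType (CohB1.ProjSpaceOver.toBase 1 X) hX hP
  have hZs := Reduction.isSetup_closedImmersion ι hPs
  haveI := hZs.1
  unfold PushRat.pushDiv
  set π := ι ≫ CohB1.ProjSpaceOver.toBase 1 X with hπ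
  set D := Cyc.divFun (fun z => δP (ι z)) (genericPoint Z) (Z.residue _ (coordFun ι h)) with hD
  have hDk : ∀ z, D z ≠ 0 → δP (ι z) = k := fun z hz => by
    by_contra hne
    refine hz ?_
    rw [hD]
    simp only [Cyc.divFun]
    rw [dif_neg fun hh => hne (by have := hh.2; omega)]
  by_cases hx : δ x = k
  swap
  · simp only [Cyc.subschemeFun, hx, if_false, sub_zero]
    refine (finsum_mem_eq_zero_of_forall_eq_zero fun z hz => ?_).symm
    by_cases hz0 : D z = 0
    · rw [hz0, zero_mul]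
    · rw [AlgebraicCycle.mapCoeff, if_neg]
      · simp
      · intro e
        exact hx (by rw [← show π z = x from hz, ← e, hDk z hz0])
  have hS : ∀ (i : Fin (1 + 1)) (z : Z), ι z = P1.sect X i x →
      π z = x ∧ δP (ι z) = k ∧ ((AlgebraicCycle.mapCoeff π (fun z => δP (ι z)) δ z : ℕ) : ℤ) = 1 := by
    intro i z hz
    have h1 : π z = x := by rw [hπ, Scheme.Hom.comp_apply, hz, ← Scheme.Hom.comp_apply, sect_toBase]; rfl
    have h2 : δP (ι z) = k := by rw [hz, delta_sect hP, hx]
    refine ⟨h1, h2, ?_⟩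
    obtain ⟨w, hw1, -⟩ := Scheme.Pullback.exists_preimage_pullback z x hz
    haveI : IsClosedImmersion (pullback.fst ι (P1.sect X i)) :=
      MorphismProperty.pullback_fst (P := @IsClosedImmersion) ι (P1.sect X i) inferInstance
    haveI : IsClosedImmersion (pullback.snd ι (P1.sect X i)) :=
      MorphismProperty.pullback_snd (P := @IsClosedImmersion) ι (P1.sect X i) inferInstance
    have e : pullback.fst ι (P1.sect X i) ≫ π = pullback.snd ι (P1.sect X i) := by
      rw [hπ, ← Category.assoc, pullback.condition, Category.assoc, sect_toBase, Category.comp_id]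
    rw [AlgebraicCycle.mapCoeff, if_pos (by show δP (ι z) = δ (π z); rw [h1, h2, hx]), ← hw1,
      ← Gysin.residueDegree_immersion_comp (pullback.fst ι (P1.sect X i)) π w, e, Gysin.residueDegree_immersion]
    simp
  have hfib : ∀ (i : Fin (1 + 1)), {z : Z | ι z = P1.sect X i x}.Subsingleton := fun i z hz z' hz' =>
    ι.isEmbedding.injective (hz.trans hz'.symm)
  rw [subscheme_fib ι k 0 x hx, subscheme_fib ι k 1 x hx]
  have hdisj : Disjoint {z : Z | ι z = P1.sect X 0 x} {z : Z | ι z = P1.sect X 1 x} :=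
    Set.disjoint_left.mpr fun z h0 h1 => notMem_U_opp (i := 1) ⟨x, h1.symm⟩ (mem_U_of_mem_range (i := 0) ⟨x, h0.symm⟩).1
  have hval : ∀ z, π z = x → D z * ((AlgebraicCycle.mapCoeff π (fun z => δP (ι z)) δ z : ℕ) : ℤ) ≠ 0 →
      z ∈ {z : Z | ι z = P1.sect X 0 x} ∪ {z : Z | ι z = P1.sect X 1 x} := by
    intro z hzx hne
    have hk' := hDk z (left_ne_zero_of_mul hne)
    have hne' := left_ne_zero_of_mul hne
    rw [hD, divFun_coord ι hZs.2.2 k hk h z hk'] at hne'
    have hin : ∀ i, ι z ∈ Set.range (P1.sect X i) → ι z = P1.sect X i x := fun i hi => by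
      obtain ⟨y, hy⟩ := hi
      rw [← hy]
      congr 1
      rw [← hzx, hπ, Scheme.Hom.comp_apply, ← hy, ← Scheme.Hom.comp_apply, sect_toBase]; rfl
    by_cases h0 : ι z ∈ Set.range (P1.sect X 0)
    · exact Or.inl (hin 0 h0)
    · rw [if_neg h0] at hne'
      by_cases h1 : ι z ∈ Set.range (P1.sect X 1)
      · exact Or.inr (hin 1 h1)
      · rw [if_neg h1] at hne'; exact absurd (sub_zero (0 : ℤ)) hne'
  rw [finsum_mem_inter_support_eq' _ (π ⁻¹' {x}) ({z : Z | ι z = P1.sect X 0 x} ∪ {z : Z | ι z = P1.sect X 1 x})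
    (fun z hz => ⟨fun hzx => hval z hzx hz, fun e => e.elim (fun e => (hS 0 z e).1) (fun e => (hS 1 z e).1)⟩),
    finsum_mem_union hdisj (hfib 0).finite (hfib 1).finite, sub_eq_add_neg, ← finsum_mem_neg_distrib _ (hfib 1).finite]
  congr 1
  · refine (finsum_mem_congr rfl fun z hz => ?_).symm
    obtain ⟨-, h2, h3⟩ := hS 0 z hz
    rw [h3, mul_one, hD, divFun_coord ι hZs.2.2 k hk h z h2, if_pos ⟨x, hz.symm⟩,
      if_neg fun h1 => notMem_U_opp (i := 1) h1 (mem_U_of_mem_range (i := 0) ⟨x, hz.symm⟩).1, sub_zero]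
  · refine (finsum_mem_congr rfl fun z hz => ?_).symm
    obtain ⟨-, h2, h3⟩ := hS 1 z hz
    have hz1 : ι z ∈ Set.range (P1.sect X 1) := ⟨x, hz.symm⟩
    have hz0 : ι z ∉ Set.range (P1.sect X 0) := fun h0 => notMem_U_opp hz1 (mem_U_of_mem_range h0).1
    rw [h3, mul_one, hD, divFun_coord ι hZs.2.2 k hk h z h2, if_pos hz1, if_neg hz0, zero_sub]

end integral

end Groth.Agent.H3Cyc.P1C
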