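import Groth.Agent.H3Cyc.P1Prod
import Groth.Agent.H3Cyc.P1Closed
import Groth.Agent.H3Cyc.KCls
import Groth.Agent.H3CAlg.ChiTriple
import Groth.Agent.H3CAlg.ChiPull
import Groth.Agent.H3CAlg.TorRestrict
import Groth.Agent.H3CAlg.TorRegular
import Groth.Agent.H19Grp.RegularSmooth
import Groth.Agent.S12676
import Mathlib

/-!
# Families of cycles over `P¹`: the fibres of an intersection product
-/

set_option autoImplicit false
set_option linter.style.haveILetI false
set_option linter.unusedSectionVars false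
set_option backward.isDefEq.respectTransparency.types false
universe u

open AlgebraicGeometry CategoryTheory CategoryTheory.Limits IsLocalRing
open scoped Pointwise TensorProduct

namespace Groth.Agent.H3Cyc.P1Fam

attribute [local instance] HasDerivedCategory.standard

variable {K : Type u} [Field K] {X : Scheme.{u}} (f : X ⟶ Spec (CommRingCat.of K)) [Smooth f] [IsIntegral X]
  {δ : X → ℤ} {δP : ↥(CohB1.ProjSpaceOver 1 X) → ℤ}

/-- A closed set meeting a section in dimension `≤ k` has dimension `≤ k + 1` there. -/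
theorem delta_le [IsIntegral (CohB1.ProjSpaceOver 1 X)] (hPK : Cyc.DeltaCompat (CohB1.ProjSpaceOver.toBase 1 X ≫ f) δP (fun _ => 0))
    (i : Fin (1 + 1)) (k : ℤ) (ξ p : ↥(CohB1.ProjSpaceOver 1 X)) (hs : ξ ⤳ p) (hp : p ∈ Set.range (P1.sect X i))
    (hk : δP p = k) (hb : ∀ η, ξ ⤳ η → η ⤳ p → η ∈ Set.range (P1.sect X i) → δP η ≤ k) : δP ξ ≤ k + 1 := by
  by_cases hξ : ξ ∈ Set.range (P1.sect X i)
  · linarith [hb ξ specializes_rfl hs hξ]
  haveI : IsLocallyNoetherian (CohB1.ProjSpaceOver 1 X) :=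
    LocallyOfFiniteType.isLocallyNoetherian (CohB1.ProjSpaceOver.toBase 1 X ≫ f)
  obtain ⟨a, ha, ha'⟩ := H3CAlg.IntPt.delta_eq_cdim (CohB1.ProjSpaceOver.toBase 1 X ≫ f) δP hPK ξ
  obtain ⟨b, hb', hb''⟩ := H3CAlg.IntPt.delta_eq_cdim (CohB1.ProjSpaceOver.toBase 1 X ≫ f) δP hPK p
  obtain ⟨d, hd, hda⟩ := H3CAlg.IntPt.ringKrullDim_quotient_ptIdeal (CohB1.ProjSpaceOver.toBase 1 X ≫ f) hs ha hb'
  obtain ⟨hU, hm⟩ := P1C.mem_U_of_mem_range hp
  change P1C.germC i p hU ∈ _ at hm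
  let A := (CohB1.ProjSpaceOver 1 X).presheaf.stalk p
  let I := IntMult.stalkIdeal (IntMult.ptIdeal ξ) p
  haveI hI : I.IsPrime := H3CAlg.IntPt.stalkIdeal_ptIdeal_prime hs
  let c : A ⧸ I := Ideal.Quotient.mk I (P1C.germC i p hU)
  haveI : Nontrivial (A ⧸ I) := Ideal.Quotient.nontrivial_iff.mpr hI.ne_top
  haveI : IsLocalRing (A ⧸ I) := IsLocalRing.of_surjective' (Ideal.Quotient.mk I) Ideal.Quotient.mk_surjective
  have hmax : maximalIdeal (A ⧸ I) ∈ (Ideal.span {c}).minimalPrimes := by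
    refine ⟨⟨(maximalIdeal.isMaximal _).isPrime, ?_⟩, fun J hJ hle => ?_⟩
    · rw [Ideal.span_singleton_le_iff_mem, mem_maximalIdeal, mem_nonunits_iff]
      exact fun hu => (mem_nonunits_iff.mp ((mem_maximalIdeal _).mp hm))
        (haveI : IsLocalHom (Ideal.Quotient.mk I) := IsLocalHom.of_surjective _ Ideal.Quotient.mk_surjective
         isUnit_of_map_unit (Ideal.Quotient.mk I) _ hu)
    · haveI := hJ.1
      let P : PrimeSpectrum A := ⟨J.comap (Ideal.Quotient.mk I), hJ.1.comap _⟩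
      obtain ⟨η, hη, hηP⟩ := H3CAlg.ChiStalk.exists_generization P
      have hIP : I ≤ P.asIdeal := fun r hr => by
        show Ideal.Quotient.mk I r ∈ J
        rw [Ideal.Quotient.eq_zero_iff_mem.mpr hr]
        exact J.zero_mem
      haveI : CompactSpace ↥(Spec (CommRingCat.of A)) := inferInstance
      have hξη : ξ ⤳ η := by
        obtain ⟨e⟩ := H3CAlg.PrimeMod.stalk_primeMod hs
        have h1 := (H3CAlg.IntLocal.stalkIdeal_le_iff (IntMult.ptIdeal ξ)
          (hs.mem_closed (IntMult.ptIdeal ξ).support.isClosed (H3CAlg.ProdPt.mem_support_ptIdeal ξ)) P).mp hIP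
        obtain ⟨hsP, hker⟩ := GenStalk.ker_specMap_fromSpecStalk p P
        have hη' : (CohB1.ProjSpaceOver 1 X).fromSpecStalk p P = η := by
          refine H3CAlg.IntPt.stalkIdeal_ptIdeal_injective hsP hη ?_
          rw [hηP]
          refine le_antisymm ?_ ?_
          · exact (H3CAlg.IntLocal.stalkIdeal_le_iff _ (hsP.mem_closed (IntMult.ptIdeal _).support.isClosed
              (H3CAlg.ProdPt.mem_support_ptIdeal _)) P).mpr (H3CAlg.ProdPt.mem_support_ptIdeal _)
          · rw [← hηP]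
            refine H3CAlg.IntPt.stalkIdeal_le_of_mem_support _ hsP ?_
            exact (H3CAlg.IntLocal.stalkIdeal_le_iff _
              (hη.mem_closed (IntMult.ptIdeal _).support.isClosed (H3CAlg.ProdPt.mem_support_ptIdeal _)) P).mp hηP.le
        rw [← hη']
        exact H3CAlg.ProdPt.specializes_of_mem_support h1
      have hηr : η ∈ Set.range (P1.sect X i) := by
        refine P1C.mem_range_sect (hη.mem_open (P1C.U X i).2 hU) ?_
        show P1C.germC i η _ ∈ maximalIdeal _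
        rw [← H3CAlg.IntPt.stalkIdeal_ptIdeal_self η, H29Ref.stalkIdeal_specializes _ hη,
          ← P1C.germC_specializes i hη hU]
        refine Ideal.mem_map_of_mem _ ?_
        rw [hηP]
        exact hJ.2 (Ideal.mem_span_singleton_self _)
      have hle' : δP η ≤ δP p := hk ▸ hb η hξη hη hηr
      have heq := (H3CAlg.ChiMain.eq_of_specializes (CohB1.ProjSpaceOver.toBase 1 X ≫ f) δP hPK hη).2 hle'
      rw [← Ideal.map_comap_of_surjective _ Ideal.Quotient.mk_surjective J,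
        ← Ideal.map_comap_of_surjective _ Ideal.Quotient.mk_surjective (maximalIdeal (A ⧸ I))]
      refine Ideal.map_mono ?_
      show _ ≤ P.asIdeal
      rw [← hηP, heq, H3CAlg.IntPt.stalkIdeal_ptIdeal_self]
      exact IsLocalRing.le_maximalIdeal (Ideal.comap_ne_top _ (maximalIdeal.isMaximal _).ne_top)
  have h1 := Ideal.height_le_one_of_isPrincipal_of_mem_minimalPrimes _ _ hmax
  have h2 : ringKrullDim (A ⧸ I) ≤ 1 := by
    rw [← IsLocalRing.maximalIdeal_height_eq_ringKrullDim]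
    exact_mod_cast h1
  rw [show ringKrullDim (A ⧸ I) = d from hd] at h2
  have h3 : d ≤ 1 := by exact_mod_cast h2
  omega

/-- `Tor` against a principal ideal. -/
theorem subsingleton_tor (A : Type u) [CommRing A] [IsNoetherianRing A] [IsDomain A] [IsLocalRing A] (Q : Ideal A)
    [Q.IsPrime] (c : A) (hc : c ∉ Q) (hm : c ∈ maximalIdeal A) (j : ℕ) :
    Subsingleton (DRing.Tor A (j + 1) (A ⧸ Ideal.span {c}) (A ⧸ Q)) := by
  have hc0 : c ≠ 0 := fun e => hc (e ▸ Q.zero_mem)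
  refine ModuleCat.subsingleton_of_isZero
    ((H3CAlg.Tor.regular_iff_tor_vanishing Q 1 (fun m => if m = 0 then ⊥ else Ideal.span {c}) (fun _ => c)
      (if_pos rfl) ?_ ?_ ?_).mp ?_ j)
  · intro m hm'
    obtain rfl : m = 0 := by omega
    simp
  · intro _ _
    rw [IsLocalRing.jacobson_eq_maximalIdeal ⊥ bot_ne_top]
    exact hm
  · intro m hm' a ha
    obtain rfl : m = 0 := by omega
    simp only [if_true, Ideal.mem_bot] at ha ⊢
    exact (mul_eq_zero.mp ha).resolve_left hc0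
  · intro m hm' a ha
    obtain rfl : m = 0 := by omega
    simp only [if_true, bot_sup_eq] at ha ⊢
    exact ((inferInstance : Q.IsPrime).mem_or_mem ha).resolve_left hc

variable (hP : Cyc.DeltaCompat (CohB1.ProjSpaceOver.toBase 1 X) δP δ)

/-- The length of the fibre of a prime cycle and of its structure sheaf agree. -/
theorem sheafFun_pushO [IsLocallyNoetherian X] {W : Scheme.{u}} [IsIntegral W] (j : W ⟶ CohB1.ProjSpaceOver 1 X) [IsClosedImmersion j]
    (s : ℤ) (i : Fin (1 + 1)) (x : X) :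
    Cyc.sheafFun δ s ((Scheme.Modules.pullback (P1.sect X i)).obj (H3CAlg.PrimeMod.primeMod (j (genericPoint W)))) x =
      Cyc.subschemeFun δ s (pullback.snd j (P1.sect X i)) x := by
  rw [← P1C.sheafFun_fib]
  by_cases hx : δ x = s
  swap
  · rw [KCls.sheafFun_of_ne hx, KCls.sheafFun_of_ne hx]
  rw [KCls.sheafFun_of_eq hx, KCls.sheafFun_of_eq hx]
  obtain ⟨hU, -⟩ := P1C.mem_U_of_mem_range (i := i) (p := P1.sect X i x) ⟨x, rfl⟩
  rw [P1C.length_stalk_sect i _ x hU, P1C.length_stalk_sect i _ x hU]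
  congr 2
  have key : Nonempty ((H3CAlg.PrimeMod.primeMod (j (genericPoint W))).presheaf.stalk (P1.sect X i x)
      ≃ₗ[(CohB1.ProjSpaceOver 1 X).presheaf.stalk (P1.sect X i x)] (P1C.pushO j).presheaf.stalk (P1.sect X i x)) := by
    by_cases hw : ∃ z, j z = P1.sect X i x
    · obtain ⟨z, hz⟩ := hw
      rw [← hz]
      have hs : j (genericPoint W) ⤳ j z := (genericPoint_specializes z).map j.continuous
      obtain ⟨e1⟩ := H3CAlg.PrimeMod.stalk_primeMod hs
      obtain ⟨e2⟩ := H3CAlg.PrimeMod.stalk_equiv j z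
      exact ⟨e1.trans ((Submodule.quotEquivOfEq _ _
        ((S12676.stalk_push_section j z).trans (H3CAlg.IntPt.stalkIdeal_ker j z).symm)).trans e2.symm)⟩
    · haveI : Subsingleton ((P1C.pushO j).presheaf.stalk (P1.sect X i x)) :=
        not_nontrivial_iff_subsingleton.mp fun h => hw (P1C.nontrivial_range j _ h)
      haveI : Subsingleton ((H3CAlg.PrimeMod.primeMod (j (genericPoint W))).presheaf.stalk (P1.sect X i x)) :=
        not_nontrivial_iff_subsingleton.mp fun h => hw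
          (((H3CAlg.PrimeMod.nontrivial_iff _ _).mp h).mem_closed j.isClosedEmbedding.isClosed_range ⟨_, rfl⟩)
      exact ⟨LinearEquiv.ofSubsingleton _ _⟩
  obtain ⟨e⟩ := key
  exact (Submodule.Quotient.equiv _ _ e
    (by rw [Submodule.map_pointwise_smul, Submodule.map_top, LinearEquiv.range])).length_eq

set_option maxHeartbeats 800000 in
/-- The intersection with a fibre of a family, at the level of local rings. -/
theorem chi_fibre (i : Fin (1 + 1)) (x : X) [IsNoetherian (CohB1.ProjSpaceOver 1 X)] [IsNoetherian X]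
    (v : X) (w : ↥(CohB1.ProjSpaceOver 1 X)) (hv : v ⤳ x) (hw : w ⤳ P1.sect X i x)
    (hU : P1.sect X i x ∈ P1C.U X i) :
    IntMult.chi (X.presheaf.stalk x) ((H3CAlg.PrimeMod.primeMod v).presheaf.stalk x)
        (((Scheme.Modules.pullback (P1.sect X i)).obj (H3CAlg.PrimeMod.primeMod w)).presheaf.stalk x) =
      IntMult.chi ((CohB1.ProjSpaceOver 1 X).presheaf.stalk (P1.sect X i x))
        ((CohB1.ProjSpaceOver 1 X).presheaf.stalk (P1.sect X i x) ⧸
          IntMult.stalkIdeal (IntMult.ptIdeal (H3CAlg.ProdPt.sig (CohB1.ProjSpaceOver.toBase 1 X) v)) (P1.sect X i x))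
        ((CohB1.ProjSpaceOver 1 X).presheaf.stalk (P1.sect X i x) ⧸
          (Ideal.span {P1C.germC i (P1.sect X i x) hU} ⊔ IntMult.stalkIdeal (IntMult.ptIdeal w) (P1.sect X i x))) := by
  let σ := P1.sect X i
  let B := X.presheaf.stalk x
  let A := (CohB1.ProjSpaceOver 1 X).presheaf.stalk (σ.base x)
  let T := ((Scheme.Modules.pullback (P1.sect X i)).obj (H3CAlg.PrimeMod.primeMod w)).presheaf.stalk x
  let M := (H3CAlg.PrimeMod.primeMod w).presheaf.stalk (σ.base x)
  let Iv : Ideal B := IntMult.stalkIdeal (IntMult.ptIdeal v) x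
  have hg : σ ≫ CohB1.ProjSpaceOver.toBase 1 X = 𝟙 X := P1C.sect_toBase X i
  haveI := P1Prod.flat_toBase X
  letI : Algebra B A := (H3CAlg.DiagStalk.leg σ _ hg x).hom.toAlgebra
  haveI : Module.Flat B A := H3CAlg.DiagStalk.flat_leg σ _ hg x
  letI : Algebra A B := H06Mod.stalkAlgebra σ x
  have hBA : ∀ b : B, algebraMap A B (algebraMap B A b) = b := fun b => by
    show (H3CAlg.DiagStalk.leg σ _ hg x ≫ σ.stalkMap x).hom b = b
    rw [H3CAlg.DiagStalk.leg_stalkMap]
    rfl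
  letI : Module A T := Module.compHom T (algebraMap A B)
  haveI : IsScalarTower A B T := IsScalarTower.of_algebraMap_smul fun _ _ => rfl
  haveI : IsScalarTower B A T := IsScalarTower.of_algebraMap_smul fun b t => by
    show algebraMap A B (algebraMap B A b) • t = b • t
    rw [hBA]
  have hsurj : Function.Surjective (algebraMap A B) := σ.stalkMap_surjective x
  let I : Ideal A := Ideal.span {P1C.germC i (σ x) hU}
  let eB : (A ⧸ I) ≃ₗ[A] B :=
    (Submodule.quotEquivOfEq _ _ (P1C.ker_sect_stalkMap i x hU).symm).trans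
      (Ideal.quotientKerAlgEquivOfSurjective (f := Algebra.ofId A B) hsurj).toLinearEquiv
  obtain ⟨eM⟩ := H3CAlg.PrimeMod.stalk_primeMod hw
  let eT : T ≃ₗ[A] A ⧸ (I ⊔ IntMult.stalkIdeal (IntMult.ptIdeal w) (σ x)) :=
    ((H06Mod.pullStalkEquiv σ (H3CAlg.PrimeMod.primeMod w) x).symm.restrictScalars A).trans <|
      (TensorProduct.congr eB.symm eM).trans <|
        (TensorProduct.quotTensorEquivQuotSMul (A ⧸ IntMult.stalkIdeal (IntMult.ptIdeal w) (σ x)) I).trans <|
          (Submodule.quotEquivOfEq _ _ (by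
            rw [Submodule.map_sup, Submodule.mkQ_map_self, sup_bot_eq,
              show (I • ⊤ : Submodule A (A ⧸ IntMult.stalkIdeal (IntMult.ptIdeal w) (σ x))) =
                Submodule.map (Submodule.mkQ _) (I • ⊤ : Submodule A A) by
                  rw [Submodule.map_smul'', Submodule.map_top, Submodule.range_mkQ],
              smul_eq_mul, Ideal.mul_top])).trans
            (Submodule.quotientQuotientEquivQuotient _ _ (le_sup_right (a := I)))
  haveI : Module.Finite A T := Module.Finite.equiv eT.symm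
  obtain ⟨eV⟩ := H3CAlg.PrimeMod.stalk_primeMod hv
  haveI : Module.Finite B (B ⧸ Iv) := inferInstance
  haveI : Module.Finite B T := H3CAlg.ChiStalk.finite_stalk _
    (H3CAlg.ChiPull.isCoh_pullback _ _ (H3CAlg.PrimeMod.isCoh_primeMod w)) x
  have hIv : Iv.map (algebraMap B A) =
      IntMult.stalkIdeal (IntMult.ptIdeal (H3CAlg.ProdPt.sig (CohB1.ProjSpaceOver.toBase 1 X) v)) (σ x) := by
    rw [P1Prod.stalkIdeal_sig v (show v ⤳ CohB1.ProjSpaceOver.toBase 1 X (σ x) by rwa [P1C.toBase_sect]),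
      ← H3CAlg.DiagStalk.stalkIdeal_comap, H3CAlg.DiagStalk.stalkIdeal_leg σ _ hg x]
    rfl
  rw [H3CAlg.TorComm.chi_comm B, H3CAlg.ChiDev.chi_congr (A := B) T eV, H3CAlg.TorComm.chi_comm B,
    ← H3CAlg.TorRestrict.chi_restrict (A := B) A T (B ⧸ Iv) (fun a => ⟨algebraMap A B a, fun t => rfl⟩),
    H3CAlg.ChiDev.chi_congr (A := A) _ eT, H3CAlg.TorComm.chi_comm A,
    H3CAlg.ChiDev.chi_congr (A := A) _ ((Algebra.TensorProduct.quotIdealMapEquivTensorQuot A Iv).toLinearEquiv.symm.trans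
      (Submodule.quotEquivOfEq _ _ hIv)), H3CAlg.TorComm.chi_comm A]

set_option maxHeartbeats 800000 in
/-- The fibre of an intersection product is the intersection product with the fibre. -/
theorem interProd_fibre (hδ : Cyc.DeltaCompat f δ (fun _ => 0)) (hX : Cyc.IsSetup X δ)
    (hPK : Cyc.DeltaCompat (CohB1.ProjSpaceOver.toBase 1 X ≫ f) δP (fun _ => 0))
    [IsNoetherian (CohB1.ProjSpaceOver 1 X)] [IsNoetherian X] [IsIntegral (CohB1.ProjSpaceOver 1 X)]
    (hP : Cyc.DeltaCompat (CohB1.ProjSpaceOver.toBase 1 X) δP δ)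
    (n : ℤ) (hn : δ (genericPoint X) = n) (r s k : ℤ) (hk : k = r + s - n) (v : X) (hv : δ v = r)
    (w : ↥(CohB1.ProjSpaceOver 1 X)) (hw : δP w = s + 1) (i : Fin (1 + 1)) (hwi : w ∉ Set.range (P1.sect X i))
    (hC : ∀ y : X, v ⤳ y → w ⤳ P1.sect X i y → δ y ≤ k) (x : X) (hx : δ x = k) :
    IntMult.interProd δP (n + 1) (Set.indicator {P1.sect X i (genericPoint X)} 1)
        (IntMult.interProd δP (n + 1) (Set.indicator {H3CAlg.ProdPt.sig (CohB1.ProjSpaceOver.toBase 1 X) v} 1)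
          (Set.indicator {w} 1)) (P1.sect X i x) =
      IntMult.interProd δ n (Set.indicator {v} 1)
        (Cyc.sheafFun δ s ((Scheme.Modules.pullback (P1.sect X i)).obj (H3CAlg.PrimeMod.primeMod w))) x := by
  classical
  set v' := H3CAlg.ProdPt.sig (CohB1.ProjSpaceOver.toBase 1 X) v with hv'
  set G := (Scheme.Modules.pullback (P1.sect X i)).obj (H3CAlg.PrimeMod.primeMod w) with hG'
  haveI : Smooth (CohB1.ProjSpaceOver.toBase 1 X ≫ f) := inferInstance
  have hvp : ∀ q, v' ⤳ q ↔ v ⤳ CohB1.ProjSpaceOver.toBase 1 X q := fun q => P1Prod.specializes_sig_iff v q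
  have hst : KFam.Strict δ := KFam.strict_of_isSetup hX
  have hwsect : ∀ y, Nontrivial (G.presheaf.stalk y) → w ⤳ P1.sect X i y := fun y hy =>
    (H3CAlg.PrimeMod.nontrivial_iff _ _).mp (H3CAlg.ChiPull.nontrivial_of_pullback _ _ _ hy)
  have hGs : ∀ y, Nontrivial (G.presheaf.stalk y) → δ y ≤ s := fun y hy => by
    have h1 := H3CAlg.ChiMain.eq_of_specializes (CohB1.ProjSpaceOver.toBase 1 X ≫ f) δP hPK (hwsect y hy)
    rw [P1C.delta_sect hP, hw] at h1
    by_contra h
    exact hwi ⟨y, (h1.2 (by omega)).symm⟩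
  by_cases hc : v ⤳ x ∧ w ⤳ P1.sect X i x
  swap
  · rw [H3CAlg.ChiTriple.interProd_single_left_eq_zero, H3CAlg.ChiTriple.interProd_single_left_eq_zero]
    · intro η hvx hη _
      by_contra hne
      exact hc ⟨hvx, (hwsect η (H3CAlg.ChiMain.nontrivial_of_sheafFun_ne_zero _ _ _ hne).2).trans
        (hη.map (P1.sect X i).continuous)⟩
    · intro η _ hη _
      by_contra hne
      obtain ⟨a, b, -⟩ := H3CAlg.ChiTriple.interProd_single_single_ne_zero δP (n + 1) v' w η hne
      refine hc ⟨?_, b.trans hη⟩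
      have h1 := (hvp _).mp (a.trans hη)
      rwa [P1C.toBase_sect] at h1
  obtain ⟨hvx, hwx⟩ := hc
  obtain ⟨hU, hm⟩ := P1C.mem_U_of_mem_range (i := i) (p := P1.sect X i x) ⟨x, rfl⟩
  change P1C.germC i (P1.sect X i x) hU ∈ _ at hm
  set z := P1.sect X i (genericPoint X) with hz
  have hzx : z ⤳ P1.sect X i x := (genericPoint_specializes x).map (P1.sect X i).continuous
  have hzr : ∀ η, z ⤳ η → η ∈ Set.range (P1.sect X i) := fun η h =>
    h.mem_closed (P1.sect X i).isClosedEmbedding.isClosed_range ⟨_, rfl⟩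
  have hv'x : v' ⤳ P1.sect X i x := (hvp _).mpr (by rw [P1C.toBase_sect]; exact hvx)
  have hsec : ∀ η, v' ⤳ η → w ⤳ η → η ∈ Set.range (P1.sect X i) → δP η ≤ k := by
    rintro η h1 h2 ⟨y, rfl⟩
    rw [P1C.delta_sect hP]
    refine hC y ?_ h2
    have h3 := (hvp _).mp h1
    rwa [P1C.toBase_sect] at h3
  have hPn : δP (genericPoint ↥(CohB1.ProjSpaceOver 1 X)) = n + 1 := by
    have hgen : H3CAlg.ProdPt.sig (CohB1.ProjSpaceOver.toBase 1 X) (genericPoint X) =
        genericPoint ↥(CohB1.ProjSpaceOver 1 X) :=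
      ((P1Prod.sig_specializes_of _ (genericPoint_specializes _)).antisymm (genericPoint_specializes _)).eq
    rw [← hgen, P1Prod.delta_sig hP, hn]
  have hδz : δP z = n := by rw [hz, P1C.delta_sect hP, hn]
  have hδv : δP v' = r + 1 := by rw [hv', P1Prod.delta_sig hP, hv]
  have hδx : δP (P1.sect X i x) = k := by rw [P1C.delta_sect hP, hx]
  rw [H3CAlg.ChiTriple.interProd_interProd' (CohB1.ProjSpaceOver.toBase 1 X ≫ f) δP hPK (n + 1) hPn z v' w
    (P1.sect X i x) hzx hv'x hwx (by omega) ?hvw ?huvw]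
  case hvw =>
    intro η hη h1 h2
    have := delta_le f hPK i k η (P1.sect X i x) hη ⟨x, rfl⟩ hδx fun ξ hξ _ hr =>
      hsec ξ (h1.trans hξ) (h2.trans hξ) hr
    omega
  case huvw =>
    intro η hz' h1 h2
    have := hsec η h1 h2 (hzr η hz')
    omega
  haveI : IsRegularLocalRing ((CohB1.ProjSpaceOver 1 X).presheaf.stalk (P1.sect X i x)) :=
    H19Grp.isRegularLocalRing_stalk_of_smooth (CohB1.ProjSpaceOver.toBase 1 X ≫ f) _
  haveI := H4Depth.isDomain_of_isRegularLocalRing ((CohB1.ProjSpaceOver 1 X).presheaf.stalk (P1.sect X i x))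
  set p := P1.sect X i x with hp
  set c := P1C.germC i p hU with hc'
  have hIz : IntMult.stalkIdeal (IntMult.ptIdeal z) p = Ideal.span {c} :=
    (S12676.stalk_push_section (P1.sect X i) x).trans (P1C.ker_sect_stalkMap i x hU)
  haveI hIw := H3CAlg.IntPt.stalkIdeal_ptIdeal_prime hwx
  have hcw : c ∉ IntMult.stalkIdeal (IntMult.ptIdeal w) p := fun hmem => by
    refine hwi (P1C.mem_range_sect (hwx.mem_open (P1C.U X i).2 hU) ?_)
    show P1C.germC i w _ ∈ maximalIdeal _
    rw [← H3CAlg.IntPt.stalkIdeal_ptIdeal_self w, H29Ref.stalkIdeal_specializes _ hwx,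
      ← P1C.germC_specializes i hwx hU]
    exact Ideal.mem_map_of_mem _ hmem
  obtain ⟨cn, hcn, -⟩ := H3CAlg.IntPt.delta_eq_cdim (CohB1.ProjSpaceOver.toBase 1 X ≫ f) δP hPK
    (genericPoint ↥(CohB1.ProjSpaceOver 1 X))
  obtain ⟨cz, hcz, -⟩ := H3CAlg.IntPt.delta_eq_cdim (CohB1.ProjSpaceOver.toBase 1 X ≫ f) δP hPK p
  obtain ⟨dA, hdA, -⟩ := H3CAlg.IntLocal.ringKrullDim_stalk (CohB1.ProjSpaceOver.toBase 1 X ≫ f)
    (H3CAlg.ChiMain.topologicalKrullDim_eq cn hcn) p hcz
  have htri : ∀ S : Ideal ((CohB1.ProjSpaceOver 1 X).presheaf.stalk p), S.IsPrime →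
      Ideal.span {c} ≤ S → IntMult.stalkIdeal (IntMult.ptIdeal v') p ≤ S →
      IntMult.stalkIdeal (IntMult.ptIdeal w) p ≤ S → S = maximalIdeal _ := by
    intro S hS h0 h1 h2
    obtain ⟨η, hη, hηS⟩ := H3CAlg.ChiStalk.exists_generization
      (⟨S, hS⟩ : PrimeSpectrum ((CohB1.ProjSpaceOver 1 X).presheaf.stalk p))
    have hle := hsec η (H3CAlg.ChiTriple.specializes_of_le hv'x hη (by rw [hηS]; exact h1))
      (H3CAlg.ChiTriple.specializes_of_le hwx hη (by rw [hηS]; exact h2))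
      (hzr η (H3CAlg.ChiTriple.specializes_of_le hzx hη (by rw [hηS, hIz]; exact h0)))
    have heq := (H3CAlg.ChiMain.eq_of_specializes (CohB1.ProjSpaceOver.toBase 1 X ≫ f) δP hPK hη).2 (by omega)
    show (⟨S, hS⟩ : PrimeSpectrum ((CohB1.ProjSpaceOver 1 X).presheaf.stalk p)).asIdeal = _
    rw [← hηS, heq, H3CAlg.IntPt.stalkIdeal_ptIdeal_self]
  rw [hIz, H3CAlg.ChiAssoc.chi_assoc (CohB1.ProjSpaceOver.toBase 1 X ≫ f) p (Ideal.span {c}) hdA
    ((CohB1.ProjSpaceOver 1 X).presheaf.stalk p ⧸ IntMult.stalkIdeal (IntMult.ptIdeal v') p)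
    ((CohB1.ProjSpaceOver 1 X).presheaf.stalk p ⧸ IntMult.stalkIdeal (IntMult.ptIdeal w) p)
    (fun S hS h0 h1 h2 => htri S hS h0 (by rwa [Ideal.annihilator_quotient] at h1)
      (by rwa [Ideal.annihilator_quotient] at h2)),
    finsum_eq_single _ 0 fun j hj => ?_]
  swap
  · obtain ⟨j, rfl⟩ := Nat.exists_eq_succ_of_ne_zero hj
    haveI := subsingleton_tor _ (IntMult.stalkIdeal (IntMult.ptIdeal w) p) c hcw hm j
    rw [H3CAlg.ChiMain.chi_eq_zero_of_subsingleton _ _ |> fun h => (H3CAlg.TorComm.chi_comm _ _ _).trans h, mul_zero]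
  rw [pow_zero, one_mul]
  let e0 := ((H3CAlg.Tor.zeroIso (ModuleCat.of _ (((CohB1.ProjSpaceOver 1 X).presheaf.stalk p) ⧸ Ideal.span {c}))).app
      (ModuleCat.of _ (((CohB1.ProjSpaceOver 1 X).presheaf.stalk p) ⧸ IntMult.stalkIdeal (IntMult.ptIdeal w) p))).toLinearEquiv.trans
    ((TensorProduct.quotTensorEquivQuotSMul _ (Ideal.span {c})).trans
      ((Submodule.quotEquivOfEq _ _ (by
        rw [Submodule.map_sup, Submodule.mkQ_map_self, sup_bot_eq,
          show (Ideal.span {c} • ⊤ : Submodule _ (((CohB1.ProjSpaceOver 1 X).presheaf.stalk p) ⧸ IntMult.stalkIdeal (IntMult.ptIdeal w) p)) =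
            Submodule.map (Submodule.mkQ _) (Ideal.span {c} • ⊤ : Submodule _ ((CohB1.ProjSpaceOver 1 X).presheaf.stalk p)) by
              rw [Submodule.map_smul'', Submodule.map_top, Submodule.range_mkQ],
          smul_eq_mul, Ideal.mul_top])).trans
        (Submodule.quotientQuotientEquivQuotient _ _ (le_sup_right (a := Ideal.span {c})))))
  rw [H3CAlg.ChiDev.chi_congr _ e0, ← chi_fibre i x v w hvx hwx hU]
  have hcoh : Cyc.CohLe δ s G :=
    ⟨H3CAlg.ChiPull.isCoh_pullback _ _ (H3CAlg.PrimeMod.isCoh_primeMod w), hGs⟩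
  have hFv : ∀ y : X, Nontrivial ((H3CAlg.PrimeMod.primeMod v).presheaf.stalk y) → δ y ≤ r := fun y hy =>
    hv ▸ (H3CAlg.ChiMain.eq_of_specializes f δ hδ ((H3CAlg.PrimeMod.nontrivial_iff _ _).mp hy)).1
  have hFfun : Cyc.sheafFun δ r (H3CAlg.PrimeMod.primeMod v) = Set.indicator {v} 1 := by
    funext y
    by_cases hy : y = v
    · subst hy
      rw [KCls.sheafFun_of_eq hv, H3CAlg.PrimeMod.length_self, Set.indicator_of_mem (Set.mem_singleton _)]
      rfl
    · rw [Set.indicator_of_notMem (show y ∉ ({v} : Set X) from hy)]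
      by_contra hne
      obtain ⟨hd, hn'⟩ := H3CAlg.ChiMain.nontrivial_of_sheafFun_ne_zero _ _ _ hne
      exact hy ((H3CAlg.ChiMain.eq_of_specializes f δ hδ ((H3CAlg.PrimeMod.nontrivial_iff _ _).mp hn')).2
        (by omega)).symm
  rw [← hFfun, ← H3CAlg.ChiMain.chi_stalk f δ hδ n hn _ G (H3CAlg.PrimeMod.isCoh_primeMod v) hcoh.1 r s hFv hGs x
    (by omega) fun y h1 h2 hyx => ?_]
  exact (H3CAlg.ChiMain.eq_of_specializes f δ hδ hyx).2
    (hx ▸ hC y ((H3CAlg.PrimeMod.nontrivial_iff _ _).mp h1) (hwsect y h2))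

/-- Over every point of a fibre of a family there is a component of the fibre of expected dimension. -/
theorem exists_top (hX : Cyc.IsSetup X δ) (hPK : Cyc.DeltaCompat (CohB1.ProjSpaceOver.toBase 1 X ≫ f) δP (fun _ => 0))
    [IsNoetherian (CohB1.ProjSpaceOver 1 X)] [IsNoetherian X] [IsIntegral (CohB1.ProjSpaceOver 1 X)]
    (hP : Cyc.DeltaCompat (CohB1.ProjSpaceOver.toBase 1 X) δP δ) (s : ℤ) (w : ↥(CohB1.ProjSpaceOver 1 X))
    (hw : δP w = s + 1) (i : Fin (1 + 1)) (hwi : w ∉ Set.range (P1.sect X i)) (y : X) (hwy : w ⤳ P1.sect X i y) :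
    ∃ q : X, q ⤳ y ∧
      0 < Cyc.sheafFun δ s ((Scheme.Modules.pullback (P1.sect X i)).obj (H3CAlg.PrimeMod.primeMod w)) q := by
  have hle : ∀ q : X, w ⤳ P1.sect X i q → δ q ≤ s := fun q h => by
    have h2 := H3CAlg.ChiMain.eq_of_specializes (CohB1.ProjSpaceOver.toBase 1 X ≫ f) δP hPK h
    rw [P1C.delta_sect hP, hw] at h2
    by_contra hn'
    exact hwi ⟨q, (h2.2 (by omega)).symm⟩
  let S : Set ℤ := {d | ∃ q : X, q ⤳ y ∧ w ⤳ P1.sect X i q ∧ δ q = d}
  obtain ⟨d, ⟨q, hqy, hwq, hqd⟩, hmax⟩ := Int.exists_greatest_of_bdd (P := fun d => d ∈ S)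
    ⟨s, fun d ⟨q, _, h, e⟩ => e ▸ hle q h⟩ ⟨δ y, y, specializes_rfl, hwy, rfl⟩
  have h3 := delta_le f hPK i (δ q) w (P1.sect X i q) hwq ⟨q, rfl⟩ (P1C.delta_sect hP i q) fun η hwη hη hr => by
    obtain ⟨q', rfl⟩ := hr
    rw [P1C.delta_sect hP, hqd]
    have h4 := hη.map (CohB1.ProjSpaceOver.toBase 1 X).continuous
    rw [P1C.toBase_sect, P1C.toBase_sect] at h4
    exact hmax _ ⟨q', h4.trans hqy, hwη, rfl⟩
  have hqs : δ q = s := le_antisymm (hle q hwq) (by omega)
  have hcoh : Cyc.CohLe δ s ((Scheme.Modules.pullback (P1.sect X i)).obj (H3CAlg.PrimeMod.primeMod w)) :=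
    ⟨H3CAlg.ChiPull.isCoh_pullback _ _ (H3CAlg.PrimeMod.isCoh_primeMod w), fun a ha =>
      hle a ((H3CAlg.PrimeMod.nontrivial_iff _ _).mp (H3CAlg.ChiPull.nontrivial_of_pullback _ _ _ ha))⟩
  exact ⟨q, hqy, (KCls.sheafFun_pos_iff (KFam.strict_of_isSetup hX) hcoh).mpr ⟨hqs, KDev.mem_support.mpr
    (P1C.nontrivial_sect i _ (H3CAlg.PrimeMod.isCoh_primeMod w) q ((H3CAlg.PrimeMod.nontrivial_iff _ _).mpr hwq))⟩⟩

end Groth.Agent.H3Cyc.P1Fam
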