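import Groth.Agent.H3Cyc.P1Chart
import Groth.Agent.H3Cyc.CommLocal
import Groth.Agent.H3Cyc.Gysin
import Mathlib

/-!
# Fibres over `0` and `∞` of closed subschemes of `P¹_X`
-/

set_option autoImplicit false
set_option linter.style.haveILetI false
set_option backward.isDefEq.respectTransparency.types false
universe u

open AlgebraicGeometry CategoryTheory CategoryTheory.Limits

namespace Groth.Agent.H3Cyc.P1C

open IsLocalRing

theorem appLE_fromStalk {Z : Scheme.{u}} {R : CommRingCat.{u}} (z : Z) (q : Z.presheaf.stalk z ⟶ R) (V : Z.Opens) (hz : z ∈ V)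
    (e : ⊤ ≤ (Spec.map q ≫ Z.fromSpecStalk z) ⁻¹ᵁ V) (s : Γ(Z, V)) :
    (Spec.map q ≫ Z.fromSpecStalk z).appLE V ⊤ e s = (Scheme.ΓSpecIso R).inv (q (Z.presheaf.germ V z hz s)) := by
  have n1 := congrArg (fun t => t (Z.presheaf.germ V z hz s)) (Scheme.ΓSpecIso_inv_naturality q)
  simp only [ConcreteCategory.comp_apply] at n1
  refine Eq.trans ?_ n1.symm
  have htop : Z.fromSpecStalk z ⁻¹ᵁ V = ⊤ := Scheme.preimage_eq_top_of_closedPoint_mem _ (by
    rw [Scheme.fromSpecStalk_closedPoint]; exact hz)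
  rw [← Scheme.Hom.appLE_comp_appLE (Spec.map q) (Z.fromSpecStalk z) V ⊤ ⊤ htop.ge le_rfl, ConcreteCategory.comp_apply,
    Scheme.Hom.appTop, Scheme.Hom.app_eq_appLE]
  congr 1
  rw [Scheme.Hom.appLE, ConcreteCategory.comp_apply, Scheme.fromSpecStalk_app hz]
  simp only [ConcreteCategory.comp_apply]
  rw [← ConcreteCategory.comp_apply ((Spec (Z.presheaf.stalk z)).presheaf.map _), ← Functor.map_comp]
  exact congrArg (fun t => t ((Scheme.ΓSpecIso (Z.presheaf.stalk z)).inv (Z.presheaf.germ V z hz s)))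
    ((Spec (Z.presheaf.stalk z)).presheaf.map_id _)

theorem fromStalk_preimage {Z : Scheme.{u}} {R : CommRingCat.{u}} (z : Z) (q : Z.presheaf.stalk z ⟶ R) [IsLocalRing R]
    [IsLocalHom q.hom] (V : Z.Opens) (hz : z ∈ V) : (Spec.map q ≫ Z.fromSpecStalk z) ⁻¹ᵁ V = ⊤ :=
  top_le_iff.mp (Scheme.preimage_eq_top_of_closedPoint_mem _ (by
    rw [Scheme.Hom.comp_apply, Spec_closedPoint, Scheme.fromSpecStalk_closedPoint]; exact hz)).ge

variable {X : Scheme.{u}}

instance isClosedImmersion_sect [IsSeparated (CohB1.ProjSpaceOver.toBase 1 X)] (i : Fin (1 + 1)) :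
    IsClosedImmersion (P1.sect X i) := by
  haveI : IsClosedImmersion (P1.sect X i ≫ CohB1.ProjSpaceOver.toBase 1 X) := by rw [sect_toBase]; infer_instance
  exact IsClosedImmersion.of_comp _ (CohB1.ProjSpaceOver.toBase 1 X)

theorem mem_U_of_mem_range {i : Fin (1 + 1)} {p : ↥(CohB1.ProjSpaceOver 1 X)} (h : p ∈ Set.range (P1.sect X i)) :
    ∃ hU : p ∈ U X i, (CohB1.ProjSpaceOver 1 X).presheaf.germ (U X i) p hU (coord X i) ∈ maximalIdeal _ := by
  obtain ⟨x, rfl⟩ := h
  have hx : P1.sect X i x ∈ U X i := (sect_preimage X i).ge (show x ∈ ⊤ from trivial)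
  refine ⟨hx, fun hu => ?_⟩
  have h1 := hu.map ((P1.sect X i).stalkMap x).hom
  rw [Scheme.Hom.germ_stalkMap_apply] at h1
  have h2 := sect_coord X i
  rw [Scheme.Hom.appLE, ConcreteCategory.comp_apply] at h2
  have h3 := congrArg (X.presheaf.germ ⊤ x trivial) h2
  rw [map_zero, TopCat.Presheaf.germ_res_apply] at h3
  exact not_isUnit_zero (h3 ▸ h1)

theorem mem_range_sect {i : Fin (1 + 1)} {p : ↥(CohB1.ProjSpaceOver 1 X)} (hU : p ∈ U X i)
    (hm : (CohB1.ProjSpaceOver 1 X).presheaf.germ (U X i) p hU (coord X i) ∈ maximalIdeal _) :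
    p ∈ Set.range (P1.sect X i) := by
  let q := (CohB1.ProjSpaceOver 1 X).residue p
  haveI : IsLocalHom q.hom := inferInstanceAs (IsLocalHom (IsLocalRing.residue _))
  haveI : IsLocalRing ((CohB1.ProjSpaceOver 1 X).residueField p) := inferInstance
  have hg := fromStalk_preimage p q (U X i) hU
  have h0 : (Spec.map q ≫ Scheme.fromSpecStalk _ p).appLE (U X i) ⊤ hg.ge (coord X i) = 0 := by
    rw [appLE_fromStalk p q _ hU]
    rw [show q ((CohB1.ProjSpaceOver 1 X).presheaf.germ (U X i) p hU (coord X i)) = 0 from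
      Ideal.Quotient.eq_zero_iff_mem.mpr hm, map_zero]
  have h1 := congrArg (fun g => g (closedPoint ((CohB1.ProjSpaceOver 1 X).residueField p))) (factor X i _ hg h0)
  simp only [Scheme.Hom.comp_apply, Spec_closedPoint, Scheme.fromSpecStalk_closedPoint] at h1
  exact ⟨_, h1.symm⟩

theorem notMem_U_opp {i : Fin (1 + 1)} {p : ↥(CohB1.ProjSpaceOver 1 X)} (h : p ∈ Set.range (P1.sect X i)) :
    p ∉ U X (opp i) := fun h' => by
  obtain ⟨hU, hm⟩ := mem_U_of_mem_range h
  exact hm (IsUnit.of_mul_eq_one _ (germ_coord_mul X i p hU h'))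

theorem mem_U_opp {i : Fin (1 + 1)} {p : ↥(CohB1.ProjSpaceOver 1 X)} (hU : p ∈ U X i) (h : p ∉ Set.range (P1.sect X i)) :
    p ∈ U X (opp i) ∧ IsUnit ((CohB1.ProjSpaceOver 1 X).presheaf.germ (U X i) p hU (coord X i)) := by
  have hu : IsUnit ((CohB1.ProjSpaceOver 1 X).presheaf.germ (U X i) p hU (coord X i)) :=
    not_not.mp fun hn => h (mem_range_sect hU hn)
  have h1 := (Scheme.mem_basicOpen _ (coord X i) p hU).mpr hu
  rw [basicOpen_coord] at h1
  exact ⟨h1.2, hu⟩

theorem mem_U_of_notMem_range {i : Fin (1 + 1)} {p : ↥(CohB1.ProjSpaceOver 1 X)}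
    (h : p ∉ Set.range (P1.sect X (opp i))) : p ∈ U X i := by
  have h' : p ∈ U X i ∨ p ∈ U X (opp i) := by
    rcases (sup_U X).ge (show p ∈ (⊤ : (CohB1.ProjSpaceOver 1 X).Opens) from trivial) with h1 | h1 <;>
      fin_cases i <;> first | exact Or.inl h1 | exact Or.inr h1
  rcases h' with h1 | h1
  · exact h1
  · have := (mem_U_opp h1 h).1
    rwa [opp_opp] at this

variable {Z : Scheme.{u}} (ι : Z ⟶ CohB1.ProjSpaceOver 1 X)

/-- The local equation on `Z` of the fibre at `i`. -/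
noncomputable def fibEq (i : Fin (1 + 1)) (z : Z) (h : ι z ∈ U X i) : Z.presheaf.stalk z :=
  ι.stalkMap z ((CohB1.ProjSpaceOver 1 X).presheaf.germ (U X i) (ι z) h (coord X i))

theorem fibEq_eq (i : Fin (1 + 1)) (z : Z) (h : ι z ∈ U X i) :
    fibEq ι i z h = Z.presheaf.germ (ι ⁻¹ᵁ U X i) z h (ι.app (U X i) (coord X i)) :=
  Scheme.Hom.germ_stalkMap_apply _ _ _ _ _

theorem fibEq_mul (i : Fin (1 + 1)) (z : Z) (h : ι z ∈ U X i) (h' : ι z ∈ U X (opp i)) :
    fibEq ι i z h * fibEq ι (opp i) z h' = 1 := by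
  rw [fibEq, fibEq, ← map_mul, germ_coord_mul, map_one]

theorem fibEq_specializes (i : Fin (1 + 1)) {z z' : Z} (hs : z' ⤳ z) (h : ι z ∈ U X i) :
    Z.presheaf.stalkSpecializes hs (fibEq ι i z h) = fibEq ι i z' ((hs.map ι.continuous).mem_open (U X i).2 h) := by
  rw [fibEq_eq, fibEq_eq]
  exact TopCat.Presheaf.germ_stalkSpecializes_apply _ _ hs _

variable [IsSeparated (CohB1.ProjSpaceOver.toBase 1 X)]

theorem fst_mem (i : Fin (1 + 1)) (w : ↥(pullback ι (P1.sect X i))) :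
    ι (pullback.fst ι (P1.sect X i) w) = P1.sect X i (pullback.snd ι (P1.sect X i) w) := by
  rw [← Scheme.Hom.comp_apply, pullback.condition, Scheme.Hom.comp_apply]

theorem ker_fst_stalkMap (i : Fin (1 + 1)) (w : ↥(pullback ι (P1.sect X i))) (h : ι (pullback.fst ι (P1.sect X i) w) ∈ U X i) :
    RingHom.ker ((pullback.fst ι (P1.sect X i)).stalkMap w).hom = Ideal.span {fibEq ι i _ h} := by
  set f := pullback.fst ι (P1.sect X i) with hf
  set z := f w with hz
  let a := fibEq ι i z h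
  refine le_antisymm (fun b hb => ?_) ?_
  swap
  · rw [Ideal.span_singleton_le_iff_mem, RingHom.mem_ker, fibEq, ← ConcreteCategory.comp_apply, ← Scheme.Hom.stalkMap_comp]
    show ((f ≫ ι).stalkMap w).hom _ = 0
    have e : f ≫ ι = pullback.snd ι (P1.sect X i) ≫ P1.sect X i := pullback.condition
    have h' : (f ≫ ι) w ∈ U X i := h
    show (f ≫ ι).stalkMap w ((CohB1.ProjSpaceOver 1 X).presheaf.germ (U X i) ((f ≫ ι) w) h' (coord X i)) = 0
    rw [Scheme.Hom.germ_stalkMap_apply]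
    have h2 := sect_coord X i
    have h3 : (f ≫ ι).appLE (U X i) ⊤ (by rw [e, Scheme.Hom.comp_preimage, sect_preimage, Scheme.Hom.preimage_top]) (coord X i) = 0 := by
      simp only [e]
      rw [← Scheme.Hom.appLE_comp_appLE _ (P1.sect X i) (U X i) ⊤ ⊤ (sect_preimage X i).ge le_rfl,
        ConcreteCategory.comp_apply, h2, map_zero]
    have h4 := congrArg ((pullback ι (P1.sect X i)).presheaf.germ ⊤ w trivial) h3
    rw [Scheme.Hom.appLE, ConcreteCategory.comp_apply, map_zero, TopCat.Presheaf.germ_res_apply] at h4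
    exact h4
  have ham : a ∈ maximalIdeal _ := fun hu => by
    have h1 : IsUnit ((CohB1.ProjSpaceOver 1 X).presheaf.germ (U X i) (ι z) h (coord X i)) :=
      (isUnit_map_iff (ι.stalkMap z).hom _).mp hu
    obtain ⟨_, hm⟩ := mem_U_of_mem_range (p := ι z) (i := i) ⟨_, (fst_mem ι i w).symm⟩
    exact hm h1
  have hI : Ideal.span {a} ≠ ⊤ := fun e => (maximalIdeal.isMaximal _).ne_top
    (top_le_iff.mp (e.ge.trans ((Ideal.span_singleton_le_iff_mem _).mpr ham)))
  haveI : Nontrivial (Z.presheaf.stalk z ⧸ Ideal.span {a}) := Ideal.Quotient.nontrivial_iff.mpr hI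
  haveI : IsLocalRing (Z.presheaf.stalk z ⧸ Ideal.span {a}) :=
    IsLocalRing.of_surjective' (Ideal.Quotient.mk _) Ideal.Quotient.mk_surjective
  let R : CommRingCat.{u} := CommRingCat.of (Z.presheaf.stalk z ⧸ Ideal.span {a})
  haveI : IsLocalRing R := inferInstanceAs (IsLocalRing (Z.presheaf.stalk z ⧸ Ideal.span {a}))
  let q : Z.presheaf.stalk z ⟶ R := CommRingCat.ofHom (Ideal.Quotient.mk _)
  haveI : IsLocalHom q.hom := IsLocalHom.of_surjective q.hom (Ideal.Quotient.mk_surjective (I := Ideal.span {a}))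
  let g : Spec R ⟶ Z := Spec.map q ≫ Z.fromSpecStalk z
  have hgV : g ⁻¹ᵁ (ι ⁻¹ᵁ U X i) = ⊤ := fromStalk_preimage z q _ h
  have hg : (g ≫ ι) ⁻¹ᵁ U X i = ⊤ := by rw [Scheme.Hom.comp_preimage, hgV]
  have h0 : (g ≫ ι).appLE (U X i) ⊤ hg.ge (coord X i) = 0 := by
    rw [Scheme.Hom.comp_appLE, ConcreteCategory.comp_apply, appLE_fromStalk z q _ h]
    rw [← fibEq_eq, show q a = 0 from (Ideal.Quotient.eq_zero_iff_mem (I := Ideal.span {a})).2 (Ideal.mem_span_singleton_self a), map_zero]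
  let l : Spec R ⟶ pullback ι (P1.sect X i) := pullback.lift g ((g ≫ ι) ≫ CohB1.ProjSpaceOver.toBase 1 X) (factor X i _ hg h0)
  have hl : l ≫ f = g := pullback.lift_fst _ _ _
  have hgz : g (closedPoint R) = z := by rw [Scheme.Hom.comp_apply, Spec_closedPoint, Scheme.fromSpecStalk_closedPoint]
  haveI : IsClosedImmersion (P1.sect X i) := by infer_instance
  have hlw : l (closedPoint R) = w := by
    apply (MorphismProperty.pullback_fst (P := @IsClosedImmersion) ι (P1.sect X i) inferInstance).base_closed.injective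
    show f (l (closedPoint R)) = f w
    rw [← Scheme.Hom.comp_apply, hl, hgz]
  obtain ⟨V, hV, s, rfl⟩ := Z.presheaf.germ_exist b
  rw [RingHom.mem_ker, Scheme.Hom.germ_stalkMap_apply] at hb
  obtain ⟨W, hwW, i₁, i₂, hW⟩ := (pullback ι (P1.sect X i)).presheaf.germ_eq (U := f ⁻¹ᵁ V) (V := f ⁻¹ᵁ V) w hV hV (f.app V s) 0 (by rw [hb, map_zero])
  rw [map_zero] at hW
  have hlW : l ⁻¹ᵁ W = ⊤ := Scheme.preimage_eq_top_of_closedPoint_mem _ (hlw ▸ hwW)
  have h5 : f.appLE V W i₁.le s = 0 := by rw [Scheme.Hom.appLE, ConcreteCategory.comp_apply]; exact hW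
  have h6 : g.appLE V ⊤ (fromStalk_preimage z q V hV).ge s = 0 := by
    simp only [← hl]
    rw [← Scheme.Hom.appLE_comp_appLE l f V W ⊤ i₁.le hlW.ge, ConcreteCategory.comp_apply, h5, map_zero]
  rw [appLE_fromStalk z q V hV] at h6
  exact Ideal.Quotient.eq_zero_iff_mem.mp (((Scheme.ΓSpecIso R).commRingCatIsoToRingEquiv.symm.injective)
    (h6.trans (map_zero _).symm))

end Groth.Agent.H3Cyc.P1C
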