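import Groth.Agent.H3Cyc.P1Cyc
import Groth.Agent.H3Cyc.BCPush
import Mathlib

/-!
# The fibres of the closure of the graph of a rational function
-/

set_option autoImplicit false
set_option linter.style.haveILetI false
set_option backward.isDefEq.respectTransparency.types false
universe u

open AlgebraicGeometry CategoryTheory CategoryTheory.Limits

namespace Groth.Agent.H3Cyc.P1C

variable {X Z : Scheme.{u}} {δ : X → ℤ} {δP : ↥(CohB1.ProjSpaceOver 1 X) → ℤ}

/-- The data of a point of `P¹_X` over `ξ` with coordinate `c`. -/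
theorem point_data (hP : Cyc.DeltaCompat (CohB1.ProjSpaceOver.toBase 1 X) δP δ)
    {ξ : X} {c : X.residueField ξ} (hc : c ≠ 0) (g : Spec (X.residueField ξ) ⟶ CohB1.ProjSpaceOver 1 X)
    (hg : g ≫ CohB1.ProjSpaceOver.toBase 1 X = X.fromSpecResidueField ξ) (hU : g ⁻¹ᵁ U X 0 = ⊤)
    (hcoord : g.appLE (U X 0) ⊤ hU.ge (coord X 0) = (Scheme.ΓSpecIso (X.residueField ξ)).inv c)
    (p : ↥(CohB1.ProjSpaceOver 1 X)) (hp : g (IsLocalRing.closedPoint _) = p) :
    (∀ i, p ∉ Set.range (P1.sect X i)) ∧ δP p = δ ξ ∧ (CohB1.ProjSpaceOver.toBase 1 X).residueDegree p = 1 ∧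
      ∃ (hpU : p ∈ U X 0) (hpξ : CohB1.ProjSpaceOver.toBase 1 X p = ξ),
        (CohB1.ProjSpaceOver 1 X).residue p ((CohB1.ProjSpaceOver 1 X).presheaf.germ (U X 0) p hpU (coord X 0)) =
          FlatDiv.liftVal (CohB1.ProjSpaceOver.toBase 1 X) p hpξ c := by
  set π := CohB1.ProjSpaceOver.toBase 1 X with hπ
  obtain ⟨⟨p', φ⟩, rfl⟩ := (Scheme.SpecToEquivOfField (X.residueField ξ) (CohB1.ProjSpaceOver 1 X)).symm.surjective g
  have hg' : (Scheme.SpecToEquivOfField (X.residueField ξ) (CohB1.ProjSpaceOver 1 X)).symm ⟨p', φ⟩ =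
      Spec.map φ ≫ Scheme.fromSpecResidueField _ p' := rfl
  obtain rfl : p' = p := by
    rw [← hp, hg', Scheme.Hom.comp_apply, Scheme.fromSpecResidueField_apply]
  have e1 : (Scheme.SpecToEquivOfField (X.residueField ξ) X).symm ⟨π p', π.residueFieldMap p' ≫ φ⟩ =
      (Scheme.SpecToEquivOfField (X.residueField ξ) X).symm ⟨ξ, 𝟙 _⟩ := by
    show Spec.map (π.residueFieldMap p' ≫ φ) ≫ X.fromSpecResidueField (π p') = Spec.map (𝟙 _) ≫ X.fromSpecResidueField ξ
    rw [Spec.map_id, Category.id_comp, Spec.map_comp, Category.assoc, Scheme.Hom.SpecMap_residueFieldMap_fromSpecResidueField, ← hg, hg',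
      Category.assoc]
  obtain ⟨rfl, e2⟩ := Sigma.mk.inj_iff.mp ((Scheme.SpecToEquivOfField _ X).symm.injective e1)
  have e3 : π.residueFieldMap p' ≫ φ = 𝟙 _ := eq_of_heq e2
  have hid : ∀ a, φ (π.residueFieldMap p' a) = a := fun a => by
    rw [← ConcreteCategory.comp_apply, e3]; rfl
  have hφinj : Function.Injective φ := φ.hom.injective
  have hbij : Function.Bijective (π.residueFieldMap p').hom :=
    ⟨(π.residueFieldMap p').hom.injective, fun b => ⟨φ b, hφinj (hid _)⟩⟩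
  have hpU : p' ∈ U X 0 := by
    have h := hU.ge (show IsLocalRing.closedPoint (X.residueField (π p')) ∈ (⊤ : (Spec _).Opens) from trivial)
    rw [← hp]; exact h
  have hval : φ ((CohB1.ProjSpaceOver 1 X).residue p' ((CohB1.ProjSpaceOver 1 X).presheaf.germ (U X 0) p' hpU (coord X 0))) = c := by
    have hgs : (Scheme.SpecToEquivOfField (X.residueField (π p')) (CohB1.ProjSpaceOver 1 X)).symm ⟨p', φ⟩ =
        Spec.map ((CohB1.ProjSpaceOver 1 X).residue p' ≫ φ) ≫ Scheme.fromSpecStalk _ p' := by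
      rw [hg', Scheme.fromSpecResidueField, ← Category.assoc, ← Spec.map_comp]
    simp only [hgs] at hcoord
    rw [appLE_fromStalk p' _ _ hpU] at hcoord
    exact (Scheme.ΓSpecIso _).commRingCatIsoToRingEquiv.symm.injective hcoord
  have hval' : (CohB1.ProjSpaceOver 1 X).residue p' ((CohB1.ProjSpaceOver 1 X).presheaf.germ (U X 0) p' hpU (coord X 0)) =
      π.residueFieldMap p' c := hφinj (hval.trans (hid c).symm)
  refine ⟨fun i hi => ?_, ?_, ?_, hpU, rfl, ?_⟩
  · by_cases h0 : i = 0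
    · subst h0
      obtain ⟨hU', hm⟩ := mem_U_of_mem_range hi
      refine hc ((π.residueFieldMap p').hom.injective ?_)
      rw [map_zero]
      exact hval'.symm.trans ((IsLocalRing.residue_eq_zero_iff _).mpr hm)
    · have := notMem_U_opp hi
      rw [← eq_opp (Ne.symm h0)] at this
      exact this hpU
  · obtain ⟨n, hn, he⟩ := hP p'
    letI := (π.residueFieldMap p').hom.toAlgebra
    haveI : Module.Finite (X.residueField (π p')) ((CohB1.ProjSpaceOver 1 X).residueField p') :=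
      RingHom.Finite.of_surjective _ hbij.2
    have h0 : (n : Cardinal.{u}) = 0 := hn.symm.trans trdeg_eq_zero
    have h1 : n = 0 := by exact_mod_cast h0
    rw [he, h1]; simp
  · unfold Scheme.Hom.residueDegree
    letI := (π.residueFieldMap p').hom.toAlgebra
    let e : X.residueField (π p') ≃ₗ[X.residueField (π p')] (CohB1.ProjSpaceOver 1 X).residueField p' :=
      LinearEquiv.ofBijective (Algebra.linearMap _ _) hbij
    rw [← e.finrank_eq, Module.finrank_self]
  · rw [hval']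
    unfold FlatDiv.liftVal
    rw [Scheme.residueFieldCongr_refl]
    rfl

/-- **The fibres of an integral closed subscheme through a point with coordinate `c` over `ξ`.** -/
theorem fib_sub_eq_divFun (hX : Cyc.IsSetup X δ) (hP : Cyc.DeltaCompat (CohB1.ProjSpaceOver.toBase 1 X) δP δ)
    (ι : Z ⟶ CohB1.ProjSpaceOver 1 X) [IsIntegral Z] [IsClosedImmersion ι]
    {ξ : X} {c : X.residueField ξ} (hc : c ≠ 0) (g : Spec (X.residueField ξ) ⟶ CohB1.ProjSpaceOver 1 X)
    (hg : g ≫ CohB1.ProjSpaceOver.toBase 1 X = X.fromSpecResidueField ξ) (hU : g ⁻¹ᵁ U X 0 = ⊤)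
    (hcoord : g.appLE (U X 0) ⊤ hU.ge (coord X 0) = (Scheme.ΓSpecIso (X.residueField ξ)).inv c)
    (hη : g (IsLocalRing.closedPoint _) = ι (genericPoint Z)) (k : ℤ) (hk : δ ξ = k + 1) :
    (δP (ι (genericPoint Z)) = k + 1 ∧ ∀ i, ι (genericPoint Z) ∉ Set.range (P1.sect X i)) ∧
    ∀ x, Cyc.subschemeFun δ k (pullback.snd ι (P1.sect X 0)) x - Cyc.subschemeFun δ k (pullback.snd ι (P1.sect X 1)) x =
      Cyc.divFun δ ξ c x := by
  obtain ⟨h, hδp, hdeg, hpU, hpξ, hval⟩ := point_data hP hc g hg hU hcoord _ hη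
  have hk' : δP (ι (genericPoint Z)) = k + 1 := hδp.trans hk
  refine ⟨⟨hk', h⟩, fun x => ?_⟩
  have hPs := isSetup_of_locallyOfFiniteType (CohB1.ProjSpaceOver.toBase 1 X) hX hP
  have hZs := Reduction.isSetup_closedImmersion ι hPs
  haveI := hZs.1
  let π := ι ≫ CohB1.ProjSpaceOver.toBase 1 X
  haveI : IsProper π := inferInstanceAs (IsProper (_ ≫ _))
  have hπ : Cyc.DeltaCompat π (fun z => δP (ι z)) δ :=
    BCPush.deltaCompat_comp ι (CohB1.ProjSpaceOver.toBase 1 X) (Reduction.deltaCompat_immersion ι δP) hP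
  have hπη : π (genericPoint Z) = ξ := hpξ
  have hlift : Z.residue (genericPoint Z) (coordFun ι h) = FlatDiv.liftVal π (genericPoint Z) hπη c := by
    rw [PushRat.liftVal_comp ι (CohB1.ProjSpaceOver.toBase 1 X) (genericPoint Z) hπη, ← hval]
    exact (ConcreteCategory.congr_hom (Scheme.residue_residueFieldMap ι (genericPoint Z)) _).symm
  rw [fib_sub_eq_pushDiv ι hX hP k hk' h x,
    ((PushRat.exists_pushDiv_eq π hZs hX hπ (genericPoint Z) _ (residue_coordFun_ne_zero ι h)).2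
      (by rw [hk', ← hk]; rw [hπη])).2 ξ hπη c hlift x]
  have hd : π.residueDegree (genericPoint Z) = 1 :=
    (Gysin.residueDegree_immersion_comp ι (CohB1.ProjSpaceOver.toBase 1 X) (genericPoint Z)).trans hdeg
  rw [hd]; simp

/-- The morphism to `P¹_X` given by a function. -/
noncomputable def toP1Of {Y : Scheme.{u}} (j : Y ⟶ X) (f : Γ(Y, ⊤)) : Y ⟶ CohB1.ProjSpaceOver 1 X :=
  pullback.lift (Y.toSpecΓ ≫ Spec.map (CommRingCat.ofHom (P1.chartMap 0 Γ(Y, ⊤) f)) ≫ chartι 0) j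
    (specULiftZIsTerminal.hom_ext _ _)

theorem toP1Of_data {Y : Scheme.{u}} (j : Y ⟶ X) (f : Γ(Y, ⊤)) :
    toP1Of j f ≫ CohB1.ProjSpaceOver.toBase 1 X = j ∧
      ∃ hU : toP1Of j f ⁻¹ᵁ U X 0 = ⊤, (toP1Of j f).appLE (U X 0) ⊤ hU.ge (coord X 0) = f := by
  refine ⟨pullback.lift_snd _ _ _, ?_⟩
  have e : toP1Of j f ≫ toP X = (Y.toSpecΓ ≫ Spec.map (CommRingCat.ofHom (P1.chartMap 0 Γ(Y, ⊤) f))) ≫ chartι 0 :=
    (pullback.lift_fst _ _ _).trans (Category.assoc _ _ _).symm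
  have hU : toP1Of j f ⁻¹ᵁ U X 0 = ⊤ := by
    rw [U, ← Scheme.Hom.comp_preimage, e, Scheme.Hom.comp_preimage, chartι_preimage, Scheme.Hom.preimage_top]
  refine ⟨hU, ?_⟩
  rw [coord_comp X 0 _ hU]
  have hU' : ((Y.toSpecΓ ≫ Spec.map (CommRingCat.ofHom (P1.chartMap 0 Γ(Y, ⊤) f))) ≫ chartι 0) ⁻¹ᵁ D 0 = ⊤ := by
    rw [Scheme.Hom.comp_preimage, chartι_preimage, Scheme.Hom.preimage_top]
  simp only [e]
  rw [sec_chartι_comp _ hU', Scheme.Hom.comp_appTop, ConcreteCategory.comp_apply]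
  have n1 := congrArg (fun t => t (frac 0)) (Scheme.ΓSpecIso_inv_naturality (CommRingCat.ofHom (P1.chartMap 0 Γ(Y, ⊤) f)))
  simp only [ConcreteCategory.comp_apply] at n1
  rw [← n1, Scheme.toSpecΓ_appTop]
  refine (Iso.inv_hom_id_apply (Scheme.ΓSpecIso Γ(Y, ⊤)) _).trans ?_
  exact chartMap_frac 0 _ f

end Groth.Agent.H3Cyc.P1C
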