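import Groth.Agent.H3Cyc.P1Sheaf
import Groth.Agent.H3CAlg.ProdPt
import Groth.Agent.H3CAlg.PairPt
import Groth.Agent.LeadPic.PnRel
import Groth.Agent.H26Smooth.ProjSmooth
import Groth.Agent.H13AlgSp.EtaleLocally
import Groth.Agent.S10829
import Mathlib

/-!
# Preimages of prime cycles in `P¹_X`
-/

set_option autoImplicit false
set_option linter.style.haveILetI false
universe u

open AlgebraicGeometry CategoryTheory CategoryTheory.Limits

namespace Groth.Agent.H3Cyc.P1Prod

variable {X : Scheme.{u}}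

local notation "π" => CohB1.ProjSpaceOver.toBase 1 X

theorem flat_toBase (X : Scheme.{u}) : Flat (CohB1.ProjSpaceOver.toBase 1 X) := inferInstance

instance geometricallyIntegral_toBase (X : Scheme.{u}) : GeometricallyIntegral (CohB1.ProjSpaceOver.toBase 1 X) := by
  refine ⟨fun K _ y Z fst snd h => ?_⟩
  obtain ⟨m, hm, -⟩ := LeadPic.PnRel.exists_map 1 (K := K) y
  haveI := LeadPic.PnRel.isIntegral_projSpace (n := 1) K
  let e := hm.isoPullback ≪≫ h.isoPullback.symm
  haveI : Nonempty ↥Z := ⟨e.hom (genericPoint _)⟩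
  exact isIntegral_of_isOpenImmersion e.inv

theorem sig_specializes_of (v : X) {z : ↥(CohB1.ProjSpaceOver 1 X)} (h : v ⤳ π z) :
    H3CAlg.ProdPt.sig π v ⤳ z := by
  haveI := flat_toBase X
  obtain ⟨w, hw, hwe⟩ := Flat.generalizingMap π h
  exact (H3CAlg.ProdPt.sig_specializes π hwe).trans hw

theorem specializes_sig_iff (v : X) (z : ↥(CohB1.ProjSpaceOver 1 X)) :
    H3CAlg.ProdPt.sig π v ⤳ z ↔ v ⤳ π z := by
  refine ⟨fun h => ?_, sig_specializes_of v⟩
  have h1 := h.map (Scheme.Hom.continuous π)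
  rwa [H3CAlg.ProdPt.apply_sig] at h1

theorem isIntegral_proj {K : Type u} [Field K] [IsIntegral X] (f : X ⟶ Spec (CommRingCat.of K)) [Smooth f] :
    IsIntegral (CohB1.ProjSpaceOver 1 X) := by
  haveI : IsReduced (CohB1.ProjSpaceOver 1 X) := H13AlgSp.isReduced_of_smooth_mor π
  haveI : IrreducibleSpace ↥(CohB1.ProjSpaceOver 1 X) := by
    let η := H3CAlg.ProdPt.sig π (genericPoint X)
    have h : closure ({η} : Set ↥(CohB1.ProjSpaceOver 1 X)) = Set.univ :=
      Set.eq_univ_of_forall fun z => (sig_specializes_of _ (genericPoint_specializes (π z))).mem_closure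
    rw [irreducibleSpace_def]
    show IsIrreducible (Set.univ : Set ↥(CohB1.ProjSpaceOver 1 X))
    rw [← h]
    exact isIrreducible_singleton.closure
  exact isIntegral_of_irreducibleSpace_of_isReduced _

theorem delta_sig {δ : X → ℤ} {δP : ↥(CohB1.ProjSpaceOver 1 X) → ℤ}
    (hP : Cyc.DeltaCompat π δP δ) (v : X) : δP (H3CAlg.ProdPt.sig π v) = δ v + 1 := by
  obtain ⟨n, hn, he⟩ := H22Alg.CycBasic.exists_cdim π hP (H3CAlg.ProdPt.sig π v)
  rw [he, H3CAlg.ProdPt.apply_sig]
  have hdim : ∀ (a : X), topologicalKrullDim ↥((CohB1.ProjSpaceOver.toBase 1 X).fiber a) = (1 : ℕ) := fun a => by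
    obtain ⟨-, -, -, e, -⟩ := LeadPic.PnRel.fibre_props 1 X a
    rw [← S10829.result (X.residueField a) 1]
    exact ((Scheme.homeoOfIso e).isHomeomorph.topologicalKrullDim_eq).symm
  have key : ∀ (a b : X) (hab : a = b) (w : (CohB1.ProjSpaceOver.toBase 1 X).fiber a)
      (hw : (CohB1.ProjSpaceOver.toBase 1 X).fiberι a w = H3CAlg.ProdPt.sig π v) (_ : b = v),
      H8Props.FieldDim.cdim w = (1 : ℕ) := by
    rintro a b rfl w hw rfl
    obtain rfl : w = genericPoint _ := (Scheme.Hom.fiberι (π) a).isEmbedding.injective hw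
    rw [H3CAlg.IntPoints.cdim_genericPoint, hdim]
  have h1 := key _ _ rfl ((CohB1.ProjSpaceOver.toBase 1 X).asFiber (H3CAlg.ProdPt.sig π v))
    (Scheme.Hom.fiberι_asFiber _ _) (H3CAlg.ProdPt.apply_sig π v)
  have h2 : n = 1 := by
    have h3 := hn.symm.trans h1
    exact_mod_cast h3
  omega

theorem isRadical_stalkIdeal {P : Scheme.{u}} (I : P.IdealSheafData) [IsReduced I.subscheme] {z : P}
    (hz : z ∈ I.support) : (IntMult.stalkIdeal I z).IsRadical := by
  obtain ⟨d, rfl⟩ := H3CAlg.IntLocal.exists_point I hz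
  rw [H3CAlg.IntLocal.stalkIdeal_eq_ker, ← Ideal.radical_eq_iff, RingHom.ker, ← Ideal.comap_radical,
    show (⊥ : Ideal (I.subscheme.presheaf.stalk d)).radical = ⊥ from
      (Ideal.radical_bot_of_isReduced : _)]

/-- The ideal of the preimage of a prime cycle. -/
theorem stalkIdeal_sig (v : X) {z : ↥(CohB1.ProjSpaceOver 1 X)} (h : v ⤳ π z) :
    IntMult.stalkIdeal (IntMult.ptIdeal (H3CAlg.ProdPt.sig π v)) z =
      (IntMult.stalkIdeal (IntMult.ptIdeal v) (π z)).map ((CohB1.ProjSpaceOver.toBase 1 X).stalkMap z).hom := by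
  rw [← H3CAlg.DiagStalk.stalkIdeal_comap]
  have hs := sig_specializes_of v h
  refine le_antisymm ?_ (H3CAlg.IntPt.stalkIdeal_le_of_mem_support _ hs ?_)
  · haveI : IsReduced ((IntMult.ptIdeal v).comap π).subscheme := by
      haveI := H3CAlg.PairPt.isIntegral_ptIdeal v
      haveI : Smooth (pullback.snd π (IntMult.ptIdeal v).subschemeι) :=
        inferInstanceAs (Smooth (pullback.snd π (IntMult.ptIdeal v).subschemeι))
      haveI : IsReduced (pullback π (IntMult.ptIdeal v).subschemeι) :=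
        H13AlgSp.isReduced_of_smooth_mor (pullback.snd π (IntMult.ptIdeal v).subschemeι)
      exact isReduced_of_isOpenImmersion ((IntMult.ptIdeal v).comapIso π).hom
    have hz : z ∈ ((IntMult.ptIdeal v).comap π).support := by
      rw [Scheme.IdealSheafData.support_comap]
      exact h.mem_closed (IntMult.ptIdeal v).support.isClosed (H3CAlg.ProdPt.mem_support_ptIdeal v)
    rw [← (isRadical_stalkIdeal _ hz).radical, Ideal.radical_eq_sInf]
    refine le_sInf fun J hJ => ?_
    haveI := hJ.2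
    let 𝔭 : PrimeSpectrum ((CohB1.ProjSpaceOver 1 X).presheaf.stalk z) := ⟨J, hJ.2⟩
    have h1 := (H3CAlg.IntLocal.stalkIdeal_le_iff _ hz 𝔭).mp hJ.1
    rw [Scheme.IdealSheafData.support_comap] at h1
    refine (H3CAlg.IntLocal.stalkIdeal_le_iff _ ?_ 𝔭).mpr ?_
    · exact hs.mem_closed (IntMult.ptIdeal _).support.isClosed (H3CAlg.ProdPt.mem_support_ptIdeal _)
    · exact (sig_specializes_of v (H3CAlg.ProdPt.specializes_of_mem_support h1)).mem_closed
        (IntMult.ptIdeal _).support.isClosed (H3CAlg.ProdPt.mem_support_ptIdeal _)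
  · rw [Scheme.IdealSheafData.support_comap]
    show π (H3CAlg.ProdPt.sig π v) ∈ (IntMult.ptIdeal v).support
    rw [H3CAlg.ProdPt.apply_sig]
    exact H3CAlg.ProdPt.mem_support_ptIdeal v

end Groth.Agent.H3Cyc.P1Prod
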