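import Groth.Agent.H3Cyc.P1Cyc
import Groth.Agent.H3Cyc.SheafLen
import Groth.Agent.H3Cyc.FlatRat
import Groth.Agent.H3Cyc.RatFam
import Groth.Agent.H3Cyc.RatSplit
import Groth.Agent.H3Cyc.BCPush
import Groth.Agent.H06Mod.StalkFaithful
import Mathlib

/-!
# The fibres over `0` and `∞` of a coherent sheaf on `P¹_X`
-/

set_option autoImplicit false
set_option linter.style.haveILetI false
set_option backward.isDefEq.respectTransparency.types false
universe u

open AlgebraicGeometry CategoryTheory CategoryTheory.Limits IsLocalRing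
open scoped Pointwise Classical TensorProduct

namespace Groth.Agent.H3Cyc.P1C

attribute [local instance] H06Mod.stalkAlgebra

variable {X : Scheme.{u}} {δ : X → ℤ} {δP : ↥(CohB1.ProjSpaceOver 1 X) → ℤ}

local notation "P" => CohB1.ProjSpaceOver 1 X
local notation "π" => CohB1.ProjSpaceOver.toBase 1 X

/-- The germ of the `i`-th coordinate. -/
noncomputable def germC (i : Fin (1 + 1)) (p : ↥P) (h : p ∈ U X i) : (P).presheaf.stalk p :=
  (P).presheaf.germ (U X i) p h (coord X i)

theorem germC_specializes (i : Fin (1 + 1)) {p z : ↥P} (hs : z ⤳ p) (h : p ∈ U X i) :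
    (P).presheaf.stalkSpecializes hs (germC i p h) = germC i z (hs.mem_open (U X i).2 h) :=
  TopCat.Presheaf.germ_stalkSpecializes_apply _ _ hs _

theorem toBase_sect (i : Fin (1 + 1)) (x : X) : π (P1.sect X i x) = x := by
  rw [← Scheme.Hom.comp_apply, sect_toBase]; rfl

theorem ker_sect_stalkMap (i : Fin (1 + 1)) (x : X) (h : P1.sect X i x ∈ U X i) :
    RingHom.ker ((P1.sect X i).stalkMap x).hom = Ideal.span {germC i (P1.sect X i x) h} := by
  set e := pullback.snd (𝟙 P) (P1.sect X i) with he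
  haveI : IsIso e := inferInstanceAs (IsIso (pullback.snd (𝟙 P) (P1.sect X i)))
  obtain ⟨w, rfl⟩ : ∃ w, e w = x := ⟨(inv e) x, by rw [← Scheme.Hom.comp_apply, IsIso.inv_hom_id]; rfl⟩
  have hc : pullback.fst (𝟙 P) (P1.sect X i) = e ≫ P1.sect X i := by
    rw [he, ← pullback.condition, Category.comp_id]
  have key : ∀ (j : pullback (𝟙 P) (P1.sect X i) ⟶ P) (hj : j = pullback.fst (𝟙 P) (P1.sect X i)) (hw : j w ∈ U X i),
      RingHom.ker (j.stalkMap w).hom = Ideal.span {germC i (j w) hw} := by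
    rintro j rfl hw
    rw [ker_fst_stalkMap (𝟙 P) i w hw]
    congr 2
    rw [fibEq, Scheme.Hom.stalkMap_id]
    rfl
  have h1 := key (e ≫ P1.sect X i) hc.symm h
  rw [Scheme.Hom.stalkMap_comp] at h1
  refine Eq.trans ?_ h1
  ext a
  show (P1.sect X i).stalkMap (e w) a = 0 ↔ e.stalkMap w ((P1.sect X i).stalkMap (e w) a) = 0
  exact ⟨fun e0 => by rw [e0, map_zero], fun e0 =>
    (asIso (e.stalkMap w)).commRingCatIsoToRingEquiv.injective (e0.trans (map_zero _).symm)⟩

theorem length_stalk_sect (i : Fin (1 + 1)) (F : (P).Modules) (x : X) (h : P1.sect X i x ∈ U X i) :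
    Module.length (X.presheaf.stalk x) (((Scheme.Modules.pullback (P1.sect X i)).obj F).presheaf.stalk x) =
      Module.length ((P).presheaf.stalk (P1.sect X i x)) (F.presheaf.stalk (P1.sect X i x) ⧸
        germC i (P1.sect X i x) h • (⊤ : Submodule ((P).presheaf.stalk (P1.sect X i x)) (F.presheaf.stalk (P1.sect X i x)))) := by
  let A := (P).presheaf.stalk ((P1.sect X i).base x)
  let M := F.presheaf.stalk ((P1.sect X i).base x)
  have hsurj : Function.Surjective (algebraMap A (X.presheaf.stalk x)) := (P1.sect X i).stalkMap_surjective x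
  rw [← (H06Mod.pullStalkEquiv (P1.sect X i) F x).length_eq,
    ← Module.length_eq_of_surjective (S := A) (R := X.presheaf.stalk x) hsurj]
  let I : Ideal A := Ideal.span {germC i (P1.sect X i x) h}
  let e : (A ⧸ I) ≃ₗ[A] X.presheaf.stalk x :=
    (Submodule.quotEquivOfEq _ _ (ker_sect_stalkMap i x h).symm).trans
      (Ideal.quotientKerAlgEquivOfSurjective (f := Algebra.ofId A (X.presheaf.stalk x)) hsurj).toLinearEquiv
  exact ((TensorProduct.congr e.symm (LinearEquiv.refl A M)).trans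
    ((TensorProduct.quotTensorEquivQuotSMul M I).trans
      (Submodule.quotEquivOfEq _ _ (Submodule.ideal_span_singleton_smul _ _)))).length_eq

theorem nontrivial_sect [IsLocallyNoetherian P] (i : Fin (1 + 1)) (F : (P).Modules) (hF : Coh.IsCoh F) (y : X)
    (hn : Nontrivial (F.presheaf.stalk (P1.sect X i y))) :
    Nontrivial (((Scheme.Modules.pullback (P1.sect X i)).obj F).presheaf.stalk y) := by
  obtain ⟨h, hm⟩ := mem_U_of_mem_range (i := i) ⟨y, rfl⟩
  haveI : Module.Finite ((P).presheaf.stalk (P1.sect X i y)) (F.presheaf.stalk (P1.sect X i y)) :=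
    H3CAlg.ChiStalk.finite_stalk F hF _
  rw [← Module.length_pos_iff (R := X.presheaf.stalk y), length_stalk_sect i F y h, Module.length_pos_iff,
    Submodule.Quotient.nontrivial_iff]
  exact (Submodule.top_ne_pointwise_smul_of_mem_jacobson_annihilator
    (IsLocalRing.maximalIdeal_le_jacobson _ hm)).symm

/-- The generic points of the `(k+1)`-dimensional part of the support. -/
def genSet (δP : ↥P → ℤ) (k : ℤ) (F : (P).Modules) : Set ↥P :=
  {z | δP z = k + 1 ∧ Nontrivial (F.presheaf.stalk z)}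

theorem finite_genSet_inter [IsLocallyNoetherian P] (hPs : Cyc.IsDimFun P δP) (k : ℤ) (F : (P).Modules) (hF : Coh.IsCoh F)
    (hsupp : ∀ p, Nontrivial (F.presheaf.stalk p) → δP p ≤ k + 1) {W : (P).Opens} (hW : IsAffineOpen W) :
    ((W : Set ↥P) ∩ genSet δP k F).Finite := by
  haveI : IsNoetherianRing Γ(P, W) := IsLocallyNoetherian.component_noetherian ⟨W, hW⟩
  haveI : F.IsQuasicoherent := hF.1
  haveI : Module.Finite Γ(P, W) Γ(F, W) := Groth.Agent.H10Coh.finite_sections F hF.2 hW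
  let I := Module.annihilator Γ(P, W) Γ(F, W)
  have hfin : (((↑) '' {w : W | (w : ↥P) ∈ genSet δP k F}) : Set ↥P) = (W : Set ↥P) ∩ genSet δP k F := by
    ext z
    exact ⟨fun ⟨w, hw, e⟩ => e ▸ ⟨w.2, hw⟩, fun hz => ⟨⟨z, hz.1⟩, hz.2, rfl⟩⟩
  rw [← hfin]
  refine Set.Finite.image _ (Set.Finite.of_finite_image
    (f := fun w : W => (hW.primeIdealOf w).asIdeal) ((Ideal.finite_minimalPrimes_of_isNoetherianRing _ I).subset ?_) ?_)
  · rintro _ ⟨w, ⟨hwk, hwn⟩, rfl⟩
    have hs : hW.primeIdealOf w ∈ Module.support Γ(P, W) Γ(F, W) :=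
      (H22Alg.CohSupport.nontrivial_stalk_iff F hF.1 hW w).mp hwn
    rw [Module.mem_support_iff_of_finite] at hs
    refine ⟨⟨(hW.primeIdealOf w).isPrime, hs⟩, fun q ⟨hq, hIq⟩ hle => ?_⟩
    let y : W := ⟨hW.fromSpec ⟨q, hq⟩, hW.range_fromSpec.le ⟨_, rfl⟩⟩
    have hy : hW.primeIdealOf y = ⟨q, hq⟩ := hW.fromSpec.isOpenEmbedding.injective (hW.fromSpec_primeIdealOf y)
    have hyn : Nontrivial (F.presheaf.stalk y.1) := (H22Alg.CohSupport.nontrivial_stalk_iff F hF.1 hW y).mpr (by
      rw [hy, Module.mem_support_iff_of_finite]; exact hIq)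
    have hspec : y.1 ⤳ w.1 := by
      rw [← hW.fromSpec_primeIdealOf w]
      exact ((PrimeSpectrum.le_iff_specializes (⟨q, hq⟩ : PrimeSpectrum Γ(P, W)) (hW.primeIdealOf w)).mp hle).map
        hW.fromSpec.continuous
    have heq : y.1 = w.1 := by
      by_contra hne
      have h1 := (hPs y.1 w.1 hspec hne).1
      have h2 := hsupp _ hyn
      omega
    show (hW.primeIdealOf w).asIdeal ≤ q
    rw [← show y = w from Subtype.ext heq, hy]
  · intro a _ b _ e
    refine Subtype.ext ?_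
    rw [← hW.fromSpec_primeIdealOf a, ← hW.fromSpec_primeIdealOf b, PrimeSpectrum.ext e]

/-- The value at `p` of the divisor of the coordinate on the closure of `z`. -/
theorem ordAt_coord [IsLocallyNoetherian P] (hPs : Cyc.IsDimFun P δP) {p z : ↥P} (hs : z ⤳ p) (hd : δP p + 1 = δP z)
    (hz : ∀ i, z ∉ Set.range (P1.sect X i)) :
    (∀ h : p ∈ U X 0, Cyc.divFun δP z ((P).residue z (germC 0 z (mem_U_of_notMem_range (hz _)))) p =
      ((Ring.ord (Cyc.LocQuot p z hs) (Ideal.Quotient.mk _ (germC 0 p h))).toNat : ℤ)) ∧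
    (∀ h : p ∈ U X 1, Cyc.divFun δP z ((P).residue z (germC 0 z (mem_U_of_notMem_range (hz _)))) p =
      -((Ring.ord (Cyc.LocQuot p z hs) (Ideal.Quotient.mk _ (germC 1 p h))).toNat : ℤ)) := by
  have hdim : ringKrullDim (Cyc.LocQuot p z hs) ≤ 1 := by
    rw [H22Alg.DeltaDim.eq_ringKrullDim_locQuot hPs hs, show (δP z - δP p).toNat = 1 by omega]
    norm_num
  have hne : ∀ (i : Fin (1 + 1)) (h : p ∈ U X i), Cyc.specMap p z hs (germC i p h) ≠ 0 := fun i h e => by
    refine hz i (mem_range_sect (hs.mem_open (U X i).2 h) ((IsLocalRing.residue_eq_zero_iff _).mp ?_))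
    show (P).residue z (germC i z _) = 0
    rw [← germC_specializes i hs h]
    exact e
  have hone : Cyc.specMap p z hs 1 ≠ 0 := by rw [map_one]; exact one_ne_zero
  have hord1 : ((Ring.ord (Cyc.LocQuot p z hs) (Ideal.Quotient.mk _ (1 : (P).presheaf.stalk p))).toNat : ℤ) = 0 := by
    rw [map_one, Ring.ord_one]; rfl
  refine ⟨fun h => ?_, fun h => ?_⟩ <;> simp only [Cyc.divFun] <;> rw [dif_pos ⟨hs, hd⟩]
  · have e : (P).residue z (germC 0 z (mem_U_of_notMem_range (hz _))) =
        Cyc.specMap p z hs (germC 0 p h) / Cyc.specMap p z hs 1 := by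
      rw [map_one, div_one, ← germC_specializes 0 hs h]; rfl
    rw [e, FlatRat.ordAt_div' p z hs hdim _ _ (hne 0 h) hone, hord1, sub_zero]
  · have e : (P).residue z (germC 0 z (mem_U_of_notMem_range (hz _))) =
        Cyc.specMap p z hs 1 / Cyc.specMap p z hs (germC 1 p h) := by
      rw [eq_div_iff (hne 1 h), map_one]
      show (P).residue z (germC 0 z _) * (P).residue z ((P).presheaf.stalkSpecializes hs (germC 1 p h)) = 1
      have hmul := germ_coord_mul X 0 z (mem_U_of_notMem_range (hz _)) (hs.mem_open (U X 1).2 h)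
      rw [germC_specializes, ← map_mul, show germC 0 z _ * germC 1 z (hs.mem_open (U X 1).2 h) = 1 from hmul, map_one]
    rw [e, FlatRat.ordAt_div' p z hs hdim _ _ hone (hne 1 h), hord1, zero_sub]

theorem isSMulRegular_coord [IsLocallyNoetherian P] (hPs : Cyc.IsDimFun P δP)
    (hP : Cyc.DeltaCompat π δP δ) (k : ℤ) (F : (P).Modules) (hF : Coh.IsCoh F)
    (hsupp : ∀ p, Nontrivial (F.presheaf.stalk p) → δP p ≤ k + 1)
    (hgood : ∀ z ∈ genSet δP k F, ∀ i, z ∉ Set.range (P1.sect X i))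
    (hemb : ∀ p, IsAssociatedPrime (maximalIdeal ((P).presheaf.stalk p)) (F.presheaf.stalk p) →
      p ∉ Set.range (P1.sect X 0) ∪ Set.range (P1.sect X 1) ∨ δP p < k)
    (i : Fin (1 + 1)) (x : X) (hx : δ x = k) (h : P1.sect X i x ∈ U X i) :
    IsSMulRegular (F.presheaf.stalk (P1.sect X i x)) (germC i (P1.sect X i x) h) := by
  set p := P1.sect X i x with hp
  have hpk : δP p = k := by rw [hp, delta_sect hP, hx]
  haveI : Module.Finite ((P).presheaf.stalk p) (F.presheaf.stalk p) := H3CAlg.ChiStalk.finite_stalk F hF p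
  by_contra hreg
  have h1 := (biUnion_associatedPrimes_eq_compl_regular ((P).presheaf.stalk p) (M := F.presheaf.stalk p)).ge hreg
  obtain ⟨Q, hQ, haQ⟩ := Set.mem_iUnion₂.mp h1
  haveI := IsAssociatedPrime.isPrime hQ
  let Q' : PrimeSpectrum ((P).presheaf.stalk p) := ⟨Q, IsAssociatedPrime.isPrime hQ⟩
  have hsQ : Q' ∈ Module.support ((P).presheaf.stalk p) (F.presheaf.stalk p) := by
    obtain ⟨hq, m, hm⟩ := hQ
    refine Module.mem_support_iff'.mpr ⟨m, fun r hr e => hr ?_⟩
    show r ∈ Q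
    rw [hm]
    exact Ideal.le_radical (Submodule.mem_colon_singleton.mpr (by rw [e]; exact Submodule.zero_mem _))
  by_cases hQm : Q = maximalIdeal _
  · rcases hemb p (hQm ▸ hQ) with h2 | h2
    · exact h2 (by fin_cases i <;> first | exact Or.inl ⟨x, rfl⟩ | exact Or.inr ⟨x, rfl⟩)
    · omega
  obtain ⟨hs, hker⟩ := GenStalk.ker_specMap_fromSpecStalk p Q'
  set z := (P).fromSpecStalk p Q' with hz
  have hzn : Nontrivial (F.presheaf.stalk z) := by
    refine (SheafLen.mem_support_iff F hF p z hs).mp ?_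
    rw [show (⟨RingHom.ker (Cyc.specMap p z hs), GenStalk.isPrime_ker p z hs⟩ : PrimeSpectrum ((P).presheaf.stalk p)) = Q'
      from PrimeSpectrum.ext hker.symm]
    exact hsQ
  have hne : z ≠ p := fun e => hQm (congrArg PrimeSpectrum.asIdeal (show Q' = IsLocalRing.closedPoint _ from
    ((P).fromSpecStalk p).isEmbedding.injective (e.trans Scheme.fromSpecStalk_closedPoint.symm)))
  have hzk : z ∈ genSet δP k F := ⟨by
    have h1 := (hPs z p hs hne).1
    have h2 := hsupp z hzn
    omega, hzn⟩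
  refine hgood z hzk i (mem_range_sect (hs.mem_open (U X i).2 h) ((IsLocalRing.residue_eq_zero_iff _).mp ?_))
  show (P).residue z (germC i z _) = 0
  rw [← germC_specializes i hs h]
  exact RingHom.mem_ker.mp (hker.le haQ)

set_option maxHeartbeats 400000 in
/-- **Rational equivalence of the fibres over `0` and `∞` of a coherent sheaf.** -/
theorem ratEquiv_fibres (hX : Cyc.IsSetup X δ) (hP : Cyc.DeltaCompat π δP δ) (k : ℤ) (F : (P).Modules) (hF : Coh.IsCoh F)
    (hsupp : ∀ p, Nontrivial (F.presheaf.stalk p) → δP p ≤ k + 1)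
    (hfib : ∀ i x, Nontrivial (((Scheme.Modules.pullback (P1.sect X i)).obj F).presheaf.stalk x) → δ x ≤ k)
    (hemb : ∀ p, IsAssociatedPrime (maximalIdeal ((P).presheaf.stalk p)) (F.presheaf.stalk p) →
      p ∉ Set.range (P1.sect X 0) ∪ Set.range (P1.sect X 1) ∨ δP p < k)
    (α β : AlgebraicCycle X ℤ)
    (hα : ∀ x, α x = Cyc.sheafFun δ k ((Scheme.Modules.pullback (P1.sect X 0)).obj F) x)
    (hβ : ∀ x, β x = Cyc.sheafFun δ k ((Scheme.Modules.pullback (P1.sect X 1)).obj F) x) :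
    Cyc.RatEquiv δ k α β := by
  haveI := hX.1
  have hPs := isSetup_of_locallyOfFiniteType π hX hP
  haveI := hPs.1
  set G := genSet δP k F with hG
  have hgood : ∀ z ∈ G, ∀ i, z ∉ Set.range (P1.sect X i) := by
    rintro z ⟨hzk, hzn⟩ i ⟨y, rfl⟩
    have h2 := hfib i y (nontrivial_sect i F hF y hzn)
    rw [delta_sect hP] at hzk
    omega
  let g : (z : G) → (P).residueField z.1 := fun z => (P).residue z.1 (germC 0 z.1 (mem_U_of_notMem_range (hgood z.1 z.2 _)))
  let m : ↥P → ℤ := fun z => ((Module.length ((P).presheaf.stalk z) (F.presheaf.stalk z)).toNat : ℤ)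
  have hg : ∀ z : G, g z ≠ 0 := fun z e => hgood z.1 z.2 0
    (mem_range_sect (mem_U_of_notMem_range (hgood z.1 z.2 _)) ((IsLocalRing.residue_eq_zero_iff _).mp e))
  have hlf : ∀ p : ↥P, ∃ V : Set ↥P, IsOpen V ∧ p ∈ V ∧ {z : G | (closure {z.1} ∩ V).Nonempty}.Finite := fun p => by
    obtain ⟨W, hW, hpW, -⟩ := exists_isAffineOpen_mem_and_subset (show p ∈ (⊤ : (P).Opens) from trivial)
    refine ⟨W, W.2, hpW, ((finite_genSet_inter hPs.2.2 k F hF hsupp hW).preimage Subtype.val_injective.injOn).subset ?_⟩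
    rintro z ⟨q, hq, hqW⟩
    exact ⟨(specializes_iff_mem_closure.mpr hq).mem_open W.2 hqW, z.2⟩
  have hfam : RatFam δP k Set.univ (fun p => ∑ᶠ z : G, Cyc.divFun δP z.1 (g z ^ m z.1) p) :=
    ⟨G, fun z => z.1, fun z => g z ^ m z.1, fun z => ⟨z.2.1, trivial⟩, fun z => zpow_ne_zero _ (hg z), hlf, fun p => rfl⟩
  obtain ⟨γ, hγ, hγk⟩ := hfam.exists_cycle hPs.2.2
  have hγ0 : Cyc.RatEquiv δP k γ 0 := by
    rw [Cyc.RatEquiv, sub_zero]
    exact hfam.ratEquivZero fun p => by rw [hγ]
  let L : Fin (1 + 1) → ↥P → ℤ := fun i p => if h : p ∈ U X i then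
    ((Module.length ((P).presheaf.stalk p) (F.presheaf.stalk p ⧸
      germC i p h • (⊤ : Submodule ((P).presheaf.stalk p) (F.presheaf.stalk p)))).toNat : ℤ) else 0
  have hval : ∀ p, δP p = k → γ p = (if p ∈ Set.range (P1.sect X 0) then L 0 p else 0) -
      (if p ∈ Set.range (P1.sect X 1) then L 1 p else 0) := by
    intro p hp
    have hgen : ∀ z : ↥P, z ⤳ p → z ≠ p → Nontrivial (F.presheaf.stalk z) →
        ∀ w : ↥P, w ⤳ z → Nontrivial (F.presheaf.stalk w) → w = z := fun z hs hne hn w hw hwn => by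
      by_contra hwz
      have h1 := (hPs.2.2 z p hs hne).1
      have h2 := (hPs.2.2 w z hw hwz).1
      have h3 := hsupp w hwn
      omega
    let T := (SheafLen.finite_gen F hF p hgen).toFinset
    have hT : ∀ z, z ∈ T ↔ z ⤳ p ∧ z ≠ p ∧ Nontrivial (F.presheaf.stalk z) := fun z => (Set.Finite.mem_toFinset _).trans Iff.rfl
    have hTG : ∀ z ∈ T, z ∈ G ∧ δP p + 1 = δP z := fun z hz => by
      obtain ⟨hs, hne, hn⟩ := (hT z).mp hz
      have h1 := (hPs.2.2 z p hs hne).1
      have h2 := hsupp z hn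
      exact ⟨⟨by omega, hn⟩, by omega⟩
    have hsum : γ p = ∑ z ∈ T.attach, m z.1 * Cyc.divFun δP z.1 (g ⟨z.1, (hTG z.1 z.2).1⟩) p := by
      rw [hγ]
      beta_reduce
      simp only [C1Api.divFun_zpow δP _ (hg _)]
      have hinj : Function.Injective fun z : {z // z ∈ T} => (⟨z.1, (hTG z.1 z.2).1⟩ : G) :=
        fun a b e => Subtype.ext (congrArg Subtype.val e :)
      rw [finsum_eq_sum_of_support_subset _ (s := T.attach.image fun z => (⟨z.1, (hTG z.1 z.2).1⟩ : G)) ?_,
        Finset.sum_image hinj.injOn]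
      intro z hz
      have hd : Cyc.divFun δP z.1 (g z) p ≠ 0 := right_ne_zero_of_mul hz
      have hcond : z.1 ⤳ p ∧ δP p + 1 = δP z.1 := by
        by_contra hn
        refine hd ?_
        simp only [Cyc.divFun]
        rw [dif_neg hn]
      have hzT : z.1 ∈ T := (hT z.1).mpr ⟨hcond.1, fun e => by have := hcond.2; rw [e] at this; omega, z.2.2⟩
      simp only [Finset.coe_image, Set.mem_image, Finset.mem_coe, Finset.mem_attach, true_and]
      exact ⟨⟨z.1, hzT⟩, rfl⟩
    have hformula : ∀ (i : Fin (1 + 1)) (hU : p ∈ U X i), p ∈ Set.range (P1.sect X i) →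
        L i p = ∑ z ∈ T.attach, m z.1 *
          ((Ring.ord (Cyc.LocQuot p z.1 ((hT z.1).mp z.2).1) (Ideal.Quotient.mk _ (germC i p hU))).toNat : ℤ) := by
      intro i hU hr
      simp only [L, dif_pos hU]
      obtain ⟨x, rfl⟩ := hr
      refine SheafLen.length_quot_smul_stalk F hF (P1.sect X i x) hgen T hT (germC i _ hU)
        (isSMulRegular_coord hPs.2.2 hP k F hF hsupp hgood hemb i x (by rw [← delta_sect hP i x]; exact hp) hU)
        fun z hz hne hn e => ?_
      refine hgood z (hTG z ((hT z).mpr ⟨hz, hne, hn⟩)).1 i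
        (mem_range_sect (hz.mem_open (U X i).2 hU) ((IsLocalRing.residue_eq_zero_iff _).mp ?_))
      show (P).residue z (germC i z _) = 0
      rw [← germC_specializes i hz hU]
      exact e
    rw [hsum]
    by_cases h1 : p ∈ Set.range (P1.sect X 1)
    · have hU1 := (mem_U_of_mem_range h1).1
      have h0 : p ∉ Set.range (P1.sect X 0) := fun e => notMem_U_opp h1 (mem_U_of_mem_range e).1
      rw [if_neg h0, if_pos h1, hformula 1 hU1 h1, zero_sub, ← Finset.sum_neg_distrib]
      refine Finset.sum_congr rfl fun z _ => ?_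
      show m z.1 * Cyc.divFun δP z.1 _ p = _
      rw [(ordAt_coord hPs.2.2 ((hT z.1).mp z.2).1 (hTG z.1 z.2).2 (hgood z.1 (hTG z.1 z.2).1)).2 hU1, mul_neg]
    · have hU0 : p ∈ U X 0 := mem_U_of_notMem_range h1
      rw [if_neg h1, sub_zero, Finset.sum_congr rfl fun z _ => congrArg (fun t => m z.1 * t)
        ((ordAt_coord hPs.2.2 ((hT z.1).mp z.2).1 (hTG z.1 z.2).2 (hgood z.1 (hTG z.1 z.2).1)).1 hU0)]
      by_cases h0 : p ∈ Set.range (P1.sect X 0)
      · rw [if_pos h0, hformula 0 hU0 h0]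
      · rw [if_neg h0]
        refine Finset.sum_eq_zero fun z _ => ?_
        have hu : IsUnit (germC 0 p hU0) := (mem_U_opp hU0 h0).2
        rw [Ring.ord_of_isUnit (hu.map (Ideal.Quotient.mk _))]
        simp
  -- the push-forward
  have hmap := PushRat.ratEquiv_map π hPs hX hP k γ 0 hγ0
  obtain ⟨J, ξ, f, hk', hf, hlf', hsum'⟩ := hmap
  refine ⟨J, ξ, f, hk', hf, hlf', fun x => ?_⟩
  rw [← hsum' x]
  show α x - β x = (∑ᶠ p ∈ π ⁻¹' {x}, γ p * _) - (∑ᶠ p ∈ π ⁻¹' {x}, (0 : AlgebraicCycle P ℤ) p * _)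
  simp only [Function.locallyFinsuppWithin.coe_zero, Pi.zero_apply, zero_mul, finsum_mem_zero, sub_zero]
  rw [hα, hβ, Cyc.sheafFun, Cyc.sheafFun]
  by_cases hx : δ x = k
  swap
  · simp only [hx, if_false, sub_zero]
    refine (finsum_mem_eq_zero_of_forall_eq_zero fun p hp => ?_).symm
    by_cases hp0 : γ p = 0
    · rw [hp0, zero_mul]
    · rw [AlgebraicCycle.mapCoeff, if_neg]
      · simp
      · intro e
        have hpk : δP p = k := not_not.mp (mt (hγk p) hp0)
        exact hx (by rw [← show π p = x from hp, ← e, hpk])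
  simp only [hx, if_true]
  have hS : ∀ i, π (P1.sect X i x) = x ∧ δP (P1.sect X i x) = k ∧
      ((AlgebraicCycle.mapCoeff π δP δ (P1.sect X i x) : ℕ) : ℤ) = 1 := fun i => by
    refine ⟨toBase_sect i x, by rw [delta_sect hP, hx], ?_⟩
    rw [AlgebraicCycle.mapCoeff, if_pos (by rw [toBase_sect, delta_sect hP]),
      ← Gysin.residueDegree_immersion_comp (P1.sect X i) π x, sect_toBase, Gysin.residueDegree_immersion]
    simp
  have hne01 : P1.sect X 0 x ≠ P1.sect X 1 x := fun e =>
    notMem_U_opp (i := 1) ⟨x, rfl⟩ (e ▸ (mem_U_of_mem_range (i := 0) ⟨x, rfl⟩).1)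
  have r00 : P1.sect X 0 x ∈ Set.range (P1.sect X 0) := Set.mem_range_self x
  have r11 : P1.sect X 1 x ∈ Set.range (P1.sect X 1) := Set.mem_range_self x
  rw [finsum_mem_eq_sum_of_subset _ (t := {P1.sect X 0 x, P1.sect X 1 x}) ?_ ?_, Finset.sum_pair hne01,
    (hS 0).2.2, (hS 1).2.2, mul_one, mul_one, hval _ (hS 0).2.1, hval _ (hS 1).2.1,
    if_pos r00, if_pos r11]
  · have h00 := (mem_U_of_mem_range (i := 0) (p := P1.sect X 0 x) ⟨x, rfl⟩).1
    have h11 := (mem_U_of_mem_range (i := 1) (p := P1.sect X 1 x) ⟨x, rfl⟩).1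
    rw [if_neg fun e => notMem_U_opp (i := 1) e h00, if_neg fun e => notMem_U_opp (i := 0) e h11]
    simp only [L, dif_pos h00, dif_pos h11]
    rw [length_stalk_sect 0 F x h00, length_stalk_sect 1 F x h11]
    ring
  · rintro p ⟨hpx, hp⟩
    have hp0 : γ p ≠ 0 := left_ne_zero_of_mul hp
    have hpk : δP p = k := not_not.mp (mt (hγk p) hp0)
    rw [hval p hpk] at hp0
    simp only [Finset.coe_insert, Finset.coe_singleton, Set.mem_insert_iff, Set.mem_singleton_iff]
    by_cases h0 : p ∈ Set.range (P1.sect X 0)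
    · obtain ⟨y, rfl⟩ := h0
      rw [Set.mem_preimage, toBase_sect, Set.mem_singleton_iff] at hpx
      exact Or.inl (by rw [hpx])
    · rw [if_neg h0] at hp0
      by_cases h1 : p ∈ Set.range (P1.sect X 1)
      · obtain ⟨y, rfl⟩ := h1
        rw [Set.mem_preimage, toBase_sect, Set.mem_singleton_iff] at hpx
        exact Or.inr (by rw [hpx])
      · rw [if_neg h1] at hp0
        exact absurd (sub_zero (0 : ℤ)) hp0
  · intro p hp
    simp only [Finset.coe_insert, Finset.coe_singleton, Set.mem_insert_iff, Set.mem_singleton_iff] at hp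
    rcases hp with rfl | rfl <;> exact toBase_sect _ x

end Groth.Agent.H3Cyc.P1C
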