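import Groth.Agent.H3Cyc.PBRel
import Mathlib

/-!
# Chow groups of projective bundles: independence of the classes `c₁(O(1))^i ∩ p^*α`
-/

set_option autoImplicit false
set_option linter.style.haveILetI false
set_option linter.unusedSectionVars false
set_option backward.isDefEq.respectTransparency.types false
universe u

open CategoryTheory CategoryTheory.Limits AlgebraicGeometry

noncomputable section

namespace Groth.Agent.H3Cyc.PBChow

open PBundle

variable {X P : Scheme.{u}} {n : ℕ} {π : P ⟶ X} {O1 : P.Modules} (h : Bundle n π O1) {δ : X → ℤ} {δP : P → ℤ}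
  (hX : Cyc.IsSetup X δ) (hP : Cyc.IsSetup P δP) (hδ : Cyc.DeltaCompat π δP δ)

/-- `α ↦ c₁(O(1))^i ∩ π^*α`. -/
def T (i : ℕ) {j l : ℤ} (hjl : j + n = l + i) : ChowOps.CH X δ j →+ ChowOps.CH P δP l :=
  haveI := h.flat
  (Chow.c1pow hP h.invertible i (j := j + n) (k := l) hjl).comp
    (Chow.pull π hP hX (PBPush.maxDim h hδ) (j := j) (k := j + n) rfl)

theorem T_cl (i : ℕ) {j l : ℤ} (hjl : j + n = l + i) (α : AlgebraicCycle X ℤ) (hα : α ∈ Cyc.Zk X δ j)
    (t : ℕ → (ξ : P) → Cyc.secFibre O1 ξ) (ht : ∀ m ξ, t m ξ ≠ 0) :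
    ∃ (b : AlgebraicCycle P ℤ) (hb : b ∈ Cyc.Zk P δP l),
      ⇑b = Cyc.c1PowFun δP O1 t i (Cyc.pullFun π δP δ n ⇑α) ∧
      T h hX hP hδ i hjl (ChowOps.cl α hα) = ChowOps.cl b hb := by
  haveI := h.flat
  haveI := hX.1
  haveI := hP.1
  obtain ⟨a, ha, hak⟩ := C1Api.exists_pullFun_cycle π hP hX (PBPush.maxDim h hδ) j α hα
  obtain ⟨b, hb, hbf, hbe⟩ := Chow.c1pow_cl hP h.invertible i (j := j + n) (k := l) hjl a hak t ht
  refine ⟨b, hb, by rw [hbf, ha], ?_⟩
  show Chow.c1pow hP h.invertible i _ (Chow.pull π hP hX _ _ (ChowOps.cl α hα)) = _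
  rw [Chow.pull_cl π hP hX (PBPush.maxDim h hδ) (k := j + n) rfl α hα a hak ha, hbe]

theorem c1pow_T (a i : ℕ) {j l q : ℤ} (hjl : j + n = l + i) (hlq : l = q + a) (hjq : j + n = q + (a + i : ℕ))
    (c : ChowOps.CH X δ j) :
    Chow.c1pow hP h.invertible a hlq (T h hX hP hδ i hjl c) = T h hX hP hδ (a + i) hjq c :=
  Chow.c1pow_c1pow hP h.invertible a i _ _ hjq _

theorem push_T_lt [IsProper π] (s : ℕ) (hs : s < n) {j l : ℤ} (hjl : j + n = l + s) (c : ChowOps.CH X δ j) :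
    Chow.push π hP hX hδ l (T h hX hP hδ s hjl c) = 0 := by
  obtain ⟨α, hα, rfl⟩ := Chow.exists_cl c
  obtain ⟨b, hb, hbf, hbe⟩ := T_cl h hX hP hδ s hjl α hα (fun _ => Chow.sec h.invertible) (fun _ => Chow.sec_ne_zero _)
  rw [hbe, Chow.push_cl, Chow.cl_eq_zero_iff,
    PBPush.map_eq_zero hX α hα _ hs b hbf (show b ∈ Cyc.Zk P δP (j + n - s) by
      rw [show j + (n : ℤ) - s = l by omega]; exact hb)]
  exact RatRel.zero

theorem push_T_eq [IsProper π] (s : ℕ) (hs : s = n) {j l : ℤ} (hjl : j + n = l + s) (c : ChowOps.CH X δ j) :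
    Chow.push π hP hX hδ l (T h hX hP hδ s hjl c) = Chow.cast (by omega) c := by
  subst hs
  obtain ⟨α, hα, rfl⟩ := Chow.exists_cl c
  obtain ⟨b, hb, hbf, hbe⟩ := T_cl h hX hP hδ s hjl α hα (fun _ => Chow.sec h.invertible) (fun _ => Chow.sec_ne_zero _)
  rw [hbe, Chow.push_cl, Chow.cast_cl]
  refine Chow.cl_congr _ _ ?_
  rw [PBPush.map_eq h hX hP hδ α hα _ (fun _ => Chow.sec_ne_zero _) b hbf (show b ∈ Cyc.Zk P δP j by
    rw [show j = l by omega]; exact hb)]

/-- **Independence**: the classes `c₁(O(1))^i ∩ π^*α_i`, `i ≤ n`, are independent. -/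
theorem independent [IsProper π] {k : ℤ} (c : (i : Fin (n + 1)) → ChowOps.CH X δ (k + (i : ℕ)))
    (h0 : ∑ i : Fin (n + 1), T h hX hP hδ (i : ℕ) (l := k + n) (by ring) (c i) = 0) : ∀ i, c i = 0 := by
  suffices H : ∀ (m : ℕ) (i : Fin (n + 1)), n ≤ (i : ℕ) + m → c i = 0 from fun i => H n i (by omega)
  intro m
  induction m using Nat.strong_induction_on with
  | _ m ih =>
    intro i hi
    have key : Chow.push π hP hX hδ (k + (i : ℕ))
        (Chow.c1pow hP h.invertible (n - (i : ℕ)) (j := k + n) (by have := i.2; omega)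
          (∑ l : Fin (n + 1), T h hX hP hδ (l : ℕ) (l := k + n) (by ring) (c l))) = 0 := by
      rw [h0, map_zero, map_zero]
    rw [map_sum, map_sum, Finset.sum_eq_single i ?_ (fun hni => (hni (Finset.mem_univ i)).elim)] at key
    · rw [c1pow_T h hX hP hδ (n - (i : ℕ)) i _ _ (by have := i.2; omega) (c i),
        push_T_eq h hX hP hδ _ (by have := i.2; omega)] at key
      exact key
    · intro l _ hl
      have hl' : (l : ℕ) ≠ i := fun e => hl (Fin.ext e)
      rcases Nat.lt_or_gt_of_ne hl' with hlt | hgt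
      · rw [c1pow_T h hX hP hδ (n - (i : ℕ)) l _ _ (by have := i.2; omega) (c l),
          push_T_lt h hX hP hδ _ (by have := i.2; omega)]
      · rw [ih (n - (l : ℕ)) (by omega) l (by omega), map_zero, map_zero, map_zero]

end Groth.Agent.H3Cyc.PBChow
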