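import Groth.Agent.H3Cyc.PBundle
import Groth.Agent.H3Cyc.KIntNum
import Groth.Agent.H22Alg.MumfordHilb
import Groth.Agent.H28Pinch.DirectImageTrivial
import Groth.Agent.H11Proj.ProjSpace
import Groth.Agent.H06EGA9.StructureStalk
import Mathlib

/-!
# The degree of `c₁(O(1))^n` on `P^n`
-/

set_option autoImplicit false
set_option linter.style.haveILetI false
set_option linter.unusedSectionVars false
set_option backward.isDefEq.respectTransparency.types false
universe u

open CategoryTheory CategoryTheory.Limits AlgebraicGeometry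

noncomputable section

namespace Groth.Agent.H3Cyc.PBDeg

open H22Alg PBundle
open Groth.Agent.H10Coh.Stab (IsTwistFamily isTwistFamily_projSpace)

variable {K : Type u} [Field K] {n : ℕ} {P : Scheme.{u}}

theorem euler_twist (hn : 0 < n) (π : P ⟶ Spec (CommRingCat.of K)) {O1 : P.Modules} (h : Bundle n π O1) (d : ℤ) :
    letI : P.Over (Spec (CommRingCat.of K)) := ⟨π⟩
    Curv2.euler K P (PB.pw h.invertible d) = Ring.choose (d + n) n := by
  letI : P.Over (Spec (CommRingCat.of K)) := ⟨π⟩
  obtain ⟨a, ha, hπ, ⟨σ⟩⟩ := h.exists_iso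
  haveI := ha
  haveI := MumfordBound.proper_toSpec (k := K) (n := n)
  haveI := CMHyper.noetherian K n
  have hw : a ≫ (P ↘ Spec (CommRingCat.of K)) = CohB1.ProjSpace n K ↘ Spec (CommRingCat.of K) := hπ
  let O := PB.pw h.invertible d
  have hcoh := (H11Ample.isCoh_of_isInvertible (PB.isInvertible_pw h.invertible d)).1
  haveI : O.IsQuasicoherent := hcoh
  obtain ⟨a1⟩ := PB.nonempty_pw_one h.invertible
  obtain ⟨e⟩ := PB.nonempty_family_iso ((PB.isTwistFamily_pw h.invertible).pullback a) (isTwistFamily_projSpace n K)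
    ⟨(Scheme.Modules.pullback a).mapIso a1 ≪≫ σ⟩ d
  haveI : IsIso ((Scheme.Modules.pullbackPushforwardAdjunction a).unit.app O) :=
    H28Pinch.isIso_unit_of_isFinLocFree a (fun U => ConcreteCategory.bijective_of_isIso (a.app U)) O
      (PnVan.finLocFree_of_inv (PB.isInvertible_pw h.invertible d))
  haveI : ((Scheme.Modules.pullback a).obj O).IsQuasicoherent := H29Fitt.isQCoh_pullback a O hcoh
  refine (H25Euler.euler_congr (asIso ((Scheme.Modules.pullbackPushforwardAdjunction a).unit.app O))).trans ?_
  simp only [Functor.comp_obj]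
  rw [show Curv2.euler K P ((Scheme.Modules.pushforward a).obj ((Scheme.Modules.pullback a).obj O)) =
      Curv2.euler K _ ((Scheme.Modules.pullback a).obj O) from H28Int.Push.euler_push K a hw _,
    H25Euler.euler_congr e, MumfordField.euler_eq_eulerCharLE
      ((H11Ample.isCoh_of_isInvertible ((isTwistFamily_projSpace n K).inv d)).1)]
  exact S4466.result K n hn d

theorem choose_eq_zero {i : ℕ} (h1 : 1 ≤ i) (h2 : i ≤ n) : Ring.choose (-(i : ℤ) + n) n = 0 := by
  rw [show (-(i : ℤ) + n) = ((n - i : ℕ) : ℤ) by omega, Ring.choose_natCast,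
    Nat.choose_eq_zero_of_lt (by omega), Nat.cast_zero]

/-- Iterated differences of `χ(O(-i))`. -/
theorem D_replicate [P.Over (Spec (CommRingCat.of K))] [IsProper (P ↘ Spec (CommRingCat.of K))]
    {O : ℤ → P.Modules} (hO : IsTwistFamily O)
    (h : ∀ i : ℕ, i ≤ n → Curv2.euler K P (O (-(i : ℤ))) = if i = 0 then 1 else 0) :
    ∀ (m i : ℕ), i + m ≤ n → H28Int.D K (List.replicate m (O (-1))) (O (-(i : ℤ))) = if i = 0 then 1 else 0
  | 0, i, hi => h i (by omega)
  | m + 1, i, hi => by
    have hl : ∀ A ∈ List.replicate m (O (-1)), PicF.IsInvertible A := fun A hA => by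
      rw [List.eq_of_mem_replicate hA]; exact hO.inv _
    obtain ⟨e⟩ := hO.add (-1) (-(i : ℤ))
    show H28Int.D K (List.replicate m (O (-1))) (O (-(i : ℤ))) -
      H28Int.D K (List.replicate m (O (-1))) (CohB1.tensorMod (O (-1)) (O (-(i : ℤ)))) = _
    haveI := H28Int.isNoetherian K (X := P)
    rw [(H28Int.isAddFn_D K _ hl).congr e, show (-1 : ℤ) + -(i : ℤ) = -((i + 1 : ℕ) : ℤ) by omega,
      D_replicate hO h m i (by omega), D_replicate hO h m (i + 1) (by omega)]
    simp

theorem length_structure (x : P) : Module.length (P.presheaf.stalk x) ((Coh.structureModule P).presheaf.stalk x) =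
    Module.length (P.presheaf.stalk x) (P.presheaf.stalk x) :=
  (LinearEquiv.ofBijective (LinearMap.toSpanSingleton (P.presheaf.stalk x) _ (H06EGA9.oneStalk x))
    (H06EGA9.bijective_smul_oneStalk x)).length_eq.symm

/-- `deg (c₁(O(1))^n ∩ [P^n]) = 1`. -/
theorem deg_one (π : P ⟶ Spec (CommRingCat.of K)) {O1 : P.Modules} (h : Bundle n π O1)
    {δ : P → ℤ} (hδ : Cyc.DeltaCompat π δ (fun _ => 0))
    (s : Fin n → (ξ : P) → Cyc.secFibre O1 ξ) (hs : ∀ i ξ, s i ξ ≠ 0)
    (a : P → ℤ) (ha : haveI := (Bundle.isIntegral_of_field h).1; a = Set.indicator {genericPoint P} (fun _ => 1)) :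
    (∑ᶠ x : P, (π.residueDegree x : ℤ) * KIntNum.capIter δ n (fun _ => O1) s a x) = 1 := by
  classical
  letI : P.Over (Spec (CommRingCat.of K)) := ⟨π⟩
  haveI : IsProper (P ↘ Spec (CommRingCat.of K)) := h.isProper
  haveI := (Bundle.isIntegral_of_field h).1
  haveI := h.isProper
  have hδ' : Cyc.DeltaCompat (P ↘ Spec (CommRingCat.of K)) δ (fun _ => 0) := hδ
  have hX := KDegree.isSetup hδ'
  haveI := hX.1
  have hgen : δ (genericPoint P) = n := by
    have e := H22Alg.CycBasic.delta_eq_of_maximal π h.hasRelDim hδ (genericPoint P)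
      fun x _ hx => (hx.antisymm (genericPoint_specializes x)).eq
    rw [e]; simp
  have hle : ∀ x, δ x ≤ n := fun x => by
    have e := H22Alg.CycBasic.delta_le_of_hasRelDim π h.hasRelDim hδ x
    simpa using e
  have hF : Cyc.CohLe δ (n : ℤ) (Coh.structureModule P) := ⟨H10Coh.isCoh_structureModule' _, fun x _ => hle x⟩
  have hsf : Cyc.sheafFun δ (n : ℤ) (Coh.structureModule P) = a := by
    funext x
    rw [ha]
    by_cases hx : x = genericPoint P
    · subst hx
      rw [Set.indicator_of_mem (Set.mem_singleton _)]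
      simp only [Cyc.sheafFun]
      rw [if_pos hgen, length_structure]
      haveI : IsSimpleModule (P.functionField) P.functionField := inferInstance
      rw [show Module.length (P.presheaf.stalk (genericPoint P)) (P.presheaf.stalk (genericPoint P)) = 1 from
        Module.length_eq_one P.functionField P.functionField]
      simp
    · rw [Set.indicator_of_notMem (s := {genericPoint P}) hx]
      simp only [Cyc.sheafFun]
      rw [if_neg fun e => ?_]
      have := (hX.2.2 _ _ (genericPoint_specializes x) (Ne.symm hx)).1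
      omega
  rcases Nat.eq_zero_or_pos n with hn | hn
  · subst hn
    show ∑ᶠ x : P, (π.residueDegree x : ℤ) * a x = 1
    obtain ⟨b, hb, hbπ, -⟩ := h.exists_iso
    haveI := hb
    rw [finsum_eq_single _ (genericPoint P) fun x hx => by rw [ha, Set.indicator_of_notMem (s := {genericPoint P}) hx, mul_zero],
      ha, Set.indicator_of_mem (Set.mem_singleton _), mul_one]
    haveI : IsIntegral (CohB1.ProjSpace 0 K) := LeadPic.PnRel.isIntegral_projSpace (n := 0) K
    obtain ⟨z, hz⟩ := (asIso b).schemeIsoToHomeo.surjective (genericPoint P)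
    have e1 : π.residueDegree (genericPoint P) = (CohB1.ProjSpace.toSpec 0 K).residueDegree z := by
      rw [← hz, ← hbπ]
      exact (Gysin.residueDegree_immersion_comp b π z).symm
    haveI : IsIso (CohB1.ProjSpace.toSpec 0 K) := H11Proj.ProjSpace.isIso_toSpec_zero K
    rw [e1, Gysin.residueDegree_immersion]
    rfl
  · have hD := KIntNum.D_eq_deg hδ' n (fun _ => O1) (fun _ => PB.pw h.invertible (-1)) (fun _ => h.invertible)
      (fun _ => PB.isInvertible_pw _ _) (fun _ => by
        obtain ⟨a1⟩ := PB.nonempty_pw_one h.invertible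
        obtain ⟨e⟩ := (PB.isTwistFamily_pw h.invertible).add (-1) 1
        obtain ⟨z⟩ := (PB.isTwistFamily_pw h.invertible).zero
        exact ⟨PicGrp.tensorModIso (Iso.refl _) a1.symm ≪≫ e ≪≫
          eqToIso (congrArg (PB.pw h.invertible) (show (-1 : ℤ) + 1 = 0 by norm_num)) ≪≫ z⟩)
      s hs (Coh.structureModule P) hF
    rw [hsf] at hD
    refine Eq.trans hD.symm ?_
    obtain ⟨z⟩ := (PB.isTwistFamily_pw h.invertible).zero
    haveI := H28Int.isNoetherian K (X := P)
    have hl : ∀ A ∈ List.replicate n (PB.pw h.invertible (-1)), PicF.IsInvertible A := fun A hA => by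
      rw [List.eq_of_mem_replicate hA]; exact PB.isInvertible_pw _ _
    rw [List.ofFn_const, ← (H28Int.isAddFn_D K _ hl).congr z]
    refine D_replicate (n := n) (PB.isTwistFamily_pw h.invertible) (fun i hi => ?_) n 0 (by omega)
    rw [euler_twist hn π h]
    rcases Nat.eq_zero_or_pos i with rfl | hi'
    · simp [Ring.choose_natCast]
    · rw [if_neg (by omega)]; exact choose_eq_zero (n := n) hi' hi

end Groth.Agent.H3Cyc.PBDeg
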