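import Groth.Agent.H3Cyc.Chow
import Groth.Agent.H3Cyc.KAffine
import Groth.Agent.H11Proj.ProjSpace
import Mathlib

/-!
# Chow groups of `P^n` over a field are cyclic
-/

set_option autoImplicit false
set_option linter.style.haveILetI false
set_option linter.unusedSectionVars false
set_option backward.isDefEq.respectTransparency.types false
universe u

open CategoryTheory CategoryTheory.Limits AlgebraicGeometry HomogeneousLocalization MvPolynomial
open Groth.Agent.H11Proj (ProjSpace.X_mem ProjSpace.chartMap ProjSpace.chartMap_bijective)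

noncomputable section

namespace Groth.Agent.H3Cyc.PnCyclic

/-- A rationally trivial cycle on a locally closed subscheme extends. -/
theorem extend {W X : Scheme.{u}} [IsLocallyNoetherian X] [CompactSpace W] (q : W ⟶ X) [IsPreimmersion q] {δ : X → ℤ}
    (hX : Cyc.IsDimFun X δ) {k : ℤ} {γ : AlgebraicCycle W ℤ} (h : Cyc.RatEquivZero (fun w => δ (q w)) k γ) :
    ∃ G : AlgebraicCycle X ℤ, Cyc.RatEquivZero δ k G ∧ G ∈ Cyc.Zk X δ k ∧ (∀ w, G (q w) = γ w) ∧
      ∀ x, G x ≠ 0 → ∃ w, q w ⤳ x := by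
  classical
  obtain ⟨ι, ξ, g, hξ, hg, hlf, hval⟩ := h
  choose c hc using fun i => KAffine.surjective_residueFieldMap_of_isPreimmersion q (ξ i) (g i)
  choose U hU hmem hfin using hlf
  obtain ⟨t, ht⟩ := (isCompact_univ (X := W)).elim_finite_subcover U hU
    fun u _ => Set.mem_iUnion.mpr ⟨u, hmem u⟩
  haveI : Finite ι := Set.finite_univ_iff.mp ((t.finite_toSet.biUnion fun u _ => hfin u).subset fun i _ => by
    obtain ⟨u, hu, hiu⟩ := Set.mem_iUnion₂.mp (ht (Set.mem_univ (ξ i)))
    exact Set.mem_biUnion hu ⟨ξ i, subset_closure rfl, hiu⟩)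
  have hfam : RatFam δ k Set.univ fun x => ∑ᶠ i, Cyc.divFun δ (q (ξ i)) (c i) x :=
    ⟨ι, fun i => q (ξ i), c, fun i => ⟨hξ i, trivial⟩, fun i h0 => hg i (by rw [← hc i, h0, _root_.map_zero]),
      fun x => ⟨Set.univ, isOpen_univ, trivial, Set.toFinite _⟩, fun x => rfl⟩
  obtain ⟨G, hG, hGk⟩ := RatFam.exists_cycle (X := X) hX hfam
  refine ⟨G, hfam.ratEquivZero (congrFun hG), hGk, fun w => ?_, fun x hx => ?_⟩
  · rw [hG, hval]
    refine finsum_congr fun i => ?_
    rw [← hc i]
    exact (Reduction.divFun_immersion q δ (ξ i) (c i) w).symm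
  · obtain ⟨i, hi⟩ : ∃ i, Cyc.divFun δ (q (ξ i)) (c i) x ≠ 0 := by
      by_contra hn
      exact hx (by rw [congrFun hG x]; exact finsum_eq_zero_of_forall_eq_zero fun i => not_not.mp (not_exists.mp hn i))
    refine ⟨ξ i, ?_⟩
    by_contra hn
    refine hi ?_
    simp only [Cyc.divFun]
    rw [dif_neg fun hh => hn hh.1]

variable (n : ℕ) (K : Type u) [Field K]

local notation "G" => CohB1.polyGrading n K

/-- The variables of the stratum. -/
abbrev σ (i : Fin (n + 1)) : Type := {j : Fin (n + 1) // i < j}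

/-- The stratum in the chart. -/
def φ (i : Fin (n + 1)) : MvPolynomial {j : Fin (n + 1) // j ≠ i} K →+* MvPolynomial (ULift.{u} (σ n i)) K :=
  eval₂Hom C fun j => if h : i < j.1 then X ⟨⟨j.1, h⟩⟩ else 0

theorem φ_surjective (i : Fin (n + 1)) : Function.Surjective (φ n K i) := by
  intro p
  refine ⟨MvPolynomial.rename (fun s : ULift.{u} (σ n i) =>
    (⟨s.down.1, (ne_of_lt s.down.2).symm⟩ : {j : Fin (n + 1) // j ≠ i})) p, ?_⟩
  have : ((φ n K i).comp (MvPolynomial.rename (R := K) fun s : ULift.{u} (σ n i) =>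
      (⟨s.down.1, (ne_of_lt s.down.2).symm⟩ : {j : Fin (n + 1) // j ≠ i})).toRingHom) = RingHom.id _ := by
    refine MvPolynomial.ringHom_ext (fun r => by simp [φ]) fun s => ?_
    simp [φ, s.down.2]
  exact RingHom.congr_fun this p

/-- The chart ring map. -/
def chartEquiv (i : Fin (n + 1)) :
    MvPolynomial {j : Fin (n + 1) // j ≠ i} K ≃+* Away G (X i) :=
  RingEquiv.ofBijective (ProjSpace.chartMap n K i) (ProjSpace.chartMap_bijective n K i)

/-- The ring map of the stratum. -/
def ψ (i : Fin (n + 1)) : Away G (X i) →+* MvPolynomial (ULift.{u} (σ n i)) K :=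
  (φ n K i).comp (chartEquiv n K i).symm.toRingHom

theorem ψ_surjective (i : Fin (n + 1)) : Function.Surjective (ψ n K i) :=
  (φ_surjective n K i).comp (chartEquiv n K i).symm.surjective

/-- The chart `X_i ≠ 0`. -/
def aw (i : Fin (n + 1)) : Spec (CommRingCat.of (Away G (X i))) ⟶ CohB1.ProjSpace n K :=
  Proj.awayι G (X i) (ProjSpace.X_mem n K i) one_pos

instance (i : Fin (n + 1)) : IsOpenImmersion (aw n K i) :=
  inferInstanceAs (IsOpenImmersion (Proj.awayι _ _ _ _))

/-- The stratum `X_k = 0 (k < i), X_i ≠ 0`. -/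
def q (i : Fin (n + 1)) :
    Spec (CommRingCat.of (MvPolynomial (ULift.{u} (σ n i)) K)) ⟶ CohB1.ProjSpace n K :=
  Spec.map (CommRingCat.ofHom (ψ n K i)) ≫ aw n K i

instance (i : Fin (n + 1)) : IsPreimmersion (q n K i) := by
  haveI : IsClosedImmersion (Spec.map (CommRingCat.ofHom (ψ n K i))) :=
    IsClosedImmersion.spec_of_surjective _ (ψ_surjective n K i)
  exact inferInstanceAs (IsPreimmersion (Spec.map (CommRingCat.ofHom (ψ n K i)) ≫ aw n K i))

/-- `X_k ≠ 0`. -/
abbrev D (k : Fin (n + 1)) : (CohB1.ProjSpace n K).Opens := Proj.basicOpen G (X k)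

theorem elem_eq (i : Fin (n + 1)) (j : {j : Fin (n + 1) // j ≠ i}) :
    chartEquiv n K i (X j) = Away.isLocalizationElem (ProjSpace.X_mem n K i) (ProjSpace.X_mem n K j.1) := by
  show ProjSpace.chartMap n K i (X j) = _
  rw [ProjSpace.chartMap, eval₂Hom_X']
  apply val_injective
  rw [Away.isLocalizationElem, Away.val_mk, val_mk]
  congr 1
  · exact (pow_one _).symm
  · exact Subtype.ext (pow_one _).symm

theorem ψ_elem (i k : Fin (n + 1)) (hk : k < i) :
    ψ n K i (Away.isLocalizationElem (ProjSpace.X_mem n K i) (ProjSpace.X_mem n K k)) = 0 := by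
  rw [← elem_eq n K i ⟨k, ne_of_lt hk⟩]
  show φ n K i ((chartEquiv n K i).symm (chartEquiv n K i (X ⟨k, ne_of_lt hk⟩))) = 0
  rw [RingEquiv.symm_apply_apply]
  simp [φ, not_lt.mpr hk.le]

theorem mem_range_q_iff (i : Fin (n + 1)) (x : CohB1.ProjSpace n K) :
    x ∈ Set.range (q n K i) ↔ x ∈ D n K i ∧ ∀ k < i, x ∉ D n K k := by
  let a := aw n K i
  have hr : Set.range a = (D n K i : Set ↥(CohB1.ProjSpace n K)) :=
    congrArg SetLike.coe (Proj.opensRange_awayι G (X i) (ProjSpace.X_mem n K i) one_pos)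
  have hk : ∀ (k : Fin (n + 1)) (p : Spec (CommRingCat.of (Away G (X i)))), a p ∈ D n K k ↔
      Away.isLocalizationElem (ProjSpace.X_mem n K i) (ProjSpace.X_mem n K k) ∉ p.asIdeal := fun k p => by
    show p ∈ a ⁻¹ᵁ D n K k ↔ _
    rw [show a ⁻¹ᵁ D n K k = PrimeSpectrum.basicOpen _ from
      Proj.awayι_preimage_basicOpen G (ProjSpace.X_mem n K i) one_pos (ProjSpace.X_mem n K k) one_pos]
    exact PrimeSpectrum.mem_basicOpen _ _
  constructor
  · rintro ⟨w, rfl⟩
    refine ⟨hr.subset ⟨_, rfl⟩, fun k hki => ?_⟩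
    show a (Spec.map (CommRingCat.ofHom (ψ n K i)) w) ∉ D n K k
    rw [hk]
    intro hne
    refine hne ?_
    show ψ n K i _ ∈ w.asIdeal
    rw [ψ_elem n K i k hki]
    exact zero_mem _
  · rintro ⟨hi, hlt⟩
    obtain ⟨p, rfl⟩ : x ∈ Set.range a := hr.symm.subset hi
    have hle : RingHom.ker (ψ n K i) ≤ p.asIdeal := fun b hb => by
      let g : MvPolynomial {j : Fin (n + 1) // j ≠ i} K →+* Away G (X i) ⧸ p.asIdeal :=
        (Ideal.Quotient.mk p.asIdeal).comp (chartEquiv n K i).toRingHom
      let g' : MvPolynomial (ULift.{u} (σ n i)) K →+* Away G (X i) ⧸ p.asIdeal :=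
        eval₂Hom (g.comp C) fun s => g (X ⟨s.down.1, (ne_of_lt s.down.2).symm⟩)
      have hgg : g = g'.comp (φ n K i) := by
        refine MvPolynomial.ringHom_ext (fun r => by simp [φ, g']) fun j => ?_
        rw [RingHom.comp_apply, RingHom.comp_apply,
          show φ n K i (X j) = if h : i < j.1 then X ⟨⟨j.1, h⟩⟩ else 0 from eval₂Hom_X' _ _ _]
        by_cases h : i < j.1
        · rw [dif_pos h, eval₂Hom_X']
          rfl
        · rw [dif_neg h, _root_.map_zero]
          refine Ideal.Quotient.eq_zero_iff_mem.mpr ?_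
          show chartEquiv n K i (X j) ∈ p.asIdeal
          rw [elem_eq]
          by_contra hne
          exact hlt j.1 (lt_of_le_of_ne (not_lt.mp h) j.2) ((hk j.1 p).mpr hne)
      refine Ideal.Quotient.eq_zero_iff_mem.mp ?_
      rw [← (chartEquiv n K i).apply_symm_apply b]
      show g ((chartEquiv n K i).symm b) = 0
      rw [hgg, RingHom.comp_apply, show φ n K i ((chartEquiv n K i).symm b) = 0 from hb, _root_.map_zero]
    obtain ⟨w, hw⟩ : p ∈ Set.range (PrimeSpectrum.comap (ψ n K i)) := by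
      rw [range_comap_of_surjective _ _ (ψ_surjective n K i)]
      exact hle
    exact ⟨w, congrArg a hw⟩

theorem q_toSpec (i : Fin (n + 1)) :
    q n K i ≫ CohB1.ProjSpace.toSpec n K = Spec.map (CommRingCat.ofHom C) := by
  refine (Category.assoc _ _ _).trans ((congrArg (fun f => Spec.map (CommRingCat.ofHom (ψ n K i)) ≫ f)
    (H11Proj.ProjSpace.awayι_toSpec n K i)).trans ((Spec.map_comp _ _).symm.trans ?_))
  congr 1
  refine CommRingCat.hom_ext (RingHom.ext fun r => ?_)
  show φ n K i ((chartEquiv n K i).symm (chartEquiv n K i (C r))) = C r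
  rw [RingEquiv.symm_apply_apply]
  simp [φ]

variable {n K}

theorem setup {δ : ↥(CohB1.ProjSpace n K) → ℤ}
    (hδ : Cyc.DeltaCompat (CohB1.ProjSpace.toSpec n K) δ fun _ => 0) (i : Fin (n + 1)) :
    Cyc.IsSetup _ (fun w => δ (q n K i w)) ∧
      δ (q n K i (genericPoint _)) = ((Fintype.card (ULift.{u} (σ n i)) : ℕ) : ℤ) := by
  let S := Spec (CommRingCat.of (MvPolynomial (ULift.{u} (σ n i)) K))
  let p : S ⟶ Spec (CommRingCat.of K) := Spec.map (CommRingCat.ofHom C)
  haveI : LocallyOfFiniteType p := (HasRingHomProperty.Spec_iff (P := @LocallyOfFiniteType)).mpr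
    (RingHom.finiteType_algebraMap.mpr (inferInstance : Algebra.FiniteType K (MvPolynomial (ULift.{u} (σ n i)) K)))
  have hc : Cyc.DeltaCompat p (fun w => δ (q n K i w)) (fun _ => 0) := by
    have h := BCPush.deltaCompat_comp (q n K i) (CohB1.ProjSpace.toSpec n K)
      (SpFun.deltaCompat_preimmersion (q n K i) δ) hδ
    rwa [q_toSpec] at h
  refine ⟨isSetup_of_locallyOfFiniteType p (H26ChowK.isSetup_spec_field (k := K)) hc, ?_⟩
  let e := AffineSpace.SpecIso (ULift.{u} (σ n i)) (CommRingCat.of K)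
  have hA : Cyc.DeltaCompat (e.hom ≫ p) (fun a => δ (q n K i (e.hom a))) (fun _ => 0) :=
    BCPush.deltaCompat_comp e.hom p (SpFun.deltaCompat_preimmersion e.hom fun w => δ (q n K i w)) hc
  have he : e.hom ≫ p = 𝔸(ULift.{u} (σ n i); Spec (CommRingCat.of K)) ↘ Spec (CommRingCat.of K) := by
    rw [← Iso.eq_inv_comp]
    exact (AffineSpace.SpecIso_inv_over (n := ULift.{u} (σ n i)) (CommRingCat.of K)).symm
  rw [he] at hA
  obtain ⟨η, hη⟩ := (Scheme.homeoOfIso e).surjective (genericPoint S)
  have hmax := H22Alg.CycBasic.delta_eq_of_maximal _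
    (KAffine.hasRelDim_affineSpace (Y := Spec (CommRingCat.of K)) (ULift.{u} (σ n i))) hA η fun x' _ hs => by
      refine e.hom.isEmbedding.injective ?_
      have h1 := hs.map e.hom.continuous
      rw [show e.hom η = genericPoint S from hη] at h1 ⊢
      exact (h1.antisymm (genericPoint_specializes _)).eq
  rw [show e.hom η = genericPoint S from hη] at hmax
  simpa only [zero_add] using hmax

theorem card_injective {i i' : Fin (n + 1)}
    (h : Fintype.card (ULift.{u} (σ n i)) = Fintype.card (ULift.{u} (σ n i'))) : i = i' := by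
  simp only [Fintype.card_ulift, Fintype.card_subtype] at h
  rw [show Finset.univ.filter (fun j => i < j) = Finset.Ioi i by ext; simp,
    show Finset.univ.filter (fun j => i' < j) = Finset.Ioi i' by ext; simp, Fin.card_Ioi, Fin.card_Ioi] at h
  refine Fin.ext ?_
  have := i.2
  have := i'.2
  omega

/-- **The Chow groups of `P^n` over a field are cyclic.** -/
theorem exists_generator {δ : ↥(CohB1.ProjSpace n K) → ℤ} (hP : Cyc.IsSetup _ δ)
    (hδ : Cyc.DeltaCompat (CohB1.ProjSpace.toSpec n K) δ fun _ => 0) (j : ℤ) :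
    ∃ g : ChowOps.CH (CohB1.ProjSpace n K) δ j, ∀ c, c ∈ AddSubgroup.zmultiples g := by
  classical
  haveI := hP.1
  -- the candidate
  obtain ⟨g, hg⟩ : ∃ g : AlgebraicCycle (CohB1.ProjSpace n K) ℤ, g ∈ Cyc.Zk _ δ j ∧
      ∀ i, δ (q n K i (genericPoint _)) = j → ⇑g = Set.indicator {q n K i (genericPoint _)} fun _ => 1 := by
    by_cases h : ∃ i, δ (q n K i (genericPoint _)) = j
    · obtain ⟨i, hi⟩ := h
      obtain ⟨g, hg⟩ := KAffine.exists_single (q n K i (genericPoint _)) 1
      refine ⟨g, fun x hx => ?_, fun i' hi' => ?_⟩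
      · rw [hg, Set.indicator_of_notMem (fun e => hx (by rw [Set.mem_singleton_iff.mp e, hi]))]
      · obtain rfl : i' = i := card_injective (by
          have h1 := (setup hδ i).2
          have h2 := (setup hδ i').2
          omega)
        exact hg
    · exact ⟨0, fun x _ => rfl, fun i hi => (h ⟨i, hi⟩).elim⟩
  obtain ⟨hgk, hgi⟩ := hg
  refine ⟨ChowOps.cl g hgk, fun c => ?_⟩
  obtain ⟨γ, hγ, rfl⟩ := Chow.exists_cl c
  suffices H : ∀ (d i : ℕ), n + 1 ≤ i + d → ∀ (γ : AlgebraicCycle (CohB1.ProjSpace n K) ℤ)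
      (hγ : γ ∈ Cyc.Zk _ δ j), (∀ x, γ x ≠ 0 → ∀ k : Fin (n + 1), (k : ℕ) < i → x ∉ D n K k) →
      ChowOps.cl γ hγ ∈ AddSubgroup.zmultiples (ChowOps.cl g hgk) from
    H (n + 1) 0 (by omega) γ hγ fun x _ k hk => absurd hk (Nat.not_lt_zero _)
  intro d
  induction d with
  | zero =>
    intro i hi γ hγ hsupp
    have h0 : γ = 0 := DFunLike.coe_injective (funext fun x => by
      by_contra hx
      have hx' : x ∈ (⨆ k : Fin (n + 1), D n K k) := by
        rw [show (⨆ k : Fin (n + 1), D n K k) = ⊤ from H11Proj.ProjSpace.iSup_basicOpen n K]; trivial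
      obtain ⟨k, hk⟩ := TopologicalSpace.Opens.mem_iSup.mp hx'
      exact hsupp x hx k (by omega) hk)
    subst h0
    exact ((Chow.cl_eq_zero_iff hγ).mpr RatRel.zero).symm ▸ zero_mem _
  | succ d ih =>
    intro i hi γ hγ hsupp
    by_cases hin : n + 1 ≤ i + d
    · exact ih i hin γ hγ hsupp
    let i' : Fin (n + 1) := ⟨i, by omega⟩
    obtain ⟨hS, hgen⟩ := setup hδ i'
    let S := Spec (CommRingCat.of (MvPolynomial (ULift.{u} (σ n i')) K))
    -- vanishing on the stratum suffices
    have step : ∀ (γ' : AlgebraicCycle (CohB1.ProjSpace n K) ℤ) (hγ' : γ' ∈ Cyc.Zk _ δ j),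
        (∀ x, γ' x ≠ 0 → ∀ k : Fin (n + 1), (k : ℕ) < i → x ∉ D n K k) → (∀ w, γ' (q n K i' w) = 0) →
        ChowOps.cl γ' hγ' ∈ AddSubgroup.zmultiples (ChowOps.cl g hgk) := fun γ' hγ' hs hz =>
      ih (i + 1) (by omega) γ' hγ' fun x hx k hk hxk => by
        rcases Nat.lt_or_eq_of_le (Nat.lt_succ_iff.mp hk) with h | h
        · exact hs x hx k h hxk
        · obtain rfl : k = i' := Fin.ext h
          obtain ⟨w, rfl⟩ := (mem_range_q_iff n K i' x).mpr ⟨hxk, fun l hl => hs x hx l hl⟩
          exact hx (hz w)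
    by_cases hj : δ (q n K i' (genericPoint S)) = j
    · let m := γ (q n K i' (genericPoint S))
      have hgf := hgi i' hj
      have hm : (γ - m • g) ∈ Cyc.Zk _ δ j := fun x hx => by
        show γ x - m * g x = 0
        rw [hγ x hx, hgk x hx, mul_zero, sub_zero]
      have hmem : (m • g) ∈ Cyc.Zk _ δ j := fun x hx => by
        show m * g x = 0
        rw [hgk x hx, mul_zero]
      have h1 := step (γ - m • g) hm (fun x hx k hk => by
          by_cases he : γ x = 0
          · have hxg : x = q n K i' (genericPoint S) := by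
              by_contra hne
              exact hx (show γ x - m * g x = 0 by
                rw [he, hgf, Set.indicator_of_notMem (fun e => hne (Set.mem_singleton_iff.mp e)), mul_zero, sub_zero])
            exact ((mem_range_q_iff n K i' x).mp ⟨_, hxg.symm⟩).2 k hk
          · exact hsupp x he k hk) fun w => by
        show γ (q n K i' w) - m * g (q n K i' w) = 0
        by_cases hw : w = genericPoint S
        · subst hw; rw [hgf, Set.indicator_of_mem (Set.mem_singleton _), mul_one, sub_self]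
        · rw [hgf, Set.indicator_of_notMem (fun e => hw ((q n K i').isEmbedding.injective (Set.mem_singleton_iff.mp e))),
            mul_zero, sub_zero]
          refine hγ _ fun e => ?_
          have := (hS.2.2 _ w (genericPoint_specializes w) (Ne.symm hw)).1
          simp only [S] at *
          omega
      have e : ChowOps.cl γ hγ = ChowOps.cl (γ - m • g) hm + m • ChowOps.cl g hgk := by
        show ChowOps.clHom _ δ j ⟨γ, hγ⟩ = ChowOps.clHom _ δ j ⟨γ - m • g, hm⟩ + m • ChowOps.clHom _ δ j ⟨g, hgk⟩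
        rw [← map_zsmul, ← map_add]
        exact congrArg _ (Subtype.ext (sub_add_cancel γ (m • g)).symm)
      rw [e]
      exact add_mem h1 (zsmul_mem (AddSubgroup.mem_zmultiples _) m)
    · haveI := hS.1
      haveI : IsLocallyNoetherian S := hS.1
      let γS : AlgebraicCycle S ℤ := ⟨fun w => γ (q n K i' w), by simp, fun w _ => by
        obtain ⟨t, ht, hfin⟩ := γ.supportLocallyFiniteWithinDomain' (q n K i' w) trivial
        exact ⟨q n K i' ⁻¹' t, (q n K i').continuous.continuousAt.preimage_mem_nhds ht,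
          (hfin.preimage (q n K i').isEmbedding.injective.injOn).subset fun z hz => hz⟩⟩
      have hR := KAffine.ratEquivZero_of_princ hS (KAffine.princ_mvPolynomial K _) (k := j) (α := γS)
        (fun w hw => hγ _ hw) (hγ _ hj)
      obtain ⟨E, hE0, hEk, hEv, hEs⟩ := extend (q n K i') hP.2.2 hR
      have h1 := step (γ - E) (Chow.zk_sub hγ hEk) (fun x hx k hk hxk => by
          by_cases he : γ x = 0
          · obtain ⟨w, hw⟩ := hEs x fun e => hx (show γ x - E x = 0 by rw [he, e, sub_zero])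
            exact ((mem_range_q_iff n K i' _).mp ⟨w, rfl⟩).2 k hk (hw.mem_open (D n K k).2 hxk)
          · exact hsupp x he k hk hxk) fun w => by
        show γ (q n K i' w) - E (q n K i' w) = 0
        rw [hEv]
        exact sub_self _
      rwa [(Chow.cl_eq_iff hγ (Chow.zk_sub hγ hEk)).mpr (by rw [Cyc.RatEquiv, sub_sub_cancel]; exact hE0)]

end Groth.Agent.H3Cyc.PnCyclic
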