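import Groth.Agent.H3Cyc.PBChow
import Groth.Agent.H3Cyc.PnCyclic
import Mathlib

/-!
# Chow groups of a projective-space bundle over a field
-/

set_option autoImplicit false
set_option linter.style.haveILetI false
set_option linter.unusedSectionVars false
set_option backward.isDefEq.respectTransparency.types false
universe u

open CategoryTheory CategoryTheory.Limits AlgebraicGeometry IsLocalRing

noncomputable section

namespace Groth.Agent.H3Cyc.PBField

open PBundle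

theorem ratEquivZero_shift {X : Scheme.{u}} {δ δ' : X → ℤ} {c k k' : ℤ} (hδ : ∀ x, δ' x = δ x + c) (hk : k' = k + c)
    {α : AlgebraicCycle X ℤ} (h : Cyc.RatEquivZero δ k α) : Cyc.RatEquivZero δ' k' α := by
  obtain ⟨ι, ξ, f, h1, h2, h3, h4⟩ := h
  refine ⟨ι, ξ, f, fun i => by rw [hδ, h1, hk]; ring, h2, h3, fun x => (h4 x).trans (finsum_congr fun i => ?_)⟩
  simp only [Cyc.divFun]
  by_cases hh : ξ i ⤳ x ∧ δ x + 1 = δ (ξ i)
  · rw [dif_pos hh, dif_pos ⟨hh.1, by rw [hδ, hδ]; omega⟩]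
  · rw [dif_neg hh, dif_neg fun e => hh ⟨e.1, by have := e.2; rw [hδ, hδ] at this; omega⟩]

variable {K : Type u} [Field K] {n : ℕ} {P : Scheme.{u}} {π : P ⟶ Spec (CommRingCat.of K)} {O1 : P.Modules}

theorem subsingleton_spec : Subsingleton ↥(Spec (CommRingCat.of K)) :=
  inferInstanceAs (Subsingleton (PrimeSpectrum K))

theorem pullFun_field (h : Bundle n π O1) {δ : P → ℤ} (hδ : Cyc.DeltaCompat π δ fun _ => 0) (hP : Cyc.IsSetup P δ) :
    Cyc.pullFun π δ (fun _ => 0) n (fun _ => 1) =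
      (haveI := (Bundle.isIntegral_of_field h).1; Set.indicator {genericPoint P} fun _ => 1) := by
  haveI := (Bundle.isIntegral_of_field h).1
  haveI := subsingleton_spec (K := K)
  haveI := h.isIntegral_fiber (closedPoint K)
  funext x
  obtain ⟨z, rfl⟩ : x ∈ Set.range (π.fiberι (closedPoint K)) :=
    (π.range_fiberι _).symm.subset (Subsingleton.elim _ _)
  rw [PBPush.pullFun_fiberι h hP hδ, one_mul]
  obtain ⟨w, hw⟩ : genericPoint P ∈ Set.range (π.fiberι (closedPoint K)) :=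
    (π.range_fiberι _).symm.subset (Subsingleton.elim _ _)
  have hwg : w = genericPoint (π.fiber (closedPoint K)) := by
    refine (π.fiberι _).isEmbedding.injective ?_
    have h1 := (genericPoint_specializes w).map (π.fiberι (closedPoint K)).continuous
    rw [hw] at h1 ⊢
    exact ((genericPoint_specializes _).antisymm h1).eq
  subst hwg
  by_cases hz : z = genericPoint (π.fiber (closedPoint K))
  · subst hz
    rw [Set.indicator_of_mem (Set.mem_singleton _), Set.indicator_of_mem (hw.symm ▸ Set.mem_singleton _)]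
  · rw [Set.indicator_of_notMem (s := {genericPoint (π.fiber (closedPoint K))}) hz, Set.indicator_of_notMem]
    exact fun e => hz ((π.fiberι _).isEmbedding.injective ((Set.mem_singleton_iff.mp e).trans hw.symm))

/-- Cycles on `P^n_K` are multiples of `c₁(O(1))^m ∩ [P^n_K]`. -/
theorem exists_multiple (h : Bundle n π O1) {δ : P → ℤ} (hδ : Cyc.DeltaCompat π δ fun _ => 0) (hP : Cyc.IsSetup P δ)
    (t : ℕ → (ξ : P) → Cyc.secFibre O1 ξ) (ht : ∀ i ξ, t i ξ ≠ 0) (m : ℕ) (hm : m ≤ n) (γ : AlgebraicCycle P ℤ)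
    (hγ : γ ∈ Cyc.Zk P δ ((n : ℤ) - m)) :
    ∃ (a : ℤ) (b : AlgebraicCycle P ℤ),
      ⇑b = Cyc.c1PowFun δ O1 t m (haveI := (Bundle.isIntegral_of_field h).1;
        Set.indicator {genericPoint P} fun _ => 1) ∧ Cyc.RatEquiv δ ((n : ℤ) - m) γ (a • b) := by
  classical
  haveI := subsingleton_spec (K := K)
  haveI := h.isProper
  have hS : Cyc.IsSetup (Spec (CommRingCat.of K)) (fun _ => (0 : ℤ)) := H26ChowK.isSetup_spec_field (k := K)
  -- the point
  let pt : AlgebraicCycle (Spec (CommRingCat.of K)) ℤ :=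
    ⟨fun _ => 1, by simp, fun x _ => ⟨Set.univ, Filter.univ_mem, Set.toFinite _⟩⟩
  have hpt : pt ∈ Cyc.Zk (Spec (CommRingCat.of K)) (fun _ => 0) 0 := fun x hx => (hx rfl).elim
  have hev : ∀ (a b : AlgebraicCycle (Spec (CommRingCat.of K)) ℤ) (ha : a ∈ Cyc.Zk _ (fun _ => (0 : ℤ)) 0)
      (hb : b ∈ Cyc.Zk _ (fun _ => (0 : ℤ)) 0), ChowOps.cl a ha = ChowOps.cl b hb → a (closedPoint K) = b (closedPoint K) := by
    intro a b ha hb e
    obtain ⟨ι, ξ, f, h1, -, -, h4⟩ := (Chow.cl_eq_iff ha hb).mp e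
    haveI : IsEmpty ι := ⟨fun i => absurd (h1 i) (by show (0 : ℤ) ≠ 0 + 1; norm_num)⟩
    have := h4 (closedPoint K)
    rw [finsum_of_isEmpty] at this
    exact sub_eq_zero.mp this
  obtain ⟨b, hb, hbf, hbe⟩ := PBChow.T_cl h hS hP hδ m (j := 0) (l := (n : ℤ) - m) (by ring) pt hpt t ht
  rw [show (⇑pt : _ → ℤ) = fun _ => 1 from rfl, pullFun_field h hδ hP] at hbf
  -- generator
  obtain ⟨α, hα, hαπ, -⟩ := h.exists_iso
  haveI := hα
  have hδ' : Cyc.DeltaCompat (CohB1.ProjSpace.toSpec n K) (fun x => δ (α x)) fun _ => 0 := by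
    have h1 := BCPush.deltaCompat_comp α π (SpFun.deltaCompat_preimmersion α δ) hδ
    rwa [hαπ] at h1
  haveI : LocallyOfFiniteType (CohB1.ProjSpace.toSpec n K) := hαπ ▸ inferInstance
  have hP' := isSetup_of_locallyOfFiniteType _ hS hδ'
  obtain ⟨g, hg⟩ := PnCyclic.exists_generator hP' hδ' ((n : ℤ) - m)
  let pα := Chow.push α hP' hP (SpFun.deltaCompat_preimmersion α δ) ((n : ℤ) - m)
  have hsurj : ∀ c, c ∈ AddSubgroup.zmultiples (pα g) := fun c => by
    obtain ⟨β, hβ, rfl⟩ := Chow.exists_cl c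
    haveI := hP.1
    let β' : AlgebraicCycle (CohB1.ProjSpace n K) ℤ := ⟨fun x => β (α x), by simp, fun x _ => by
      obtain ⟨s, hs, hfin⟩ := β.supportLocallyFiniteWithinDomain' (α x) trivial
      exact ⟨α ⁻¹' s, α.continuous.continuousAt.preimage_mem_nhds hs,
        (hfin.preimage α.isEmbedding.injective.injOn).subset fun z hz => hz⟩⟩
    have hβ' : β' ∈ Cyc.Zk _ (fun x => δ (α x)) ((n : ℤ) - m) := fun x hx => hβ (α x) hx
    obtain ⟨e, he⟩ := AddSubgroup.mem_zmultiples_iff.mp (hg (ChowOps.cl β' hβ'))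
    refine AddSubgroup.mem_zmultiples_iff.mpr ⟨e, ?_⟩
    rw [← map_zsmul, he, Chow.push_cl]
    refine Chow.cl_congr _ _ (funext fun x => ?_)
    obtain ⟨z, rfl⟩ := (Scheme.homeoOfIso (asIso α)).surjective x
    exact Gysin.map_immersion_apply α δ β' z
  obtain ⟨e, he⟩ := AddSubgroup.mem_zmultiples_iff.mp (hsurj (ChowOps.cl b hb))
  -- degree
  let Dg := (Chow.push π hP hS hδ 0).comp (Chow.c1pow hP h.invertible (n - m) (j := (n : ℤ) - m) (k := 0) (by omega))
  have hD : Dg (ChowOps.cl b hb) = ChowOps.cl pt hpt := by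
    show Chow.push π hP hS hδ 0 (Chow.c1pow hP h.invertible (n - m) _ (ChowOps.cl b hb)) = _
    rw [← hbe, PBChow.c1pow_T h hS hP hδ (n - m) m _ _ (by omega) _,
      PBChow.push_T_eq h hS hP hδ _ (by omega), Chow.cast_cl]
  obtain ⟨d, hd, hde⟩ := Chow.exists_cl (Dg (pα g))
  rw [← he, map_zsmul, ← hde] at hD
  have hed : e * d (closedPoint K) = 1 := by
    have hmem : e • d ∈ Cyc.Zk _ (fun _ => (0 : ℤ)) 0 := fun x hx => (hx rfl).elim
    exact hev (e • d) pt hmem hpt ((map_zsmul (ChowOps.clHom _ _ _) e ⟨d, hd⟩).trans hD)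
  have hee : e * e = 1 := by
    rcases Int.eq_one_or_neg_one_of_mul_eq_one hed with h | h <;> rw [h] <;> norm_num
  obtain ⟨f, hf⟩ := AddSubgroup.mem_zmultiples_iff.mp (hsurj (ChowOps.cl γ hγ))
  have hb' : (f * e) • b ∈ Cyc.Zk P δ ((n : ℤ) - m) := fun x hx => by
    show (f * e) * b x = 0
    rw [hb x hx, mul_zero]
  refine ⟨f * e, b, hbf, (Chow.cl_eq_iff hγ hb').mp ?_⟩
  show _ = ChowOps.clHom P δ _ ⟨(f * e) • b, hb'⟩
  rw [show (⟨(f * e) • b, hb'⟩ : ↥(ChowOps.zk P δ ((n : ℤ) - m))) = (f * e) • ⟨b, hb⟩ from rfl, map_zsmul]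
  show _ = (f * e) • ChowOps.cl b hb
  rw [← he, smul_smul, mul_assoc, hee, mul_one, hf]

end Groth.Agent.H3Cyc.PBField
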