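import Groth.Agent.H3Cyc.PBDeg
import Groth.Agent.H3Cyc.Chow
import Mathlib

/-!
# `p_*(c₁(O(1))^s ∩ p^*α)`
-/

set_option autoImplicit false
set_option linter.style.haveILetI false
set_option linter.unusedSectionVars false
set_option backward.isDefEq.respectTransparency.types false
universe u

open CategoryTheory CategoryTheory.Limits AlgebraicGeometry IsLocalRing

noncomputable section

namespace Groth.Agent.H3Cyc.PBPush

open PBundle

theorem c1CapFun_smul {X : Scheme.{u}} (δ : X → ℤ) (L : X.Modules) (c : ℤ) (F : X → ℤ)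
    (t : (ξ : X) → Cyc.secFibre L ξ) (x : X) :
    Cyc.c1CapFun δ L (fun ξ => c * F ξ) t x = c * Cyc.c1CapFun δ L F t x := by
  show ∑ᶠ ξ, c * F ξ * _ = c * ∑ᶠ ξ, F ξ * _
  rw [mul_finsum]
  exact finsum_congr fun ξ => mul_assoc _ _ _

theorem c1PowFun_shift {X : Scheme.{u}} (δ : X → ℤ) (c : ℤ) (L : X.Modules) (t : ℕ → (ξ : X) → Cyc.secFibre L ξ)
    (F : X → ℤ) : ∀ m, Cyc.c1PowFun (fun x => δ x + c) L t m F = Cyc.c1PowFun δ L t m F
  | 0 => rfl
  | m + 1 => by
    show Cyc.c1CapFun (fun x => δ x + c) L _ (t m) = Cyc.c1CapFun δ L _ (t m)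
    rw [c1PowFun_shift δ c L t F m]
    funext x
    refine finsum_congr fun ξ => ?_
    congr 1
    simp only [Cyc.secDivFun]
    by_cases h : ξ ⤳ x ∧ δ x + 1 = δ ξ
    · rw [dif_pos h, dif_pos ⟨h.1, by omega⟩]
    · rw [dif_neg h, dif_neg fun hh => h ⟨hh.1, by omega⟩]

theorem c1PowFun_capIter {X : Scheme.{u}} (δ : X → ℤ) (L : X.Modules) (t : ℕ → (ξ : X) → Cyc.secFibre L ξ)
    (F : X → ℤ) (m : ℕ) :
    Cyc.c1PowFun δ L t m F = KIntNum.capIter δ m (fun _ => L) (fun i => t i) F :=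
  KIntNum.capIter_eq δ m (fun _ => L) (fun i => t i) (fun i => Cyc.c1PowFun δ L t i F) fun _ _ => rfl

theorem c1PowFun_mem {X : Scheme.{u}} {δ : X → ℤ} (hX : Cyc.IsSetup X δ) {L : X.Modules} (hL : PicF.IsInvertible L)
    (t : ℕ → (ξ : X) → Cyc.secFibre L ξ) (ht : ∀ i ξ, t i ξ ≠ 0) (a : AlgebraicCycle X ℤ) {j : ℤ}
    (ha : a ∈ Cyc.Zk X δ j) (m : ℕ) :
    ∃ b : AlgebraicCycle X ℤ, ⇑b = Cyc.c1PowFun δ L t m ⇑a ∧ b ∈ Cyc.Zk X δ (j - m) := by
  obtain ⟨b, hb, hf, -⟩ := Chow.c1pow_cl hX hL m (k := j - m) (by omega) a ha t ht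
  exact ⟨b, hf, hb⟩

variable {X P : Scheme.{u}} {n : ℕ} {π : P ⟶ X} {O1 : P.Modules} {δ : X → ℤ} {δP : P → ℤ}

theorem maxDim (h : Bundle n π O1) (hδ : Cyc.DeltaCompat π δP δ) : FlatRat.MaxDim π δP δ (n : ℤ) :=
  haveI := h.isProper
  FlatRat.maxDim_of_hasRelDim π h.hasRelDim hδ

theorem exists_pow_pull (h : Bundle n π O1) (hX : Cyc.IsSetup X δ) (hP : Cyc.IsSetup P δP)
    (hδ : Cyc.DeltaCompat π δP δ) {k : ℤ} (α : AlgebraicCycle X ℤ) (hα : α ∈ Cyc.Zk X δ k)
    (t : ℕ → (ξ : P) → Cyc.secFibre O1 ξ) (ht : ∀ i ξ, t i ξ ≠ 0) (s : ℕ) :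
    ∃ β : AlgebraicCycle P ℤ, ⇑β = Cyc.c1PowFun δP O1 t s (Cyc.pullFun π δP δ n ⇑α) ∧
      β ∈ Cyc.Zk P δP (k + n - s) := by
  haveI := h.flat
  haveI := hX.1
  haveI := hP.1
  obtain ⟨a, ha, hak⟩ := C1Api.exists_pullFun_cycle π hP hX (maxDim h hδ) k α hα
  obtain ⟨b, hb, hbk⟩ := c1PowFun_mem hP h.invertible t ht a hak s
  exact ⟨b, by rw [hb, ha], hbk⟩

theorem support_le (α : X → ℤ) (t : ℕ → (ξ : P) → Cyc.secFibre O1 ξ) :
    ∀ (s : ℕ) (x : P), Cyc.c1PowFun δP O1 t s (Cyc.pullFun π δP δ n α) x ≠ 0 → ∃ η, α η ≠ 0 ∧ η ⤳ π x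
  | 0, x, hx => by
    refine ⟨π x, fun h0 => hx ?_, specializes_rfl⟩
    show Cyc.pullFun π δP δ n α x = 0
    simp only [Cyc.pullFun]
    rw [h0, zero_mul, ite_self]
  | s + 1, x, hx => by
    obtain ⟨ξ, hξ⟩ : ∃ ξ, Cyc.c1PowFun δP O1 t s (Cyc.pullFun π δP δ n α) ξ *
        Cyc.secDivFun δP O1 ξ (t s ξ) x ≠ 0 := by
      by_contra hn
      exact hx (finsum_eq_zero_of_forall_eq_zero fun ξ => not_not.mp (not_exists.mp hn ξ))
    obtain ⟨η, hη, hηx⟩ := support_le α t s ξ (left_ne_zero_of_mul hξ)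
    exact ⟨η, hη, hηx.trans ((C1Api.secDivFun_ne_zero (right_ne_zero_of_mul hξ)).map π.continuous)⟩

/-- For `s < n` the pushforward vanishes as a cycle. -/
theorem map_eq_zero [QuasiCompact π] (hX : Cyc.IsSetup X δ) {k : ℤ} (α : AlgebraicCycle X ℤ)
    (hα : α ∈ Cyc.Zk X δ k) (t : ℕ → (ξ : P) → Cyc.secFibre O1 ξ) {s : ℕ} (hs : s < n)
    (β : AlgebraicCycle P ℤ) (hβ : ⇑β = Cyc.c1PowFun δP O1 t s (Cyc.pullFun π δP δ n ⇑α))
    (hβk : β ∈ Cyc.Zk P δP (k + n - s)) : AlgebraicCycle.map π δP δ β = 0 := by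
  refine DFunLike.coe_injective (funext fun y => ?_)
  show ∑ᶠ x ∈ π ⁻¹' {y}, β x * ((AlgebraicCycle.mapCoeff π δP δ x : ℕ) : ℤ) = 0
  refine finsum_mem_eq_zero_of_forall_eq_zero fun x hx => ?_
  by_contra hne
  have h1 : δP x = k + n - s := by_contra fun e => hne (by rw [hβk x e, zero_mul])
  obtain ⟨η, hη, hηx⟩ := support_le (α : X → ℤ) t s x (hβ ▸ left_ne_zero_of_mul hne)
  have h2 : δ η = k := by_contra fun e => hη (hα η e)
  have h3 := H22Alg.DeltaDim.delta_le hX.2.2 hηx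
  have h4 : δP x = δ (π x) := by
    by_contra e
    exact hne (by unfold AlgebraicCycle.mapCoeff; rw [if_neg e]; simp)
  omega

theorem pullFun_fiberι (h : Bundle n π O1) (hP : Cyc.IsSetup P δP)
    (hδ : Cyc.DeltaCompat π δP δ) (α : X → ℤ) (y : X) (z : π.fiber y) :
    Cyc.pullFun π δP δ n α (π.fiberι y z) =
      α y * (haveI := h.isIntegral_fiber y; Set.indicator {genericPoint (π.fiber y)} (fun _ => 1) z) := by
  haveI := h.isIntegral_fiber y
  haveI := h.isProper
  have hy : ∀ w, π (π.fiberι y w) = y := fun w => (π.range_fiberι y).subset (Set.mem_range_self w)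
  have hgen : δP (π.fiberι y (genericPoint (π.fiber y))) =
      δ (π (π.fiberι y (genericPoint (π.fiber y)))) + n := by
    refine H22Alg.CycBasic.delta_eq_of_maximal π h.hasRelDim hδ _ fun x' hx' hs => ?_
    rw [hy] at hx'
    obtain ⟨w, rfl⟩ : x' ∈ Set.range (π.fiberι y) := (π.range_fiberι y).symm.subset hx'
    exact (hs.antisymm ((genericPoint_specializes w).map (π.fiberι y).continuous)).eq
  simp only [Cyc.pullFun]
  by_cases hz : z = genericPoint (π.fiber y)
  · subst hz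
    rw [if_pos hgen, Set.indicator_of_mem (Set.mem_singleton _)]
    have key : ∀ (x : P) (hx : π x = y) (w : π.fiber y), π.fiberι y w = x →
        IsField ((π.fiber y).presheaf.stalk w) →
        Module.length (P.presheaf.stalk x) (P.presheaf.stalk x ⧸
          (maximalIdeal (X.presheaf.stalk (π x))).map (π.stalkMap x).hom) = 1 := by
      rintro x rfl w hw hfld
      obtain rfl : w = π.asFiber x :=
        (π.fiberι (π x)).isEmbedding.injective (hw.trans (π.fiberι_asFiber x).symm)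
      refine (Module.length_eq_of_surjective (S := P.presheaf.stalk x)
        (R := P.presheaf.stalk x ⧸ (maximalIdeal (X.presheaf.stalk (π x))).map (π.stalkMap x).hom)
        Ideal.Quotient.mk_surjective).trans ?_
      letI := ((H8Props.FibreStalk.asFiberStalkEquiv π x).toMulEquiv.isField hfld).toField
      rw [Module.length_eq_one_iff]
      infer_instance
    rw [key _ (hy _) _ rfl (Field.toIsField (π.fiber y).functionField), hy]
    rfl
  · rw [if_neg, Set.indicator_of_notMem (s := {genericPoint (π.fiber y)}) hz, mul_zero]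
    intro e
    have h1 := (hP.2.2 _ _ ((genericPoint_specializes z).map (π.fiberι y).continuous)
      (fun e => hz ((π.fiberι y).isEmbedding.injective e).symm)).1
    rw [hy] at e
    have h2 := hgen
    rw [hy] at h2
    omega

/-- The fibre computation. -/
theorem pow_fiberι (h : Bundle n π O1) (hX : Cyc.IsSetup X δ) (hP : Cyc.IsSetup P δP)
    (hδ : Cyc.DeltaCompat π δP δ) {k : ℤ} (α : AlgebraicCycle X ℤ) (hα : α ∈ Cyc.Zk X δ k)
    (t : ℕ → (ξ : P) → Cyc.secFibre O1 ξ) (ht : ∀ i ξ, t i ξ ≠ 0) (y : X) (hyk : δ y = k) :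
    ∀ (s : ℕ) (z : π.fiber y),
      Cyc.c1PowFun δP O1 t s (Cyc.pullFun π δP δ n ⇑α) (π.fiberι y z) =
        α y * Cyc.c1PowFun (fun z => δP (π.fiberι y z)) ((Scheme.Modules.pullback (π.fiberι y)).obj O1)
          (fun i w => C1Api.pullFib (π.fiberι y) O1 w (t i (π.fiberι y w))) s
          (haveI := h.isIntegral_fiber y; Set.indicator {genericPoint (π.fiber y)} (fun _ => 1)) z
  | 0, z => pullFun_fiberι h hP hδ (⇑α) y z
  | s + 1, z => by
    have hy : ∀ w, π (π.fiberι y w) = y := fun w => (π.range_fiberι y).subset (Set.mem_range_self w)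
    let G := Cyc.c1PowFun δP O1 t s (Cyc.pullFun π δP δ n ⇑α)
    have e1 : Cyc.c1CapFun δP O1 G (t s) (π.fiberι y z) =
        Cyc.c1CapFun δP O1 (Set.indicator (Set.range (π.fiberι y)) G) (t s) (π.fiberι y z) := by
      refine finsum_congr fun ξ => ?_
      by_cases hξ : ξ ∈ Set.range (π.fiberι y)
      · rw [Set.indicator_of_mem hξ]
      · rw [Set.indicator_of_notMem hξ, zero_mul]
        by_contra hne
        obtain ⟨η, hη, hηξ⟩ := support_le (α : X → ℤ) t s ξ (left_ne_zero_of_mul hne)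
        have h1 := (C1Api.secDivFun_ne_zero (right_ne_zero_of_mul hne)).map π.continuous
        rw [hy] at h1
        have h2 : δ η = k := by_contra fun e => hη (hα η e)
        have h3 : π ξ = y := by
          by_contra hne'
          have := (hX.2.2 _ _ h1 hne').1
          have := H22Alg.DeltaDim.delta_le hX.2.2 hηξ
          omega
        exact hξ ((π.range_fiberι y).symm.subset h3)
    show Cyc.c1CapFun δP O1 G (t s) (π.fiberι y z) = _
    rw [e1, Gysin.c1Cap_immersion (π.fiberι y) h.invertible δP _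
      (fun x hx => Set.indicator_of_notMem hx G) (t s) (ht s) z,
      show (fun η => Set.indicator (Set.range (π.fiberι y)) G (π.fiberι y η)) = fun η => α y *
        Cyc.c1PowFun (fun z => δP (π.fiberι y z)) ((Scheme.Modules.pullback (π.fiberι y)).obj O1)
          (fun i w => C1Api.pullFib (π.fiberι y) O1 w (t i (π.fiberι y w))) s
          (haveI := h.isIntegral_fiber y; Set.indicator {genericPoint (π.fiber y)} (fun _ => 1)) η from
        funext fun η => (Set.indicator_of_mem (Set.mem_range_self η) G).trans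
          (pow_fiberι h hX hP hδ α hα t ht y hyk s η)]
    exact c1CapFun_smul _ _ _ _ _ z

/-- For `s = n` the pushforward is `α`. -/
theorem map_eq [QuasiCompact π] (h : Bundle n π O1) (hX : Cyc.IsSetup X δ) (hP : Cyc.IsSetup P δP)
    (hδ : Cyc.DeltaCompat π δP δ) {k : ℤ} (α : AlgebraicCycle X ℤ) (hα : α ∈ Cyc.Zk X δ k)
    (t : ℕ → (ξ : P) → Cyc.secFibre O1 ξ) (ht : ∀ i ξ, t i ξ ≠ 0)
    (β : AlgebraicCycle P ℤ) (hβ : ⇑β = Cyc.c1PowFun δP O1 t n (Cyc.pullFun π δP δ n ⇑α))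
    (hβk : β ∈ Cyc.Zk P δP k) : AlgebraicCycle.map π δP δ β = α := by
  refine DFunLike.coe_injective (funext fun y => ?_)
  by_cases hyk : δ y = k
  swap
  · rw [Chow.map_mem π β hβk y hyk, hα y hyk]
  have hy : ∀ w, π (π.fiberι y w) = y := fun w => (π.range_fiberι y).subset (Set.mem_range_self w)
  show ∑ᶠ x ∈ π ⁻¹' {y}, β x * ((AlgebraicCycle.mapCoeff π δP δ x : ℕ) : ℤ) = α y
  rw [← π.range_fiberι y, finsum_mem_range (π.fiberι y).isEmbedding.injective]
  haveI := h.isIntegral_fiber y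
  let ι := π.fiberι y
  let t' : ℕ → (w : π.fiber y) → Cyc.secFibre ((Scheme.Modules.pullback ι).obj O1) w :=
    fun i w => C1Api.pullFib ι O1 w (t i (ι w))
  let F := Cyc.c1PowFun (fun w => δP (ι w)) ((Scheme.Modules.pullback ι).obj O1) t' n
    (Set.indicator {genericPoint (π.fiber y)} (fun _ => 1))
  have hval : ∀ w, β (ι w) = α y * F w := fun w => by
    rw [hβ]; exact pow_fiberι h hX hP hδ α hα t ht y hyk n w
  have hterm : ∀ w, β (ι w) * ((AlgebraicCycle.mapCoeff π δP δ (ι w) : ℕ) : ℤ) =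
      α y * (((π.fiberToSpecResidueField y).residueDegree w : ℤ) * F w) := fun w => by
    unfold AlgebraicCycle.mapCoeff
    by_cases hw : δP (ι w) = k
    · rw [if_pos (show δP (ι w) = δ (π (ι w)) by rw [hy, hyk, hw]), hval]
      have e : π.residueDegree (ι w) = (π.fiberToSpecResidueField y).residueDegree w := by
        rw [← Gysin.residueDegree_immersion_comp ι π w,
          ← Gysin.residueDegree_comp_immersion (π.fiberToSpecResidueField y) (X.fromSpecResidueField y) w]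
        congr 1
        exact π.fiber_fac y
      rw [e]
      ring
    · have h0 := hβk (ι w) hw
      rw [h0, zero_mul]
      rw [hval] at h0
      linear_combination (-((π.fiberToSpecResidueField y).residueDegree w : ℤ)) * h0
  rw [finsum_congr hterm, ← mul_finsum]
  have hc : Cyc.DeltaCompat (π.fiberToSpecResidueField y) (fun w => δP (ι w) + -δ y) (fun _ => 0) := by
    have h1 := Reduction.deltaCompat_factor ι π (π.fiberToSpecResidueField y) (X.fromSpecResidueField y)
      (π.fiber_fac y).symm hδ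
    have h2 := SpFun.deltaCompat_shift (π.fiberToSpecResidueField y) h1 (-δ y)
    convert! h2 using 2 with v
    rw [Scheme.fromSpecResidueField_apply]
    omega
  have hdeg := PBDeg.deg_one (K := X.residueField y) (π.fiberToSpecResidueField y) (h.fiber y) hc
    (fun i => t' i) (fun i w => C1Api.pullFib_ne_zero ι h.invertible w _ (ht _ _))
    (Set.indicator {genericPoint (π.fiber y)} (fun _ => 1)) rfl
  rw [← c1PowFun_capIter, c1PowFun_shift] at hdeg
  rw [show (∑ᶠ w, ((π.fiberToSpecResidueField y).residueDegree w : ℤ) * F w) = 1 from hdeg, mul_one]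

end Groth.Agent.H3Cyc.PBPush
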