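import Groth.Agent.H3Cyc.PBPush
import Mathlib

/-!
# Bundles from relative `Proj` data
-/

set_option autoImplicit false
set_option linter.style.haveILetI false
universe u

open CategoryTheory CategoryTheory.Limits AlgebraicGeometry

noncomputable section

namespace Groth.Agent.H3Cyc.PBundle

open H22Alg

theorem of_isGrSymAlg {X P : Scheme.{u}} {E : X.Modules} (hq : Coh.IsQCoh E) {n : ℕ}
    (hE : FlatMod.IsFinLocFreeOfRank (n + 1) E) {𝒮 : RelProj.QCGrAlg X} {j : E ⟶ 𝒮.toModule}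
    (hS : RelProj.IsGrSymAlg E 𝒮 j) {p : P ⟶ X}
    {chart : ∀ (U : X.Opens) (hU : IsAffineOpen U), (((p ⁻¹ᵁ U : P.Opens) : Scheme.{u}) ≅ Proj (𝒮.deg U hU))}
    (hP : RelProj.IsRelProj 𝒮 p chart) {O1 : P.Modules}
    {lam : ∀ (U : X.Opens) (hU : IsAffineOpen U),
      O1 ⟶ (Scheme.Modules.pushforward (RelProj.emb p chart U hU)).obj (GrTwist.twist (𝒮.deg U hU) 1)}
    (hO1 : RelProj.IsRelTwist 𝒮 p chart 1 O1 lam) : Bundle n p O1 := by
  obtain ⟨φ, hφ⟩ := H11Sym.exists_canon hq hS hP hO1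
  exact of_isProjBundle (q := ((Scheme.Modules.pullbackPushforwardAdjunction p).homEquiv E O1).symm φ) hE
    ⟨PB.rank_one_of_isInvertible (H11Sym.isInvertible_twist_one hq hS hP hO1),
      H11Sym.epi_homEquiv_symm_of_spans (H11Sym.spans_of_eq_ks hq hS hO1 hφ),
      fun T g L hL s hs => H11Sym.existsUnique_toBundle hq hS hP hO1 hφ g L (PB.isInvertible_of_rank_one hL) s hs⟩

end Groth.Agent.H3Cyc.PBundle
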