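import Groth.Agent.H3Cyc.PBField
import Mathlib

/-!
# The classes `c₁(O(1))^i ∩ π^*α` span the Chow groups of a projective bundle
-/

set_option autoImplicit false
set_option linter.style.haveILetI false
set_option linter.unusedSectionVars false
set_option backward.isDefEq.respectTransparency.types false
universe u

open CategoryTheory CategoryTheory.Limits AlgebraicGeometry IsLocalRing

noncomputable section

namespace Groth.Agent.H3Cyc.PBSpan

open PBundle

variable {X P : Scheme.{u}} {n : ℕ} {π : P ⟶ X} {O1 : P.Modules} (h : Bundle n π O1) {δ : X → ℤ} {δP : P → ℤ}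
  (hX : Cyc.IsSetup X δ) (hP : Cyc.IsSetup P δP) (hδ : Cyc.DeltaCompat π δP δ)

/-- `(α_i) ↦ Σ c₁(O(1))^i ∩ π^*α_i`. -/
def Φ (k : ℤ) : ((i : Fin (n + 1)) → ChowOps.CH X δ (k + (i : ℕ))) →+ ChowOps.CH P δP (k + n) :=
  ∑ i : Fin (n + 1), (PBChow.T h hX hP hδ (i : ℕ) (l := k + n) (by ring)).comp
    (Pi.evalAddMonoidHom (fun i : Fin (n + 1) => ChowOps.CH X δ (k + (i : ℕ))) i)

theorem Φ_apply (k : ℤ) (c : (i : Fin (n + 1)) → ChowOps.CH X δ (k + (i : ℕ))) :
    Φ h hX hP hδ k c = ∑ i : Fin (n + 1), PBChow.T h hX hP hδ (i : ℕ) (l := k + n) (by ring) (c i) := by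
  simp [Φ]

theorem Φ_single (k : ℤ) (i : Fin (n + 1)) (c : ChowOps.CH X δ (k + (i : ℕ))) :
    Φ h hX hP hδ k (Pi.single i c) = PBChow.T h hX hP hδ (i : ℕ) (l := k + n) (by ring) c := by
  rw [Φ_apply, Finset.sum_eq_single i (fun j _ hj => by rw [Pi.single_eq_of_ne hj, map_zero])
    (fun hn => (hn (Finset.mem_univ i)).elim), Pi.single_eq_same]

include h hX hP hδ in
/-- On the fibre over a point, a cycle is a multiple of the standard class. -/
theorem exists_fibre (t : ℕ → (ξ : P) → Cyc.secFibre O1 ξ) (ht : ∀ i ξ, t i ξ ≠ 0) {k : ℤ} {m : ℕ} (hm : m ≤ n)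
    (β : AlgebraicCycle P ℤ) (hβ : β ∈ Cyc.Zk P δP (k + n)) (y : X) (hy : δ y = k + m) :
    ∃ (a : ℤ) (ε : AlgebraicCycle (π.fiber y) ℤ),
      (∀ z, ε z = β (π.fiberι y z) - a * Cyc.c1PowFun (fun z => δP (π.fiberι y z))
        ((Scheme.Modules.pullback (π.fiberι y)).obj O1)
        (fun i w => C1Api.pullFib (π.fiberι y) O1 w (t i (π.fiberι y w))) m
        (haveI := h.isIntegral_fiber y; Set.indicator {genericPoint (π.fiber y)} fun _ => 1) z) ∧
      Cyc.RatEquivZero (fun z => δP (π.fiberι y z)) (k + n) ε := by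
  classical
  haveI := h.isProper
  haveI := hP.1
  let ι := π.fiberι y
  have hc : Cyc.DeltaCompat (π.fiberToSpecResidueField y) (fun w => δP (ι w) + -δ y) (fun _ => 0) := by
    have h1 := Reduction.deltaCompat_factor ι π (π.fiberToSpecResidueField y) (X.fromSpecResidueField y)
      (π.fiber_fac y).symm hδ
    have h2 := SpFun.deltaCompat_shift (π.fiberToSpecResidueField y) h1 (-δ y)
    convert! h2 using 2 with v
    rw [Scheme.fromSpecResidueField_apply]
    omega
  haveI := (h.fiber y).isProper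
  have hF := isSetup_of_locallyOfFiniteType (π.fiberToSpecResidueField y)
    (H26ChowK.isSetup_spec_field (k := X.residueField y)) hc
  let γ : AlgebraicCycle (π.fiber y) ℤ := ⟨fun w => β (ι w), by simp, fun w _ => by
    obtain ⟨s, hs, hfin⟩ := β.supportLocallyFiniteWithinDomain' (ι w) trivial
    exact ⟨ι ⁻¹' s, ι.continuous.continuousAt.preimage_mem_nhds hs,
      (hfin.preimage ι.isEmbedding.injective.injOn).subset fun z hz => hz⟩⟩
  have hγ : γ ∈ Cyc.Zk (π.fiber y) (fun w => δP (ι w) + -δ y) ((n : ℤ) - m) := fun w hw =>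
    hβ (ι w) fun e => hw (by show δP (ι w) + -δ y = _; omega)
  obtain ⟨a, b, hb, hab⟩ := PBField.exists_multiple (K := X.residueField y) (h.fiber y) hc hF
    (fun i w => C1Api.pullFib ι O1 w (t i (ι w)))
    (fun i w => C1Api.pullFib_ne_zero ι h.invertible w _ (ht _ _)) m hm γ hγ
  refine ⟨a, γ - a • b, fun z => ?_, PBField.ratEquivZero_shift (c := δ y)
    (fun x => (show δP (π.fiberι y x) = δP (π.fiberι y x) + -δ y + δ y by ring)) (by omega) hab⟩
  show β (ι z) - a * b z = _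
  rw [hb, PBPush.c1PowFun_shift]

include h hX hP hδ in
/-- The induction step. -/
theorem step [IsProper π] {k : ℤ} {m : ℕ} (hm : m ≤ n) (β : AlgebraicCycle P ℤ) (hβ : β ∈ Cyc.Zk P δP (k + n))
    (hle : ∀ x, β x ≠ 0 → δ (π x) ≤ k + m) :
    ∃ (c : ChowOps.CH X δ (k + m)) (β' : AlgebraicCycle P ℤ) (hβ' : β' ∈ Cyc.Zk P δP (k + n)),
      (∀ x, β' x ≠ 0 → δ (π x) < k + m) ∧
      ChowOps.cl β hβ = PBChow.T h hX hP hδ m (l := k + n) (by ring) c + ChowOps.cl β' hβ' := by
  classical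
  haveI := h.flat
  haveI := hP.1
  haveI := hX.1
  let t : ℕ → (ξ : P) → Cyc.secFibre O1 ξ := fun _ => Chow.sec h.invertible
  have ht : ∀ i ξ, t i ξ ≠ 0 := fun _ => Chow.sec_ne_zero _
  choose a ε hε hεr using fun (y : {y : X // δ y = k + m}) => exists_fibre h hX hP hδ t ht hm β hβ y.1 y.2
  let S : Set X := {y | δ y = k + m ∧ ∃ x, β x ≠ 0 ∧ π x = y}
  have hlf : ∀ y : X, ∃ V : Set X, IsOpen V ∧ y ∈ V ∧ (V ∩ S).Finite := fun y => by
    obtain ⟨V, hV, hyV, -⟩ := exists_isAffineOpen_mem_and_subset (show y ∈ (⊤ : X.Opens) from trivial)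
    refine ⟨V, V.2, hyV, ((β.locallyFiniteSupport.finite_inter_support_of_isCompact
      (π.isCompact_preimage hV.isCompact)).image π).subset ?_⟩
    rintro _ ⟨hxV, -, x, hx, rfl⟩
    exact ⟨x, ⟨hxV, hx⟩, rfl⟩
  let α : AlgebraicCycle X ℤ := ⟨fun y => if hy : y ∈ S then a ⟨y, hy.1⟩ else 0, by simp, fun y _ => by
    obtain ⟨V, hV, hyV, hfin⟩ := hlf y
    refine ⟨V, hV.mem_nhds hyV, hfin.subset fun z hz => ⟨hz.1, ?_⟩⟩
    by_contra hn
    exact hz.2 (show (if hy : z ∈ S then a ⟨z, hy.1⟩ else 0) = 0 by rw [dif_neg hn])⟩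
  have hα : α ∈ Cyc.Zk X δ (k + m) := fun y hy =>
    show (if hy : y ∈ S then a ⟨y, hy.1⟩ else 0) = 0 by rw [dif_neg fun hs => hy hs.1]
  obtain ⟨b, hb, hbf, hbe⟩ := PBChow.T_cl h hX hP hδ m (l := k + n) (by ring) α hα t ht
  have hone : ∀ y : S, ∃ G : P → ℤ, RatFam δP (k + n) (π ⁻¹' closure {y.1}) G ∧
      (∀ z, G (π.fiberι y.1 z) = ε ⟨y.1, y.2.1⟩ z) ∧ ∀ x, G x ≠ 0 → π x = y.1 ∨ δ (π x) < δ y.1 := fun y =>
    KAffine.push_fibre π hX.2.2 y.1 (hεr ⟨y.1, y.2.1⟩)
  choose G hG hG1 hG2 using hone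
  have hfam : RatFam δP (k + n) Set.univ fun x => ∑ᶠ y : S, G y x := by
    refine RatFam.family (fun y : S => π ⁻¹' closure {y.1}) (fun y => isClosed_closure.preimage π.continuous)
      (fun x => ?_) (fun y x => G y x) (fun y => (hG y).mono fun x hx => ⟨hx, trivial⟩) fun x => rfl
    obtain ⟨V, hV, hxV, hfin⟩ := hlf (π x)
    refine ⟨π ⁻¹' V, hV.preimage π.continuous, hxV,
      (hfin.preimage (f := fun y : S => y.1) Subtype.val_injective.injOn).subset ?_⟩
    rintro y ⟨z, hz, hzV⟩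
    exact ⟨(specializes_iff_mem_closure.mpr hz).mem_open hV hzV, y.2⟩
  obtain ⟨E, hE, hEk⟩ := RatFam.exists_cycle hP.2.2 hfam
  have hβ' : β - b - E ∈ Cyc.Zk P δP (k + n) := Chow.zk_sub (Chow.zk_sub hβ hb) hEk
  refine ⟨ChowOps.cl α hα, β - b - E, hβ', fun x hx => ?_, ?_⟩
  · by_contra hlt
    refine hx ?_
    show β x - b x - E x = 0
    rw [congrFun hE x]
    have hGne : ∀ y : S, G y x ≠ 0 → y.1 = π x := fun y hne => by
      rcases hG2 y x hne with h | h
      · exact h.symm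
      · have := y.2.1; omega
    have hbval : ∀ (hk : δ (π x) = k + m) (z : π.fiber (π x)), π.fiberι (π x) z = x →
        b x = α (π x) * Cyc.c1PowFun (fun z => δP (π.fiberι (π x) z))
          ((Scheme.Modules.pullback (π.fiberι (π x))).obj O1)
          (fun i w => C1Api.pullFib (π.fiberι (π x)) O1 w (t i (π.fiberι (π x) w))) m
          (haveI := h.isIntegral_fiber (π x); Set.indicator {genericPoint (π.fiber (π x))} fun _ => 1) z := by
      intro hk z hz
      rw [hbf]
      conv_lhs => rw [← hz]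
      exact PBPush.pow_fiberι h hX hP hδ α hα t ht (π x) hk m z
    by_cases hS : π x ∈ S
    · rw [finsum_eq_single _ (⟨π x, hS⟩ : S) fun y hy => by_contra fun hne => hy (Subtype.ext (hGne y hne))]
      have e : ∀ z, π.fiberι (π x) z = x → β x - b x - G ⟨π x, hS⟩ x = 0 := fun z hz => by
        have e1 := hG1 ⟨π x, hS⟩ z
        rw [hz] at e1
        rw [hbval hS.1 z hz, e1, hε]
        show β x - (if hy : π x ∈ S then a ⟨π x, hy.1⟩ else 0) * _ - _ = 0
        rw [dif_pos hS, hz]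
        ring
      exact e (π.asFiber x) (π.fiberι_asFiber x)
    · have hb0 : b x = 0 := by
        by_contra hne
        obtain ⟨η, hη, hηx⟩ := PBPush.support_le (α : X → ℤ) t m x (hbf ▸ hne)
        have h1 : δ η = k + m := by_contra fun e => hη (hα η e)
        have h2 := H22Alg.DeltaDim.delta_le hX.2.2 hηx
        have hk : δ (π x) = k + m := by omega
        refine hne ?_
        rw [hbval hk (π.asFiber x) (π.fiberι_asFiber x),
          show α (π x) = 0 from dif_neg hS, zero_mul]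
      have hβ0 : β x = 0 := by
        by_contra hne
        exact hS ⟨le_antisymm (hle x hne) (not_lt.mp hlt), x, hne, rfl⟩
      rw [hβ0, hb0, finsum_eq_zero_of_forall_eq_zero fun y => by_contra fun hne => hS (hGne y hne ▸ y.2)]
      ring
  · rw [hbe]
    show ChowOps.clHom P δP _ ⟨β, hβ⟩ = ChowOps.clHom P δP _ ⟨b, hb⟩ + ChowOps.clHom P δP _ ⟨β - b - E, hβ'⟩
    have e : ChowOps.cl E hEk = 0 := (Chow.cl_eq_zero_iff hEk).mpr (hfam.ratEquivZero (congrFun hE))
    rw [← map_add, show (⟨b, hb⟩ + ⟨β - b - E, hβ'⟩ : ↥(ChowOps.zk P δP (k + n))) = ⟨β, hβ⟩ - ⟨E, hEk⟩ from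
      Subtype.ext (show b + (β - b - E) = β - E by abel), map_sub]
    show ChowOps.cl β hβ = ChowOps.cl β hβ - ChowOps.cl E hEk
    rw [e, sub_zero]

include h hX hP hδ in
/-- **Spanning.** -/
theorem surjective [IsProper π] (k : ℤ) : Function.Surjective (Φ h hX hP hδ k) := by
  intro C
  obtain ⟨β, hβ, rfl⟩ := Chow.exists_cl C
  suffices H : ∀ m : ℕ, m ≤ n + 1 → ∀ (β : AlgebraicCycle P ℤ) (hβ : β ∈ Cyc.Zk P δP (k + n)),
      (∀ x, β x ≠ 0 → δ (π x) < k + m) → ChowOps.cl β hβ ∈ (Φ h hX hP hδ k).range from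
    H (n + 1) le_rfl β hβ fun x hx => by
      have h1 := H22Alg.CycBasic.delta_le π hδ x
      have h2 : δP x = k + n := by_contra fun e => hx (hβ x e)
      push_cast
      omega
  intro m
  induction m with
  | zero =>
    intro _ β hβ hle
    have h0 : β = 0 := DFunLike.coe_injective (funext fun x => by
      by_contra hx
      have h1 := hle x hx
      have h2 : δP x = k + n := by_contra fun e => hx (hβ x e)
      have h3 := H22Alg.CycBasic.delta_le_of_hasRelDim π h.hasRelDim hδ x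
      push_cast at h1
      omega)
    subst h0
    rw [(Chow.cl_eq_zero_iff hβ).mpr RatRel.zero]
    exact zero_mem _
  | succ m ih =>
    intro hm β hβ hle
    obtain ⟨c, β', hβ', hlt, e⟩ := step h hX hP hδ (m := m) (by omega) β hβ fun x hx => by
      have := hle x hx; push_cast at this; omega
    rw [e]
    exact add_mem ⟨Pi.single ⟨m, by omega⟩ c, Φ_single h hX hP hδ k ⟨m, by omega⟩ c⟩ (ih (by omega) β' hβ' hlt)

end Groth.Agent.H3Cyc.PBSpan
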