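import Groth.Agent.H3Cyc.CurveAlg
import Groth.Agent.H3Cyc.KDegree
import Groth.Agent.H3Cyc.SpFun
import Groth.Agent.H3CAlg.BigSection
import Groth.Agent.H22Alg.RedIntegral
import Groth.Agent.H22Alg.DeltaDim
import Groth.Agent.H22Alg.PnBC
import Groth.Agent.H22Alg.NefBundle
import Groth.Agent.H22Alg.CurveProj
import Groth.Agent.H22Alg.CurveCompact
import Groth.Agent.H29RR.SmoothRegular
import Groth.Agent.H17.NormalizationUP

/-!
# Closed points of an irreducible projective variety are algebraically equivalent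
-/

set_option autoImplicit false
set_option backward.isDefEq.respectTransparency.types false
set_option linter.style.haveILetI false
universe u

open AlgebraicGeometry CategoryTheory CategoryTheory.Limits TopologicalSpace
open Groth.Agent
open Groth.Agent.H8Props.FieldDim (cdim)

namespace Groth.Agent.H3Cyc.PointsAlg

variable {k : Type u} [Field k] [IsAlgClosed k] {X : Scheme.{u}} (p : X ⟶ Spec (CommRingCat.of k)) [IsProper p]
  {δ : X → ℤ} (hδ : Cyc.DeltaCompat p δ (fun _ => 0))

include hδ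

theorem delta_eq_zero {x : X} (hx : IsClosed ({x} : Set X)) : δ x = 0 := by
  let t := pointOfClosedPoint p x hx
  have key : Function.Surjective (p.residueFieldMap x) := by
    have hk : ∀ (y : X), y = t (IsLocalRing.closedPoint k) → Function.Surjective (p.residueFieldMap y) := by
      rintro _ rfl b
      haveI : IsIso (t ≫ p) := by
        rw [show t ≫ p = 𝟙 _ from pointOfClosedPoint_comp p x hx]; infer_instance
      obtain ⟨c, hc⟩ := SpFun.surjective_residueFieldMap (t ≫ p) (IsLocalRing.closedPoint k)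
        (t.residueFieldMap _ b)
      rw [Scheme.residueFieldMap_comp] at hc
      exact ⟨c, (t.residueFieldMap _).hom.injective hc⟩
    exact hk x (pointOfClosedPoint_apply p x hx _).symm
  obtain ⟨m, hm, hx'⟩ := hδ x
  have h0 := SpFun.trdeg_zero_of_surjective p x key
  have : (m : Cardinal.{u}) = 0 := hm.symm.trans h0
  have : m = 0 := by exact_mod_cast this
  simp [hx', this]

theorem curve_case [DecidableEq ↥X] {ξ : X} (h1 : δ ξ = 1) {x y : X} (hx : ξ ⤳ x) (hy : ξ ⤳ y)
    (hxc : IsClosed ({x} : Set X)) (hyc : IsClosed ({y} : Set X)) :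
    AlgEqCyc.IsAlgEquiv p (Function.locallyFinsuppWithin.single x (1 : ℤ))
      (Function.locallyFinsuppWithin.single y (1 : ℤ)) := by
  letI : X.Over (Spec (CommRingCat.of k)) := ⟨p⟩
  haveI : IsProper (X ↘ Spec (CommRingCat.of k)) := inferInstanceAs (IsProper p)
  have hs := KDegree.isSetup hδ
  let J := Scheme.IdealSheafData.vanishingIdeal (⟨closure {ξ}, isClosed_closure⟩ : Closeds X)
  let Z := J.subscheme
  haveI : IsIntegral Z := H22Alg.isIntegral_vanishingIdeal_closure ξ
  letI : Z.Over (Spec (CommRingCat.of k)) := ⟨J.subschemeι ≫ p⟩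
  haveI : IsProper (Z ↘ Spec (CommRingCat.of k)) := inferInstanceAs (IsProper (J.subschemeι ≫ p))
  have hrange : Set.range J.subschemeι = closure {ξ} := H17.range_vanishingIdeal_subschemeι _
  have hZd : topologicalKrullDim Z = 1 := by
    have e : topologicalKrullDim Z = topologicalKrullDim ↥(closure ({ξ} : Set X)) :=
      (J.subschemeι.isEmbedding.toHomeomorph.trans (Homeomorph.setCongr hrange)).isHomeomorph.topologicalKrullDim_eq
    have u1 := H22Alg.DeltaDim.topologicalKrullDim_closure_le hs.2.2 (KDegree.nonneg hδ) ξ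
    have u2 := H22Alg.DeltaDim.le_topologicalKrullDim_closure hs.2.2 hx
    rw [h1] at u1
    rw [h1, delta_eq_zero p hδ hxc] at u2
    rw [e]
    exact le_antisymm (by simpa using u1) (by simpa using u2)
  haveI := H28Int.isNoetherian k (X := Z)
  haveI : QuasiCompact (Z.fromSpecStalk (genericPoint Z)) := inferInstance
  haveI : QuasiSeparated (Z.fromSpecStalk (genericPoint Z)) := inferInstance
  haveI : IsFinite (Curv2.normalizationι Z) := H11Curve.isFinite_normalizationι (Z ↘ Spec (CommRingCat.of k))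
  haveI : Surjective (Curv2.normalizationι Z) := H11Curve.surjective_normalizationι Z
  obtain ⟨hNint, hνη, hνb⟩ := H11Curve.exists_residueFieldMap_bijective Z
  haveI := hNint
  let N := Curv2.normalization Z
  letI : N.Over (Spec (CommRingCat.of k)) := ⟨Curv2.normalizationι Z ≫ (Z ↘ Spec (CommRingCat.of k))⟩
  haveI : IsProper (N ↘ Spec (CommRingCat.of k)) :=
    inferInstanceAs (IsProper (Curv2.normalizationι Z ≫ (Z ↘ Spec (CommRingCat.of k))))
  have hNreg := H22Alg.NefBundle.isRegularLocalRing_stalk (N := N)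
    fun hV hne => H22Alg.NormalizationDimOne.isDedekindDomain_affineOpen Z hZd hV hne
  haveI : Smooth (N ↘ Spec (CommRingCat.of k)) := H29RR.smooth_of_regular k N hNreg
  have hNd : topologicalKrullDim N = 1 := by
    have e := H8Props.FieldDim.cdim_eq_add (N ↘ Spec (CommRingCat.of k)) (Z ↘ Spec (CommRingCat.of k))
      (Curv2.normalizationι Z) rfl (genericPoint N)
    rwa [H22Alg.VarDim.cdim_genericPoint N, H28Int.Curves.cdim_closed ((S9332.result (Curv2.normalizationι Z) _).2
      (RingHom.Finite.of_surjective _ hνb.2)), hνη,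
      H22Alg.VarDim.cdim_genericPoint Z, hZd, Nat.cast_zero, zero_add] at e
  obtain ⟨L, hL⟩ := H22Alg.CurveQProj.exists_ample k (X := N) hNd.le
  obtain ⟨n, i, hi, hiq⟩ := H22Alg.CurveProj.exists_closedImmersion k N hL
  obtain ⟨φ, hφ⟩ := H22Alg.PnBC.isPullback_projSpaceOver n k
  have hproj : Neron.IsProjectiveOver k (Over.mk (N ↘ Spec (CommRingCat.of k))) := by
    haveI := hi
    refine ⟨n, i ≫ φ.inv, inferInstance, ?_⟩
    rw [Category.assoc, ← hφ, φ.inv_hom_id_assoc]
    exact hiq
  haveI : JacobsonSpace N := LocallyOfFiniteType.jacobsonSpace (N ↘ Spec (CommRingCat.of k))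
  let ι : N ⟶ X := Curv2.normalizationι Z ≫ J.subschemeι
  have hι : ι ≫ p = N ↘ Spec (CommRingCat.of k) := Category.assoc _ _ _
  have hlift : ∀ z : X, ξ ⤳ z → IsClosed ({z} : Set X) →
      ∃ t : Spec (CommRingCat.of k) ⟶ N, t ≫ (N ↘ Spec (CommRingCat.of k)) = 𝟙 _ ∧
        ι (t (IsLocalRing.closedPoint k)) = z := by
    intro z hz hzc
    obtain ⟨a, ha⟩ : z ∈ Set.range J.subschemeι := by rw [hrange]; exact specializes_iff_mem_closure.1 hz
    obtain ⟨b, hb⟩ := (Curv2.normalizationι Z).surjective a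
    have hbz : ι b = z := by rw [← ha, ← hb]; rfl
    obtain ⟨c, hc1, hc2⟩ := nonempty_inter_closedPoints (⟨b, hbz⟩ : (ι ⁻¹' {z}).Nonempty)
      (hzc.preimage ι.continuous).isLocallyClosed
    exact ⟨pointOfClosedPoint _ c hc2, pointOfClosedPoint_comp _ _ _,
      (congrArg ι (pointOfClosedPoint_apply _ c hc2 _)).trans hc1⟩
  obtain ⟨t₁, ht₁, rfl⟩ := hlift x hx hxc
  obtain ⟨t₂, ht₂, rfl⟩ := hlift y hy hyc
  exact CurveAlg.isAlgEquiv p _ ι hι inferInstance hproj hNd t₁ t₂ ht₁ ht₂

theorem eq_of_closed_meet [DecidableEq ↥X] {ξ : X} (hpos : 1 < δ ξ)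
    (IH : ∀ η : X, δ η < δ ξ → ∀ x y : X, η ⤳ x → η ⤳ y → IsClosed ({x} : Set X) → IsClosed ({y} : Set X) →
      AlgEqCyc.IsAlgEquiv p (Function.locallyFinsuppWithin.single x (1 : ℤ))
        (Function.locallyFinsuppWithin.single y (1 : ℤ)))
    (n : ℕ) (i : X ⟶ CohB1.ProjSpace n k) [IsClosedImmersion i] (hi : i ≫ CohB1.ProjSpace.toSpec n k = p)
    (x y : X) (hx : ξ ⤳ x) (hy : ξ ⤳ y) (hxc : IsClosed ({x} : Set X)) (hyc : IsClosed ({y} : Set X)) :
    AlgEqCyc.IsAlgEquiv p (Function.locallyFinsuppWithin.single x (1 : ℤ))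
      (Function.locallyFinsuppWithin.single y (1 : ℤ)) := by
  letI : X.Over (Spec (CommRingCat.of k)) := ⟨p⟩
  haveI : IsProper (X ↘ Spec (CommRingCat.of k)) := inferInstanceAs (IsProper p)
  have hs := KDegree.isSetup hδ
  haveI : JacobsonSpace X := LocallyOfFiniteType.jacobsonSpace p
  haveI : IsNoetherian X := H28Int.isNoetherian k (X := X)
  obtain ⟨j, hj⟩ : ∃ j : Fin (n + 1), i ξ ∈ Proj.basicOpen (CohB1.polyGrading n k) (MvPolynomial.X j) := by
    have := H11Proj.ProjSpace.iSup_basicOpen (n := n) (R := k)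
    exact Opens.mem_iSup.1 (this.ge (Opens.mem_top _))
  let D : X.Opens := i ⁻¹ᵁ Proj.basicOpen (CohB1.polyGrading n k) (MvPolynomial.X j)
  let A : Set X := closure {ξ} ∩ (D : Set X)ᶜ
  have hAc : IsClosed A := isClosed_closure.inter D.2.isClosed_compl
  haveI : @IsAffineHom X (Proj (CohB1.polyGrading n k)) i := inferInstanceAs (IsAffineHom i)
  have hD : IsAffineOpen D :=
    (Proj.isAffineOpen_basicOpen (CohB1.polyGrading n k) (MvPolynomial.X j) (m := 1)
      (MvPolynomial.isHomogeneous_X k j) Nat.one_pos).preimage i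
  -- every closed point is equivalent to a point of the hyperplane section
  have hstep : ∀ z, ξ ⤳ z → IsClosed ({z} : Set X) → ∃ a ∈ A, IsClosed ({a} : Set X) ∧
      AlgEqCyc.IsAlgEquiv p (Function.locallyFinsuppWithin.single z (1 : ℤ))
        (Function.locallyFinsuppWithin.single a (1 : ℤ)) := by
    intro z hz hzc
    have hne : ξ ≠ z := by rintro rfl; rw [delta_eq_zero p hδ hzc] at hpos; omega
    obtain ⟨ζ, ⟨hζ1, hζ2, hζ3⟩, hmin⟩ := (InvImage.wf (fun w : X => (δ w).toNat) wellFounded_lt).has_min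
      {w : X | ξ ⤳ w ∧ w ⤳ z ∧ w ≠ z} ⟨ξ, specializes_rfl, hz, hne⟩
    have hζδ : δ ζ = 1 := by
      have := (hs.2.2 ζ z hζ2 hζ3).2 fun w hw1 hw2 => by
        by_contra hcon
        push Not at hcon
        have h1 := (hs.2.2 ζ w hw1 hcon.1.symm).1
        have h2 : ¬ (δ w).toNat < (δ ζ).toNat := hmin w ⟨hζ1.trans hw1, hw2, hcon.2⟩
        have := KDegree.nonneg hδ w
        omega
      rw [delta_eq_zero p hδ hzc] at this
      simpa using this
    obtain ⟨a, ha, haD⟩ : ∃ a, ζ ⤳ a ∧ a ∉ D := by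
      by_contra hcon
      push Not at hcon
      let J := Scheme.IdealSheafData.vanishingIdeal (⟨closure {ζ}, isClosed_closure⟩ : Closeds X)
      have hrange : Set.range J.subschemeι = closure {ζ} := H17.range_vanishingIdeal_subschemeι _
      have hpre : J.subschemeι ⁻¹ᵁ D = ⊤ := top_le_iff.1 fun w _ => hcon _ (specializes_iff_mem_closure.2
        (hrange ▸ Set.mem_range_self w))
      haveI hA : IsAffine (⊤ : J.subscheme.Opens) := (hpre ▸ hD.preimage J.subschemeι : IsAffineOpen (⊤ : J.subscheme.Opens))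
      haveI : IsAffine J.subscheme := IsAffine.of_isIso J.subscheme.topIso.inv
      haveI : IsProper (J.subschemeι ≫ p) := inferInstance
      haveI : IsFinite (J.subschemeι ≫ p) := IsFinite.iff_isProper_and_isAffineHom.2 ⟨inferInstance, inferInstance⟩
      haveI : JacobsonSpace J.subscheme := LocallyOfFiniteType.jacobsonSpace (J.subschemeι ≫ p)
      have hfin : Finite J.subscheme := by
        have := (J.subschemeι ≫ p).finite_preimage_singleton (IsLocalRing.closedPoint k)
        exact Set.finite_univ_iff.1 (this.subset fun w _ => Subsingleton.elim (α := PrimeSpectrum k) _ _)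
      obtain ⟨w, hw⟩ : ζ ∈ Set.range J.subschemeι := by rw [hrange]; exact subset_closure rfl
      have hwc : IsClosed ({ζ} : Set X) := by
        have h : IsClosed ({w} : Set J.subscheme) := isClosed_discrete _
        simpa [hw] using J.subschemeι.isClosedEmbedding.isClosedMap _ h
      rw [delta_eq_zero p hδ hwc] at hζδ
      omega
    obtain ⟨b, hb1, hb2⟩ := nonempty_inter_closedPoints
      (⟨a, specializes_iff_mem_closure.1 ha, haD⟩ : (closure {ζ} ∩ (D : Set X)ᶜ).Nonempty)
      (isClosed_closure.inter D.2.isClosed_compl).isLocallyClosed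
    refine ⟨b, ⟨?_, hb1.2⟩, hb2, IH ζ (by omega) z b hζ2 (specializes_iff_mem_closure.2 hb1.1) hzc hb2⟩
    exact specializes_iff_mem_closure.1 (hζ1.trans (specializes_iff_mem_closure.2 hb1.1))
  -- the hyperplane section is connected
  let J := Scheme.IdealSheafData.vanishingIdeal (⟨closure {ξ}, isClosed_closure⟩ : Closeds X)
  haveI : IsIntegral J.subscheme := H22Alg.isIntegral_vanishingIdeal_closure ξ
  have hrange : Set.range J.subschemeι = closure {ξ} := H17.range_vanishingIdeal_subschemeι _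
  haveI : IsProper (J.subschemeι ≫ p) := inferInstance
  have hconn : _root_.IsConnected A := by
    have hdim : (2 : WithBot ℕ∞) ≤ topologicalKrullDim ↥(Set.range (J.subschemeι ≫ i).base) := by
      rw [← (J.subschemeι ≫ i).isEmbedding.toHomeomorph.isHomeomorph.topologicalKrullDim_eq,
        (J.subschemeι.isEmbedding.toHomeomorph.trans (Homeomorph.setCongr hrange)).isHomeomorph.topologicalKrullDim_eq]
      refine le_trans ?_ (H22Alg.DeltaDim.le_topologicalKrullDim_closure hs.2.2 hx)
      rw [delta_eq_zero p hδ hxc, sub_zero]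
      exact_mod_cast (show 2 ≤ (δ ξ).toNat by omega)
    have hc := H3CAlg.BigSection.isConnected_preimage_compl (J.subschemeι ≫ p) n (J.subschemeι ≫ i)
      (by rw [Category.assoc, hi]) hdim (ℓ := MvPolynomial.X j) (MvPolynomial.isHomogeneous_X k j)
    convert! hc.image _ J.subschemeι.continuous.continuousOn
    rw [show ((J.subschemeι ≫ i).base ⁻¹' (Proj.basicOpen (CohB1.polyGrading n k) (MvPolynomial.X j)).carrier)ᶜ =
      J.subschemeι ⁻¹' (D : Set X)ᶜ from rfl, Set.image_preimage_eq_inter_range, hrange, Set.inter_comm]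
  -- points of the section are equivalent
  obtain ⟨a, haA, hac, hxa⟩ := hstep x hx hxc
  obtain ⟨b, hbA, hbc, hyb⟩ := hstep y hy hyc
  have hab : AlgEqCyc.IsAlgEquiv p (Function.locallyFinsuppWithin.single a (1 : ℤ))
      (Function.locallyFinsuppWithin.single b (1 : ℤ)) := by
    obtain ⟨S, hSf, hSc, hSi, hAS⟩ := NoetherianSpace.exists_finite_set_isClosed_irreducible hAc
    let T : Set (Set X) := {t ∈ S | ∀ z ∈ t, IsClosed ({z} : Set X) →
      AlgEqCyc.IsAlgEquiv p (Function.locallyFinsuppWithin.single a (1 : ℤ))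
        (Function.locallyFinsuppWithin.single z (1 : ℤ))}
    have hsame : ∀ t ∈ S, ∀ z z' : X, z ∈ t → z' ∈ t → IsClosed ({z} : Set X) → IsClosed ({z'} : Set X) →
        AlgEqCyc.IsAlgEquiv p (Function.locallyFinsuppWithin.single z (1 : ℤ))
          (Function.locallyFinsuppWithin.single z' (1 : ℤ)) := by
      intro t ht z z' hz hz' hzc hzc'
      have hg : IsGenericPoint (hSi t ht).genericPoint t :=
        IsIrreducible.isGenericPoint_genericPoint (hSi t ht) (hSc t ht)
      have hgA : (hSi t ht).genericPoint ∈ A := hAS ▸ Set.mem_sUnion_of_mem hg.mem ht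
      refine IH _ ?_ z z' (hg.specializes hz) (hg.specializes hz') hzc hzc'
      refine (hs.2.2 ξ _ (specializes_iff_mem_closure.2 hgA.1) ?_).1
      rintro e
      exact hgA.2 (e ▸ hj)
    have htr : ∀ {u v w : AlgebraicCycle X ℤ}, AlgEqCyc.IsAlgEquiv p u v → AlgEqCyc.IsAlgEquiv p v w →
        AlgEqCyc.IsAlgEquiv p u w := fun {u v w} h1 h2 => by
      have := add_mem h1 h2
      unfold AlgEqCyc.IsAlgEquiv
      rwa [sub_add_sub_cancel] at this
    obtain ⟨t₀, ht₀, hat₀⟩ := Set.mem_sUnion.1 (hAS ▸ haA : a ∈ ⋃₀ S)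
    have ht₀T : t₀ ∈ T := ⟨ht₀, fun z hz hzc => hsame t₀ ht₀ a z hat₀ hz hac hzc⟩
    obtain ⟨t₁, ht₁, hbt₁⟩ := Set.mem_sUnion.1 (hAS ▸ hbA : b ∈ ⋃₀ S)
    by_cases hT : t₁ ∈ T
    · exact hT.2 b hbt₁ hbc
    exfalso
    have hU : IsClosed (⋃₀ T) := by
      rw [Set.sUnion_eq_biUnion]
      exact (hSf.subset fun t ht => ht.1).isClosed_biUnion fun t ht => hSc t ht.1
    have hV : IsClosed (⋃₀ (S \ T)) := by
      rw [Set.sUnion_eq_biUnion]
      exact (hSf.subset Set.sdiff_subset).isClosed_biUnion fun t ht => hSc t ht.1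
    obtain ⟨w, -, ⟨s₁, hs₁, hw₁⟩, ⟨s₂, hs₂, hw₂⟩⟩ := isPreconnected_closed_iff.1 hconn.isPreconnected _ _ hU hV
      (fun w hw => by
        obtain ⟨s, hs, hws⟩ := Set.mem_sUnion.1 (hAS ▸ hw : w ∈ ⋃₀ S)
        by_cases hsT : s ∈ T
        · exact Or.inl (Set.mem_sUnion_of_mem hws hsT)
        · exact Or.inr (Set.mem_sUnion_of_mem hws ⟨hs, hsT⟩))
      ⟨a, haA, Set.mem_sUnion_of_mem hat₀ ht₀T⟩ ⟨b, hbA, Set.mem_sUnion_of_mem hbt₁ ⟨ht₁, hT⟩⟩
    obtain ⟨c, hc1, hcc⟩ := nonempty_inter_closedPoints (⟨w, hw₁, hw₂⟩ : (s₁ ∩ s₂).Nonempty)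
      ((hSc _ hs₁.1).inter (hSc _ hs₂.1)).isLocallyClosed
    exact hs₂.2 ⟨hs₂.1, fun z hz hzc => htr (hs₁.2 c hc1.1 hcc) (hsame s₂ hs₂.1 c z hc1.2 hz hcc hzc)⟩
  have hyb' : AlgEqCyc.IsAlgEquiv p (Function.locallyFinsuppWithin.single b (1 : ℤ))
      (Function.locallyFinsuppWithin.single y (1 : ℤ)) := by
    have := neg_mem hyb
    unfold AlgEqCyc.IsAlgEquiv
    rwa [neg_sub] at this
  have := add_mem (add_mem hxa hab) hyb'
  unfold AlgEqCyc.IsAlgEquiv
  rwa [sub_add_sub_cancel, sub_add_sub_cancel] at this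

/-- Any two closed points of an irreducible closed subset of a projective scheme are algebraically equivalent. -/
theorem isAlgEquiv_of_specializes [DecidableEq ↥X] (n : ℕ) (i : X ⟶ CohB1.ProjSpace n k) [IsClosedImmersion i]
    (hi : i ≫ CohB1.ProjSpace.toSpec n k = p) (ξ : X) :
    ∀ x y : X, ξ ⤳ x → ξ ⤳ y → IsClosed ({x} : Set X) → IsClosed ({y} : Set X) →
    AlgEqCyc.IsAlgEquiv p (Function.locallyFinsuppWithin.single x (1 : ℤ))
      (Function.locallyFinsuppWithin.single y (1 : ℤ)) := by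
  letI : X.Over (Spec (CommRingCat.of k)) := ⟨p⟩
  haveI : IsProper (X ↘ Spec (CommRingCat.of k)) := inferInstanceAs (IsProper p)
  obtain ⟨m, hm⟩ : ∃ m, (δ ξ).toNat = m := ⟨_, rfl⟩
  induction m using Nat.strong_induction_on generalizing ξ with
  | _ m ih =>
    intro x y hx hy hxc hyc
    have h0 := KDegree.nonneg hδ ξ
    rcases lt_trichotomy (δ ξ) 1 with h | h | h
    · have hξ : IsClosed ({ξ} : Set X) := KDegree.isClosed_of_zero hδ (show δ ξ = 0 by omega)
      rw [show x = ξ from Set.mem_singleton_iff.1 (hξ.closure_subset (specializes_iff_mem_closure.1 hx)),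
        show y = ξ from Set.mem_singleton_iff.1 (hξ.closure_subset (specializes_iff_mem_closure.1 hy))]
      unfold AlgEqCyc.IsAlgEquiv
      rw [sub_self]; exact zero_mem _
    · exact curve_case p hδ h hx hy hxc hyc
    · exact eq_of_closed_meet p hδ h (fun η hη => ih (δ η).toNat (by
        have := KDegree.nonneg hδ η; omega) η rfl) n i hi x y hx hy hxc hyc

end Groth.Agent.H3Cyc.PointsAlg
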