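import Groth.Agent.H3Cyc.KPush
import Groth.Agent.H3CAlg.TorSemilocal
import Groth.Agent.H3CAlg.PrimeMod
import Groth.Agent.H3CAlg.ChiPull
import Groth.Agent.H3CAlg.TripleChi
import Groth.Agent.H3CAlg.DiagMain
import Groth.Agent.H24GE.PushLim
import Groth.Agent.H19Grp.RegularSmooth
import Mathlib

/-!
# The Tor Euler characteristic of a proper direct image
-/

set_option autoImplicit false
set_option linter.style.haveILetI false
set_option linter.unusedSectionVars false
set_option backward.isDefEq.respectTransparency.types false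
universe u

open CategoryTheory CategoryTheory.Limits AlgebraicGeometry IsLocalRing TensorProduct
open scoped Classical

namespace Groth.Agent.H3Cyc.PushLocal

attribute [local instance] HasDerivedCategory.standard

variable {X Y : Scheme.{u}}

/-- A proper morphism with finite fibre at `y` is finite near `y`. -/
theorem exists_finite_nhd {Z : Scheme.{u}} (g : Z ⟶ Y) [IsProper g] [CompactSpace Z] [IsLocallyNoetherian Z] (y : Y)
    (hfib : ∀ z z' : Z, g z = y → g z' = y → z ⤳ z' → z = z') :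
    ∃ V : Y.Opens, IsAffineOpen V ∧ y ∈ V ∧ IsAffineOpen (g ⁻¹ᵁ V) ∧ (g.app V).hom.Finite ∧ (g ⁻¹' {y}).Finite := by
  haveI : IsNoetherian Z := {}
  -- the fibre is a noetherian space all of whose points are closed
  haveI : TopologicalSpace.NoetherianSpace ↥(g ⁻¹' {y}) :=
    Topology.IsInducing.subtypeVal.noetherianSpace
  haveI : QuasiSober ↥(g.fiber y) := inferInstance
  have hclosed : ∀ w : g.fiber y, closure ({w} : Set (g.fiber y)) = {w} := fun w => by
    refine Set.Subset.antisymm (fun w' hw' => ?_) subset_closure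
    refine (g.fiberι y).isEmbedding.injective (hfib _ _ ?_ ?_ ((specializes_iff_mem_closure.mpr hw').map
      (g.fiberι y).continuous)).symm
    · exact (g.range_fiberι y).le ⟨w, rfl⟩
    · exact (g.range_fiberι y).le ⟨w', rfl⟩
  haveI : T1Space ↥(g.fiber y) := ⟨fun w => closure_eq_iff_isClosed.mp (hclosed w)⟩
  haveI : TopologicalSpace.NoetherianSpace ↥(g.fiber y) :=
    ((g.fiberι y).isEmbedding.isInducing).noetherianSpace
  haveI : Finite ↥(g.fiber y) := by
    obtain ⟨S, hSf, hSc, hSi, hS⟩ :=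
      TopologicalSpace.NoetherianSpace.exists_finite_set_isClosed_irreducible (isClosed_univ (X := ↥(g.fiber y)))
    refine Set.finite_univ_iff.mp ((hS ▸ hSf.sUnion fun T hT => ?_))
    have hg := (hSi T hT).isGenericPoint_genericPoint (hSc T hT)
    exact (Set.finite_singleton (hSi T hT).genericPoint).subset (by rw [← hclosed, hg.def])
  haveI : DiscreteTopology ↥(g.fiber y) := inferInstance
  have hfin : (g ⁻¹' {y}).Finite := by
    rw [← g.range_fiberι]
    exact Set.finite_range _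
  have hsub : g ⁻¹' {y} ⊆ g.quasiFiniteLocus := fun z hz => by
    obtain rfl : g z = y := hz
    exact Scheme.Hom.quasiFiniteAt_iff_isOpen_singleton_asFiber.mpr (isOpen_discrete _)
  let V₀ : Y.Opens := ⟨(g '' (g.quasiFiniteLocus : Set Z)ᶜ)ᶜ,
    (g.isClosedMap _ g.quasiFiniteLocus.isOpen.isClosed_compl).isOpen_compl⟩
  obtain ⟨V, hV, hyV, hVV⟩ := exists_isAffineOpen_mem_and_subset (X := Y) (x := y) (U := V₀)
    (fun ⟨z, hz, hzy⟩ => hz (hsub hzy))
  have hle : g ⁻¹ᵁ V ≤ g.quasiFiniteLocus := fun z hz => by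
    by_contra hn
    exact hVV hz ⟨z, hn, rfl⟩
  haveI : LocallyQuasiFinite (g ∣_ V) := by
    haveI : LocallyQuasiFinite ((g ∣_ V) ≫ V.ι) := by
      rw [morphismRestrict_ι, ← Z.homOfLE_ι hle, Category.assoc]
      infer_instance
    exact (LocallyQuasiFinite.comp_iff (g ∣_ V) V.ι).mp inferInstance
  haveI : IsProper (g ∣_ V) := IsZariskiLocalAtTarget.restrict (P := @IsProper) ‹IsProper g› V
  haveI : IsFinite (g ∣_ V) := .of_isProper_of_locallyQuasiFinite _
  haveI : IsAffine (V : Scheme.{u}) := hV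
  haveI : IsAffine (g ⁻¹ᵁ V : Scheme.{u}) := isAffine_of_isAffineHom (g ∣_ V)
  refine ⟨V, hV, hyV, inferInstanceAs (IsAffine (g ⁻¹ᵁ V : Scheme.{u})), ?_, hfin⟩
  have h := (g ∣_ V).finite_appTop
  rw [morphismRestrict_appTop] at h
  have key : ∀ W : Y.Opens, W = V → (g.app W).hom.Finite → (g.app V).hom.Finite := by
    rintro W rfl hW
    exact hW
  exact key _ (Scheme.Opens.ι_image_top V) ((RingHom.finite_respectsIso.cancel_right_isIso _ _).mp h)

variable (f : X ⟶ Y)

/-- The contribution of one point. -/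
theorem local_term [Flat f] {y : Y} {x : X} (hx : f x = y) (N : Y.Modules) (F : X.Modules)
    (T : Type u) [AddCommGroup T] [Module (X.presheaf.stalk x) T] [Module (Y.presheaf.stalk y) T]
    (hT : ∀ r (t : T), r • t = KPush.rho f hx r • t)
    (eT : F.presheaf.stalk x ≃ₗ[X.presheaf.stalk x] T) {δX : X → ℤ} {δY : Y → ℤ} (hδ : Cyc.DeltaCompat f δX δY)
    [LocallyOfFiniteType f] (he : δX x = δY y) [IsLocallyNoetherian X]
    (hfl : ∀ i : ℕ, Module.length (Y.presheaf.stalk y) (DRing.Tor (Y.presheaf.stalk y) i T (N.presheaf.stalk y)) ≠ ⊤) :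
    IntMult.chi (Y.presheaf.stalk y) T (N.presheaf.stalk y) =
      (f.residueDegree x : ℤ) * IntMult.chi (X.presheaf.stalk x) (F.presheaf.stalk x)
        (((Scheme.Modules.pullback f).obj N).presheaf.stalk x) := by
  subst hx
  letI := H06Mod.stalkAlgebra f x
  haveI : Module.Flat (Y.presheaf.stalk (f.base x)) (X.presheaf.stalk x) := Flat.stalkMap f x
  haveI : IsLocalHom (algebraMap (Y.presheaf.stalk (f.base x)) (X.presheaf.stalk x)) :=
    inferInstanceAs (IsLocalHom (f.stalkMap x).hom)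
  haveI : IsScalarTower (Y.presheaf.stalk (f.base x)) (X.presheaf.stalk x) T :=
    IsScalarTower.of_algebraMap_smul fun r t => by
      refine Eq.trans ?_ (hT r t).symm
      simp only [KPush.rho, TopCat.Presheaf.stalkSpecializes_refl]
      rfl
  have hfin := H22Alg.CycBasic.finite_residueFieldMap_of_delta_eq f hδ x he
  letI : Algebra (Y.residueField (f x)) (X.residueField x) := (f.residueFieldMap x).hom.toAlgebra
  haveI : Module.Finite (Y.residueField (f x)) (X.residueField x) := hfin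
  have hk : Module.length (ResidueField (Y.presheaf.stalk (f.base x))) (ResidueField (X.presheaf.stalk x)) =
      (f.residueDegree x : ℕ∞) := by
    refine Eq.trans (KPush.length_module_congr _ (f.residueFieldMap x).hom.toAlgebra.toModule fun r b => ?_)
      (Module.length_eq_finrank (Y.residueField (f x)) (X.residueField x))
    obtain ⟨r, rfl⟩ := IsLocalRing.residue_surjective r
    obtain ⟨b, rfl⟩ := IsLocalRing.residue_surjective b
    rfl
  rw [H3CAlg.TorSemilocal.chi_restrict_degree (R := Y.presheaf.stalk (f.base x)) (X.presheaf.stalk x) T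
    (N.presheaf.stalk (f.base x)) (f.residueDegree x) hk hfl]
  congr 1
  rw [H3CAlg.DiagMain.chi_congr eT]
  refine finsum_congr fun i => congrArg (fun z : ℕ∞ => (-1 : ℤ) ^ i * (z.toNat : ℤ)) ?_
  exact (((CategoryTheory.Tor (ModuleCat.{u} (X.presheaf.stalk x)) i).obj (ModuleCat.of _ T)).mapIso
    (H06Mod.pullStalkEquiv f N x).toModuleIso).toLinearEquiv.length_eq

set_option maxHeartbeats 1600000 in
/-- The Tor Euler characteristic of the direct image of a prime cycle, as a sum over the fibre. -/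
theorem push_chi [IsProper f] [Flat f] [IsNoetherian X] [IsNoetherian Y] {δX : X → ℤ} {δY : Y → ℤ}
    (hX : Cyc.IsSetup X δX) (hδ : Cyc.DeltaCompat f δX δY) (a : X) (y : Y) [IsRegularLocalRing (Y.presheaf.stalk y)]
    (N : Y.Modules) (hN : Coh.IsCoh N)
    (hfib : ∀ x, a ⤳ x → f x = y → δX x = δY y)
    (hmeet : ∀ z, a ⤳ z → f z ⤳ y → Nontrivial (N.presheaf.stalk (f z)) → f z = y) :
    IntMult.chi (Y.presheaf.stalk y) (((Coh.push f).obj (H3CAlg.PrimeMod.primeMod a)).presheaf.stalk y)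
        (N.presheaf.stalk y) =
      ∑ᶠ x ∈ {x : X | a ⤳ x ∧ f x = y}, (f.residueDegree x : ℤ) *
        IntMult.chi (X.presheaf.stalk x) ((H3CAlg.PrimeMod.primeMod a).presheaf.stalk x)
          (((Scheme.Modules.pullback f).obj N).presheaf.stalk x) := by
  let Z := (IntMult.ptIdeal a).subscheme
  let ι : Z ⟶ X := (IntMult.ptIdeal a).subschemeι
  let g : Z ⟶ Y := ι ≫ f
  let F := H3CAlg.PrimeMod.primeMod a
  let F' := (Coh.push f).obj F
  haveI : IsLocallyNoetherian Z := LocallyOfFiniteType.isLocallyNoetherian ι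
  haveI : CompactSpace Z := (ι.isClosedEmbedding).compactSpace
  have hrange : ∀ x, a ⤳ x ↔ x ∈ Set.range ι := fun x => by
    rw [H3CAlg.PairPt.range_ptIdeal, specializes_iff_mem_closure]
  have hzfib : ∀ z : Z, g z = y → δX (ι z) = δY y := fun z hz => hfib _ ((hrange _).mpr ⟨z, rfl⟩) hz
  obtain ⟨V, hV, hyV, hgV, hfinapp, hfib'⟩ := exists_finite_nhd g y fun z z' hz hz' hs => by
    refine ι.isEmbedding.injective ?_
    by_contra hne
    have h1 := (hX.2.2 _ _ (hs.map ι.continuous) hne).1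
    rw [hzfib z hz, hzfib z' hz'] at h1
    exact lt_irrefl _ h1
  haveI : Fintype ↥(g ⁻¹' {y}) := hfib'.fintype
  have hF' : Coh.IsCoh F' := H24GE.isCoh_pushforward f (H3CAlg.PrimeMod.isCoh_primeMod a)
  let q : PrimeSpectrum Γ(Y, V) := hV.primeIdealOf ⟨y, hyV⟩
  let R := Y.presheaf.stalk y
  let S₀ := Γ(Z, g ⁻¹ᵁ V)
  letI : Algebra Γ(Y, V) S₀ := (g.app V).hom.toAlgebra
  haveI : Module.Finite Γ(Y, V) S₀ := hfinapp
  letI : Algebra Γ(Y, V) R := (Y.presheaf.germ V y hyV).hom.toAlgebra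
  haveI : IsLocalization.AtPrime R q.asIdeal := hV.isLocalization_stalk ⟨y, hyV⟩
  let M := Algebra.algebraMapSubmonoid S₀ q.asIdeal.primeCompl
  let S := Localization M
  letI : Algebra R S := (IsLocalization.map S (algebraMap Γ(Y, V) S₀)
    (show q.asIdeal.primeCompl ≤ M.comap (algebraMap Γ(Y, V) S₀) from fun r hr => ⟨r, hr, rfl⟩) : R →+* S).toAlgebra
  haveI : IsScalarTower Γ(Y, V) R S := IsScalarTower.of_algebraMap_eq fun r => by
    show algebraMap Γ(Y, V) S r = IsLocalization.map S _ _ (algebraMap Γ(Y, V) R r)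
    rw [IsLocalization.map_eq]
    rfl
  haveI : Module.Finite R S := Module.Finite.of_isLocalizedModule q.asIdeal.primeCompl
    (IsScalarTower.toAlgHom Γ(Y, V) S₀ S).toLinearMap
  -- the stalk of the direct image is `S`
  have hF'S : Nonempty (F'.presheaf.stalk y ≃ₗ[R] S) := by
    letI := Module.compHom (F'.presheaf.stalk y) (algebraMap Γ(Y, V) R)
    haveI : IsScalarTower Γ(Y, V) R (F'.presheaf.stalk y) := IsScalarTower.of_algebraMap_smul fun _ _ => rfl
    haveI := H29Fitt.isLocalizedModule_germLin F' hF'.1 hV (⟨y, hyV⟩ : V)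
    let e₀ : Γ(F', V) ≃ₗ[Γ(Y, V)] S₀ :=
      { AddEquiv.refl S₀ with map_smul' := fun r s => rfl }
    haveI : IsLocalizedModule q.asIdeal.primeCompl
        ((IsScalarTower.toAlgHom Γ(Y, V) S₀ S).toLinearMap ∘ₗ e₀.toLinearMap) :=
      IsLocalizedModule.of_linearEquiv_right _ _ e₀
    exact ⟨LinearEquiv.extendScalarsOfIsLocalization q.asIdeal.primeCompl R
      (IsLocalizedModule.linearEquiv q.asIdeal.primeCompl (H29Fitt.germLin F' (⟨y, hyV⟩ : V))
        ((IsScalarTower.toAlgHom Γ(Y, V) S₀ S).toLinearMap ∘ₗ e₀.toLinearMap))⟩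
  obtain ⟨eS⟩ := hF'S
  -- the points over `y`
  have hmemV : ∀ z : ↥(g ⁻¹' {y}), z.1 ∈ g ⁻¹ᵁ V := fun z => by
    show g z.1 ∈ V
    rw [show g z.1 = y from z.2]
    exact hyV
  let 𝔭 : ↥(g ⁻¹' {y}) → PrimeSpectrum S₀ := fun z => hgV.primeIdealOf ⟨z.1, hmemV z⟩
  have hqz : ∀ (p : PrimeSpectrum S₀) (hp : hgV.fromSpec p ∈ g ⁻¹ᵁ V),
      p.asIdeal.comap (algebraMap Γ(Y, V) S₀) = q.asIdeal ↔ g (hgV.fromSpec p) = y := by
    intro p hp
    have h := hgV.primeIdealOf_eq_map_closedPoint ⟨hgV.fromSpec p, hp⟩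
    have h2 : g (hgV.fromSpec p) = hV.fromSpec (PrimeSpectrum.comap (algebraMap Γ(Y, V) S₀) p) := by
      have e := hV.SpecMap_appLE_fromSpec g hgV le_rfl
      rw [← Scheme.Hom.app_eq_appLE] at e
      exact (congrArg (fun m : Spec Γ(Z, g ⁻¹ᵁ V) ⟶ Y => m p) e).symm
    rw [h2]
    constructor
    · intro he
      rw [show PrimeSpectrum.comap (algebraMap Γ(Y, V) S₀) p = q from PrimeSpectrum.ext he]
      exact hV.fromSpec_primeIdealOf ⟨y, hyV⟩
    · intro he
      exact congrArg PrimeSpectrum.asIdeal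
        (hV.fromSpec.isOpenEmbedding.injective (he.trans (hV.fromSpec_primeIdealOf ⟨y, hyV⟩).symm))
  have h𝔭 : ∀ z, (𝔭 z).asIdeal.comap (algebraMap Γ(Y, V) S₀) = q.asIdeal := fun z => by
    have he := hgV.fromSpec_primeIdealOf ⟨z.1, hmemV z⟩
    exact (hqz (𝔭 z) (he.symm ▸ hmemV z)).mpr ((congrArg g he).trans z.2)
  have hdisj : ∀ z, Disjoint (M : Set S₀) ((𝔭 z).asIdeal : Set S₀) := fun z => by
    refine Set.disjoint_left.mpr ?_
    rintro _ ⟨r, hr, rfl⟩ hmem
    exact hr ((h𝔭 z).le hmem)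
  let m : ↥(g ⁻¹' {y}) → Ideal S := fun z => (𝔭 z).asIdeal.map (algebraMap S₀ S)
  have hmp : ∀ z, (m z).IsPrime := fun z => IsLocalization.isPrime_of_isPrime_disjoint M S _ (𝔭 z).2 (hdisj z)
  have hmc : ∀ z, (m z).comap (algebraMap S₀ S) = (𝔭 z).asIdeal := fun z =>
    IsLocalization.comap_map_of_isPrime_disjoint M S (𝔭 z).2 (hdisj z)
  have hover : ∀ (Q : Ideal S) [Q.IsPrime], (Q.comap (algebraMap R S)).IsMaximal ↔
      (Q.comap (algebraMap S₀ S)).comap (algebraMap Γ(Y, V) S₀) = q.asIdeal := by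
    intro Q hQ
    have e1 : (Q.comap (algebraMap S₀ S)).comap (algebraMap Γ(Y, V) S₀) =
        (Q.comap (algebraMap R S)).comap (algebraMap Γ(Y, V) R) := by
      rw [Ideal.comap_comap, Ideal.comap_comap, ← IsScalarTower.algebraMap_eq, ← IsScalarTower.algebraMap_eq]
    rw [e1]
    constructor
    · intro hmax
      rw [IsLocalRing.eq_maximalIdeal hmax]
      exact IsLocalization.AtPrime.comap_maximalIdeal R q.asIdeal
    · intro he
      have h : Q.comap (algebraMap R S) = maximalIdeal R := by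
        rw [← IsLocalization.map_comap q.asIdeal.primeCompl R (Q.comap (algebraMap R S)), Ideal.under_def, he]
        exact IsLocalization.AtPrime.map_eq_maximalIdeal q.asIdeal R
      rw [h]
      exact maximalIdeal.isMaximal R
  haveI hmmax : ∀ z, (m z).IsMaximal := fun z => by
    haveI := hmp z
    refine Ideal.isMaximal_of_isIntegral_of_isMaximal_comap (R := R) (m z) ((hover (m z)).mpr ?_)
    rw [hmc, h𝔭]
  have hminj : Function.Injective m := fun z z' h => by
    have h1 : 𝔭 z = 𝔭 z' := PrimeSpectrum.ext (by rw [← hmc z, ← hmc z', h])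
    have h2 := congrArg hgV.fromSpec h1
    rw [hgV.fromSpec_primeIdealOf, hgV.fromSpec_primeIdealOf] at h2
    exact Subtype.ext h2
  have hall : ∀ Q : Ideal S, Q.IsMaximal → ∃ z, m z = Q := fun Q hQ => by
    have h1 := (hover Q).mp (Ideal.isMaximal_comap_of_isIntegral_of_isMaximal (R := R) Q)
    let p : PrimeSpectrum S₀ := ⟨Q.comap (algebraMap S₀ S), inferInstance⟩
    have hp : hgV.fromSpec p ∈ g ⁻¹ᵁ V := by
      rw [← SetLike.mem_coe, ← hgV.range_fromSpec]
      exact ⟨p, rfl⟩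
    refine ⟨⟨hgV.fromSpec p, (hqz p hp).mp h1⟩, ?_⟩
    show Ideal.map _ (hgV.primeIdealOf _).asIdeal = Q
    rw [show hgV.primeIdealOf ⟨hgV.fromSpec p, hp⟩ = p from
      hgV.fromSpec.isOpenEmbedding.injective (hgV.fromSpec_primeIdealOf ⟨hgV.fromSpec p, hp⟩)]
    exact IsLocalization.map_comap M S Q
  let P : ↥(g ⁻¹' {y}) → Type u := fun z => Z.presheaf.stalk z.1
  letI iP : ∀ z, CommRing (P z) := fun z => inferInstanceAs (CommRing (Z.presheaf.stalk z.1))
  letI iP₀ : ∀ z, Algebra S₀ (P z) := fun z => (Z.presheaf.germ (g ⁻¹ᵁ V) z.1 (hmemV z)).hom.toAlgebra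
  have hloc₀ : ∀ z, IsLocalization.AtPrime (P z) (𝔭 z).asIdeal := fun z => hgV.isLocalization_stalk ⟨z.1, hmemV z⟩
  have hunit : ∀ z, ∀ s : M, IsUnit (algebraMap S₀ (P z) s) := fun z s => by
    haveI := hloc₀ z
    exact IsLocalization.map_units (P z)
      (⟨s.1, fun h => Set.disjoint_left.mp (hdisj z) s.2 h⟩ : (𝔭 z).asIdeal.primeCompl)
  letI iPS : ∀ z, Algebra S (P z) := fun z => (IsLocalization.lift (hunit z) : S →+* P z).toAlgebra
  haveI : ∀ z, IsScalarTower S₀ S (P z) := fun z => IsScalarTower.of_algebraMap_eq fun s =>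
    (IsLocalization.lift_eq (hunit z) s).symm
  haveI : ∀ z, IsLocalization.AtPrime (P z) (m z) := fun z => by
    haveI := hloc₀ z
    have h := IsLocalization.isLocalization_of_submonoid_le S (P z) M (𝔭 z).asIdeal.primeCompl
      (fun s hs h => Set.disjoint_left.mp (hdisj z) hs h)
    refine (IsLocalization.iff_of_le_of_exists_dvd _ (m z).primeCompl ?_ ?_).mp h
    · rintro _ ⟨t, ht, rfl⟩ hmem
      exact ht ((hmc z).le hmem)
    · intro n hn
      obtain ⟨⟨t, w⟩, hw⟩ := IsLocalization.surj M n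
      refine ⟨algebraMap S₀ S t, ⟨t, fun ht => ?_, rfl⟩, ⟨_, hw.symm⟩⟩
      rcases (hmp z).mem_or_mem (hw ▸ Ideal.mem_map_of_mem _ ht : n * algebraMap S₀ S w ∈ m z) with h1 | h1
      · exact hn h1
      · exact (hmp z).ne_top (Ideal.eq_top_of_isUnit_mem _ h1 (IsLocalization.map_units S w))
  letI iPR : ∀ z, Algebra R (P z) := fun z => ((algebraMap S (P z)).comp (algebraMap R S)).toAlgebra
  haveI : ∀ z, IsScalarTower R S (P z) := fun z => IsScalarTower.of_algebraMap_eq fun _ => rfl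
  have hrho : ∀ z, algebraMap R (P z) =
      (ι.stalkMap z.1).hom.comp (KPush.rho f (show f (ι z.1) = y from z.2)) := fun z => by
    refine IsLocalization.ringHom_ext q.asIdeal.primeCompl (RingHom.ext fun r => ?_)
    show algebraMap S (P z) (algebraMap R S (algebraMap Γ(Y, V) R r)) = _
    rw [← IsScalarTower.algebraMap_apply Γ(Y, V) R S, IsScalarTower.algebraMap_apply Γ(Y, V) S₀ S,
      ← IsScalarTower.algebraMap_apply S₀ S (P z)]
    show Z.presheaf.germ (g ⁻¹ᵁ V) z.1 (hmemV z) (g.app V r) =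
      ι.stalkMap z.1 (f.stalkMap (ι z.1) (Y.presheaf.stalkSpecializes _ (Y.presheaf.germ V y hyV r)))
    rw [TopCat.Presheaf.germ_stalkSpecializes_apply, Scheme.Hom.germ_stalkMap_apply, Scheme.Hom.germ_stalkMap_apply]
    rfl
  -- finite length
  haveI : Module.Finite R (N.presheaf.stalk y) := H3CAlg.ChiStalk.finite_stalk N hN y
  obtain ⟨D, hD⟩ := H3CAlg.ChiMain.exists_bound R (N.presheaf.stalk y)
  have hfl : ∀ i, Module.length R (DRing.Tor R i S (N.presheaf.stalk y)) ≠ ⊤ := fun i => by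
    haveI : Module.Finite R (DRing.Tor R i S (N.presheaf.stalk y)) := (H3CAlg.ChiAdd.finite_and_killed _ i _).1
    have hann := H3CAlg.TripleChi.annihilator_le_tor (A := R) S (N.presheaf.stalk y) i
    refine H22Alg.length_ne_top_of_support_maximal fun Q hQ => ?_
    have hQ' := Module.mem_support_iff_of_finite.mp hQ
    obtain ⟨η, hη, hηQ⟩ := H3CAlg.ChiStalk.exists_generization Q
    have hQN : Q ∈ Module.support R (N.presheaf.stalk y) := Module.mem_support_iff_of_finite.mpr (hann.1.trans hQ')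
    have hQF : Q ∈ Module.support R (F'.presheaf.stalk y) := by
      rw [eS.support_eq]
      exact Module.mem_support_iff_of_finite.mpr (hann.2.trans hQ')
    have h1 := H3CAlg.ChiStalk.mem_support_stalk N hN hη Q hηQ hQN
    have h2 := H3CAlg.ChiStalk.mem_support_stalk F' hF' hη Q hηQ hQF
    obtain ⟨z, hz, hza⟩ : ∃ z, f z = η ∧ a ⤳ z := by
      by_contra hno
      push Not at hno
      have hb := KPush.pc_pi_bijective f (F := F) (y := η) ∅ (by simp) (fun x hx hs => absurd
        ((H3CAlg.PrimeMod.nontrivial_iff a x).mp (KDev.mem_support.mp hs)) (hno x hx)) (by simp) (by simp)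
      haveI : IsEmpty ↥(∅ : Finset X) := ⟨fun x => absurd x.2 (Finset.notMem_empty _)⟩
      haveI := (Equiv.ofBijective _ hb).subsingleton
      exact not_subsingleton (F'.presheaf.stalk η) inferInstance
    have hy' : f z = y := hmeet z hza (hz ▸ hη) (by rw [hz]; exact h1)
    have hηy : η = y := hz.symm.trans hy'
    subst hηy
    rw [← hηQ, H3CAlg.IntPt.stalkIdeal_ptIdeal_self]
    exact maximalIdeal.isMaximal R
  obtain ⟨hflP, hsum⟩ := H3CAlg.TorSemilocal.chi_eq_sum S m hminj hall P (N.presheaf.stalk y) hfl D hD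
  rw [H3CAlg.TorComm.chi_comm, H3CAlg.ChiDev.chi_congr _ eS, H3CAlg.TorComm.chi_comm, hsum]
  have hset : {x : X | a ⤳ x ∧ f x = y} = ι '' (g ⁻¹' {y}) := Set.ext fun x =>
    ⟨fun ⟨h1, h2⟩ => by obtain ⟨z, rfl⟩ := (hrange x).mp h1; exact ⟨z, h2, rfl⟩,
      fun ⟨z, hz, e⟩ => e ▸ ⟨(hrange _).mpr ⟨z, rfl⟩, hz⟩⟩
  rw [hset, finsum_mem_image (ι.isEmbedding.injective.injOn), ← finsum_set_coe_eq_finsum_mem, finsum_eq_sum_of_fintype]
  refine Finset.sum_congr rfl fun z _ => ?_
  letI := Module.compHom (P z) (ι.stalkMap z.1).hom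
  obtain ⟨e⟩ := H3CAlg.PrimeMod.stalk_primeMod ((hrange (ι z.1)).mpr ⟨z.1, rfl⟩)
  let ψ : X.presheaf.stalk (ι z.1) →ₗ[X.presheaf.stalk (ι z.1)] P z :=
    { toFun := fun r => ι.stalkMap z.1 r
      map_add' := fun r s => map_add _ r s
      map_smul' := fun r s => map_mul _ r s }
  have hker : LinearMap.ker ψ = IntMult.stalkIdeal (IntMult.ptIdeal a) (ι z.1) := by
    rw [H3CAlg.IntLocal.stalkIdeal_eq_ker]
    rfl
  exact local_term f (show f (ι z.1) = y from z.2) N F (P z)
    (fun r t => by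
      show algebraMap R (P z) r * t = _
      rw [hrho z]
      rfl)
    (e.trans ((Submodule.quotEquivOfEq _ _ hker.symm).trans
      (ψ.quotKerEquivOfSurjective (ι.stalkMap_surjective z.1))))
    hδ (hzfib z.1 z.2) fun i => hflP i z

end Groth.Agent.H3Cyc.PushLocal
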