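import Groth.Agent.H3Cyc.OpenSupp
import Groth.Agent.H11Ample.Ample
import Groth.Agent.H06Mod.StalkPullback
import Groth.Agent.H17.PullSect
import Mathlib

/-!
# The product lemma for a quotient of the source; vanishing of pulled back sections
-/

set_option autoImplicit false
set_option linter.style.haveILetI false
set_option linter.unusedSectionVars false
set_option backward.isDefEq.respectTransparency.types false
universe u

open CategoryTheory CategoryTheory.Limits AlgebraicGeometry
open Groth.Agent.H11Tilde (IsGen)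
open Groth.Agent.H3Cyc.Tot

noncomputable section

namespace Groth.Agent.H3Cyc.QuotSupp

variable {X Y : Scheme.{u}} {δ : X → ℤ}

/-- `∏ (c₁(N) - c₁(Lᵢ))` for a filtered quotient through which `φ` factors on the fibres over `S`. -/
theorem supp_prod (hX : Cyc.IsSetup X δ) {F : X.Modules} {ls : List X.Modules} (hF : Filt.Filt F ls)
    {N : X.Modules} (hN : PicF.IsInvertible N) {S : Set X} (hS : ∀ {ξ x : X}, ξ ⤳ x → ξ ∈ S → x ∈ S) (f : T X δ)
    (hf : ∀ k, Filt.Supp S (f k)) :
    ∀ {E : X.Modules} (g : E ⟶ F) [Epi g] (φ : E ⟶ N),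
      (∀ x ∈ S, ∀ v, Filt.fmap g x v = 0 → Filt.fmap φ x v = 0) →
      ∀ k, Filt.Supp (S ∩ Filt.zeroSet φ) ((ls.map fun L => Filt.cc hX N - Filt.cc hX L).prod f k) := by
  induction hF with
  | @zero F h =>
    intro E g _ φ hker k
    have e : S ∩ Filt.zeroSet φ = S := Set.inter_eq_left.mpr fun x hx v => hker x hx v (by
      rw [Filt.fmap_apply, h.eq_of_tgt g 0, Filt.sl, Functor.map_zero]
      rfl)
    rw [e]
    exact hf k
  | @cons M F L ls a b w hex hb hL hM ih =>
    intro E g _ φ hker k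
    haveI := hb
    let K := Limits.pullback g a
    let i : K ⟶ E := pullback.fst g a
    let c : K ⟶ M := pullback.snd g a
    haveI : Epi c := inferInstance
    rw [List.map_cons, List.prod_cons]
    obtain ⟨α, hα, hs, e⟩ := ih c (i ≫ φ) (fun x hx v hv => by
      rw [Filt.fmap_comp]
      refine hker x hx _ ?_
      rw [← Filt.fmap_comp, pullback.condition, Filt.fmap_comp]
      exact Filt.fmap_of_mem a x _ ((Submodule.Quotient.mk_eq_zero _).mp hv)) (k + 1)
    have w' : i ≫ g ≫ b = 0 := by rw [← Category.assoc, pullback.condition, Category.assoc, w, comp_zero]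
    have hex' : (ShortComplex.mk i (g ≫ b) w').Exact := by
      rw [ShortComplex.exact_iff_exact_up_to_refinements]
      intro T x hx
      dsimp at x hx
      obtain ⟨T', π, hπ, y, hy⟩ := (ShortComplex.exact_iff_exact_up_to_refinements _).mp hex (x ≫ g)
        (by show (x ≫ g) ≫ b = 0; rw [Category.assoc, hx])
      dsimp at hy
      exact ⟨T', π, hπ, pullback.lift (π ≫ x) y (by rw [Category.assoc]; exact hy), (pullback.lift_fst _ _ _).symm⟩
    obtain ⟨β, hβ, hβs, hβe⟩ := OpenSupp.exists_step' (g ≫ b) φ hL hN hX (S ∩ Filt.zeroSet (i ≫ φ))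
      (fun hsp hξ => ⟨hS hsp hξ.1, Filt.zeroSet_spec (i ≫ φ) hN hsp hξ.2⟩)
      (fun x hx v hv => Filt.fmap_eq_zero_of_exact hex' (epi_comp g b) φ x hx.2 v hv)
      (rfl : k + 1 = k + 1) α hα hs
    exact ⟨β, hβ, fun x hx => hβs x fun h' => hx ⟨h'.1.1, h'.2⟩,
      by rw [hβe, e, Filt.cc_eq hX hN, Filt.cc_eq hX hL]; rfl⟩

/-- A pulled back map from a rank one module vanishes over its zero locus. -/
theorem zeroSet_pullback (g : Y ⟶ X) {M N : X.Modules} (hM : PicF.IsInvertible M) (φ : M ⟶ N) :
    g ⁻¹' Filt.zeroSet φ ⊆ Filt.zeroSet ((Scheme.Modules.pullback g).map φ) := by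
  intro y hy v
  obtain ⟨V, e, hV, he⟩ := H11Ample.exists_gen hM (g y)
  obtain ⟨a, rfl⟩ := ((IsGen.pullSect g he) y hV).2 v
  rw [LinearMap.map_smul]
  refine (congrArg (fun z => a • z) ?_).trans (smul_zero a)
  rw [Filt.fmap_germ, ← H17.PullSect.pullSect_natural g φ]
  refine (Submodule.Quotient.mk_eq_zero _).mpr ?_
  have h0 := (Submodule.Quotient.mk_eq_zero _).mp ((Filt.fmap_germ φ (g y) V hV e).symm.trans (hy _))
  rw [← H06Mod.pullStalk_germ g N y V hV]
  refine Submodule.smul_induction_on h0 (fun c hc w _ => ?_) (fun w w' hw hw' => ?_)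
  · rw [H06Mod.pullStalk_smul]
    exact Submodule.smul_mem_smul (fun hu => hc ((isUnit_map_iff (g.stalkMap y).hom c).mp hu)) Submodule.mem_top
  · rw [map_add]
    exact Submodule.add_mem _ hw hw'

end Groth.Agent.H3Cyc.QuotSupp
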