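import Groth.Agent.H3Cyc.Gysin
import Groth.Agent.H3Cyc.ZeroSch
import Groth.Agent.H22Alg.CycBasic
import Groth.Agent.H12AlgSp.RelDim
import Mathlib

/-!
# Relative Cartier divisors as zero schemes of sections
-/

set_option autoImplicit false
set_option linter.style.haveILetI false
set_option backward.isDefEq.respectTransparency.types false
universe u

open CategoryTheory AlgebraicGeometry IsLocalRing Opposite
open scoped TensorProduct
open Groth.Agent.H11Tilde (IsGen)

noncomputable section

namespace Groth.Agent.H3Cyc.RelCartier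

section algebra

variable {R B : Type u} [CommRing R] [CommRing B]

/-- Multiplication by `a` is injective modulo every ideal of the base. -/
def RegAll (α : R →+* B) (a : B) : Prop :=
  ∀ (J : Ideal R) (g : B), a * g ∈ J.map α → g ∈ J.map α

theorem RegAll.isSMulRegular {α : R →+* B} {a : B} (h : RegAll α a) : IsSMulRegular B a :=
  isSMulRegular_iff_right_eq_zero_of_smul.mpr fun g hg => by
    simpa using h ⊥ g (by rw [smul_eq_mul] at hg; simp [hg])

theorem RegAll.quot {α : R →+* B} {a : B} (h : RegAll α a) (J : Ideal R) :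
    IsSMulRegular (B ⧸ J.map α) (Ideal.Quotient.mk (J.map α) a) :=
  isSMulRegular_iff_right_eq_zero_of_smul.mpr fun x hx => by
    obtain ⟨g, rfl⟩ := Ideal.Quotient.mk_surjective x
    rw [smul_eq_mul, ← map_mul, Ideal.Quotient.eq_zero_iff_mem] at hx
    exact Ideal.Quotient.eq_zero_iff_mem.mpr (h J g hx)

/-- A generator of a smaller ideal is regular as well. -/
theorem RegAll.of_dvd {α : R →+* B} {a b : B} (h : RegAll α a) (hb : b ∣ a) : RegAll α b := fun J g hg => by
  obtain ⟨c, rfl⟩ := hb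
  exact h J g (by rw [mul_comm b c, mul_assoc]; exact Ideal.mul_mem_left _ _ hg)

/-- The quotient by an element regular modulo every ideal of the base is flat. -/
theorem RegAll.flat [Algebra R B] [Module.Flat R B] {a : B} (h : RegAll (algebraMap R B) a) :
    Module.Flat R (B ⧸ Ideal.span {a}) := by
  let q : B →ₗ[R] B ⧸ Ideal.span {a} := (Ideal.Quotient.mkₐ R (Ideal.span {a})).toLinearMap
  let μ : B →ₗ[R] B := LinearMap.mulLeft R a
  refine Module.Flat.iff_rTensor_injective'.2 fun I => (injective_iff_map_eq_zero _).2 fun z hz => ?_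
  obtain ⟨w, rfl⟩ := LinearMap.lTensor_surjective I (g := q) Ideal.Quotient.mk_surjective z
  let T : I ⊗[R] B →ₗ[R] B := (TensorProduct.lid R B).toLinearMap ∘ₗ I.subtype.rTensor B
  have hT : Function.Injective T :=
    (TensorProduct.lid R B).injective.comp (Module.Flat.rTensor_preserves_injective_linearMap _ I.injective_subtype)
  have hnat : ∀ w', TensorProduct.lid R _ (I.subtype.rTensor _ (q.lTensor I w')) = q (T w') := fun w' => by
    induction w' using TensorProduct.induction_on with
    | zero => simp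
    | tmul r x => simp [T]
    | add u v hu hv => simp [hu, hv]
  have hμ : ∀ w', T (μ.lTensor I w') = a * T w' := fun w' => by
    induction w' using TensorProduct.induction_on with
    | zero => simp
    | tmul r x => simp [T, μ, mul_smul_comm]
    | add u v hu hv => simp [hu, hv, mul_add]
  have hmem : ∀ w', T w' ∈ I.map (algebraMap R B) := fun w' => by
    induction w' using TensorProduct.induction_on with
    | zero => simp
    | tmul r x =>
      simp only [T, LinearMap.coe_comp, Function.comp_apply, LinearMap.rTensor_tmul, LinearEquiv.coe_coe,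
        TensorProduct.lid_tmul, Submodule.subtype_apply, Algebra.smul_def]
      exact Ideal.mul_mem_right _ _ (Ideal.mem_map_of_mem _ r.2)
    | add u v hu hv => rw [map_add]; exact add_mem hu hv
  have hsurj : ∀ t ∈ I.map (algebraMap R B), ∃ w', T w' = t := fun t ht => by
    refine Submodule.span_induction (fun x hx => ?_) ⟨0, map_zero _⟩ ?_ ?_ ht
    · obtain ⟨r, hr, rfl⟩ := hx
      exact ⟨⟨r, hr⟩ ⊗ₜ 1, by simp [T, Algebra.smul_def]⟩
    · rintro x y _ _ ⟨u, rfl⟩ ⟨v, rfl⟩
      exact ⟨u + v, map_add _ _ _⟩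
    · rintro c x hx ⟨u, rfl⟩
      clear hx hz ht
      refine ⟨(LinearMap.mulLeft R c).lTensor I u, ?_⟩
      induction u using TensorProduct.induction_on with
      | zero => simp
      | tmul r y => simp [T, mul_smul_comm]
      | add u v hu hv =>
        simp only [map_add, smul_eq_mul, mul_add] at hu hv ⊢
        rw [hu, hv]
  have hq : q (T w) = 0 := by rw [← hnat, hz, map_zero]
  obtain ⟨g, hg⟩ := Ideal.mem_span_singleton.1 (Ideal.Quotient.eq_zero_iff_mem.1 hq)
  obtain ⟨w', hw'⟩ := hsurj g (h I g (hg ▸ hmem w))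
  rw [show w = μ.lTensor I w' from hT (by rw [hμ, hw', hg]), ← LinearMap.comp_apply, ← LinearMap.lTensor_comp,
    show q.comp μ = 0 from LinearMap.ext fun x =>
      Ideal.Quotient.eq_zero_iff_mem.2 (Ideal.mul_mem_right x _ (Ideal.mem_span_singleton_self a)),
    LinearMap.lTensor_zero]
  rfl

/-- Regularity modulo every ideal passes to localizations. -/
theorem RegAll.localization {α : R →+* B} {a : B} (h : RegAll α a) {R' B' : Type u} [CommRing R'] [CommRing B']
    [Algebra R R'] [Algebra B B'] {M : Submonoid R} [IsLocalization M R'] {N : Submonoid B} [IsLocalization N B']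
    (α' : R' →+* B') (hα : α'.comp (algebraMap R R') = (algebraMap B B').comp α) :
    RegAll α' (algebraMap B B' a) := fun J g hg => by
  have e : J.map α' = ((J.comap (algebraMap R R')).map α).map (algebraMap B B') := by
    conv_lhs => rw [← IsLocalization.map_comap M R' J]
    rw [Ideal.map_map, Ideal.map_map, hα]
  rw [e] at hg ⊢
  obtain ⟨g0, s, rfl⟩ := IsLocalization.exists_mk'_eq N g
  rw [IsLocalization.mk'_mem_map_algebraMap_iff]
  rw [IsLocalization.mul_mk'_eq_mk'_of_mul, IsLocalization.mk'_mem_map_algebraMap_iff] at hg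
  obtain ⟨t, ht, h'⟩ := hg
  exact ⟨t, ht, h _ _ (by rw [← mul_assoc, mul_comm a t, mul_assoc]; exact h')⟩

/-- A linear polynomial with regular leading coefficient is regular. -/
theorem regAll_linear {α : R →+* B} (f : B) {c : B} (hc : RegAll α c) :
    RegAll (Polynomial.C.comp α) (Polynomial.C f - Polynomial.C c * Polynomial.X) := fun J G hG => by
  rw [← Ideal.map_map] at hG ⊢
  rw [Ideal.mem_map_C_iff] at hG ⊢
  set I := J.map α
  intro n
  by_contra hn
  let P := G.map (Ideal.Quotient.mk I)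
  have hP : P ≠ 0 := fun h0 => hn (Ideal.Quotient.eq_zero_iff_mem.1 (by
    rw [← Polynomial.coeff_map]; exact congrArg (fun p => Polynomial.coeff p n) h0))
  have h1 := hG (P.natDegree + 1)
  have h2 : G.coeff (P.natDegree + 1) ∈ I := Ideal.Quotient.eq_zero_iff_mem.1 (by
    rw [← Polynomial.coeff_map]; exact Polynomial.coeff_eq_zero_of_natDegree_lt (Nat.lt_succ_self _))
  rw [sub_mul, Polynomial.coeff_sub, Polynomial.coeff_C_mul, mul_assoc, Polynomial.coeff_C_mul,
    Polynomial.coeff_X_mul] at h1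
  have h3 := hc J _ ((Submodule.sub_mem_iff_right I (Ideal.mul_mem_left _ _ h2)).1 h1)
  refine hP (Polynomial.leadingCoeff_eq_zero.1 ?_)
  rw [Polynomial.leadingCoeff, Polynomial.coeff_map]
  exact Ideal.Quotient.eq_zero_iff_mem.2 h3

end algebra

variable {X Y : Scheme.{u}}

/-- A closed immersion cut out on an affine cover by the coefficient of a section is its zero scheme. -/
theorem isZeroScheme_of_local {L : X.Modules} {s : L.presheaf.obj (op ⊤)} {D : Scheme.{u}} (i : D ⟶ X)
    [IsClosedImmersion i]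
    (h : ∀ x : X, ∃ (V : X.Opens) (hV : IsAffineOpen V) (_ : x ∈ V) (e : Γ(L, V)) (c : Γ(X, V)),
      IsGen L e ∧ (∀ (v : X) (hv : v ∈ V),
        L.presheaf.germ ⊤ v trivial s = X.presheaf.germ V v hv c • L.presheaf.germ V v hv e) ∧
      i.ker.ideal ⟨V, hV⟩ = Ideal.span {c}) : Cyc.IsZeroSchemeOf i L s := by
  refine ⟨?_, fun d => ?_⟩
  · ext y
    obtain ⟨V, hV, hy, e, c, he, hs, hker⟩ := h y
    show y ∈ Set.range i ↔ (Submodule.Quotient.mk (L.presheaf.germ ⊤ y trivial s) : Cyc.secFibre L y) = 0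
    rw [hs y hy, Submodule.Quotient.mk_smul]
    show _ ↔ X.presheaf.germ V y hy c • C1Api.fib L y hy e = 0
    rw [← not_iff_not]
    refine Iff.trans ?_ (C1Api.residue_ne_zero_iff he hy _).symm
    show _ ↔ IsLocalRing.residue _ (X.presheaf.germ V y hy c) ≠ 0
    rw [IsLocalRing.residue_ne_zero_iff_isUnit, ← i.isClosedEmbedding.isClosed_range.closure_eq,
      ← Scheme.Hom.support_ker, SetLike.mem_coe,
      Scheme.IdealSheafData.mem_support_iff_of_mem (U := ⟨V, hV⟩) hy, Scheme.mem_zeroLocus_iff, hker,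
      ← Scheme.mem_basicOpen _ _ _ hy]
    constructor
    · intro h1
      by_contra h2
      refine h1 fun f hf hfv => h2 ?_
      obtain ⟨g, rfl⟩ := Ideal.mem_span_singleton'.1 hf
      rw [X.basicOpen_mul] at hfv
      exact hfv.2
    · exact fun h1 h2 => h2 c (Ideal.mem_span_singleton_self c) h1
  · obtain ⟨V, hV, hy, e, c, he, hs, hker⟩ := h (i d)
    refine ⟨_, _, Submodule.eq_top_iff'.mpr fun w => Submodule.mem_span_singleton.mpr ((he _ hy).2 w), hs _ hy, ?_⟩
    rw [H13CInt.ker_stalkMap i d ⟨V, hV⟩ hy, hker, Ideal.map_span, Set.image_singleton]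

theorem germ_appLE (f : X ⟶ Y) {V : Y.Opens} {U : X.Opens} (e : U ≤ f ⁻¹ᵁ V) (x : X) (hx : x ∈ U) :
    (X.presheaf.germ U x hx).hom.comp (f.appLE V U e).hom =
      (f.stalkMap x).hom.comp (Y.presheaf.germ V (f x) (e hx)).hom := by
  have h2 : f.app V ≫ X.presheaf.germ (f ⁻¹ᵁ V) x (e hx) = Y.presheaf.germ V (f x) (e hx) ≫ f.stalkMap x :=
    (f.germ_stalkMap V x _).symm
  rw [← CommRingCat.hom_comp, ← CommRingCat.hom_comp, ← h2, Scheme.Hom.appLE, Category.assoc, X.presheaf.germ_res]

/-- Regularity on affine opens gives regularity at stalks. -/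
theorem regAll_stalk (f : X ⟶ Y) {V : Y.Opens} (hV : IsAffineOpen V) {U : X.Opens} (hU : IsAffineOpen U)
    (e : U ≤ f ⁻¹ᵁ V) {a : Γ(X, U)} (h : RegAll (f.appLE V U e).hom a) (x : X) (hx : x ∈ U) :
    RegAll (f.stalkMap x).hom (X.presheaf.germ U x hx a) := by
  letI := TopCat.Presheaf.algebra_section_stalk X.presheaf (⟨x, hx⟩ : U)
  letI := TopCat.Presheaf.algebra_section_stalk Y.presheaf (⟨f x, e hx⟩ : V)
  haveI := hU.isLocalization_stalk ⟨x, hx⟩
  haveI := hV.isLocalization_stalk ⟨f x, e hx⟩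
  exact h.localization (R' := Y.presheaf.stalk (f x)) (B' := X.presheaf.stalk x)
    (M := (hV.primeIdealOf ⟨f x, e hx⟩).asIdeal.primeCompl)
    (N := (hU.primeIdealOf ⟨x, hx⟩).asIdeal.primeCompl) _ (germ_appLE f e x hx).symm

theorem fibreDim_quot {A : Type u} [CommRing A] [IsLocalRing A] [IsNoetherianRing A] {a : A} (J : Ideal A)
    (hJ : J ≤ maximalIdeal A) (hreg : IsSMulRegular (A ⧸ J) (Ideal.Quotient.mk J a)) (ha : a ∈ maximalIdeal A) :
    ringKrullDim (A ⧸ (J ⊔ Ideal.span {a})) + 1 = ringKrullDim (A ⧸ J) := by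
  haveI : Nontrivial (A ⧸ J) := Ideal.Quotient.nontrivial_iff.mpr
    (ne_top_of_le_ne_top (maximalIdeal.isMaximal A).ne_top hJ)
  haveI : IsLocalRing (A ⧸ J) := IsLocalRing.of_surjective' _ Ideal.Quotient.mk_surjective
  haveI : IsLocalHom (Ideal.Quotient.mk J) := IsLocalHom.of_surjective _ Ideal.Quotient.mk_surjective
  have hm : Ideal.Quotient.mk J a ∈ maximalIdeal (A ⧸ J) :=
    (mem_maximalIdeal _).2 fun hu => (mem_maximalIdeal _).1 ha (isUnit_of_map_unit _ _ hu)
  rw [← ringKrullDim_quotient_span_singleton_succ_eq_ringKrullDim_of_mem_jacobson hreg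
    (by rw [IsLocalRing.ringJacobson_eq_maximalIdeal]; exact hm)]
  refine congrArg (· + 1) (ringKrullDim_eq_of_ringEquiv ((DoubleQuot.quotQuotEquivQuotSup J _).symm.trans
    (Ideal.quotEquivOfEq (by rw [Ideal.map_span, Set.image_singleton]))))

theorem trdeg_closedImmersion {D : Scheme.{u}} (i : D ⟶ X) [IsClosedImmersion i] (f : X ⟶ Y) (d : D) :
    @Algebra.trdeg (Y.residueField ((i ≫ f) d)) (D.residueField d) _ _ ((i ≫ f).residueFieldMap d).hom.toAlgebra =
      @Algebra.trdeg (Y.residueField (f (i d))) (X.residueField (i d)) _ _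
        (f.residueFieldMap (i d)).hom.toAlgebra := by
  have h1 := H12AlgSp.resTrdeg_comp i f d
  have h2 := H12AlgSp.resTrdeg_eq_zero_of_lqf i d
  rw [h2, add_zero] at h1
  exact h1

/-- The zero scheme of a section regular modulo every ideal of the base is a relative Cartier divisor. -/
theorem main (h : X ⟶ Y) [Flat h] [LocallyOfFiniteType h] [IsLocallyNoetherian X] (r : ℕ)
    (hr : Cyc.HasRelDim h (r + 1)) {L : X.Modules} (hL : PicF.IsInvertible L) {s : L.presheaf.obj (op ⊤)}
    {D : Scheme.{u}} (i : D ⟶ X) [IsClosedImmersion i] (hD : Cyc.IsZeroSchemeOf i L s)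
    (hreg : ∀ x : X, ∃ (U : X.Opens) (hx : x ∈ U) (e : Γ(L, U)) (a : X.presheaf.stalk x), IsGen L e ∧
      L.presheaf.germ ⊤ x trivial s = a • L.presheaf.germ U x hx e ∧ RegAll (h.stalkMap x).hom a) :
    (∀ x : X, Function.Injective (fun a : X.presheaf.stalk x => a • L.presheaf.germ ⊤ x trivial s)) ∧
      Flat (i ≫ h) ∧ Cyc.HasRelDim (i ≫ h) r := by
  have hker : ∀ d : D, ∃ a, RingHom.ker (i.stalkMap d).hom = Ideal.span {a} ∧ RegAll (h.stalkMap (i d)).hom a :=
    fun d => by
      obtain ⟨U, hx, e, a, he, hs, ha⟩ := hreg (i d)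
      refine ⟨a, ?_, ha⟩
      rw [← Gysin.ker_eq_span_gen hD he d rfl hx a hs]
      simp
  refine ⟨fun x a b hab => ?_, ?_, ?_⟩
  · obtain ⟨U, hx, e, c, he, hs, hc⟩ := hreg x
    have h1 : a * c = b * c := (he x hx).1 (by
      show (a * c) • L.presheaf.germ U x hx e = (b * c) • L.presheaf.germ U x hx e
      rw [mul_smul, mul_smul, ← hs]
      exact hab)
    exact hc.isSMulRegular (by rw [mul_comm a, mul_comm b] at h1; exact h1)
  · rw [Flat.iff_flat_stalkMap]
    intro d
    obtain ⟨a, ha, hreg⟩ := hker d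
    let φ := (h.stalkMap (i d)).hom
    letI := φ.toAlgebra
    haveI : Module.Flat (Y.presheaf.stalk (h (i d))) (X.presheaf.stalk (i d)) := Flat.stalkMap h (i d)
    letI : Algebra (Y.presheaf.stalk (h (i d))) (D.presheaf.stalk d) := ((i.stalkMap d).hom.comp φ).toAlgebra
    let π : X.presheaf.stalk (i d) →ₐ[Y.presheaf.stalk (h (i d))] D.presheaf.stalk d :=
      { (i.stalkMap d).hom with commutes' := fun _ => rfl }
    haveI := RegAll.flat (R := Y.presheaf.stalk (h (i d))) (B := X.presheaf.stalk (i d)) hreg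
    have : Module.Flat (Y.presheaf.stalk (h (i d))) (D.presheaf.stalk d) :=
      Module.Flat.of_linearEquiv ((Ideal.quotientEquivAlgOfEq _ (show Ideal.span {a} = RingHom.ker π from ha.symm)).trans
        (Ideal.quotientKerAlgEquivOfSurjective (f := π) (i.stalkMap_surjective d))).symm.toLinearEquiv
    rw [Scheme.Hom.stalkMap_comp]
    exact this
  · refine H12AlgSp.hasRelDim_of_fibreDimAt _ r fun d => ?_
    obtain ⟨a, ha, hreg⟩ := hker d
    obtain ⟨t, h1, h1'⟩ := H8Props.FieldDim.fibreDimAt_eq (i ≫ h) d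
    obtain ⟨t', h2, h2'⟩ := H8Props.FieldDim.fibreDimAt_eq h (i d)
    have ht : t = t' := by
      have := trdeg_closedImmersion i h d
      erw [h1', h2'] at this
      exact_mod_cast this
    subst ht
    rw [H22Alg.CycBasic.fibreDimAt_of_hasRelDim h hr] at h2
    set J := (maximalIdeal (Y.presheaf.stalk (h (i d)))).map (h.stalkMap (i d)).hom with hJ
    have hJm : J ≤ maximalIdeal _ := Ideal.map_le_iff_le_comap.2 fun r hr' =>
      (mem_maximalIdeal _).2 fun hu => (mem_maximalIdeal _).1 hr' (isUnit_of_map_unit (h.stalkMap (i d)).hom _ hu)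
    have ham : a ∈ maximalIdeal (X.presheaf.stalk (i d)) := by
      refine (mem_maximalIdeal _).2 fun hu => ?_
      have := (ha.symm.le (Ideal.mem_span_singleton_self a) : a ∈ RingHom.ker (i.stalkMap d).hom)
      exact not_isUnit_zero ((RingHom.mem_ker.1 this) ▸ hu.map (i.stalkMap d).hom)
    have hq := fibreDim_quot J hJm (hreg.quot _) ham
    have e : ((maximalIdeal (Y.presheaf.stalk ((i ≫ h) d))).map ((i ≫ h).stalkMap d).hom).comap (i.stalkMap d).hom =
        J ⊔ Ideal.span {a} := by
      rw [show (maximalIdeal (Y.presheaf.stalk ((i ≫ h) d))).map ((i ≫ h).stalkMap d).hom = J.map (i.stalkMap d).hom by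
        rw [hJ, Ideal.map_map, Scheme.Hom.stalkMap_comp]; rfl,
        Ideal.comap_map_of_surjective _ (i.stalkMap_surjective d), ← RingHom.ker_eq_comap_bot, ha]
    have hdim : ringKrullDim (D.presheaf.stalk d ⧸
        (maximalIdeal (Y.presheaf.stalk ((i ≫ h) d))).map ((i ≫ h).stalkMap d).hom) =
        ringKrullDim (X.presheaf.stalk (i d) ⧸ (J ⊔ Ideal.span {a})) := by
      let ψ := (Ideal.Quotient.mk ((maximalIdeal (Y.presheaf.stalk ((i ≫ h) d))).map ((i ≫ h).stalkMap d).hom)).comp
        (i.stalkMap d).hom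
      refine (ringKrullDim_eq_of_ringEquiv ((Ideal.quotEquivOfEq ?_).trans (RingHom.quotientKerEquivOfSurjective
        (f := ψ) (Ideal.Quotient.mk_surjective.comp (i.stalkMap_surjective d))))).symm
      rw [← e]
      ext x
      simp only [ψ, Ideal.mem_comap, RingHom.mem_ker, RingHom.comp_apply]
      exact (Ideal.Quotient.eq_zero_iff_mem (I := (maximalIdeal (Y.presheaf.stalk ((i ≫ h) d))).map ((i ≫ h).stalkMap d).hom)).symm
    rw [h1, hdim]
    rw [← hq] at h2
    have h3 : ringKrullDim (X.presheaf.stalk (i d) ⧸ (J ⊔ Ideal.span {a})) + (t : WithBot ℕ∞) + 1 = (r : WithBot ℕ∞) + 1 := by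
      rw [add_right_comm, ← h2]
      push_cast
      rfl
    revert h3
    clear h1 h2 hq hdim
    generalize ringKrullDim (X.presheaf.stalk (i d) ⧸ (J ⊔ Ideal.span {a})) + (t : WithBot ℕ∞) = z
    intro h3
    match z with
    | ⊥ =>
      refine absurd (show ((r + 1 : ℕ) : WithBot ℕ∞) = ⊥ from ?_) (WithBot.natCast_ne_bot _)
      push_cast
      exact h3.symm
    | (⊤ : ℕ∞) =>
      rw [← WithBot.coe_one, ← WithBot.coe_add, top_add] at h3
      exact absurd (WithBot.coe_injective (h3 : ((⊤ : ℕ∞) : WithBot ℕ∞) = (((r + 1 : ℕ) : ℕ∞) : WithBot ℕ∞)))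
        (ENat.top_ne_natCast _)
    | ((n : ℕ) : ℕ∞) =>
      have : n + 1 = r + 1 := by exact_mod_cast h3
      rw [show n = r by omega]
      rfl

end Groth.Agent.H3Cyc.RelCartier
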