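import Groth.Prelude.Def_AlgEqCyc
import Mathlib

/-!
# The family of cycles given by a section of the parameter projection
-/

set_option autoImplicit false
set_option backward.isDefEq.respectTransparency.types false
set_option linter.style.haveILetI false
universe u

open AlgebraicGeometry CategoryTheory CategoryTheory.Limits IsLocalRing

namespace Groth.Agent.H3Cyc.SectFam

/-- For a closed section `σ` of `g`, the fibre of the image of `σ` over `g (σ x)` is the reduced point. -/
theorem fibreMult_section {P D C : Scheme.{u}} (g : P ⟶ C) (σ : D ⟶ P) [IsClosedImmersion σ]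
    [IsIso (σ ≫ g)] (x ξ : D) (h : ξ ⤳ x) (h' : σ ξ ⤳ σ x) :
    AlgEqCyc.fibreMult g (σ x) (σ ξ) h' = 1 := by
  haveI : (RingHom.ker (Cyc.specMap (σ x) (σ ξ) h')).IsPrime := RingHom.ker_isPrime _
  let ψ : C.presheaf.stalk (g (σ x)) →+* Cyc.LocQuot (σ x) (σ ξ) h' :=
    (Ideal.Quotient.mk (RingHom.ker (Cyc.specMap (σ x) (σ ξ) h'))).comp (g.stalkMap (σ x)).hom
  let I : Ideal (Cyc.LocQuot (σ x) (σ ξ) h') := (maximalIdeal (C.presheaf.stalk (g (σ x)))).map ψ
  let π : P.presheaf.stalk (σ x) →+* (Cyc.LocQuot (σ x) (σ ξ) h' ⧸ I) :=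
    (Ideal.Quotient.mk I).comp (Ideal.Quotient.mk _)
  have hπ : Function.Surjective π := Ideal.Quotient.mk_surjective.comp Ideal.Quotient.mk_surjective
  haveI : IsLocalRing (Cyc.LocQuot (σ x) (σ ξ) h') :=
    IsLocalRing.of_surjective' (Ideal.Quotient.mk _) Ideal.Quotient.mk_surjective
  haveI : IsLocalHom (Ideal.Quotient.mk (RingHom.ker (Cyc.specMap (σ x) (σ ξ) h'))) :=
    IsLocalHom.of_surjective _ Ideal.Quotient.mk_surjective
  have hbij : Function.Bijective ((σ ≫ g).stalkMap x).hom :=
    ConcreteCategory.bijective_of_isIso _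
  have hker : RingHom.ker π = maximalIdeal (P.presheaf.stalk (σ x)) := by
    apply le_antisymm
    · intro a ha
      by_contra hu
      have hu' : IsUnit a := by simpa [mem_maximalIdeal, mem_nonunits_iff] using hu
      have hI : I ≠ ⊤ := by
        apply ne_top_of_le_ne_top (IsLocalRing.maximalIdeal.isMaximal _).ne_top
        rw [Ideal.map_le_iff_le_comap]
        intro b hb hub
        exact hb ((isUnit_map_iff (g.stalkMap (σ x)).hom b).1
          ((isUnit_map_iff (Ideal.Quotient.mk (RingHom.ker (Cyc.specMap (σ x) (σ ξ) h'))) _).1 hub))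
      haveI : Nontrivial (Cyc.LocQuot (σ x) (σ ξ) h' ⧸ I) := Ideal.Quotient.nontrivial_iff.2 hI
      have h0 : π a = 0 := RingHom.mem_ker.1 ha
      exact (hu'.map π).ne_zero h0
    · intro a ha
      let φ := (σ.stalkMap x).hom
      obtain ⟨c, hc⟩ := hbij.2 (φ a)
      have hc' : φ ((g.stalkMap (σ x)).hom c) = φ a := by
        rw [← hc, Scheme.Hom.stalkMap_comp]; rfl
      have hcm : c ∈ maximalIdeal (C.presheaf.stalk (g (σ x))) := by
        intro hu
        exact ha ((isUnit_map_iff φ a).1 (hc' ▸ (hu.map (g.stalkMap (σ x)).hom).map φ))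
      have hd : a - (g.stalkMap (σ x)).hom c ∈ RingHom.ker (Cyc.specMap (σ x) (σ ξ) h') := by
        rw [RingHom.mem_ker]
        apply (σ.residueFieldMap ξ).hom.injective
        rw [map_zero]
        have e1 := ConcreteCategory.congr_hom (Scheme.residue_residueFieldMap σ ξ)
          (P.presheaf.stalkSpecializes h' (a - (g.stalkMap (σ x)).hom c))
        have e2 := Scheme.Hom.stalkSpecializes_stalkMap_apply σ ξ x h (a - (g.stalkMap (σ x)).hom c)
        have e3 : φ (a - (g.stalkMap (σ x)).hom c) = 0 := by rw [map_sub, hc', sub_self]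
        change (σ.residueFieldMap ξ) (P.residue (σ ξ) (P.presheaf.stalkSpecializes h' _)) = 0
        refine e1.trans ?_
        change D.residue ξ (σ.stalkMap ξ (P.presheaf.stalkSpecializes h' _)) = 0
        rw [show σ.stalkMap ξ (P.presheaf.stalkSpecializes h' (a - (g.stalkMap (σ x)).hom c)) =
          D.presheaf.stalkSpecializes h (φ (a - (g.stalkMap (σ x)).hom c)) from e2, e3, map_zero, map_zero]
      rw [RingHom.mem_ker]
      have h1 : Ideal.Quotient.mk (RingHom.ker (Cyc.specMap (σ x) (σ ξ) h')) a = ψ c := by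
        exact Ideal.Quotient.eq.2 hd
      change Ideal.Quotient.mk I (Ideal.Quotient.mk (RingHom.ker (Cyc.specMap (σ x) (σ ξ) h')) a) = 0
      rw [h1]
      exact Ideal.Quotient.eq_zero_iff_mem.2 (Ideal.mem_map_of_mem _ hcm)
  let l : P.presheaf.stalk (σ x) →ₗ[P.presheaf.stalk (σ x)] (Cyc.LocQuot (σ x) (σ ξ) h' ⧸ I) :=
    (I.restrictScalars (P.presheaf.stalk (σ x))).mkQ.comp
      ((RingHom.ker (Cyc.specMap (σ x) (σ ξ) h'))).mkQ
  have hl : LinearMap.ker l = maximalIdeal (P.presheaf.stalk (σ x)) := by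
    rw [← hker]; rfl
  have hls : Function.Surjective l := hπ
  let e := (Submodule.quotEquivOfEq _ _ hl.symm).trans (l.quotKerEquivOfSurjective hls)
  have h1 : Module.length (P.presheaf.stalk (σ x)) (Cyc.LocQuot (σ x) (σ ξ) h' ⧸ I) = 1 := by
    rw [← LinearEquiv.length_eq e, Module.length_eq_one_iff, isSimpleModule_iff_isCoatom,
      ← Ideal.isMaximal_def]
    exact IsLocalRing.maximalIdeal.isMaximal _
  change (Module.length (P.presheaf.stalk (σ x)) (Cyc.LocQuot (σ x) (σ ξ) h' ⧸ I)).toNat = 1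
  rw [h1]; rfl

end Groth.Agent.H3Cyc.SectFam
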