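import Groth.Agent.H3Cyc.FlatRat
import Groth.Agent.H06Mod.StalkFaithful
import Mathlib

/-!
# Flat pullback of the cycle of a module
-/

set_option autoImplicit false
set_option linter.style.haveILetI false
universe u

open AlgebraicGeometry CategoryTheory IsLocalRing TensorProduct

namespace Groth.Agent.H3Cyc.SheafPull

attribute [local instance] H06Mod.stalkAlgebra

variable {X Y : Scheme.{u}}

/-- The length of the stalk of an inverse image along a flat morphism. -/
theorem length_stalk_pullback (f : X ⟶ Y) [Flat f] (F : Y.Modules) (x : X) :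
    Module.length (X.presheaf.stalk x) (((Scheme.Modules.pullback f).obj F).presheaf.stalk x) =
      Module.length (Y.presheaf.stalk (f x)) (F.presheaf.stalk (f x)) *
        Module.length (X.presheaf.stalk x)
          (X.presheaf.stalk x ⧸ (maximalIdeal (Y.presheaf.stalk (f x))).map (f.stalkMap x).hom) := by
  haveI : Module.Flat (Y.presheaf.stalk (f.base x)) (X.presheaf.stalk x) := Flat.stalkMap f x
  haveI : IsLocalHom (algebraMap (Y.presheaf.stalk (f.base x)) (X.presheaf.stalk x)) :=
    inferInstanceAs (IsLocalHom (f.stalkMap x).hom)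
  rw [← (H06Mod.pullStalkEquiv f F x).length_eq]
  exact IsLocalRing.length_baseChange (Y.presheaf.stalk (f.base x)) (X.presheaf.stalk x) (F.presheaf.stalk (f.base x))

/-- The support of an inverse image. -/
theorem nontrivial_of_pullback (f : X ⟶ Y) [Flat f] (F : Y.Modules) (x : X)
    (h : Nontrivial (((Scheme.Modules.pullback f).obj F).presheaf.stalk x)) :
    Nontrivial (F.presheaf.stalk (f x)) := by
  by_contra hn
  rw [not_nontrivial_iff_subsingleton] at hn
  haveI : Subsingleton (F.presheaf.stalk (f.base x)) := hn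
  haveI : Subsingleton (X.presheaf.stalk x ⊗[Y.presheaf.stalk (f.base x)] F.presheaf.stalk (f.base x)) :=
    subsingleton_of_forall_eq 0 fun t => by
      induction t with
      | zero => rfl
      | tmul a b => rw [Subsingleton.elim b 0, TensorProduct.tmul_zero]
      | add a b ha hb => rw [ha, hb, add_zero]
  exact not_subsingleton _ ((H06Mod.pullStalkEquiv f F x).symm.toEquiv.subsingleton)

theorem delta_le (f : X ⟶ Y) [Flat f] {δX : X → ℤ} {δY : Y → ℤ} (hX : Cyc.IsSetup X δX) {c : ℤ}
    (hc : FlatRat.MaxDim f δX δY c) (k : ℤ) (F : Y.Modules)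
    (hdim : ∀ y : Y, Nontrivial (F.presheaf.stalk y) → δY y ≤ k) (x : X)
    (h : Nontrivial (((Scheme.Modules.pullback f).obj F).presheaf.stalk x)) : δX x ≤ k + c := by
  have h1 := hdim _ (nontrivial_of_pullback f F x h)
  have h2 := FlatRat.delta_le_of_maxDim f hX hc x
  omega

theorem pullFun_sheafFun (f : X ⟶ Y) [Flat f] {δX : X → ℤ} {δY : Y → ℤ} (hX : Cyc.IsSetup X δX) {c : ℤ}
    (hc : FlatRat.MaxDim f δX δY c) (k : ℤ) (F : Y.Modules)
    (hdim : ∀ y : Y, Nontrivial (F.presheaf.stalk y) → δY y ≤ k) :
    Cyc.pullFun f δX δY c (Cyc.sheafFun δY k F) = Cyc.sheafFun δX (k + c) ((Scheme.Modules.pullback f).obj F) := by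
  funext x
  simp only [Cyc.pullFun, Cyc.sheafFun]
  rw [length_stalk_pullback f F x, ENat.toNat_mul]
  push_cast
  rcases subsingleton_or_nontrivial (F.presheaf.stalk (f x)) with hs | hn
  · haveI := hs
    rw [Module.length_eq_zero]
    simp
  · have h1 := hdim _ hn
    have h2 := FlatRat.delta_le_of_maxDim f hX hc x
    split_ifs <;> first | rfl | (exfalso; omega) | simp

end Groth.Agent.H3Cyc.SheafPull
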