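import Groth.Agent.H3Cyc.TotLine
import Groth.Agent.H3Cyc.GysOps
import Groth.Agent.H16Derived.GTheory.AffineLine
import Mathlib

/-!
# Smoothness of line bundles and affine lines
-/

set_option autoImplicit false
set_option linter.style.haveILetI false
set_option backward.isDefEq.respectTransparency.types false
universe u

open CategoryTheory CategoryTheory.Limits AlgebraicGeometry Opposite
open Groth.Agent.H16Derived.GTheory (A1 prL psiL)

noncomputable section

namespace Groth.Agent.H3Cyc.SmoothLine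

theorem smooth_C (R : Type u) [CommRing R] : (Polynomial.C : R →+* Polynomial R).Smooth := by
  rw [show (Polynomial.C : R →+* Polynomial R) = algebraMap R (Polynomial R) from rfl, RingHom.smooth_algebraMap]
  exact ⟨inferInstance, inferInstance⟩

/-- An affine morphism which is locally a polynomial ring in one variable is smooth. -/
theorem smooth_of_polyChart {V X : Scheme.{u}} (π : V ⟶ X) [IsAffineHom π]
    (h : ∀ x : X, ∃ (U : X.Opens) (_ : IsAffineOpen U) (_ : x ∈ U) (χ : Polynomial Γ(X, U) ≃+* Γ(V, π ⁻¹ᵁ U)),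
      ∀ r, χ (Polynomial.C r) = π.app U r) : Smooth π := by
  refine (HasRingHomProperty.iff_exists_appLE (P := @Smooth)
    (RingHom.Smooth.stableUnderComposition.stableUnderCompositionWithLocalizationAway
      RingHom.Smooth.holdsForLocalizationAway).1).mpr fun v => ?_
  obtain ⟨U, hU, hxU, χ, hχ⟩ := h (π v)
  refine ⟨⟨U, hU⟩, ⟨π ⁻¹ᵁ U, hU.preimage π⟩, hxU, le_rfl, ?_⟩
  show (π.appLE U (π ⁻¹ᵁ U) le_rfl).hom.Smooth
  rw [← Scheme.Hom.app_eq_appLE,
    show (π.app U).hom = χ.toRingHom.comp Polynomial.C from RingHom.ext fun r => (hχ r).symm]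
  exact RingHom.Smooth.respectsIso.1 _ _ (smooth_C _)

theorem smooth_prL (X : Scheme.{u}) : Smooth (prL X) := by
  refine smooth_of_polyChart (prL X) fun x => ?_
  obtain ⟨U, hU, hxU, -⟩ := exists_isAffineOpen_mem_and_subset (show x ∈ (⊤ : X.Opens) from trivial)
  exact ⟨U, hU, hxU, RingEquiv.ofBijective (psiL X U) (H16Derived.GTheory.psiL_bijective X hU),
    fun r => H16Derived.GTheory.psiL_C X U r⟩

/-- A smooth line bundle with a tautological section vanishing exactly on the zero section. -/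
theorem exists_smoothLine {X : Scheme.{u}} {L : X.Modules} (hL : PicF.IsInvertible L) :
    ∃ (V : Scheme.{u}) (π : V ⟶ X) (_ : Smooth π) (_ : IsAffineHom π)
      (t : ((Scheme.Modules.pullback π).obj L).presheaf.obj (op ⊤)) (z : X ⟶ V) (_ : IsClosedImmersion z),
      z ≫ π = 𝟙 X ∧ Cyc.IsZeroSchemeOf z ((Scheme.Modules.pullback π).obj L) t ∧ Cyc.HasRelDim π 1 ∧
      ∀ x : X, ∃ (U : X.Opens) (_ : IsAffineOpen U) (_ : x ∈ U) (e : Γ(L, U)) (a : Γ(V, π ⁻¹ᵁ U)),
        H11Tilde.IsGen L e ∧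
        (∀ (v : V) (hv : v ∈ π ⁻¹ᵁ U), ((Scheme.Modules.pullback π).obj L).presheaf.germ ⊤ v trivial t =
          V.presheaf.germ _ v hv a •
            ((Scheme.Modules.pullback π).obj L).presheaf.germ (π ⁻¹ᵁ U) v hv (OmegaSh.pullSect π L U e)) ∧
        RelCartier.RegAll (π.app U).hom a := by
  obtain ⟨V, π, hf, hl, ha, t, X₀, z, hz, hiso, hzero, hrel, hdata⟩ := TotLine.exists_totalSpace₁ hL
  haveI := hiso
  haveI := hz
  haveI := ha
  have hsm : Smooth π := smooth_of_polyChart π fun x => by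
    obtain ⟨U, hU, hxU, e, a, -, -, -, χ, hχ⟩ := hdata x
    exact ⟨U, hU, hxU, χ, hχ⟩
  exact ⟨V, π, hsm, ha, t, inv (z ≫ π) ≫ z, inferInstance, by rw [Category.assoc, IsIso.inv_hom_id],
    GysOps.isZero_iso_comp (inv (z ≫ π)) hzero, hrel, fun x => by
      obtain ⟨U, hU, hxU, e, a, he, hg, hr, -⟩ := hdata x
      exact ⟨U, hU, hxU, e, a, he, hg, hr⟩⟩

end Groth.Agent.H3Cyc.SmoothLine
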