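import Groth.Agent.H3Cyc.SpFun
import Groth.Agent.H3Cyc.FlatRat
import Groth.Agent.H8Props.FibreStalk
import Mathlib

/-!
# Specialization commutes with flat pullback
-/

set_option autoImplicit false
set_option linter.style.haveILetI false
set_option linter.unusedSectionVars false
set_option backward.isDefEq.respectTransparency.types false
universe u

open AlgebraicGeometry CategoryTheory CategoryTheory.Limits IsLocalRing TopologicalSpace

namespace Groth.Agent.H3Cyc.SpPull

open SpFun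

theorem map_maximalIdeal_of_surjective' {A B : Type u} [CommRing A] [CommRing B] [IsLocalRing A] [IsLocalRing B]
    (φ : A →+* B) (h : Function.Surjective φ) : (maximalIdeal A).map φ = maximalIdeal B :=
  IsLocalRing.map_maximalIdeal_of_surjective φ h

theorem ker_fiberι_le {X Y : Scheme.{u}} (f : X ⟶ Y) (y : Y) (z : f.fiber y) :
    RingHom.ker ((f.fiberι y).stalkMap z).hom ≤
      (maximalIdeal (Y.presheaf.stalk (f (f.fiberι y z)))).map (f.stalkMap (f.fiberι y z)).hom := by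
  have key : ∀ (x : X) (y : Y) (_ : y = f x) (z : f.fiber y) (hz : f.fiberι y z = x),
      RingHom.ker (H8Props.FibreStalk.toFibre f x y z hz).hom ≤
        (maximalIdeal (Y.presheaf.stalk (f x))).map (f.stalkMap x).hom := by
    rintro x y rfl z hz
    exact (H8Props.FibreStalk.ker_toFibre f x z hz).le
  have hy : y = f (f.fiberι y z) := by
    have : f.fiberι y z ∈ Set.range (f.fiberι y) := ⟨z, rfl⟩
    rw [Scheme.Hom.range_fiberι] at this
    exact this.symm
  intro c hc
  refine key _ y hy z rfl ?_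
  rw [RingHom.mem_ker] at hc ⊢
  show (f.fiberι y).stalkMap z ((X.presheaf.stalkCongr (.of_eq rfl)).hom c) = 0
  simp only [TopCat.Presheaf.stalkCongr_hom, TopCat.Presheaf.stalkSpecializes_refl]
  exact hc

/-- Multiplicities in fibres along a square with surjective stalk maps. -/
theorem mult_comm {P Q X Y : Scheme.{u}} (ι : P ⟶ X) [IsPreimmersion ι] (j : Q ⟶ Y) [IsPreimmersion j]
    (g : P ⟶ Q) (f : X ⟶ Y) (h : g ≫ j = ι ≫ f) (p : P)
    (hker : RingHom.ker (ι.stalkMap p).hom ≤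
      (maximalIdeal (Y.presheaf.stalk (f (ι p)))).map (f.stalkMap (ι p)).hom) :
    FlatRat.mult g p = FlatRat.mult f (ι p) := by
  have key : ∀ φ φ' : P ⟶ Y, φ = φ' → (maximalIdeal (Y.presheaf.stalk (φ p))).map (φ.stalkMap p).hom =
      (maximalIdeal (Y.presheaf.stalk (φ' p))).map (φ'.stalkMap p).hom := by rintro φ φ' rfl; rfl
  have hJ : ((maximalIdeal (Y.presheaf.stalk (f (ι p)))).map (f.stalkMap (ι p)).hom).map (ι.stalkMap p).hom =
      (maximalIdeal (Q.presheaf.stalk (g p))).map (g.stalkMap p).hom := by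
    rw [← IsLocalRing.map_maximalIdeal_of_surjective (j.stalkMap (g p)).hom (j.stalkMap_surjective (g p)),
      Ideal.map_map, Ideal.map_map, ← CommRingCat.hom_comp, ← CommRingCat.hom_comp,
      ← Scheme.Hom.stalkMap_comp, ← Scheme.Hom.stalkMap_comp]
    exact key (ι ≫ f) (g ≫ j) h.symm
  show (Module.length _ _).toNat = (Module.length _ _).toNat
  congr 1
  rw [← hJ]
  let A := X.presheaf.stalk (ι p)
  let B := P.presheaf.stalk p
  let J : Ideal A := (maximalIdeal (Y.presheaf.stalk (f (ι p)))).map (f.stalkMap (ι p)).hom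
  letI : Algebra A B := (ι.stalkMap p).hom.toAlgebra
  have hs : Function.Surjective (algebraMap A B) := ι.stalkMap_surjective p
  let l : A →ₗ[A] (B ⧸ J.map (algebraMap A B)) :=
    ((Ideal.Quotient.mkₐ A (J.map (algebraMap A B))).comp (Algebra.ofId A B)).toLinearMap
  have hl : Function.Surjective l := Ideal.Quotient.mk_surjective.comp hs
  have hk : LinearMap.ker l = J := by
    ext a
    change Ideal.Quotient.mk (J.map (algebraMap A B)) (algebraMap A B a) = 0 ↔ a ∈ J
    rw [Ideal.Quotient.eq_zero_iff_mem]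
    refine ⟨fun ha => ?_, Ideal.mem_map_of_mem _⟩
    obtain ⟨b, hb, hab⟩ := (Ideal.mem_map_iff_of_surjective _ hs).mp ha
    have hd : a - b ∈ RingHom.ker (algebraMap A B) := by
      rw [RingHom.mem_ker, map_sub, hab, sub_self]
    simpa using J.add_mem (hker hd) hb
  show Module.length B (B ⧸ J.map (algebraMap A B)) = Module.length A (A ⧸ J)
  rw [← Module.length_eq_of_surjective (R := B) (S := A) (M := B ⧸ J.map (algebraMap A B)) hs]
  exact (((Submodule.quotEquivOfEq _ _ hk.symm).trans (l.quotKerEquivOfSurjective hl)).length_eq).symm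

variable {R : Type u} [CommRing R] [IsDomain R] [IsDiscreteValuationRing R]

/-- Pulling back a combination of principal divisors of values of one family of functions. -/
theorem pull_comb {P Q X Y : Scheme.{u}} (f : X ⟶ Y) [Flat f] (ι : P ⟶ X) [IsOpenImmersion ι]
    (j : Q ⟶ Y) [IsOpenImmersion j] [QuasiCompact j] (g : P ⟶ Q) (h : g ≫ j = ι ≫ f)
    (hsurj : ∀ (q : Q) (x : X), f x = j q → x ∈ Set.range ι)
    {δX : X → ℤ} {δY : Y → ℤ} {δP : P → ℤ} {δQ : Q → ℤ} (c : ℤ)
    (hi : ∀ p, δX (ι p) = δP p + c) (hj : ∀ q, δY (j q) = δQ q + c)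
    (hX : Cyc.IsSetup X δX) (hY : Cyc.IsSetup Y δY) {e : ℤ} (he : FlatRat.MaxDim f δX δY e)
    (v : (x : X) → X.residueField x) (u : (y : Y) → Y.residueField y) (hu : ∀ y, u y ≠ 0)
    (hv : ∀ x, f.residueFieldMap x (u (f x)) = v x) (α : AlgebraicCycle Q ℤ) (x : X) :
    ∑ᶠ p : P, Cyc.pullFun g δP δQ e (⇑α) p * Cyc.divFun δX (ι p) (v (ι p)) x =
      ∑ᶠ q : Q, α q * Cyc.pullFun f δX δY e (Cyc.divFun δY (j q) (u (j q))) x := by
  classical
  haveI := hX.1
  haveI := hY.1
  have hcomm : ∀ p, j (g p) = f (ι p) := fun p => congrArg (fun m : P ⟶ Y => m p) h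
  have hv0 : ∀ x, v x ≠ 0 := fun x e =>
    hu (f x) ((f.residueFieldMap x).hom.injective (((hv x).trans e).trans (map_zero _).symm))
  obtain ⟨V, hV, hyV, -⟩ := exists_isAffineOpen_mem_and_subset (show f x ∈ (⊤ : Y.Opens) from trivial)
  obtain ⟨W, hW, hxW, hWV⟩ := exists_isAffineOpen_mem_and_subset (show x ∈ f ⁻¹ᵁ V from hyV)
  have hmem : ∀ {ξ : X} {d : X.residueField ξ}, Cyc.divFun δX ξ d x ≠ 0 → ξ ∈ W := fun {ξ d} hd => by
    by_contra hne
    refine hd ?_
    simp only [Cyc.divFun]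
    rw [dif_neg]
    exact fun hh => hne (hh.1.mem_open W.2 hxW)
  have hT : (j ⁻¹' (V : Set Y) ∩ Function.support α).Finite :=
    α.locallyFiniteSupport.finite_inter_support_of_isCompact (j.isSpectralMap.2 V.isOpen hV.isCompact)
  have hT2 : ∀ q, α q ≠ 0 → ∀ p, g p = q → ι p ∈ W → q ∈ hT.toFinset := fun q hq p hp hpW =>
    hT.mem_toFinset.mpr ⟨by show j q ∈ V; rw [← hp, hcomm]; exact hWV hpW, hq⟩
  have hS : (⋃ q ∈ hT.toFinset, ι ⁻¹' (FlatRat.Comp f δX δY e (j q) ∩ (W : Set X))).Finite :=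
    hT.toFinset.finite_toSet.biUnion fun q _ =>
      (FlatRat.finite_comp_inter f hX hY he (j q) hW).preimage ι.isEmbedding.injective.injOn
  let term : P → ℤ := fun p => Cyc.pullFun g δP δQ e (⇑α) p * Cyc.divFun δX (ι p) (v (ι p)) x
  have hterm : Function.support term ⊆ hS.toFinset := fun p hp => by
    have h1 := left_ne_zero_of_mul hp
    rw [Cyc.pullFun] at h1
    split_ifs at h1 with hd
    · have hpW := hmem (right_ne_zero_of_mul hp)
      exact Finset.mem_coe.mpr (hS.mem_toFinset.mpr (Set.mem_biUnion (hT2 _ (left_ne_zero_of_mul h1) p rfl hpW)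
        ⟨⟨(hcomm p).symm, by rw [hi, hj]; omega⟩, hpW⟩))
    · exact absurd rfl h1
  have hgT : ∀ p ∈ hS.toFinset, g p ∈ hT.toFinset := fun p hp => by
    obtain ⟨q, hq, hpq⟩ := Set.mem_iUnion₂.mp (hS.mem_toFinset.mp hp)
    have : g p = q := j.isEmbedding.injective ((hcomm p).trans hpq.1.1)
    rw [this]; exact hq
  have hq : ∀ q, α q * Cyc.pullFun f δX δY e (Cyc.divFun δY (j q) (u (j q))) x ≠ 0 →
      q ∈ hT.toFinset := fun q hq => by
    have h1 := right_ne_zero_of_mul hq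
    rw [Cyc.pullFun] at h1
    split_ifs at h1
    · have h2 := left_ne_zero_of_mul h1
      refine hT.mem_toFinset.mpr ⟨?_, left_ne_zero_of_mul hq⟩
      show j q ∈ V
      by_contra hne
      refine h2 ?_
      simp only [Cyc.divFun]
      rw [dif_neg]
      exact fun hh => hne (hh.1.mem_open V.2 hyV)
    · exact absurd rfl h1
  rw [finsum_eq_sum_of_support_subset _ hterm,
    finsum_eq_sum_of_support_subset _ (s := hT.toFinset) fun q h => hq q h,
    ← Finset.sum_fiberwise_of_maps_to hgT]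
  refine Finset.sum_congr rfl fun q hqT => ?_
  rw [FlatRat.pullFun_divFun_eq f hX hY he (j q) (u (j q)) (hu _) x]
  let C : FlatRat.Comp f δX δY e (j q) → ℤ := fun ξ =>
    Cyc.divFun δX ξ.1 (FlatDiv.liftVal f ξ.1 ξ.2.1 (u (j q)) ^ FlatRat.mult f ξ.1) x
  have hC : ∀ ξ, C ξ = (FlatRat.mult f ξ.1 : ℤ) * Cyc.divFun δX ξ.1 (v ξ.1) x := fun ξ => by
    have hl : ∀ (y : Y) (hy : f ξ.1 = y), FlatDiv.liftVal f ξ.1 hy (u y) = v ξ.1 := by
      rintro y rfl
      rw [FlatDiv.liftVal, Scheme.residueFieldCongr_refl]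
      exact hv ξ.1
    simp only [C]
    rw [hl _ ξ.2.1, ← zpow_natCast, C1Api.divFun_zpow δX _ (hv0 _)]
  rw [finsum_congr hC, finsum_set_coe_eq_finsum_mem (s := FlatRat.Comp f δX δY e (j q))
    (f := fun ξ => (FlatRat.mult f ξ : ℤ) * Cyc.divFun δX ξ (v ξ) x)]
  rw [finsum_mem_eq_sum_of_subset (t := (hS.toFinset.filter fun p => g p = q).image ι) _
    (fun ξ hξ => ?_) (fun ξ hξ => ?_)]
  · rw [Finset.sum_image fun a _ b _ hab => ι.isEmbedding.injective hab, Finset.mul_sum]
    refine Finset.sum_congr rfl fun p hp => ?_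
    obtain ⟨hp1, hp2⟩ := Finset.mem_filter.mp hp
    obtain ⟨q', -, hpq⟩ := Set.mem_iUnion₂.mp (hS.mem_toFinset.mp hp1)
    have hqq : g p = q' := j.isEmbedding.injective ((hcomm p).trans hpq.1.1)
    have hd := hpq.1.2
    rw [← hqq, hi, hj] at hd
    have hker : RingHom.ker (ι.stalkMap p).hom = ⊥ :=
      (RingHom.injective_iff_ker_eq_bot _).mp (ConcreteCategory.bijective_of_isIso (ι.stalkMap p)).1
    show Cyc.pullFun g δP δQ e (⇑α) p * _ = _
    rw [Cyc.pullFun, if_pos (by omega)]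
    rw [show (Module.length (P.presheaf.stalk p) (P.presheaf.stalk p ⧸ Ideal.map (g.stalkMap p).hom
      (maximalIdeal (Q.presheaf.stalk (g p))))).toNat = FlatRat.mult f (ι p) from
        mult_comm ι j g f h p (hker.trans_le bot_le)]
    simp only [hp2, mul_assoc]
  · obtain ⟨hξc, hne⟩ := hξ
    obtain ⟨p, rfl⟩ := hsurj q ξ hξc.1
    have hp : g p = q := j.isEmbedding.injective ((hcomm p).trans hξc.1)
    exact Finset.mem_coe.mpr (Finset.mem_image.mpr ⟨p, Finset.mem_filter.mpr ⟨hS.mem_toFinset.mpr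
      (Set.mem_biUnion hqT ⟨hξc, hmem (right_ne_zero_of_mul hne)⟩), hp⟩, rfl⟩)
  · obtain ⟨p, hp, rfl⟩ := Finset.mem_image.mp (Finset.mem_coe.mp hξ)
    obtain ⟨hp1, hp2⟩ := Finset.mem_filter.mp hp
    obtain ⟨q', -, hpq⟩ := Set.mem_iUnion₂.mp (hS.mem_toFinset.mp hp1)
    have hqq : g p = q' := j.isEmbedding.injective ((hcomm p).trans hpq.1.1)
    have : q' = q := hqq.symm.trans hp2
    exact this ▸ hpq.1

variable {X' X : Scheme.{u}} (b : X ⟶ Spec (CommRingCat.of R)) [LocallyOfFiniteType b]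
  (f : X' ⟶ X) [Flat f] [LocallyOfFiniteType f]

theorem spFun_pull (gη : (f ≫ b).fiber (genericPoint ↥(Spec (CommRingCat.of R))) ⟶
      b.fiber (genericPoint ↥(Spec (CommRingCat.of R))))
    (hgη : gη ≫ b.fiberι _ = (f ≫ b).fiberι _ ≫ f)
    (gs : (f ≫ b).fiber (closedPoint R) ⟶ b.fiber (closedPoint R))
    (hgs : gs ≫ b.fiberι _ = (f ≫ b).fiberι _ ≫ f) (e : ℕ) (he : Cyc.HasRelDim f e)
    {δX'η : ↥((f ≫ b).fiber (genericPoint ↥(Spec (CommRingCat.of R)))) → ℤ}
    {δX's : ↥((f ≫ b).fiber (closedPoint R)) → ℤ}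
    {δXη : ↥(b.fiber (genericPoint ↥(Spec (CommRingCat.of R)))) → ℤ}
    {δXs : ↥(b.fiber (closedPoint R)) → ℤ}
    (h1 : Cyc.DeltaCompat ((f ≫ b).fiberToSpecResidueField (genericPoint ↥(Spec (CommRingCat.of R)))) δX'η (fun _ => 0))
    (h2 : Cyc.DeltaCompat ((f ≫ b).fiberToSpecResidueField (closedPoint R)) δX's (fun _ => 0))
    (h3 : Cyc.DeltaCompat (b.fiberToSpecResidueField (genericPoint ↥(Spec (CommRingCat.of R)))) δXη (fun _ => 0))
    (h4 : Cyc.DeltaCompat (b.fiberToSpecResidueField (closedPoint R)) δXs (fun _ => 0))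
    (r : ℤ) (α : AlgebraicCycle (b.fiber (genericPoint ↥(Spec (CommRingCat.of R)))) ℤ)
    (hα : α ∈ Cyc.Zk _ δXη r) :
    Cyc.spFun (f ≫ b) (genericPoint ↥(Spec (CommRingCat.of R))) (closedPoint R) δX'η δX's (r + e)
        (Cyc.pullFun gη δX'η δXη e ⇑α) =
      Cyc.pullFun gs δX's δXs e (Cyc.spFun b (genericPoint ↥(Spec (CommRingCat.of R))) (closedPoint R) δXη δXs r ⇑α) := by
  classical
  obtain ⟨π, hπ⟩ := IsDiscreteValuationRing.exists_irreducible R
  obtain ⟨δX, hbδ⟩ := exists_deltaCompat b (dS R)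
  obtain ⟨δX', hfδ⟩ := exists_deltaCompat f δX
  have hX : Cyc.IsSetup X δX := isSetup_of_locallyOfFiniteType b isSetup_spec hbδ
  have hX' : Cyc.IsSetup X' δX' := isSetup_of_locallyOfFiniteType f hX hfδ
  have haδ : Cyc.DeltaCompat (f ≫ b) δX' (dS R) := Bivar.deltaCompat_comp f b δX' δX (dS R) hfδ hbδ
  haveI := hX.1
  haveI := hX'.1
  have hmax := FlatRat.maxDim_of_hasRelDim f he hfδ
  funext x
  rw [spFun_eq (f ≫ b) hπ haδ hX' h1 h2]
  have hite : ∀ ζ, (if δX'η ζ = r + e then Cyc.pullFun gη δX'η δXη e (⇑α) ζ else 0) =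
      Cyc.pullFun gη δX'η δXη e (⇑α) ζ := fun ζ => by
    split_ifs with hh
    · rfl
    · simp only [Cyc.pullFun]
      split_ifs with h'
      · rw [hα _ (by omega), zero_mul]
      · rfl
  simp only [hite]
  rw [pull_comb f ((f ≫ b).fiberι _) (b.fiberι _) gη hgη (fun q z hz => ?_) 1
    (delta_genericFiber (f ≫ b) haδ h1) (delta_genericFiber b hbδ h3) hX' hX hmax
    (uval (f ≫ b) π) (uval b π) (uval_ne_zero b hπ) (uval_comp f b π) α]
  · have hy : b.fiberι _ (gs x) = f ((f ≫ b).fiberι _ x) :=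
      congrArg (fun m : (f ≫ b).fiber (closedPoint R) ⟶ X => m x) hgs
    have hm : FlatRat.mult gs x = FlatRat.mult f ((f ≫ b).fiberι _ x) :=
      mult_comm _ _ gs f hgs x (by
        refine (ker_fiberι_le (f ≫ b) (closedPoint R) x).trans ?_
        rw [Scheme.Hom.stalkMap_comp]
        erw [CommRingCat.hom_comp, ← Ideal.map_map]
        exact Ideal.map_mono (IsLocalRing.map_maximalIdeal_le (b.stalkMap (f ((f ≫ b).fiberι (closedPoint R) x))).hom))
    have hd : δX's x = δXs (gs x) + (e : ℤ) ↔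
        δX' ((f ≫ b).fiberι _ x) = δX (f ((f ≫ b).fiberι _ x)) + (e : ℤ) := by
      rw [← hy, delta_closedFiber (f ≫ b) haδ h2, delta_closedFiber b hbδ h4]
    simp only [Cyc.pullFun]
    by_cases hx : δX's x = δXs (gs x) + (e : ℤ)
    · rw [if_pos hx]
      simp only [if_pos (hd.mp hx)]
      rw [spFun_eq_of_mem b hπ hbδ hX h3 h4 r α hα, finsum_mul]
      refine finsum_congr fun q => ?_
      rw [hy, show (Module.length _ _).toNat = FlatRat.mult f ((f ≫ b).fiberι _ x) from hm]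
      exact (mul_assoc _ _ _).symm
    · rw [if_neg hx]
      simp only [if_neg (mt hd.mpr hx), mul_zero, finsum_zero]
  · rw [Scheme.Hom.range_fiberι]
    show b (f z) = genericPoint _
    rw [hz]; exact map_fiberι b _ q

end Groth.Agent.H3Cyc.SpPull
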