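import Groth.Agent.H3Cyc.SpFun
import Groth.Agent.H3Cyc.PushRat
import Mathlib

/-!
# Specialization commutes with proper pushforward
-/

set_option autoImplicit false
set_option linter.style.haveILetI false
set_option linter.unusedSectionVars false
set_option backward.isDefEq.respectTransparency.types false
universe u

open AlgebraicGeometry CategoryTheory CategoryTheory.Limits IsLocalRing TopologicalSpace

namespace Groth.Agent.H3Cyc.SpPush

open SpFun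

theorem pushDiv_lift {X Y : Scheme.{u}} (f : X ⟶ Y) [IsProper f] {δX : X → ℤ} {δY : Y → ℤ}
    (hX : Cyc.IsSetup X δX) (hY : Cyc.IsSetup Y δY) (hδ : Cyc.DeltaCompat f δX δY) (ξ : X)
    (c : Y.residueField (f ξ)) (hc : c ≠ 0) (y : Y) :
    PushRat.pushDiv f δX δY ξ (f.residueFieldMap ξ c) y =
      ((AlgebraicCycle.mapCoeff f δX δY ξ : ℕ) : ℤ) * Cyc.divFun δY (f ξ) c y := by
  have hg : f.residueFieldMap ξ c ≠ 0 := fun e =>
    hc ((f.residueFieldMap ξ).hom.injective (e.trans (map_zero _).symm))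
  obtain ⟨h1, h2⟩ := PushRat.exists_pushDiv_eq f hX hY hδ ξ _ hg
  by_cases h : δX ξ = δY (f ξ)
  · rw [AlgebraicCycle.mapCoeff, if_pos h]
    refine (h2 h).2 (f ξ) rfl c ?_ y
    rw [FlatDiv.liftVal, Scheme.residueFieldCongr_refl]
    rfl
  · rw [AlgebraicCycle.mapCoeff, if_neg h, h1 h y, Nat.cast_zero, zero_mul]

theorem mem_of_divFun {X : Scheme.{u}} {δ : X → ℤ} {ξ x : X} {g : X.residueField ξ} {U : X.Opens} (hx : x ∈ U)
    (h : Cyc.divFun δ ξ g x ≠ 0) : ξ ∈ U := by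
  by_contra hne
  refine h ?_
  simp only [Cyc.divFun]
  rw [dif_neg]
  exact fun hh => hne (hh.1.mem_open U.2 hx)

theorem mapCoeff_comm {P X Y Q : Scheme.{u}} (i : P ⟶ X) (j : Q ⟶ Y) (g : P ⟶ Q) (f : X ⟶ Y)
    [IsPreimmersion i] [IsPreimmersion j] (h : g ≫ j = i ≫ f) {δX : X → ℤ} {δY : Y → ℤ}
    {δP : P → ℤ} {δQ : Q → ℤ} (c : ℤ) (hi : ∀ p, δX (i p) = δP p + c) (hj : ∀ q, δY (j q) = δQ q + c) (p : P) :
    AlgebraicCycle.mapCoeff g δP δQ p = AlgebraicCycle.mapCoeff f δX δY (i p) := by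
  have hp : j (g p) = f (i p) := congrArg (fun m : P ⟶ Y => m p) h
  have hdeg : g.residueDegree p = f.residueDegree (i p) := by
    have h2 : (g ≫ j).residueDegree p = (i ≫ f).residueDegree p := by rw [h]
    rw [H22Alg.CycBasic.residueDegree_comp, H22Alg.CycBasic.residueDegree_comp,
      residueDegree_preimmersion j (g p), residueDegree_preimmersion i p, one_mul, mul_one] at h2
    exact h2
  have hiff : δP p = δQ (g p) ↔ δX (i p) = δY (f (i p)) := by rw [← hp, hi, hj]; omega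
  simp only [AlgebraicCycle.mapCoeff, hiff, hdeg]

/-- Pushing forward a combination of principal divisors of values of one family of functions. -/
theorem push_comb {P Q X Y : Scheme.{u}} (f : X ⟶ Y) [IsProper f] (ι : P ⟶ X) [QuasiCompact ι] (j : Q ⟶ Y)
    (g : P ⟶ Q) [QuasiCompact g] (h : g ≫ j = ι ≫ f) {δX : X → ℤ} {δY : Y → ℤ} {δP : P → ℤ} {δQ : Q → ℤ}
    (hX : Cyc.IsSetup X δX) (hY : Cyc.IsSetup Y δY) (hδ : Cyc.DeltaCompat f δX δY)
    (hc : ∀ ζ, AlgebraicCycle.mapCoeff g δP δQ ζ = AlgebraicCycle.mapCoeff f δX δY (ι ζ))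
    (v : (x : X) → X.residueField x) (u : (y : Y) → Y.residueField y) (hu : ∀ y, u y ≠ 0)
    (hv : ∀ x, f.residueFieldMap x (u (f x)) = v x) (α : AlgebraicCycle P ℤ) (y : Y) :
    ∑ᶠ x ∈ f ⁻¹' {y}, (∑ᶠ ζ : P, α ζ * Cyc.divFun δX (ι ζ) (v (ι ζ)) x) *
        ((AlgebraicCycle.mapCoeff f δX δY x : ℕ) : ℤ) =
      ∑ᶠ z : Q, AlgebraicCycle.map g δP δQ α z * Cyc.divFun δY (j z) (u (j z)) y := by
  classical
  haveI := hX.1
  have hcomm : ∀ ζ, j (g ζ) = f (ι ζ) := fun ζ => congrArg (fun m : P ⟶ Y => m ζ) h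
  have hv0 : ∀ x, v x ≠ 0 := fun x e =>
    hu (f x) ((f.residueFieldMap x).hom.injective (((hv x).trans e).trans (map_zero _).symm))
  obtain ⟨V, hV, hyV, -⟩ := exists_isAffineOpen_mem_and_subset (show y ∈ (⊤ : Y.Opens) from trivial)
  have hK : IsCompact (f ⁻¹' (V : Set Y)) := f.isSpectralMap.2 V.isOpen hV.isCompact
  have hKP : IsCompact (ι ⁻¹' (f ⁻¹' (V : Set Y))) := ι.isSpectralMap.2 (f ⁻¹ᵁ V).isOpen hK
  have hT : (ι ⁻¹' (f ⁻¹' (V : Set Y)) ∩ Function.support α).Finite :=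
    α.locallyFiniteSupport.finite_inter_support_of_isCompact hKP
  have hsub : f ⁻¹' {y} ⊆ f ⁻¹' (V : Set Y) := fun x hx => by
    show f x ∈ V
    rw [show f x = y from hx]; exact hyV
  have hG : ∀ x ∈ f ⁻¹' {y}, (∑ᶠ ζ : P, α ζ * Cyc.divFun δX (ι ζ) (v (ι ζ)) x) =
      ∑ ζ ∈ hT.toFinset, α ζ * Cyc.divFun δX (ι ζ) (v (ι ζ)) x := fun x hx =>
    finsum_eq_sum_of_support_subset _ fun ζ hζ => Finset.mem_coe.mpr (hT.mem_toFinset.mpr
      ⟨mem_of_divFun (U := f ⁻¹ᵁ V) (hsub hx) (right_ne_zero_of_mul hζ),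
        left_ne_zero_of_mul hζ⟩)
  have hdfin : ∀ ζ, (f ⁻¹' {y} ∩ Function.support (Cyc.divFun δX (ι ζ) (v (ι ζ)))).Finite := fun ζ => by
    let c : AlgebraicCycle X ℤ := ⟨Cyc.divFun δX (ι ζ) (v (ι ζ)), by simp, fun x _ =>
      H22Alg.CycDiv.locallyFinite_divFun hX.2.2 _ (hv0 _) x⟩
    exact (c.locallyFiniteSupport.finite_inter_support_of_isCompact hK).subset
      (Set.inter_subset_inter_left _ hsub)
  have hS : (⋃ ζ ∈ hT.toFinset, f ⁻¹' {y} ∩ Function.support (Cyc.divFun δX (ι ζ) (v (ι ζ)))).Finite :=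
    hT.toFinset.finite_toSet.biUnion fun ζ _ => hdfin ζ
  have hSy : (hS.toFinset : Set X) ⊆ f ⁻¹' {y} := fun x hx => by
    obtain ⟨ζ, -, hζ⟩ := Set.mem_iUnion₂.mp (hS.mem_toFinset.mp hx); exact hζ.1
  have hsum : ∑ᶠ x ∈ f ⁻¹' {y}, (∑ᶠ ζ : P, α ζ * Cyc.divFun δX (ι ζ) (v (ι ζ)) x) *
      ((AlgebraicCycle.mapCoeff f δX δY x : ℕ) : ℤ) = ∑ ζ ∈ hT.toFinset, α ζ *
        (((AlgebraicCycle.mapCoeff g δP δQ ζ : ℕ) : ℤ) * Cyc.divFun δY (j (g ζ)) (u (j (g ζ))) y) := by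
    rw [finsum_mem_eq_sum_of_subset (t := hS.toFinset) _ (fun x hx => by
      have h := left_ne_zero_of_mul hx.2
      rw [hG x hx.1] at h
      obtain ⟨ζ, hζ, h'⟩ := Finset.exists_ne_zero_of_sum_ne_zero h
      exact hS.mem_toFinset.mpr (Set.mem_biUnion hζ ⟨hx.1, right_ne_zero_of_mul h'⟩)) hSy,
      Finset.sum_congr rfl fun x hx => by rw [hG x (hSy hx), Finset.sum_mul], Finset.sum_comm]
    refine Finset.sum_congr rfl fun ζ hζ => ?_
    have hp : PushRat.pushDiv f δX δY (ι ζ) (v (ι ζ)) y =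
        ∑ x ∈ hS.toFinset, Cyc.divFun δX (ι ζ) (v (ι ζ)) x * ((AlgebraicCycle.mapCoeff f δX δY x : ℕ) : ℤ) :=
      finsum_mem_eq_sum_of_subset _ (fun x hx => hS.mem_toFinset.mpr
        (Set.mem_biUnion hζ ⟨hx.1, left_ne_zero_of_mul hx.2⟩)) hSy
    rw [← hv (ι ζ), pushDiv_lift f hX hY hδ _ _ (hu _), hv (ι ζ), ← hcomm ζ, ← hc ζ] at hp
    rw [hp, Finset.mul_sum]
    exact Finset.sum_congr rfl fun x _ => mul_assoc _ _ _
  rw [hsum]
  have hmap : ∀ z, Cyc.divFun δY (j z) (u (j z)) y ≠ 0 → AlgebraicCycle.map g δP δQ α z =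
      ∑ ζ ∈ hT.toFinset with g ζ = z, α ζ * ((AlgebraicCycle.mapCoeff g δP δQ ζ : ℕ) : ℤ) := fun z hz => by
    simp only [AlgebraicCycle.map, Function.locallyFinsupp.map_apply]
    refine finsum_mem_eq_sum_of_subset _ (fun ζ hζ => ?_) (fun ζ hζ => (Finset.mem_filter.mp hζ).2)
    refine Finset.mem_coe.mpr (Finset.mem_filter.mpr ⟨hT.mem_toFinset.mpr ⟨?_, left_ne_zero_of_mul hζ.2⟩, hζ.1⟩)
    show f (ι ζ) ∈ V
    rw [← hcomm ζ, show g ζ = z from hζ.1]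
    exact mem_of_divFun (U := V) hyV hz
  rw [finsum_eq_sum_of_support_subset (s := hT.toFinset.image g) _ fun z hz => ?_]
  · rw [← Finset.sum_fiberwise_of_maps_to (t := hT.toFinset.image g) (g := g) fun ζ hζ => Finset.mem_image_of_mem g hζ]
    refine Finset.sum_congr rfl fun z _ => ?_
    by_cases hz : Cyc.divFun δY (j z) (u (j z)) y = 0
    · rw [Finset.sum_eq_zero fun ζ hζ => by rw [(Finset.mem_filter.mp hζ).2, hz, mul_zero, mul_zero]]
      exact (mul_eq_zero_of_right _ hz).symm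
    · rw [hmap z hz, Finset.sum_mul]
      refine Finset.sum_congr rfl fun ζ hζ => ?_
      rw [(Finset.mem_filter.mp hζ).2]
      exact (mul_assoc _ _ _).symm
  · have hne : AlgebraicCycle.map g δP δQ α z ≠ 0 := left_ne_zero_of_mul hz
    rw [hmap z (right_ne_zero_of_mul hz)] at hne
    obtain ⟨ζ, hζ, -⟩ := Finset.exists_ne_zero_of_sum_ne_zero hne
    exact Finset.mem_coe.mpr (Finset.mem_image.mpr ⟨ζ, (Finset.mem_filter.mp hζ).1, (Finset.mem_filter.mp hζ).2⟩)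

/-- Transport of a pushforward along a commutative square with injective columns. -/
theorem map_apply_of_square {P Q X Y : Scheme.{u}} (ι : P ⟶ X) [IsPreimmersion ι] (j : Q ⟶ Y) [IsPreimmersion j]
    (g : P ⟶ Q) [QuasiCompact g] (f : X ⟶ Y) (h : g ≫ j = ι ≫ f)
    (hsurj : ∀ (q : Q) (x : X), f x = j q → x ∈ Set.range ι) {δX : X → ℤ} {δY : Y → ℤ}
    {δP : P → ℤ} {δQ : Q → ℤ} (hc : ∀ p, AlgebraicCycle.mapCoeff g δP δQ p = AlgebraicCycle.mapCoeff f δX δY (ι p))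
    (β : AlgebraicCycle P ℤ) (G : X → ℤ) (hG : ∀ p, β p = G (ι p)) (q : Q) :
    AlgebraicCycle.map g δP δQ β q =
      ∑ᶠ x ∈ f ⁻¹' {j q}, G x * ((AlgebraicCycle.mapCoeff f δX δY x : ℕ) : ℤ) := by
  have hcomm : ∀ p, j (g p) = f (ι p) := fun p => congrArg (fun m : P ⟶ Y => m p) h
  simp only [AlgebraicCycle.map, Function.locallyFinsupp.map_apply]
  refine finsum_mem_eq_of_bijOn (fun p => ι p) ⟨fun p hp => ?_, fun p _ q _ h => ι.isEmbedding.injective h,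
    fun x hx => ?_⟩ fun p hp => ?_
  · show f (ι p) = j q
    rw [← hcomm p, show g p = q from hp]
  · obtain ⟨p, rfl⟩ := hsurj q x hx
    exact ⟨p, j.isEmbedding.injective ((hcomm p).trans hx), rfl⟩
  · rw [hG p]
    congr 1
    exact_mod_cast hc p

variable {R : Type u} [CommRing R] [IsDomain R] [IsDiscreteValuationRing R]
  {X Y : Scheme.{u}} (b : Y ⟶ Spec (CommRingCat.of R)) [LocallyOfFiniteType b] (f : X ⟶ Y) [IsProper f]

theorem spFun_map (gη : (f ≫ b).fiber (genericPoint ↥(Spec (CommRingCat.of R))) ⟶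
      b.fiber (genericPoint ↥(Spec (CommRingCat.of R)))) [QuasiCompact gη]
    (hgη : gη ≫ b.fiberι _ = (f ≫ b).fiberι _ ≫ f)
    (gs : (f ≫ b).fiber (closedPoint R) ⟶ b.fiber (closedPoint R)) [QuasiCompact gs]
    (hgs : gs ≫ b.fiberι _ = (f ≫ b).fiberι _ ≫ f)
    {δXη : ↥((f ≫ b).fiber (genericPoint ↥(Spec (CommRingCat.of R)))) → ℤ}
    {δXs : ↥((f ≫ b).fiber (closedPoint R)) → ℤ}
    {δYη : ↥(b.fiber (genericPoint ↥(Spec (CommRingCat.of R)))) → ℤ}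
    {δYs : ↥(b.fiber (closedPoint R)) → ℤ}
    (hXη : Cyc.DeltaCompat ((f ≫ b).fiberToSpecResidueField (genericPoint ↥(Spec (CommRingCat.of R)))) δXη (fun _ => 0))
    (hXs : Cyc.DeltaCompat ((f ≫ b).fiberToSpecResidueField (closedPoint R)) δXs (fun _ => 0))
    (hYη : Cyc.DeltaCompat (b.fiberToSpecResidueField (genericPoint ↥(Spec (CommRingCat.of R)))) δYη (fun _ => 0))
    (hYs : Cyc.DeltaCompat (b.fiberToSpecResidueField (closedPoint R)) δYs (fun _ => 0))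
    (r : ℤ) (α : AlgebraicCycle ((f ≫ b).fiber (genericPoint ↥(Spec (CommRingCat.of R)))) ℤ)
    (hα : α ∈ Cyc.Zk _ δXη r) (β : AlgebraicCycle ((f ≫ b).fiber (closedPoint R)) ℤ)
    (hβ : ⇑β = Cyc.spFun (f ≫ b) (genericPoint ↥(Spec (CommRingCat.of R))) (closedPoint R) δXη δXs r ⇑α) :
    Cyc.spFun b (genericPoint ↥(Spec (CommRingCat.of R))) (closedPoint R) δYη δYs r
        ⇑(AlgebraicCycle.map gη δXη δYη α) = ⇑(AlgebraicCycle.map gs δXs δYs β) := by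
  obtain ⟨π, hπ⟩ := IsDiscreteValuationRing.exists_irreducible R
  obtain ⟨δY, hbδ⟩ := exists_deltaCompat b (dS R)
  obtain ⟨δX, hfδ⟩ := exists_deltaCompat f δY
  have hY : Cyc.IsSetup Y δY := isSetup_of_locallyOfFiniteType b isSetup_spec hbδ
  have hX : Cyc.IsSetup X δX := isSetup_of_locallyOfFiniteType f hY hfδ
  have haδ : Cyc.DeltaCompat (f ≫ b) δX (dS R) := Bivar.deltaCompat_comp f b δX δY (dS R) hfδ hbδ
  funext y
  rw [spFun_eq_of_mem b hπ hbδ hY hYη hYs r _ (Bivar.cycMap_mem_Zk gη δXη δYη r hα),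
    map_apply_of_square ((f ≫ b).fiberι (closedPoint R)) (b.fiberι (closedPoint R)) gs f hgs
      (fun q x hx => ?_) (fun p => mapCoeff_comm _ _ gs f hgs 0
        (fun q => by rw [add_zero]; exact delta_closedFiber (f ≫ b) haδ hXs q)
        (fun q => by rw [add_zero]; exact delta_closedFiber b hbδ hYs q) p)
      β (fun x => ∑ᶠ ζ, α ζ * Cyc.divFun δX ((f ≫ b).fiberι _ ζ) (uval (f ≫ b) π ((f ≫ b).fiberι _ ζ)) x)
      (fun p => (congrFun hβ p).trans (spFun_eq_of_mem (f ≫ b) hπ haδ hX hXη hXs r α hα p)) y]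
  · exact (push_comb f ((f ≫ b).fiberι _) (b.fiberι _) gη hgη hX hY hfδ
      (fun ζ => mapCoeff_comm _ _ gη f hgη 1 (delta_genericFiber (f ≫ b) haδ hXη)
        (delta_genericFiber b hbδ hYη) ζ)
      (uval (f ≫ b) π) (uval b π) (uval_ne_zero b hπ) (uval_comp f b π) α (b.fiberι _ y)).symm
  · rw [Scheme.Hom.range_fiberι]
    show b (f x) = closedPoint R
    rw [hx]; exact map_fiberι b _ q

end Groth.Agent.H3Cyc.SpPush
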