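import Groth.Agent.H3Cyc.SpPull
import Groth.Agent.H3Cyc.SheafPull
import Groth.Agent.H3Cyc.SheafLen
import Mathlib

/-!
# Specialization of the cycle of a flat coherent module
-/

set_option autoImplicit false
set_option linter.style.haveILetI false
set_option linter.unusedSectionVars false
set_option backward.isDefEq.respectTransparency.types false
universe u

open AlgebraicGeometry CategoryTheory CategoryTheory.Limits IsLocalRing TopologicalSpace TensorProduct
open scoped Pointwise

namespace Groth.Agent.H3Cyc.SpSheaf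

open SpFun
attribute [local instance] H06Mod.stalkAlgebra

theorem length_pullback_openImmersion {X Y : Scheme.{u}} (f : X ⟶ Y) [IsOpenImmersion f] (F : Y.Modules) (x : X) :
    Module.length (X.presheaf.stalk x) (((Scheme.Modules.pullback f).obj F).presheaf.stalk x) =
      Module.length (Y.presheaf.stalk (f x)) (F.presheaf.stalk (f x)) := by
  rw [SheafPull.length_stalk_pullback f F x,
    IsLocalRing.map_maximalIdeal_of_surjective (f.stalkMap x).hom (f.stalkMap_surjective x)]
  haveI : IsSimpleModule (X.presheaf.stalk x) (X.presheaf.stalk x ⧸ maximalIdeal (X.presheaf.stalk x)) :=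
    isSimpleModule_iff_isCoatom.mpr (Ideal.isMaximal_def.mp inferInstance)
  rw [Module.length_eq_one (R := X.presheaf.stalk x) (M := X.presheaf.stalk x ⧸ maximalIdeal (X.presheaf.stalk x)), mul_one]

theorem nontrivial_pullback_openImmersion {X Y : Scheme.{u}} (f : X ⟶ Y) [IsOpenImmersion f] (F : Y.Modules)
    (x : X) (h : Nontrivial (F.presheaf.stalk (f x))) :
    Nontrivial (((Scheme.Modules.pullback f).obj F).presheaf.stalk x) := by
  by_contra hn
  have h1 := length_pullback_openImmersion f F x
  haveI := not_nontrivial_iff_subsingleton.mp hn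
  rw [Module.length_eq_zero] at h1
  exact not_subsingleton _ (Module.length_eq_zero_iff.mp h1.symm)

theorem nontrivial_of_pullback {X Y : Scheme.{u}} (f : X ⟶ Y) (F : Y.Modules) (x : X)
    (h : Nontrivial (((Scheme.Modules.pullback f).obj F).presheaf.stalk x)) :
    Nontrivial (F.presheaf.stalk (f x)) := by
  by_contra hn
  haveI : Subsingleton (F.presheaf.stalk (f.base x)) := not_nontrivial_iff_subsingleton.mp hn
  haveI : Subsingleton (X.presheaf.stalk x ⊗[Y.presheaf.stalk (f.base x)] F.presheaf.stalk (f.base x)) :=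
    subsingleton_of_forall_eq 0 fun t => by
      induction t with
      | zero => rfl
      | tmul a b => rw [Subsingleton.elim b 0, TensorProduct.tmul_zero]
      | add a b ha hb => rw [ha, hb, add_zero]
  exact not_subsingleton _ ((H06Mod.pullStalkEquiv f F x).symm.toEquiv.subsingleton)

/-- Inverse image along a map with surjective stalk map with principal kernel. -/
theorem length_pullback_of_ker {X Y : Scheme.{u}} (f : X ⟶ Y) (F : Y.Modules) (x : X)
    (hs : Function.Surjective (f.stalkMap x).hom) (t : Y.presheaf.stalk (f x))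
    (hker : RingHom.ker (f.stalkMap x).hom = Ideal.span {t}) :
    Module.length (X.presheaf.stalk x) (((Scheme.Modules.pullback f).obj F).presheaf.stalk x) =
      Module.length (Y.presheaf.stalk (f x))
        (F.presheaf.stalk (f x) ⧸ t • (⊤ : Submodule (Y.presheaf.stalk (f x)) (F.presheaf.stalk (f x)))) := by
  let A := Y.presheaf.stalk (f.base x)
  let B := X.presheaf.stalk x
  let M := F.presheaf.stalk (f.base x)
  have hs' : Function.Surjective (algebraMap A B) := hs
  rw [← (H06Mod.pullStalkEquiv f F x).length_eq,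
    ← Module.length_eq_of_surjective (R := B) (S := A) (M := B ⊗[A] M) hs']
  let φ : A →ₗ[A] B := Algebra.linearMap A B
  have hk : LinearMap.ker φ = Ideal.span {t} := hker
  let e : (A ⧸ Ideal.span {t}) ≃ₗ[A] B :=
    (Submodule.quotEquivOfEq _ _ hk.symm).trans (φ.quotKerEquivOfSurjective hs')
  let e2 : (M ⧸ Ideal.span {t} • (⊤ : Submodule A M)) ≃ₗ[A] M ⧸ t • (⊤ : Submodule A M) :=
    Submodule.quotEquivOfEq _ _ (Submodule.ideal_span_singleton_smul t ⊤)
  exact (((TensorProduct.congr e (LinearEquiv.refl A M)).symm.trans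
    (TensorProduct.quotTensorEquivQuotSMul M (Ideal.span {t}))).trans e2).length_eq

variable {R : Type u} [CommRing R] [IsDomain R] [IsDiscreteValuationRing R]
  {X : Scheme.{u}} (a : X ⟶ Spec (CommRingCat.of R))

theorem ker_closedFiber {π : R} (hπ : Irreducible π) (x : a.fiber (closedPoint R)) :
    RingHom.ker ((a.fiberι (closedPoint R)).stalkMap x).hom =
      Ideal.span {X.presheaf.germ ⊤ (a.fiberι (closedPoint R) x) trivial (unif a π)} := by
  rw [← map_maximalIdeal_eq a hπ _ (map_fiberι a _ x)]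
  refine le_antisymm (SpPull.ker_fiberι_le a _ x) (Ideal.map_le_iff_le_comap.mpr fun c hc => ?_)
  rw [Ideal.mem_comap, RingHom.mem_ker]
  exact H8Props.FibreStalk.stalkMap_fibreι_eq_zero a _ x c hc

theorem isSMulRegular_unif {π : R} (hπ : Irreducible π) (F : X.Modules) (hflat : FlatMod.IsFlatOver a F)
    (x : X) (hx : a x = closedPoint R) :
    IsSMulRegular (F.presheaf.stalk x) (X.presheaf.germ ⊤ x trivial (unif a π)) := by
  letI := FlatMod.moduleStalkOver a F x
  haveI : Module.Flat ((Spec (CommRingCat.of R)).presheaf.stalk (a.base x)) (F.presheaf.stalk x) := hflat x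
  let t : (Spec (CommRingCat.of R)).presheaf.stalk (a.base x) :=
    (Spec (CommRingCat.of R)).presheaf.germ ⊤ (a x) trivial ((Scheme.ΓSpecIso (CommRingCat.of R)).inv π)
  haveI : IsIntegral (Spec (CommRingCat.of R)) := inferInstance
  have ht : t ∈ nonZeroDivisors ((Spec (CommRingCat.of R)).presheaf.stalk (a.base x)) := by
    refine mem_nonZeroDivisors_of_ne_zero fun h0 => ?_
    have h1 := germ_injective_of_isIntegral (Spec (CommRingCat.of R)) (a x) (U := ⊤) trivial
      (h0.trans (map_zero _).symm)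
    have h2 := (Scheme.ΓSpecIso (CommRingCat.of R)).commRingCatIsoToRingEquiv.symm.injective
      (h1.trans (map_zero _).symm)
    exact hπ.ne_zero h2
  have hreg := Module.Flat.isSMulRegular_of_nonZeroDivisors (M := F.presheaf.stalk x) ht
  intro u v huv
  refine hreg ?_
  show (a.stalkMap x).hom t • u = (a.stalkMap x).hom t • v
  rw [show (a.stalkMap x).hom t = X.presheaf.germ ⊤ x trivial (unif a π) from
    Scheme.Hom.germ_stalkMap_apply a ⊤ x trivial _]
  exact huv

/-- A module flat over the base has every point of the closed fibre under a point of the generic one. -/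
theorem exists_generic [LocallyOfFiniteType a] [IsLocallyNoetherian X] {π : R} (hπ : Irreducible π)
    (F : X.Modules) (hF : Coh.IsCoh F) (hflat : FlatMod.IsFlatOver a F) (x : X) (hx : a x = closedPoint R)
    (hnt : Nontrivial (F.presheaf.stalk x)) :
    ∃ z : X, z ⤳ x ∧ Nontrivial (F.presheaf.stalk z) ∧ a z = genericPoint ↥(Spec (CommRingCat.of R)) := by
  let A := X.presheaf.stalk x
  haveI : Module.Finite A (F.presheaf.stalk x) := H3CAlg.ChiStalk.finite_stalk F hF x
  obtain ⟨P, hP⟩ := associatedPrimes.nonempty A (F.presheaf.stalk x)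
  let J : PrimeSpectrum A := ⟨P, hP.isPrime⟩
  have hJ : J ∈ Module.support A (F.presheaf.stalk x) := by
    rw [Module.mem_support_iff_of_finite, ← Submodule.annihilator_top]
    exact IsAssociatedPrime.annihilator_le hP
  obtain ⟨h, e⟩ := GenStalk.ker_specMap_fromSpecStalk x J
  refine ⟨X.fromSpecStalk x J, h, (SheafLen.mem_support_iff F hF x _ h).mp ?_,
    (eq_generic_or_closed _).resolve_right fun hc => ?_⟩
  · rwa [show (⟨RingHom.ker (Cyc.specMap x _ h), GenStalk.isPrime_ker x _ h⟩ : PrimeSpectrum A) = J from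
      PrimeSpectrum.ext e.symm]
  · have hmem : X.presheaf.germ ⊤ x trivial (unif a π) ∈ P := by
      rw [show P = RingHom.ker (Cyc.specMap x (X.fromSpecStalk x J) h) from e, RingHom.mem_ker]
      show X.residue _ (X.presheaf.stalkSpecializes h _) = 0
      rw [TopCat.Presheaf.germ_stalkSpecializes_apply]
      by_contra hne
      exact (evaluation_ne_zero a hπ _).mp hne hc
    obtain ⟨m, hm, hm0⟩ := (biUnion_associatedPrimes_eq_zero_divisors A (F.presheaf.stalk x)).subset
      (Set.mem_biUnion hP hmem)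
    exact hm (isSMulRegular_unif a hπ F hflat x hx (hm0.trans (smul_zero _).symm))

variable [LocallyOfFiniteType a]

theorem spFun_sheaf
    {δη : ↥(a.fiber (genericPoint ↥(Spec (CommRingCat.of R)))) → ℤ} {δs : ↥(a.fiber (closedPoint R)) → ℤ}
    (hη : Cyc.DeltaCompat (a.fiberToSpecResidueField (genericPoint ↥(Spec (CommRingCat.of R)))) δη (fun _ => 0))
    (hs : Cyc.DeltaCompat (a.fiberToSpecResidueField (closedPoint R)) δs (fun _ => 0))
    (r : ℤ) (F : X.Modules) (hF : Coh.IsCoh F) (hflat : FlatMod.IsFlatOver a F)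
    (hdim : ∀ ζ : ↥(a.fiber (genericPoint ↥(Spec (CommRingCat.of R)))),
      Nontrivial (((Scheme.Modules.pullback (a.fiberι (genericPoint ↥(Spec (CommRingCat.of R))))).obj F).presheaf.stalk ζ) →
        δη ζ ≤ r) :
    (∀ x : ↥(a.fiber (closedPoint R)),
      Nontrivial (((Scheme.Modules.pullback (a.fiberι (closedPoint R))).obj F).presheaf.stalk x) → δs x ≤ r) ∧
    Cyc.spFun a (genericPoint ↥(Spec (CommRingCat.of R))) (closedPoint R) δη δs r
        (Cyc.sheafFun δη r ((Scheme.Modules.pullback (a.fiberι (genericPoint ↥(Spec (CommRingCat.of R))))).obj F)) =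
      Cyc.sheafFun δs r ((Scheme.Modules.pullback (a.fiberι (closedPoint R))).obj F) := by
  classical
  obtain ⟨π, hπ⟩ := IsDiscreteValuationRing.exists_irreducible R
  obtain ⟨δX, hδ⟩ := exists_deltaCompat a (dS R)
  have hX : Cyc.IsSetup X δX := isSetup_of_locallyOfFiniteType a isSetup_spec hδ
  haveI := hX.1
  let η : Spec (CommRingCat.of R) := genericPoint ↥(Spec (CommRingCat.of R))
  have hgen : ∀ z : X, Nontrivial (F.presheaf.stalk z) → a z = η → ∃ ζ, a.fiberι η ζ = z ∧ δη ζ ≤ r ∧
      δX z = δη ζ + 1 := fun z hz hza => by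
    obtain ⟨ζ, rfl⟩ : z ∈ Set.range (a.fiberι η) := by rw [Scheme.Hom.range_fiberι]; exact hza
    exact ⟨ζ, rfl, hdim ζ (nontrivial_pullback_openImmersion _ F ζ hz), delta_genericFiber a hδ hη ζ⟩
  have hle : ∀ z : X, Nontrivial (F.presheaf.stalk z) → δX z ≤ r + 1 := fun z hz => by
    rcases eq_generic_or_closed (a z) with h | h
    · obtain ⟨ζ, -, h1, h2⟩ := hgen z hz h
      omega
    · obtain ⟨w, hwz, hw, hwa⟩ := exists_generic a hπ F hF hflat z h hz
      obtain ⟨ζ, -, h1, h2⟩ := hgen w hw hwa
      have := H22Alg.DeltaDim.delta_le hX.2.2 hwz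
      omega
  have hcl : ∀ z : X, Nontrivial (F.presheaf.stalk z) → a z = closedPoint R → δX z ≤ r := fun z hz hza => by
    obtain ⟨w, hwz, hw, hwa⟩ := exists_generic a hπ F hF hflat z hza hz
    have hne : w ≠ z := fun e => closed_ne_generic (hza.symm.trans ((congrArg (fun q => a q) e).symm.trans hwa))
    have := (hX.2.2 w z hwz hne).1
    have := hle w hw
    omega
  refine ⟨fun x hx => ?_, funext fun x => ?_⟩
  · have := hcl _ (nontrivial_of_pullback _ F x hx) (map_fiberι a _ x)
    rwa [delta_closedFiber a hδ hs] at this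
  rw [spFun_eq a hπ hδ hX hη hs]
  by_cases hx : δs x = r
  swap
  · rw [show Cyc.sheafFun δs r ((Scheme.Modules.pullback (a.fiberι (closedPoint R))).obj F) x = 0 from if_neg hx]
    refine finsum_eq_zero_of_forall_eq_zero fun ζ => ?_
    by_cases h1 : δη ζ = r
    · simp only [Cyc.divFun]
      rw [dif_neg fun hh => hx ?_, mul_zero]
      have := hh.2
      rw [delta_closedFiber a hδ hs, delta_genericFiber a hδ hη, h1] at this
      omega
    · rw [if_neg h1, zero_mul]
  rw [show Cyc.sheafFun δs r ((Scheme.Modules.pullback (a.fiberι (closedPoint R))).obj F) x = _ from if_pos hx]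
  let x₀ : X := a.fiberι (closedPoint R) x
  have hx0 : δX x₀ = r := (delta_closedFiber a hδ hs x).trans hx
  have hpt : ∀ z : X, z ⤳ x₀ → z ≠ x₀ → Nontrivial (F.presheaf.stalk z) → a z = η ∧ δX z = r + 1 :=
    fun z hz hne hnt => by
    have h1 := (hX.2.2 z x₀ hz hne).1
    have h2 := hle z hnt
    refine ⟨(eq_generic_or_closed _).resolve_right fun hc => ?_, by omega⟩
    have := hcl z hnt hc
    omega
  have hmin : ∀ z : X, z ⤳ x₀ → z ≠ x₀ → Nontrivial (F.presheaf.stalk z) →
      ∀ w : X, w ⤳ z → Nontrivial (F.presheaf.stalk w) → w = z := fun z hz hne hnt w hw hwnt => by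
    by_contra hne'
    have h1 := (hX.2.2 w z hw hne').1
    have h2 := hle w hwnt
    have h3 := (hpt z hz hne hnt).2
    omega
  let T := (SheafLen.finite_gen F hF x₀ hmin).toFinset
  have hT : ∀ z, z ∈ T ↔ z ⤳ x₀ ∧ z ≠ x₀ ∧ Nontrivial (F.presheaf.stalk z) := fun z =>
    Set.Finite.mem_toFinset _
  have hev : ∀ z (h : z ⤳ x₀), a z = η →
      Cyc.specMap x₀ z h (X.presheaf.germ ⊤ x₀ trivial (unif a π)) = uval a π z := fun z h hz => by
    rw [uval_eq a (by rw [hz]; exact closed_ne_generic.symm)]
    show X.residue z (X.presheaf.stalkSpecializes h _) = _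
    rw [TopCat.Presheaf.germ_stalkSpecializes_apply]
    rfl
  have hlen := SheafLen.length_quot_smul_stalk F hF x₀ hmin T hT (X.presheaf.germ ⊤ x₀ trivial (unif a π))
    (isSMulRegular_unif a hπ F hflat x₀ (map_fiberι a _ x))
    (fun z h hne hnt => by rw [hev z h (hpt z h hne hnt).1]; exact uval_ne_zero a hπ z)
  rw [length_pullback_of_ker _ F x ((a.fiberι (closedPoint R)).stalkMap_surjective x) _ (ker_closedFiber a hπ x),
    hlen]
  let term : X → ℤ := fun z => ((Module.length (X.presheaf.stalk z) (F.presheaf.stalk z)).toNat : ℤ) *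
    Cyc.divFun δX z (uval a π z) x₀
  have hone : ∀ z ∈ T.attach, ((Module.length (X.presheaf.stalk z.1) (F.presheaf.stalk z.1)).toNat : ℤ) *
        ((Ring.ord (Cyc.LocQuot x₀ z.1 ((hT z.1).mp z.2).1) (Ideal.Quotient.mk _
          (X.presheaf.germ ⊤ x₀ trivial (unif a π)))).toNat : ℤ) = term z.1 := fun z _ => by
    obtain ⟨h, hne, hnt⟩ := (hT z.1).mp z.2
    obtain ⟨hza, hzd⟩ := hpt z.1 h hne hnt
    refine congrArg (fun m : ℤ => ((Module.length _ _).toNat : ℤ) * m) ?_
    rw [Cyc.divFun, dif_pos ⟨h, by omega⟩, ← hev z.1 h hza]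
    have hd : ringKrullDim (Cyc.LocQuot x₀ z.1 h) ≤ 1 := by
      rw [H22Alg.DeltaDim.eq_ringKrullDim_locQuot hX.2.2 h, show (δX z.1 - δX x₀).toNat = 1 by omega]
      simp
    have h3 := FlatRat.ordAt_div' x₀ z.1 h hd (X.presheaf.germ ⊤ x₀ trivial (unif a π)) 1
      (by rw [hev z.1 h hza]; exact uval_ne_zero a hπ z.1) (by simp)
    rw [map_one, div_one, map_one] at h3
    rw [h3, show Ring.ord (Cyc.LocQuot x₀ z.1 h) 1 = 0 by simp [Ring.ord], ENat.toNat_zero, Nat.cast_zero, sub_zero]
  rw [Finset.sum_congr rfl hone, Finset.sum_attach T term]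
  let G : ↥(a.fiber η) → ℤ := fun ζ => (if δη ζ = r then
      Cyc.sheafFun δη r ((Scheme.Modules.pullback (a.fiberι η)).obj F) ζ else 0) *
    Cyc.divFun δX (a.fiberι η ζ) (uval a π (a.fiberι η ζ)) x₀
  have hG : ∀ ζ, δη ζ = r → G ζ = term (a.fiberι η ζ) := fun ζ h => by
    simp only [G, term]
    rw [if_pos h, Cyc.sheafFun, if_pos h, length_pullback_openImmersion]
  have hinj : Set.InjOn (a.fiberι η) (a.fiberι η ⁻¹' (T : Set X)) := (a.fiberι η).isEmbedding.injective.injOn
  have hsupp : Function.support G ⊆ (T.preimage (a.fiberι η) hinj : Set ↥(a.fiber η)) := fun ζ hζ => by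
    have h0 : δη ζ = r := by
      by_contra h
      exact hζ (by simp [G, h])
    have hne : term (a.fiberι η ζ) ≠ 0 := hG ζ h0 ▸ hζ
    refine Finset.mem_coe.mpr (Finset.mem_preimage.mpr ((hT _).mpr ⟨?_, ?_, ?_⟩))
    · have h2 := right_ne_zero_of_mul hne
      by_contra hn
      exact h2 (by simp only [Cyc.divFun]; rw [dif_neg fun hh => hn hh.1])
    · intro e
      exact generic_not_closed a ζ ((congrArg (fun q => a q) e).trans (map_fiberι a _ x))
    · by_contra hn
      haveI := not_nontrivial_iff_subsingleton.mp hn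
      refine left_ne_zero_of_mul hne ?_
      rw [Module.length_eq_zero, ENat.toNat_zero, Nat.cast_zero]
  rw [show (∑ᶠ ζ : ↥(a.fiber η), (if δη ζ = r then
      Cyc.sheafFun δη r ((Scheme.Modules.pullback (a.fiberι η)).obj F) ζ else 0) *
        Cyc.divFun δX (a.fiberι η ζ) (uval a π (a.fiberι η ζ)) (a.fiberι (closedPoint R) x)) = ∑ᶠ ζ, G ζ from rfl,
    finsum_eq_sum_of_support_subset _ hsupp]
  refine Eq.trans (Finset.sum_congr rfl fun ζ hζ => hG ζ ?_) (Finset.sum_preimage (a.fiberι η) T hinj term ?_)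
  · obtain ⟨h, hne, hnt⟩ := (hT _).mp (Finset.mem_preimage.mp hζ)
    have := (hpt _ h hne hnt).2
    rw [delta_genericFiber a hδ hη] at this
    omega
  · intro z hz hnot
    obtain ⟨h, hne, hnt⟩ := (hT z).mp hz
    refine absurd ?_ hnot
    show z ∈ Set.range (a.fiberι η)
    rw [Scheme.Hom.range_fiberι]
    exact (hpt z h hne hnt).1

end Groth.Agent.H3Cyc.SpSheaf
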