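import Groth.Agent.H3Cyc.C1Api
import Groth.Agent.H3Cyc.FlatRat
import Mathlib

/-!
# The zero scheme of a section and the divisor of the section
-/

set_option autoImplicit false
set_option linter.style.haveILetI false
universe u

open AlgebraicGeometry CategoryTheory IsLocalRing Opposite
open Groth.Agent.H11Tilde (IsGen)
open scoped Pointwise

namespace Groth.Agent.H3Cyc.ZeroSect

variable {X : Scheme.{u}} [IsLocallyNoetherian X]

/-- The length of `O_x / (a)` at a point whose proper generizations are maximal. -/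
theorem length_quot_span (x : X) (hgen : ∀ z : X, z ⤳ x → z ≠ x → ∀ w : X, w ⤳ z → w = z) (T : Finset X)
    (hT : ∀ z, z ∈ T ↔ z ⤳ x ∧ z ≠ x) (a : X.presheaf.stalk x) (hreg : IsSMulRegular (X.presheaf.stalk x) a)
    (hne : ∀ z (h : z ⤳ x), z ≠ x → Cyc.specMap x z h a ≠ 0) :
    ((Module.length (X.presheaf.stalk x) (X.presheaf.stalk x ⧸ Ideal.span {a})).toNat : ℤ) =
      ∑ z ∈ T.attach, (FlatDiv.mult X z.1 : ℤ) *
        ((Ring.ord (Cyc.LocQuot x z.1 ((hT z.1).mp z.2).1) (Ideal.Quotient.mk _ a)).toNat : ℤ) := by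
  classical
  let A := X.presheaf.stalk x
  have hdimX : ringKrullDim A ≤ 1 := FlatDiv.ringKrullDim_stalk_le_one x hgen
  have h1 : Module.supportDim A A ≤ 1 := by rwa [Module.supportDim_self_eq_ringKrullDim]
  have hcl : ∀ p : PrimeSpectrum A, X.fromSpecStalk x p = x → p.asIdeal = maximalIdeal A := fun p e =>
    congrArg PrimeSpectrum.asIdeal (show p = IsLocalRing.closedPoint A from
      (X.fromSpecStalk x).isEmbedding.injective (e.trans Scheme.fromSpecStalk_closedPoint.symm))
  have hker : ∀ z (h : z ⤳ x), RingHom.ker (Cyc.specMap x z h) = maximalIdeal A → z = x := fun z h e => by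
    have h2 := GenStalk.fromSpecStalk_eq x z h
    rw [show (⟨RingHom.ker (Cyc.specMap x z h), GenStalk.isPrime_ker x z h⟩ : PrimeSpectrum A) =
      IsLocalRing.closedPoint A from PrimeSpectrum.ext e, Scheme.fromSpecStalk_closedPoint] at h2
    exact h2.symm
  have hspan : a • (⊤ : Submodule A A) = (Ideal.span {a} : Ideal A) := by
    ext w
    rw [Submodule.mem_smul_pointwise_iff_exists, Ideal.mem_span_singleton']
    exact ⟨fun ⟨v, _, hv⟩ => ⟨v, (mul_comm _ _).trans hv⟩, fun ⟨v, hv⟩ => ⟨v, trivial, (mul_comm _ _).trans hv⟩⟩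
  have h0 : Module.supportDim A (A ⧸ a • (⊤ : Submodule A A)) ≤ 0 := by
    refine Order.krullDim_nonpos_iff_forall_isMax.mpr fun p => ?_
    have hp : p.1.asIdeal = maximalIdeal A := by
      by_contra hne'
      obtain ⟨h, e⟩ := GenStalk.ker_specMap_fromSpecStalk x p.1
      refine hne _ h (fun e' => hne' (hcl _ e')) (RingHom.mem_ker.mp ?_)
      rw [← e]
      have h3 := p.2
      rw [Module.mem_support_iff_of_finite] at h3
      refine h3 (Module.mem_annihilator.mpr fun w => ?_)
      obtain ⟨v, rfl⟩ := Submodule.mkQ_surjective _ w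
      exact (Submodule.Quotient.mk_eq_zero _).mpr (Submodule.smul_mem_pointwise_smul v _ _ trivial)
    intro p' _
    show p'.1.asIdeal ≤ p.1.asIdeal
    rw [hp]
    exact IsLocalRing.le_maximalIdeal p'.1.isPrime.ne_top
  have hlen := H22Alg.length_quot_smul_eq_finsum h1 h0
  rw [show LinearMap.ker (LinearMap.lsmul A A a) = ⊥ from LinearMap.ker_eq_bot.mpr hreg, Module.length_bot, zero_add,
    finsum_mem_eq_finite_toFinset_sum _ (H22Alg.lowPrimes_finite h1), hspan] at hlen
  have hmem : ∀ p : PrimeSpectrum A, p ∈ H22Alg.lowPrimes A A → X.fromSpecStalk x p ∈ T := fun p hp => by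
    obtain ⟨h, -⟩ := GenStalk.ker_specMap_fromSpecStalk x p
    exact (hT _).mpr ⟨h, fun e => hp.2 (hcl p e)⟩
  have hsum : ∑ p ∈ (H22Alg.lowPrimes_finite h1).toFinset,
      Ring.ord (A ⧸ p.asIdeal) (Ideal.Quotient.mk p.asIdeal a) * H22Alg.locLen A A p =
      ∑ z ∈ T.attach, Ring.ord (Cyc.LocQuot x z.1 ((hT z.1).mp z.2).1) (Ideal.Quotient.mk _ a) *
        Module.length (X.presheaf.stalk z.1) (X.presheaf.stalk z.1) := by
    refine Finset.sum_bij (fun p hp => ⟨X.fromSpecStalk x p, hmem p ((Set.Finite.mem_toFinset _).mp hp)⟩)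
      (fun p hp => Finset.mem_attach _ _) (fun p _ p' _ e => by
        have e' := congrArg Subtype.val e
        exact (X.fromSpecStalk x).isEmbedding.injective e') (fun z _ => ?_) (fun p hp => ?_)
    · obtain ⟨h, hzx⟩ := (hT z.1).mp z.2
      refine ⟨⟨RingHom.ker (Cyc.specMap x z.1 h), GenStalk.isPrime_ker x z.1 h⟩,
        (Set.Finite.mem_toFinset _).mpr ⟨?_, fun e => hzx (hker _ h e)⟩, Subtype.ext (GenStalk.fromSpecStalk_eq x z.1 h)⟩
      rw [Module.mem_support_iff_of_finite, Module.annihilator_eq_bot.mpr inferInstance]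
      exact bot_le
    · have key : ∀ (z : X) (h : z ⤳ x) (J : PrimeSpectrum A), J.asIdeal = RingHom.ker (Cyc.specMap x z h) →
          Ring.ord (A ⧸ J.asIdeal) (Ideal.Quotient.mk J.asIdeal a) * H22Alg.locLen A A J =
          Ring.ord (Cyc.LocQuot x z h) (Ideal.Quotient.mk _ a) *
            Module.length (X.presheaf.stalk z) (X.presheaf.stalk z) := by
        rintro z h ⟨p, hp⟩ (rfl : p = _)
        rw [show H22Alg.locLen A A ⟨_, hp⟩ = _ from GenStalk.length_localizedModule_eq x z h]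
      obtain ⟨h, e⟩ := GenStalk.ker_specMap_fromSpecStalk x p
      exact key _ _ p e
  have hfinT : ∀ z ∈ T.attach, Ring.ord (Cyc.LocQuot x z.1 ((hT z.1).mp z.2).1) (Ideal.Quotient.mk _ a) *
      Module.length (X.presheaf.stalk z.1) (X.presheaf.stalk z.1) ≠ ⊤ := fun z _ => by
    obtain ⟨h, hzx⟩ := (hT z.1).mp z.2
    haveI := GenStalk.isPrime_ker x z.1 h
    haveI : Ring.KrullDimLE 1 (Cyc.LocQuot x z.1 h) :=
      Ring.krullDimLE_iff.mpr ((ringKrullDim_quotient_le _).trans hdimX)
    refine WithTop.mul_ne_top (Ring.ord_ne_top (mem_nonZeroDivisors_of_ne_zero fun e =>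
      hne _ h hzx (RingHom.mem_ker.mp (Ideal.Quotient.eq_zero_iff_mem.mp e)))) ?_
    haveI : Ring.KrullDimLE 0 (X.presheaf.stalk z.1) := by
      refine Ring.krullDimLE_iff.mpr ?_
      rw [ringKrullDim_stalk_eq_coheight, Order.coheight_eq_zero.mpr fun w hw =>
        Scheme.le_iff_specializes.mpr (specializes_of_eq
          (hgen z.1 h hzx w (Scheme.le_iff_specializes.mp hw)).symm)]
      rfl
    haveI : IsArtinianRing (X.presheaf.stalk z.1) :=
      isArtinianRing_iff_isNoetherianRing_krullDimLE_zero.mpr ⟨inferInstance, inferInstance⟩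
    exact Module.length_ne_top
  rw [hsum] at hlen
  have h := congrArg ENat.toNat hlen
  rw [ENat.toNat_sum hfinT] at h
  have h2 : ((_ : ℕ) : ℤ) = ((_ : ℕ) : ℤ) := congrArg Nat.cast h
  push_cast [ENat.toNat_mul] at h2
  rw [h2]
  exact Finset.sum_congr rfl fun z _ => mul_comm _ _

/-- **The zero scheme represents `c₁(L) ∩ [Y]`.** -/
theorem zeroSectionFun_eq {δ : X → ℤ} (hX : Cyc.IsSetup X δ) {L : X.Modules} (hL : PicF.IsInvertible L) (k : ℤ)
    (hdim : ∀ y : X, δ y ≤ k + 1) (s : L.presheaf.obj (Opposite.op ⊤))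
    (hZ : ∀ y : X, (L.presheaf.germ ⊤ y trivial) s ∈
      maximalIdeal (X.presheaf.stalk y) • (⊤ : Submodule (X.presheaf.stalk y) (L.presheaf.stalk y)) → δ y ≤ k)
    (hreg : ∀ y : X, δ y = k → Function.Injective (fun a : X.presheaf.stalk y => a • (L.presheaf.germ ⊤ y trivial) s))
    (x : X) :
    Cyc.zeroSectionFun δ k L s x = Cyc.c1CapFun δ L (Cyc.subschemeFun δ (k + 1) (𝟙 X))
      (fun ξ => Submodule.Quotient.mk ((L.presheaf.germ ⊤ ξ trivial) s)) x := by
  classical
  have hsub : ∀ ξ, Cyc.subschemeFun δ (k + 1) (𝟙 X) ξ = if δ ξ = k + 1 then (FlatDiv.mult X ξ : ℤ) else 0 := fun ξ => by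
    rw [Cyc.subschemeFun]
    split_ifs with h
    · rw [show {z : X | (𝟙 X : X ⟶ X) z = ξ} = {ξ} from Set.ext fun z => by simp]
      exact finsum_mem_singleton
    · rfl
  by_cases hx : δ x = k
  swap
  · rw [Cyc.zeroSectionFun, if_neg hx]
    refine ((finsum_congr fun ξ => ?_).trans finsum_zero).symm
    rw [hsub ξ]
    split_ifs with h
    · rw [Cyc.secDivFun, dif_neg fun hh => hx (by have := hh.2; omega), mul_zero]
    · rw [zero_mul]
  rw [Cyc.zeroSectionFun, if_pos hx]
  obtain ⟨V, e, hxV, he⟩ := H11Ample.exists_gen hL x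
  have ht : ∃ t : L.presheaf.stalk x, Submodule.span (X.presheaf.stalk x) {t} = ⊤ :=
    ⟨L.presheaf.germ V x hxV e, Submodule.eq_top_iff'.mpr fun w => Submodule.mem_span_singleton.mpr ((he x hxV).2 w)⟩
  have hf : ∃ f : X.presheaf.stalk x, (L.presheaf.germ ⊤ x trivial) s = f • Classical.choose ht := by
    obtain ⟨f, hf⟩ := Submodule.mem_span_singleton.mp ((Classical.choose_spec ht).symm ▸ Submodule.mem_top :
      (L.presheaf.germ ⊤ x trivial) s ∈ Submodule.span (X.presheaf.stalk x) {Classical.choose ht})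
    exact ⟨f, hf.symm⟩
  rw [dif_pos ht, dif_pos hf]
  set f := Classical.choose hf
  obtain ⟨u, hu⟩ := (he x hxV).2 (Classical.choose ht)
  obtain ⟨v, hv⟩ := Submodule.mem_span_singleton.mp ((Classical.choose_spec ht).symm ▸ Submodule.mem_top :
    L.presheaf.germ V x hxV e ∈ Submodule.span (X.presheaf.stalk x) {Classical.choose ht})
  have hvu : IsUnit u := IsUnit.of_mul_eq_one_right v ((he x hxV).1 (by
    show (v * u) • L.presheaf.germ V x hxV e = (1 : X.presheaf.stalk x) • L.presheaf.germ V x hxV e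
    rw [mul_smul, show u • L.presheaf.germ V x hxV e = Classical.choose ht from hu, hv, one_smul]))
  have hsa : (L.presheaf.germ ⊤ x trivial) s = (f * u) • L.presheaf.germ V x hxV e := by
    rw [mul_smul, show u • L.presheaf.germ V x hxV e = Classical.choose ht from hu]
    exact Classical.choose_spec hf
  rw [← Ideal.span_singleton_mul_right_unit hvu f]
  generalize f * u = a at hsa ⊢
  have hgen : ∀ z : X, z ⤳ x → z ≠ x → ∀ w : X, w ⤳ z → w = z := fun z hz hne w hw => by
    by_contra hwz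
    have h1 := (hX.2.2 _ _ hz hne).1
    have h2 := (hX.2.2 _ _ hw hwz).1
    have := hdim w
    omega
  have hd : ∀ z : X, z ⤳ x → z ≠ x → δ z = k + 1 := fun z hz hne => by
    have h1 := (hX.2.2 _ _ hz hne).1
    have := hdim z
    omega
  have hsz : ∀ (z : X) (hz : z ⤳ x), (L.presheaf.germ ⊤ z trivial) s =
      X.presheaf.stalkSpecializes hz a • L.presheaf.germ V z (hz.mem_open V.2 hxV) e := fun z hz => by
    rw [← TopCat.Presheaf.germ_stalkSpecializes_apply L.presheaf (U := ⊤) trivial hz s, hsa,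
      C1Api.stalkSpecializes_smul, TopCat.Presheaf.germ_stalkSpecializes_apply]
  have hne : ∀ z (hz : z ⤳ x), z ≠ x → Cyc.specMap x z hz a ≠ 0 := fun z hz hzx h0 => by
    have h1 : X.presheaf.stalkSpecializes hz a ∈ maximalIdeal (X.presheaf.stalk z) :=
      (IsLocalRing.residue_eq_zero_iff _).mp h0
    have h2 := hZ z (by rw [hsz z hz]; exact Submodule.smul_mem_smul h1 trivial)
    have h3 := hd z hz hzx
    omega
  have hregA : IsSMulRegular (X.presheaf.stalk x) a := fun c d hcd => hreg x hx (by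
    show c • _ = d • _
    rw [hsa, smul_smul, smul_smul, show c * a = d * a from by rw [mul_comm c, mul_comm d]; exact hcd])
  have hfin : {z : X | z ⤳ x ∧ z ≠ x}.Finite := by
    have h1 : Module.supportDim (X.presheaf.stalk x) (X.presheaf.stalk x) ≤ 1 := by
      rw [Module.supportDim_self_eq_ringKrullDim]
      exact FlatDiv.ringKrullDim_stalk_le_one x hgen
    refine ((H22Alg.lowPrimes_finite h1).image (X.fromSpecStalk x)).subset ?_
    rintro z ⟨hz, hzx⟩
    refine ⟨⟨RingHom.ker (Cyc.specMap x z hz), GenStalk.isPrime_ker x z hz⟩, ⟨?_, fun e => hzx ?_⟩,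
      GenStalk.fromSpecStalk_eq x z hz⟩
    · rw [Module.mem_support_iff_of_finite, Module.annihilator_eq_bot.mpr inferInstance]
      exact bot_le
    · rw [← GenStalk.fromSpecStalk_eq x z hz, show (⟨RingHom.ker (Cyc.specMap x z hz), GenStalk.isPrime_ker x z hz⟩ :
        PrimeSpectrum (X.presheaf.stalk x)) = IsLocalRing.closedPoint _ from PrimeSpectrum.ext e,
        Scheme.fromSpecStalk_closedPoint]
  let T := hfin.toFinset
  have hT : ∀ z, z ∈ T ↔ z ⤳ x ∧ z ≠ x := fun z => hfin.mem_toFinset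
  rw [length_quot_span x hgen T hT a hregA hne, Cyc.c1CapFun, finsum_eq_sum_of_support_subset _ (s := T) ?_,
    ← Finset.sum_attach T (fun ξ => Cyc.subschemeFun δ (k + 1) (𝟙 X) ξ * Cyc.secDivFun δ L ξ _ x)]
  · refine Finset.sum_congr rfl fun z _ => ?_
    obtain ⟨hz, hzx⟩ := (hT z.1).mp z.2
    have hzd := hd z.1 hz hzx
    rw [hsub, if_pos hzd, hsz z.1 hz, Submodule.Quotient.mk_smul,
      C1Api.secDivFun_gen he δ (hz.mem_open V.2 hxV) (X.presheaf.stalkSpecializes hz a) (hne z.1 hz hzx) hxV,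
      Cyc.divFun, dif_pos ⟨hz, by omega⟩]
    congr 1
    have hdimq : ringKrullDim (Cyc.LocQuot x z.1 hz) ≤ 1 :=
      (ringKrullDim_quotient_le _).trans (FlatDiv.ringKrullDim_stalk_le_one x hgen)
    have h := FlatRat.ordAt_div' x z.1 hz hdimq a 1 (hne z.1 hz hzx) (by rw [map_one]; exact one_ne_zero)
    rw [map_one, div_one, map_one, Ring.ord_one, ENat.toNat_zero, Nat.cast_zero, sub_zero] at h
    exact h.symm
  · intro ξ hξ
    have h1 := C1Api.secDivFun_ne_zero (right_ne_zero_of_mul hξ)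
    refine Finset.mem_coe.mpr ((hT ξ).mpr ⟨h1, fun e => ?_⟩)
    have h0 := left_ne_zero_of_mul hξ
    rw [hsub, ne_eq, ite_eq_right_iff, Classical.not_imp] at h0
    rw [e] at h0
    omega

end Groth.Agent.H3Cyc.ZeroSect
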