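import Groth.Agent.H3Cyc.SpSheaf
import Groth.Agent.H3Cyc.SpPush
import Groth.Agent.H3Cyc.ZeroSect
import Mathlib

/-!
# Specialization of the cycle of a flat closed subscheme
-/

set_option autoImplicit false
set_option linter.style.haveILetI false
set_option linter.unusedSectionVars false
set_option backward.isDefEq.respectTransparency.types false
universe u

open AlgebraicGeometry CategoryTheory CategoryTheory.Limits IsLocalRing TopologicalSpace

namespace Groth.Agent.H3Cyc.SpSub

open SpFun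

theorem finite_maximal_inter {X : Scheme.{u}} [IsLocallyNoetherian X] {V : X.Opens} (hV : IsAffineOpen V) :
    ({z : X | ∀ w : X, w ⤳ z → w = z} ∩ (V : Set X)).Finite := by
  haveI : TopologicalSpace.NoetherianSpace ↥V := H22Alg.CycDiv.noetherianSpace_affine hV
  haveI : QuasiSober ↥V := V.isOpenEmbedding'.quasiSober
  have hfin : (genericPoints ↥V).Finite :=
    genericPoints.finite TopologicalSpace.NoetherianSpace.finite_irreducibleComponents
  refine (hfin.image (fun c : ↥V => c.1)).subset ?_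
  rintro z ⟨hz, hzV⟩
  exact ⟨⟨z, hzV⟩, H17.mem_genericPoints_iff.mpr fun y hy =>
    Subtype.ext (hz _ (hy.map continuous_subtype_val)), rfl⟩

/-- Value of the cycle of a fibre of a closed subscheme. -/
theorem subschemeFun_fibre {W X T : Scheme.{u}} (ι : W ⟶ X) [IsClosedImmersion ι] (j : T ⟶ X) [IsPreimmersion j]
    (δ : T → ℤ) (r : ℤ) (L : W → ℕ∞)
    (hL : ∀ p : ↥(pullback ι j), Module.length ((pullback ι j).presheaf.stalk p) ((pullback ι j).presheaf.stalk p) =
      L (pullback.fst ι j p)) (q : T) :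
    (∀ w, ι w = j q → Cyc.subschemeFun δ r (pullback.snd ι j) q = if δ q = r then ((L w).toNat : ℤ) else 0) ∧
    ((∀ w, ι w ≠ j q) → Cyc.subschemeFun δ r (pullback.snd ι j) q = 0) := by
  have hcomm : ∀ p, ι (pullback.fst ι j p) = j (pullback.snd ι j p) := fun p =>
    congrArg (fun m : pullback ι j ⟶ X => m p) (pullback.condition (f := ι) (g := j))
  refine ⟨fun w hw => ?_, fun h => ?_⟩
  · obtain ⟨p, hp1, hp2⟩ := Scheme.Pullback.exists_preimage_pullback w q hw
    haveI : IsClosedImmersion (pullback.snd ι j) := MorphismProperty.pullback_snd _ _ inferInstance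
    simp only [Cyc.subschemeFun]
    split_ifs with hq
    · rw [show {z : ↥(pullback ι j) | pullback.snd ι j z = q} = {p} from Set.ext fun z =>
        ⟨fun hz => (pullback.snd ι j).isEmbedding.injective ((show pullback.snd ι j z = q from hz).trans hp2.symm),
          fun hz => by rw [Set.mem_singleton_iff.mp hz]; exact hp2⟩, finsum_mem_singleton, hL, hp1]
    · rfl
  · simp only [Cyc.subschemeFun]
    split_ifs
    · refine finsum_mem_eq_zero_of_forall_eq_zero fun p hp => absurd ?_ (h (pullback.fst ι j p))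
      rw [hcomm, show pullback.snd ι j p = q from hp]
    · rfl

variable {R : Type u} [CommRing R] [IsDomain R] [IsDiscreteValuationRing R]
  {X : Scheme.{u}} (a : X ⟶ Spec (CommRingCat.of R)) {W : Scheme.{u}} (ι : W ⟶ X) [IsClosedImmersion ι]

theorem length_genericFibre (p : ↥(pullback ι (a.fiberι (genericPoint ↥(Spec (CommRingCat.of R)))))) :
    Module.length ((pullback ι (a.fiberι _)).presheaf.stalk p) ((pullback ι (a.fiberι _)).presheaf.stalk p) =
      Module.length (W.presheaf.stalk (pullback.fst ι (a.fiberι _) p))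
        (W.presheaf.stalk (pullback.fst ι (a.fiberι _) p)) := by
  haveI : IsOpenImmersion (pullback.fst ι (a.fiberι (genericPoint ↥(Spec (CommRingCat.of R))))) :=
    MorphismProperty.pullback_fst _ _ inferInstance
  exact (GenStalk.length_self_congr
    (asIso ((pullback.fst ι (a.fiberι _)).stalkMap p)).commRingCatIsoToRingEquiv).symm

theorem length_closedFibre {π : R} (hπ : Irreducible π) (p : ↥(pullback ι (a.fiberι (closedPoint R)))) :
    Module.length ((pullback ι (a.fiberι _)).presheaf.stalk p) ((pullback ι (a.fiberι _)).presheaf.stalk p) =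
      Module.length (W.presheaf.stalk (pullback.fst ι (a.fiberι (closedPoint R)) p))
        (W.presheaf.stalk (pullback.fst ι (a.fiberι (closedPoint R)) p) ⧸
          Ideal.span {W.presheaf.germ ⊤ (pullback.fst ι (a.fiberι (closedPoint R)) p) trivial (unif (ι ≫ a) π)}) := by
  let e : pullback ι (a.fiberι (closedPoint R)) ≅ (ι ≫ a).fiber (closedPoint R) :=
    pullbackRightPullbackFstIso a ((Spec (CommRingCat.of R)).fromSpecResidueField (closedPoint R)) ι
  have he : e.hom ≫ (ι ≫ a).fiberι (closedPoint R) = pullback.fst ι (a.fiberι (closedPoint R)) :=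
    pullbackRightPullbackFstIso_hom_fst a ((Spec (CommRingCat.of R)).fromSpecResidueField (closedPoint R)) ι
  have key : ∀ (z : (ι ≫ a).fiber (closedPoint R)),
      Module.length (((ι ≫ a).fiber (closedPoint R)).presheaf.stalk z) (((ι ≫ a).fiber (closedPoint R)).presheaf.stalk z) =
        Module.length (W.presheaf.stalk ((ι ≫ a).fiberι (closedPoint R) z))
          (W.presheaf.stalk ((ι ≫ a).fiberι (closedPoint R) z) ⧸
            Ideal.span {W.presheaf.germ ⊤ ((ι ≫ a).fiberι (closedPoint R) z) trivial (unif (ι ≫ a) π)}) := fun z => by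
    rw [← SpSheaf.ker_closedFiber (ι ≫ a) hπ z]
    let φ := (((ι ≫ a).fiberι (closedPoint R)).stalkMap z).hom
    rw [← GenStalk.length_self_congr (RingHom.quotientKerEquivOfSurjective
      (((ι ≫ a).fiberι (closedPoint R)).stalkMap_surjective z))]
    exact (Module.length_eq_of_surjective (S := W.presheaf.stalk ((ι ≫ a).fiberι (closedPoint R) z))
      (R := W.presheaf.stalk ((ι ≫ a).fiberι (closedPoint R) z) ⧸ RingHom.ker φ)
      (M := W.presheaf.stalk ((ι ≫ a).fiberι (closedPoint R) z) ⧸ RingHom.ker φ) Ideal.Quotient.mk_surjective).symm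
  have h1 : (ι ≫ a).fiberι (closedPoint R) (e.hom p) = pullback.fst ι (a.fiberι (closedPoint R)) p :=
    congrArg (fun m : pullback ι (a.fiberι (closedPoint R)) ⟶ W => m p) he
  rw [GenStalk.length_self_congr (asIso (e.hom.stalkMap p)).commRingCatIsoToRingEquiv.symm, key, h1]

theorem exists_generic' [Flat (ι ≫ a)] {π : R} (hπ : Irreducible π) (w : W) (hw : (ι ≫ a) w = closedPoint R) :
    (∃ z : W, z ⤳ w ∧ (ι ≫ a) z = genericPoint ↥(Spec (CommRingCat.of R))) ∧
      IsSMulRegular (W.presheaf.stalk w) (W.presheaf.germ ⊤ w trivial (unif (ι ≫ a) π)) := by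
  let A := W.presheaf.stalk w
  let t : (Spec (CommRingCat.of R)).presheaf.stalk ((ι ≫ a) w) :=
    (Spec (CommRingCat.of R)).presheaf.germ ⊤ ((ι ≫ a) w) trivial ((Scheme.ΓSpecIso (CommRingCat.of R)).inv π)
  haveI : IsIntegral (Spec (CommRingCat.of R)) := inferInstance
  have ht : t ∈ nonZeroDivisors ((Spec (CommRingCat.of R)).presheaf.stalk ((ι ≫ a) w)) := by
    refine mem_nonZeroDivisors_of_ne_zero fun h0 => ?_
    have h1 := germ_injective_of_isIntegral (Spec (CommRingCat.of R)) ((ι ≫ a) w) (U := ⊤) trivial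
      (h0.trans (map_zero _).symm)
    have h2 := (Scheme.ΓSpecIso (CommRingCat.of R)).commRingCatIsoToRingEquiv.symm.injective
      (h1.trans (map_zero _).symm)
    exact hπ.ne_zero h2
  letI := ((ι ≫ a).stalkMap w).hom.toAlgebra
  haveI : Module.Flat ((Spec (CommRingCat.of R)).presheaf.stalk ((ι ≫ a) w)) A := Flat.stalkMap (ι ≫ a) w
  have hg : ((ι ≫ a).stalkMap w).hom t = W.presheaf.germ ⊤ w trivial (unif (ι ≫ a) π) :=
    Scheme.Hom.germ_stalkMap_apply (ι ≫ a) ⊤ w trivial _
  have hreg : IsSMulRegular A (W.presheaf.germ ⊤ w trivial (unif (ι ≫ a) π)) := by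
    intro u v huv
    refine Module.Flat.isSMulRegular_of_nonZeroDivisors (M := A) ht ?_
    show ((ι ≫ a).stalkMap w).hom t * u = ((ι ≫ a).stalkMap w).hom t * v
    rw [hg]
    exact huv
  refine ⟨?_, hreg⟩
  have hnil : W.presheaf.germ ⊤ w trivial (unif (ι ≫ a) π) ∉ nilradical A := fun hm => by
    obtain ⟨n, hn⟩ := hm
    have h1 := hreg.pow n
    rw [hn] at h1
    exact one_ne_zero (h1 (show (0 : A) • (1 : A) = (0 : A) • (0 : A) by simp))
  rw [nilradical_eq_sInf, Submodule.mem_sInf] at hnil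
  push Not at hnil
  obtain ⟨P, hP, hPm⟩ := hnil
  obtain ⟨h, e⟩ := GenStalk.ker_specMap_fromSpecStalk w (⟨P, hP⟩ : PrimeSpectrum A)
  refine ⟨_, h, (eq_generic_or_closed _).resolve_right fun hc => hPm ?_⟩
  rw [show P = RingHom.ker (Cyc.specMap w _ h) from e, RingHom.mem_ker]
  show W.residue _ (W.presheaf.stalkSpecializes h _) = 0
  rw [TopCat.Presheaf.germ_stalkSpecializes_apply]
  by_contra hne
  exact (evaluation_ne_zero (ι ≫ a) hπ _).mp hne hc

variable [LocallyOfFiniteType a]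

theorem spFun_sub [Flat (ι ≫ a)]
    {δη : ↥(a.fiber (genericPoint ↥(Spec (CommRingCat.of R)))) → ℤ} {δs : ↥(a.fiber (closedPoint R)) → ℤ}
    (hη : Cyc.DeltaCompat (a.fiberToSpecResidueField (genericPoint ↥(Spec (CommRingCat.of R)))) δη (fun _ => 0))
    (hs : Cyc.DeltaCompat (a.fiberToSpecResidueField (closedPoint R)) δs (fun _ => 0))
    (r : ℤ)
    (hdim : ∀ ζ : ↥(a.fiber (genericPoint ↥(Spec (CommRingCat.of R)))),
      a.fiberι (genericPoint ↥(Spec (CommRingCat.of R))) ζ ∈ Set.range ⇑ι → δη ζ ≤ r) :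
    (∀ x : ↥(a.fiber (closedPoint R)), a.fiberι (closedPoint R) x ∈ Set.range ⇑ι → δs x ≤ r) ∧
    Cyc.spFun a (genericPoint ↥(Spec (CommRingCat.of R))) (closedPoint R) δη δs r
        (Cyc.subschemeFun δη r (pullback.snd ι (a.fiberι (genericPoint ↥(Spec (CommRingCat.of R)))))) =
      Cyc.subschemeFun δs r (pullback.snd ι (a.fiberι (closedPoint R))) := by
  classical
  obtain ⟨π, hπ⟩ := IsDiscreteValuationRing.exists_irreducible R
  obtain ⟨δX, hδ⟩ := exists_deltaCompat a (dS R)
  have hX : Cyc.IsSetup X δX := isSetup_of_locallyOfFiniteType a isSetup_spec hδ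
  obtain ⟨δW, hδW, hW'⟩ : ∃ δW : W → ℤ, (∀ w, δW w = δX (ι w)) ∧ Cyc.DeltaCompat ι δW δX :=
    ⟨fun w => δX (ι w), fun _ => rfl, deltaCompat_preimmersion ι δX⟩
  have hW : Cyc.IsSetup W δW := isSetup_of_locallyOfFiniteType ι hX hW'
  haveI := hW.1
  let η : Spec (CommRingCat.of R) := genericPoint ↥(Spec (CommRingCat.of R))
  let a' := ι ≫ a
  have hgen : ∀ z : W, a' z = η → ∃ ζ, a.fiberι η ζ = ι z ∧ δη ζ ≤ r ∧ δW z = δη ζ + 1 := fun z hz => by
    obtain ⟨ζ, hζ⟩ : ι z ∈ Set.range (a.fiberι η) := by rw [Scheme.Hom.range_fiberι]; exact hz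
    exact ⟨ζ, hζ, hdim ζ ⟨z, hζ.symm⟩, by rw [hδW, ← hζ]; exact delta_genericFiber a hδ hη ζ⟩
  have hle : ∀ z : W, δW z ≤ r + 1 := fun z => by
    rcases eq_generic_or_closed (a' z) with h | h
    · obtain ⟨ζ, -, h1, h2⟩ := hgen z h
      omega
    · obtain ⟨⟨w, hwz, hwa⟩, -⟩ := exists_generic' a ι hπ z h
      obtain ⟨ζ, -, h1, h2⟩ := hgen w hwa
      have := H22Alg.DeltaDim.delta_le hW.2.2 hwz
      omega
  have hcl : ∀ z : W, a' z = closedPoint R → δW z ≤ r := fun z hza => by
    obtain ⟨⟨w, hwz, hwa⟩, -⟩ := exists_generic' a ι hπ z hza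
    have hne : w ≠ z := fun e => closed_ne_generic (hza.symm.trans ((congrArg (fun q => a' q) e).symm.trans hwa))
    have := (hW.2.2 w z hwz hne).1
    have := hle w
    omega
  refine ⟨fun x hx => ?_, funext fun x => ?_⟩
  · obtain ⟨w, hw⟩ := hx
    have := hcl w (by show a (ι w) = _; rw [hw]; exact map_fiberι a _ x)
    rwa [hδW, hw, delta_closedFiber a hδ hs] at this
  rw [spFun_eq a hπ hδ hX hη hs]
  let subη := Cyc.subschemeFun δη r (pullback.snd ι (a.fiberι η))
  have hη0 : ∀ ζ, (∀ w, ι w ≠ a.fiberι η ζ) → subη ζ = 0 := fun ζ =>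
    (subschemeFun_fibre ι (a.fiberι η) δη r (fun w => Module.length (W.presheaf.stalk w) (W.presheaf.stalk w))
      (length_genericFibre a ι) ζ).2
  have hηv : ∀ ζ w, ι w = a.fiberι η ζ → δη ζ = r → subη ζ = (FlatDiv.mult W w : ℤ) := fun ζ w hw hd => by
    refine ((subschemeFun_fibre ι (a.fiberι η) δη r (fun w => Module.length (W.presheaf.stalk w) (W.presheaf.stalk w))
      (length_genericFibre a ι) ζ).1 w hw).trans ?_
    rw [if_pos hd]
  obtain ⟨hsv, hs0⟩ := subschemeFun_fibre ι (a.fiberι (closedPoint R)) δs r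
    (fun w => Module.length (W.presheaf.stalk w)
      (W.presheaf.stalk w ⧸ Ideal.span {W.presheaf.germ ⊤ w trivial (unif a' π)}))
    (length_closedFibre a ι hπ) x
  by_cases hx : δs x = r ∧ a.fiberι (closedPoint R) x ∈ Set.range ι
  swap
  · have hz : Cyc.subschemeFun δs r (pullback.snd ι (a.fiberι (closedPoint R))) x = 0 := by
      by_cases hw : a.fiberι (closedPoint R) x ∈ Set.range ι
      · simp only [Cyc.subschemeFun]
        exact if_neg fun h => hx ⟨h, hw⟩
      · exact hs0 fun w hw' => hw ⟨w, hw'⟩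
    rw [hz]
    refine finsum_eq_zero_of_forall_eq_zero fun ζ => ?_
    by_cases h1 : δη ζ = r
    · rw [if_pos h1]
      by_cases hw : ∃ w, ι w = a.fiberι η ζ
      · obtain ⟨w, hw⟩ := hw
        simp only [Cyc.divFun]
        rw [dif_neg fun hh => hx ⟨?_, ?_⟩, mul_zero]
        · have := hh.2
          rw [delta_closedFiber a hδ hs, delta_genericFiber a hδ hη, h1] at this
          omega
        · exact hh.1.mem_closed ι.isClosedEmbedding.isClosed_range ⟨w, hw⟩
      · rw [show Cyc.subschemeFun δη r _ ζ = 0 from hη0 ζ fun w hw' => hw ⟨w, hw'⟩, zero_mul]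
    · rw [if_neg h1, zero_mul]
  obtain ⟨hxr, w₀, hw₀⟩ := hx
  rw [hsv w₀ hw₀, if_pos hxr]
  have hw₀c : a' w₀ = closedPoint R := by show a (ι w₀) = _; rw [hw₀]; exact map_fiberι a _ x
  have hw₀d : δW w₀ = r := by rw [hδW, hw₀, delta_closedFiber a hδ hs, hxr]
  have hpt : ∀ z : W, z ⤳ w₀ → z ≠ w₀ → a' z = η ∧ δW z = r + 1 := fun z hz hne => by
    have h1 := (hW.2.2 z w₀ hz hne).1
    have h2 := hle z
    refine ⟨(eq_generic_or_closed _).resolve_right fun hc => ?_, by omega⟩
    have := hcl z hc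
    omega
  have hmin : ∀ z : W, z ⤳ w₀ → z ≠ w₀ → ∀ w : W, w ⤳ z → w = z := fun z hz hne w hw => by
    by_contra hne'
    have h1 := (hW.2.2 w z hw hne').1
    have h2 := hle w
    have h3 := (hpt z hz hne).2
    omega
  obtain ⟨V, hV, hwV, -⟩ := exists_isAffineOpen_mem_and_subset (show w₀ ∈ (⊤ : W.Opens) from trivial)
  have hTfin : {z : W | z ⤳ w₀ ∧ z ≠ w₀}.Finite :=
    (finite_maximal_inter hV).subset fun z hz => ⟨hmin z hz.1 hz.2, hz.1.mem_open V.2 hwV⟩
  let T := hTfin.toFinset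
  have hT : ∀ z, z ∈ T ↔ z ⤳ w₀ ∧ z ≠ w₀ := fun z => Set.Finite.mem_toFinset _
  have hev : ∀ z (h : z ⤳ w₀), a' z = η →
      Cyc.specMap w₀ z h (W.presheaf.germ ⊤ w₀ trivial (unif a' π)) = uval a' π z := fun z h hz => by
    rw [uval_eq a' (by rw [hz]; exact closed_ne_generic.symm)]
    show W.residue z (W.presheaf.stalkSpecializes h _) = _
    rw [TopCat.Presheaf.germ_stalkSpecializes_apply]
    rfl
  rw [ZeroSect.length_quot_span w₀ hmin T hT _ (exists_generic' a ι hπ w₀ hw₀c).2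
    fun z h hne => by rw [hev z h (hpt z h hne).1]; exact uval_ne_zero a' hπ z]
  let term : W → ℤ := fun z => (FlatDiv.mult W z : ℤ) * Cyc.divFun δW z (uval a' π z) w₀
  have hone : ∀ z ∈ T.attach, (FlatDiv.mult W z.1 : ℤ) *
        ((Ring.ord (Cyc.LocQuot w₀ z.1 ((hT z.1).mp z.2).1) (Ideal.Quotient.mk _
          (W.presheaf.germ ⊤ w₀ trivial (unif a' π)))).toNat : ℤ) = term z.1 := fun z _ => by
    obtain ⟨h, hne⟩ := (hT z.1).mp z.2
    obtain ⟨hza, hzd⟩ := hpt z.1 h hne
    refine congrArg (fun m : ℤ => (FlatDiv.mult W z.1 : ℤ) * m) ?_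
    rw [Cyc.divFun, dif_pos ⟨h, by omega⟩, ← hev z.1 h hza]
    have hd : ringKrullDim (Cyc.LocQuot w₀ z.1 h) ≤ 1 := by
      rw [H22Alg.DeltaDim.eq_ringKrullDim_locQuot hW.2.2 h, show (δW z.1 - δW w₀).toNat = 1 by omega]
      simp
    have h3 := FlatRat.ordAt_div' w₀ z.1 h hd (W.presheaf.germ ⊤ w₀ trivial (unif a' π)) 1
      (by rw [hev z.1 h hza]; exact uval_ne_zero a' hπ z.1) (by simp)
    rw [map_one, div_one, map_one] at h3
    rw [h3, show Ring.ord (Cyc.LocQuot w₀ z.1 h) 1 = 0 by simp [Ring.ord], ENat.toNat_zero, Nat.cast_zero, sub_zero]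
  rw [Finset.sum_congr rfl hone, Finset.sum_attach T term]
  have hdiv : ∀ z : W, Cyc.divFun δX (ι z) (uval a π (ι z)) (a.fiberι (closedPoint R) x) =
      Cyc.divFun δW z (uval a' π z) w₀ := fun z => by
    have hmc : ∀ y, AlgebraicCycle.mapCoeff ι δW δX y = 1 := fun y => by
      rw [AlgebraicCycle.mapCoeff, if_pos (hδW y)]; exact residueDegree_preimmersion ι y
    have h := SpPush.pushDiv_lift ι hW hX hW' z (uval a π (ι z)) (uval_ne_zero a hπ _) (ι w₀)
    rw [hmc, uval_comp ι a π z, Nat.cast_one, one_mul, hw₀] at h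
    rw [← h, PushRat.pushDiv, show ι ⁻¹' {a.fiberι (closedPoint R) x} = {w₀} from Set.ext fun y =>
      ⟨fun hy => ι.isEmbedding.injective ((show ι y = _ from hy).trans hw₀.symm),
        fun hy => by rw [Set.mem_singleton_iff.mp hy]; exact hw₀⟩,
      finsum_mem_singleton, hmc, Nat.cast_one, mul_one]
  refine (finsum_mem_univ _).symm.trans ?_
  let s : Set ↥(a.fiber η) := a.fiberι η ⁻¹' (ι '' (T : Set W))
  have hsfin : s.Finite := (T.finite_toSet.image ι).preimage (a.fiberι η).isEmbedding.injective.injOn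
  rw [finsum_mem_univ, finsum_eq_sum_of_support_subset _ (s := hsfin.toFinset) fun ζ hζ => ?_]
  · symm
    refine Finset.sum_bij (fun z hz => Classical.choose (show ∃ ζ, a.fiberι η ζ = ι z from
      (hgen z (hpt z ((hT z).mp hz).1 ((hT z).mp hz).2).1).imp fun ζ h => h.1))
      (fun z hz => ?_) (fun z hz z' hz' e => ?_) (fun ζ hζ => ?_) (fun z hz => ?_)
    · exact hsfin.mem_toFinset.mpr ⟨z, hz, (Classical.choose_spec (show ∃ ζ, a.fiberι η ζ = ι z from
        (hgen z (hpt z ((hT z).mp hz).1 ((hT z).mp hz).2).1).imp fun ζ h => h.1)).symm⟩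
    · refine ι.isEmbedding.injective ?_
      rw [← Classical.choose_spec (show ∃ ζ, a.fiberι η ζ = ι z from
        (hgen z (hpt z ((hT z).mp hz).1 ((hT z).mp hz).2).1).imp fun ζ h => h.1), e]
      exact Classical.choose_spec (show ∃ ζ, a.fiberι η ζ = ι z' from
        (hgen z' (hpt z' ((hT z').mp hz').1 ((hT z').mp hz').2).1).imp fun ζ h => h.1)
    · obtain ⟨z, hz, hzζ⟩ := hsfin.mem_toFinset.mp hζ
      exact ⟨z, hz, (a.fiberι η).isEmbedding.injective ((Classical.choose_spec (show ∃ ζ, a.fiberι η ζ = ι z from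
        (hgen z (hpt z ((hT z).mp hz).1 ((hT z).mp hz).2).1).imp fun ζ h => h.1)).trans hzζ)⟩
    · have hx' : ∀ ζ, a.fiberι η ζ = ι z → term z = (if δη ζ = r then subη ζ else 0) *
          Cyc.divFun δX (a.fiberι η ζ) (uval a π (a.fiberι η ζ)) (a.fiberι (closedPoint R) x) := fun ζ hζ => by
        have hd : δη ζ = r := by
          have := (hpt z ((hT z).mp hz).1 ((hT z).mp hz).2).2
          rw [hδW, ← hζ, delta_genericFiber a hδ hη] at this
          omega
        rw [if_pos hd, hηv ζ z hζ.symm hd, hζ, hdiv z]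
      exact hx' _ (Classical.choose_spec (show ∃ ζ, a.fiberι η ζ = ι z from
        (hgen z (hpt z ((hT z).mp hz).1 ((hT z).mp hz).2).1).imp fun ζ h => h.1))
  · refine Finset.mem_coe.mpr (hsfin.mem_toFinset.mpr ?_)
    have h1 := left_ne_zero_of_mul hζ
    have h2 := right_ne_zero_of_mul hζ
    obtain ⟨z, hz⟩ : ∃ z, ι z = a.fiberι η ζ := by
      by_contra hn
      push Not at hn
      exact h1 (by rw [show Cyc.subschemeFun δη r (pullback.snd ι (a.fiberι η)) ζ = 0 from hη0 ζ hn]; simp)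
    have hdiv2 : Cyc.divFun δW z (uval a' π z) w₀ ≠ 0 := by
      rw [← hdiv, hz]; exact h2
    have hzw : z ⤳ w₀ := by
      by_contra hn
      exact hdiv2 (by simp only [Cyc.divFun]; rw [dif_neg fun hh => hn hh.1])
    refine ⟨z, (hT z).mpr ⟨hzw, fun e => ?_⟩, hz⟩
    refine generic_not_closed a ζ ?_
    rw [← hz, e]; exact hw₀c

end Groth.Agent.H3Cyc.SpSub
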