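import Groth.Agent.H11Sym.VBundle
import Groth.Agent.H11RelSpec.Basic
import Groth.Agent.H10Coh.SheafHom.Adj
import Groth.Agent.H10Coh.QCohOps
import Groth.Agent.H29Slice.SmoothSection
import Groth.Agent.H13CInt.Spread
import Groth.Agent.H06Mod.StalkExact
import Groth.Prelude.Def_RefFun
import Mathlib

/-!
# Symmetric algebras of split extensions and transposes of internal Homs
-/

set_option autoImplicit false
set_option linter.style.haveILetI false
set_option linter.unusedSectionVars false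
set_option backward.isDefEq.respectTransparency.types false
universe u

open CategoryTheory CategoryTheory.Limits AlgebraicGeometry Opposite TopologicalSpace TensorProduct MonoidalCategory
open Groth.Agent

noncomputable section

namespace Groth.Agent.H3Cyc.SymSplit

open Groth.Agent.H10Coh.SheafHom Groth.Agent.H16Derived.KFlat.Stalk Groth.Agent.H29Ref

section conj

variable {X : Scheme.{u}} {F F' N G : X.Modules}

theorem map_tensorSect_left (a : F' ⟶ F) (U : X.Opens) (m : Γ(F', U)) (n : Γ(N, U)) :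
    (((DCoh.tensorBi (X := X)).map a).app N).app U (tensorSect U m n) = tensorSect U (a.app U m) n := by
  have h := (PresheafOfModules.sheafificationAdjunction (R := X.ringCatSheaf) (𝟙 X.ringCatSheaf.obj)).unit.naturality
    ((DCoh.toP (X := X)).map a ▷ (DCoh.toP (X := X)).obj N)
  exact (congr($(congr(PresheafOfModules.Hom.app $h (op U))).hom
    ((show (CohB1.toPMod F').obj (op U) from m) ⊗ₜ (show (CohB1.toPMod N).obj (op U) from n)))).symm

theorem curry_natural_left (a : F' ⟶ F) (φ : tensor F N ⟶ G) :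
    curry (((DCoh.tensorBi (X := X)).map a).app N ≫ φ) = curry φ ≫ RefFun.homComap a G :=
  Scheme.Modules.hom_ext _ _ fun U => ConcreteCategory.hom_ext _ _ fun n => by
    refine Subtype.ext (funext fun x => LinearMap.ext fun v => ?_)
    obtain ⟨V, hV, m, rfl⟩ := TopCat.Presheaf.exists_germ_eq F'.presheaf v
    rw [← F'.presheaf.germ_res_apply (homOfLE (inf_le_left : V ⊓ U ≤ V)) x.1 ⟨hV, x.2⟩]
    generalize F'.presheaf.map (homOfLE (inf_le_left : V ⊓ U ≤ V)).op m = m'
    show RefHull.stalkMapₗ _ x.1 (pair F' N x.1 _ (N.presheaf.germ U x.1 x.2 n)) =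
      RefHull.stalkMapₗ φ x.1 (pair F N x.1 (RefHull.stalkMapₗ a x.1 _) (N.presheaf.germ U x.1 x.2 n))
    rw [← N.presheaf.germ_res_apply (homOfLE (inf_le_right : V ⊓ U ≤ U)) x.1 ⟨hV, x.2⟩, pair_germ,
      RefHull.stalkMapₗ_germ a, pair_germ, RefHull.stalkMapₗ_germ, RefHull.stalkMapₗ_germ]
    exact congrArg (G.presheaf.germ _ x.1 _) (congrArg (φ.app (V ⊓ U)) (map_tensorSect_left a (V ⊓ U) m' _))

/-- The transpose of `a ⊗ -` under the adjunctions is precomposition with `a`. -/
theorem conj_homShIso (a : F' ⟶ F) (G : X.Modules) [DCoh.HasSheafHom F] [DCoh.HasSheafHom F'] :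
    ((conjugateEquiv (DCoh.sheafHomAdj F) (DCoh.sheafHomAdj F')) ((DCoh.tensorBi (X := X)).map a)).app G ≫
        (homShIso F' G).hom =
      (homShIso F G).hom ≫ RefFun.homComap a G := by
  have h1 : (homShIso F' G).hom =
      curry (((DCoh.sheafHomAdj F').homEquiv _ _).symm (𝟙 ((DCoh.sheafHom F').obj G))) := rfl
  have h2 : (homShIso F G).hom =
      curry (((DCoh.sheafHomAdj F).homEquiv _ _).symm (𝟙 ((DCoh.sheafHom F).obj G))) := rfl
  rw [h1, h2, ← curry_natural, ← Adjunction.homEquiv_naturality_left_symm, Category.comp_id,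
    ← curry_natural_left, Adjunction.homEquiv_counit, Adjunction.homEquiv_counit, CategoryTheory.Functor.map_id, Category.id_comp,
    conjugateEquiv_counit]

end conj

section split

open H11Sym

variable {S : Scheme.{u}} {E M E' : S.Modules} {u : M ⟶ E} {a' : E ⟶ E'} {w : u ≫ a' = 0}
  (hex : (ShortComplex.mk u a' w).ShortExact) {A A' : RelSpec.QCAlg S} {j : E ⟶ A.toModule} {j' : E' ⟶ A'.toModule}
  (hA : IsAffSym j) (hA' : IsAffSym j') (φ : A ⟶ A') (hφ : j ≫ RelSpec.QCAlg.Hom.toModuleMap φ = a' ≫ j')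

include hex hA hA' hφ in
/-- Over an affine open where the extension splits the symmetric algebra is a polynomial algebra. -/
theorem exists_polyEquiv {U : S.Opens} (hU : IsAffineOpen U) (hsurj : Function.Surjective (a'.app U))
    [Module.Projective Γ(S, U) Γ(E', U)] {e : ℕ} (k : Module.Basis (Fin e) Γ(S, U) Γ(M, U)) :
    ∃ η : A.presheaf.obj (op U) ≃+* MvPolynomial (Fin e) (A'.presheaf.obj (op U)),
      (∀ r, η (astr A U r) = MvPolynomial.C (astr A' U r)) ∧
      (∀ l, η (japp j U (u.app U (k l))) = MvPolynomial.X l) ∧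
      ∀ x, (φ.hom.app (op U)).hom x = MvPolynomial.constantCoeff (η x) := by
  obtain ⟨hinj, hexact⟩ := H06Mod.exact_sections _ hex U
  let uₗ : Γ(M, U) →ₗ[Γ(S, U)] Γ(E, U) :=
    { toFun := fun m => u.app U m, map_add' := map_add _, map_smul' := fun r m => Scheme.Modules.Hom.app_smul u r m }
  let aₗ : Γ(E, U) →ₗ[Γ(S, U)] Γ(E', U) :=
    { toFun := fun m => a'.app U m, map_add' := map_add _, map_smul' := fun r m => Scheme.Modules.Hom.app_smul a' r m }
  obtain ⟨s, hs⟩ := Module.projective_lifting_property aₗ LinearMap.id hsurj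
  have hs' : ∀ q, a'.app U (s q) = q := fun q => DFunLike.congr_fun hs q
  have hua : ∀ m, a'.app U (u.app U m) = 0 := fun m =>
    ConcreteCategory.congr_hom (congrArg (fun f => Scheme.Modules.Hom.app f U) w) m
  have hr : ∀ q, q - s (a'.app U q) ∈ LinearMap.range uₗ := fun q => by
    obtain ⟨m, hm⟩ := hexact (q - s (a'.app U q)) (by rw [map_sub, hs', sub_self])
    exact ⟨m, hm⟩
  let r : Γ(E, U) →ₗ[Γ(S, U)] Γ(M, U) :=
    (LinearEquiv.ofInjective uₗ hinj).symm.toLinearMap.comp
      ((LinearMap.id - s.comp aₗ).codRestrict _ hr)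
  have hur : ∀ q, u.app U (r q) = q - s (a'.app U q) := fun q =>
    congrArg Subtype.val ((LinearEquiv.ofInjective uₗ hinj).apply_symm_apply ⟨_, hr q⟩)
  have hru : ∀ m, r (u.app U m) = m := fun m => hinj (by rw [hur, hua, map_zero, sub_zero])
  let R := MvPolynomial (Fin e) (A'.presheaf.obj (op U))
  obtain ⟨g, hg₀, hg₁⟩ := hA.exists_lift hU ((MvPolynomial.C : _ →+* R).comp (astr A' U))
    (AddMonoidHom.mk' (fun q : Γ(E, U) => MvPolynomial.C (japp j' U (a'.app U q)) +
        ∑ l, MvPolynomial.C (astr A' U (k.repr (r q) l)) * (MvPolynomial.X l : R)) fun q q' => by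
      rw [show a'.app U (q + q') = a'.app U q + a'.app U q' from map_add _ q q', japp_add]
      simp only [map_add, Finsupp.add_apply, add_mul, Finset.sum_add_distrib]
      ring) (fun c q => by
    simp only [AddMonoidHom.mk'_apply, RingHom.comp_apply]
    rw [Scheme.Modules.Hom.app_smul, japp_smul]
    simp only [map_smul, Finsupp.smul_apply, smul_eq_mul, map_mul, mul_add, Finset.mul_sum, mul_assoc])
  obtain ⟨h, hh₀, hh₁⟩ := hA'.exists_lift hU (astr A U) (AddMonoidHom.mk' (fun q : Γ(E', U) => japp j U (s q))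
    fun q q' => by rw [map_add, japp_add]) (fun c q => by simp only [AddMonoidHom.mk'_apply, map_smul, japp_smul])
  simp only [AddMonoidHom.mk'_apply, RingHom.comp_apply] at hg₀ hg₁ hh₁
  let f : R →+* A.presheaf.obj (op U) := MvPolynomial.eval₂Hom h fun l => japp j U (u.app U (k l))
  have hgx : ∀ l, g (japp j U (u.app U (k l))) = MvPolynomial.X l := fun l => by
    rw [hg₁, hua, hru, k.repr_self, show japp j' U (0 : Γ(E', U)) = 0 from map_zero (AddMonoidHom.mk' (japp j' U)
      (japp_add j' U)), map_zero, zero_add, Finset.sum_eq_single l (fun b _ hb => by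
        rw [Finsupp.single_eq_of_ne' hb.symm, map_zero, map_zero, zero_mul]) (by simp), Finsupp.single_eq_same,
      map_one, map_one, one_mul]
  have hfg : f.comp g = RingHom.id _ := hA.ringHom_ext hU (fun c => by
      rw [RingHom.comp_apply, hg₀, RingHom.id_apply]
      exact (MvPolynomial.eval₂Hom_C _ _ _).trans (hh₀ c)) fun q => by
      rw [RingHom.comp_apply, hg₁, RingHom.id_apply, map_add, map_sum,
        show f (MvPolynomial.C (japp j' U (a'.app U q))) = _ from
          (MvPolynomial.eval₂Hom_C _ _ _).trans (hh₁ _),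
        Finset.sum_congr rfl fun l _ => (map_mul f _ _).trans (congrArg₂ (· * ·)
          ((MvPolynomial.eval₂Hom_C _ _ _).trans (hh₀ (k.repr (r q) l))) (MvPolynomial.eval₂Hom_X' _ _ l))]
      rw [Finset.sum_congr rfl fun l _ => (japp_smul j U (k.repr (r q) l) (u.app U (k l))).symm]
      have hsum : ∀ t : Finset (Fin e), ∑ l ∈ t, japp j U ((k.repr (r q) l) • u.app U (k l)) =
          japp j U (u.app U (∑ l ∈ t, (k.repr (r q) l) • k l)) := fun t => by
        rw [map_sum]
        simp only [Scheme.Modules.Hom.app_smul u]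
        exact (map_sum (AddMonoidHom.mk' (japp j U) (japp_add j U)) _ _).symm
      rw [hsum, k.sum_repr, hur, ← japp_add, add_sub_cancel]
  have hgf : g.comp f = RingHom.id _ := MvPolynomial.ringHom_ext (fun c => by
      rw [RingHom.comp_apply, MvPolynomial.eval₂Hom_C, RingHom.id_apply]
      refine RingHom.congr_fun (f := g.comp h) (hA'.ringHom_ext hU (fun c => ?_) fun q => ?_) c
      · rw [RingHom.comp_apply, hh₀, hg₀]
      · rw [RingHom.comp_apply, hh₁, hg₁, hs']
        have h0 : r (s q) = 0 := hinj (by rw [hur, hs', sub_self, map_zero])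
        simp [h0]) fun l => by
      rw [RingHom.comp_apply, MvPolynomial.eval₂Hom_X', hgx, RingHom.id_apply]
  refine ⟨RingEquiv.ofRingHom g f hgf hfg, hg₀, hgx, fun x => ?_⟩
  refine RingHom.congr_fun (f := (φ.hom.app (op U)).hom) (g := MvPolynomial.constantCoeff.comp g)
    (hA.ringHom_ext hU (fun c => ?_) fun q => ?_) x
  · rw [RingHom.comp_apply, hg₀, MvPolynomial.constantCoeff_C]
    exact ConcreteCategory.congr_hom (NatTrans.congr_app φ.comm (op U)) c
  · rw [RingHom.comp_apply, hg₁, map_add, MvPolynomial.constantCoeff_C, map_sum]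
    simp only [map_mul, MvPolynomial.constantCoeff_X, mul_zero, Finset.sum_const_zero, add_zero]
    exact congrArg (fun f : E ⟶ A'.toModule => japp f U q) hφ

end split

section gamma

variable {S : Scheme.{u}}

theorem gammaAff_specMap {A B : RelSpec.QCAlg S} (φ : A ⟶ B) (U : S.Opens) (hU : IsAffineOpen U)
    (e : B.π ⁻¹ᵁ U ≤ RelSpec.QCAlg.specMap φ ⁻¹ᵁ (A.π ⁻¹ᵁ U)) :
    (RelSpec.QCAlg.specMap φ).appLE (A.π ⁻¹ᵁ U) (B.π ⁻¹ᵁ U) e ≫ B.gammaAff U hU =
      A.gammaAff U hU ≫ φ.hom.app (op U) := by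
  simp only [RelSpec.QCAlg.gammaAff]
  rw [Scheme.Hom.appLE_comp_appLE_assoc]
  have h : ∀ (f : Spec (B.presheaf.obj (op U)) ⟶ A.spec) (_ : f = Spec.map (φ.hom.app (op U)) ≫ A.ι U hU)
      (e' : ⊤ ≤ f ⁻¹ᵁ (A.π ⁻¹ᵁ U)), f.appLE (A.π ⁻¹ᵁ U) ⊤ e' ≫ (Scheme.ΓSpecIso _).hom =
        ((A.ι U hU).appLE (A.π ⁻¹ᵁ U) ⊤ (A.top_le_preimage U hU) ≫ (Scheme.ΓSpecIso _).hom) ≫
          φ.hom.app (op U) := by
    rintro f rfl e'
    rw [← Scheme.Hom.appLE_comp_appLE (Spec.map (φ.hom.app (op U))) (A.ι U hU) (A.π ⁻¹ᵁ U) ⊤ ⊤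
      (A.top_le_preimage U hU) le_top, Category.assoc, Category.assoc,
      ← Scheme.ΓSpecIso_naturality]
    congr 1
  exact h _ (RelSpec.QCAlg.ι_specMap U hU φ) _

end gamma

section loc

open RingTheory.Sequence H11Sym

theorem ker_constantCoeff (R : Type u) [CommRing R] (e : ℕ) :
    RingHom.ker (MvPolynomial.constantCoeff : MvPolynomial (Fin e) R →+* R) =
      Ideal.span (Set.range MvPolynomial.X) := by
  ext x
  rw [← Set.image_univ, MvPolynomial.mem_ideal_span_X_image, RingHom.mem_ker]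
  constructor
  · intro h m hm
    by_contra hne
    have hm0 : m = 0 := Finsupp.ext fun i => by_contra fun h' => hne ⟨i, trivial, h'⟩
    rw [MvPolynomial.mem_support_iff, hm0] at hm
    exact hm h
  · intro h
    by_contra hne
    obtain ⟨i, -, hi⟩ := h 0 (MvPolynomial.mem_support_iff.mpr hne)
    exact hi rfl

/-- Weakly regular sequences on quotient rings along flat maps. -/
theorem isWeaklyRegular_quot_map {B T : Type u} [CommRing B] [CommRing T] [Algebra B T] [Module.Flat B T]
    (J : Ideal B) (l : List B) (h : IsWeaklyRegular (B ⧸ J) l) :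
    IsWeaklyRegular (T ⧸ J.map (algebraMap B T)) (l.map (algebraMap B T)) :=
  ((Algebra.TensorProduct.quotIdealMapEquivTensorQuot T J).toLinearEquiv.isWeaklyRegular_congr _).mpr
    (IsWeaklyRegular.of_flat_of_isBaseChange (TensorProduct.isBaseChange B (B ⧸ J) T) h)

theorem isWeaklyRegular_quot_of_surjective {B T : Type u} [CommRing B] [CommRing T] (f : B →+* T)
    (hf : Function.Surjective f) {J : Ideal B} (hk : RingHom.ker f = J) (l : List B)
    (h : IsWeaklyRegular T (l.map f)) : IsWeaklyRegular (B ⧸ J) l := by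
  subst hk
  letI := f.toAlgebra
  let e' : (B ⧸ RingHom.ker f) ≃ₗ[B] T :=
    (Ideal.quotientKerAlgEquivOfSurjective (f := Algebra.ofId B T) hf).toLinearEquiv
  rw [e'.isWeaklyRegular_congr, ← isWeaklyRegular_map_algebraMap_iff T]
  exact h

/-- The variables of a polynomial algebra are regular modulo constants. -/
theorem isWeaklyRegular_of_polyEquiv {R B B' : Type u} [CommRing R] [CommRing B] [CommRing B'] (α : R →+* B)
    (α' : R →+* B') {e : ℕ} (η : B ≃+* MvPolynomial (Fin e) B') (hα : ∀ r, η (α r) = MvPolynomial.C (α' r))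
    (x : Fin e → B) (hx : ∀ l, η (x l) = MvPolynomial.X l) (p : Ideal R) :
    IsWeaklyRegular (B ⧸ p.map α) (List.ofFn x) := by
  let mk := MvPolynomial.map (σ := Fin e) (Ideal.Quotient.mk (p.map α'))
  let f : B →+* MvPolynomial (Fin e) (B' ⧸ p.map α') := mk.comp η.toRingHom
  have hf : Function.Surjective f :=
    (MvPolynomial.map_surjective _ Ideal.Quotient.mk_surjective).comp η.surjective
  have hfk : RingHom.ker f = p.map α := by
    show RingHom.ker (mk.comp η.toRingHom) = p.map α
    rw [← RingHom.comap_ker, MvPolynomial.ker_map, Ideal.mk_ker, Ideal.map_map, RingEquiv.toRingHom_eq_coe,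
      Ideal.comap_coe, ← Ideal.map_symm η, ← Ideal.map_coe, Ideal.map_map]
    exact congrArg (Ideal.map · p) (RingHom.ext fun r => η.symm_apply_eq.mpr (hα r).symm)
  refine isWeaklyRegular_quot_of_surjective f hf hfk _ ?_
  rw [List.map_ofFn]
  have h1 := H29Slice.isWeaklyRegular_X_append (B' ⧸ p.map α') e (rs := []) (IsWeaklyRegular.nil _ _)
  rw [List.map_nil, List.append_nil] at h1
  rw [show (⇑f ∘ x) = fun l => MvPolynomial.X l from funext fun l =>
    (congrArg mk (hx l)).trans (MvPolynomial.map_X _ _)]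
  exact h1

variable {S : Scheme.{u}} {E M E' : S.Modules} {u : M ⟶ E} {a' : E ⟶ E'} {w : u ≫ a' = 0}
  (hex : (ShortComplex.mk u a' w).ShortExact) {A A' : RelSpec.QCAlg S} {j : E ⟶ A.toModule} {j' : E' ⟶ A'.toModule}
  (hA : IsAffSym j) (hA' : IsAffSym j') (φ : A ⟶ A') (hφ : j ≫ RelSpec.QCAlg.Hom.toModuleMap φ = a' ≫ j')

include hex hA hA' hφ in
/-- The zero section of a split bundle is cut out by the fibre coordinates, which form regular sequences on the
fibres. -/
theorem exists_coords [IsClosedImmersion (RelSpec.QCAlg.specMap φ)] {U : S.Opens} (hU : IsAffineOpen U)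
    (hsurj : Function.Surjective (a'.app U))
    [Module.Projective Γ(S, U) Γ(E', U)] {e : ℕ} (k : Module.Basis (Fin e) Γ(S, U) Γ(M, U)) :
    ∃ x : Fin e → Γ(A.spec, A.π ⁻¹ᵁ U), (∀ l, A.gammaAff U hU (x l) = japp j U (u.app U (k l))) ∧
      ∀ (v : A.spec) (hv : v ∈ A.π ⁻¹ᵁ U),
        ((∀ l, A.spec.presheaf.germ _ v hv (x l) ∈ IsLocalRing.maximalIdeal (A.spec.presheaf.stalk v)) →
          v ∈ Set.range (RelSpec.QCAlg.specMap φ)) ∧
        (∀ (v' : A'.spec) (h : RelSpec.QCAlg.specMap φ v' = v),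
          RingHom.ker ((A.spec.presheaf.stalkCongr (.of_eq h.symm)).hom ≫
            (RelSpec.QCAlg.specMap φ).stalkMap v').hom =
              Ideal.span (Set.range fun l => A.spec.presheaf.germ _ v hv (x l))) ∧
        IsWeaklyRegular (A.spec.presheaf.stalk v ⧸
            (IsLocalRing.maximalIdeal (S.presheaf.stalk (A.π v))).map (A.π.stalkMap v).hom)
          (List.ofFn fun l => A.spec.presheaf.germ _ v hv (x l)) := by
  obtain ⟨η, hη₀, hη₁, hη₂⟩ := exists_polyEquiv hex hA hA' φ hφ hU hsurj k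
  haveI := H11RelSpec.isIso_gammaAff A U hU
  let γ : Γ(A.spec, A.π ⁻¹ᵁ U) ≃+* A.presheaf.obj (op U) :=
    (asIso (A.gammaAff U hU)).commRingCatIsoToRingEquiv
  refine ⟨fun l => γ.symm (japp j U (u.app U (k l))), fun l => γ.apply_symm_apply _, fun v hv => ?_⟩
  have hW : IsAffineOpen (A.π ⁻¹ᵁ U) := hU.preimage A.π
  let i := RelSpec.QCAlg.specMap φ
  have hiW : A'.π ⁻¹ᵁ U = i ⁻¹ᵁ (A.π ⁻¹ᵁ U) := by
    rw [← Scheme.Hom.comp_preimage, RelSpec.QCAlg.specMap_π]
  have hker : i.ker.ideal ⟨_, hW⟩ =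
      Ideal.span (Set.range fun l => γ.symm (japp j U (u.app U (k l)))) := by
    rw [Scheme.Hom.ker_apply]
    haveI := H11RelSpec.isIso_gammaAff A' U hU
    let γ' : Γ(A'.spec, i ⁻¹ᵁ (A.π ⁻¹ᵁ U)) →+* A'.presheaf.obj (op U) :=
      (A'.spec.presheaf.map (eqToHom hiW).op ≫ A'.gammaAff U hU).hom
    have hγ' : Function.Injective γ' := (ConcreteCategory.bijective_of_isIso
      (A'.spec.presheaf.map (eqToHom hiW).op ≫ A'.gammaAff U hU)).1
    have hnat : ∀ c, γ' (i.app (A.π ⁻¹ᵁ U) c) = MvPolynomial.constantCoeff (η (γ c)) := fun c => by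
      rw [← hη₂]
      refine Eq.trans ?_ (ConcreteCategory.congr_hom (gammaAff_specMap φ U hU hiW.le) c)
      rfl
    ext c
    rw [RingHom.mem_ker, ← hγ'.eq_iff, map_zero, hnat, ← RingHom.mem_ker, ker_constantCoeff]
    show c ∈ Ideal.comap (γ.trans η).toRingHom (Ideal.span (Set.range MvPolynomial.X)) ↔ _
    refine (SetLike.ext_iff.mp ?_ c)
    refine (Ideal.map_symm (γ.trans η)).symm.trans ((Ideal.map_span _ _).trans ?_)
    rw [← Set.range_comp]
    refine congrArg Ideal.span (congrArg Set.range (funext fun l => ?_))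
    refine (γ.trans η).symm_apply_eq.mpr ?_
    rw [RingEquiv.trans_apply, γ.apply_symm_apply, hη₁]
  refine ⟨fun hm => ?_, fun v' h => ?_, ?_⟩
  · have h1 : v ∈ i.ker.support := by
      rw [Scheme.IdealSheafData.mem_support_iff_of_mem (U := ⟨_, hW⟩) hv, Scheme.mem_zeroLocus_iff, hker]
      intro f hf hfv
      rw [Scheme.mem_basicOpen _ _ _ hv] at hfv
      refine (IsLocalRing.mem_maximalIdeal _).mp ?_ hfv
      exact (Ideal.span_le.mpr (by rintro _ ⟨l, rfl⟩; exact hm l) : Ideal.span _ ≤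
        (IsLocalRing.maximalIdeal _).comap (A.spec.presheaf.germ _ v hv).hom) hf
    rw [← SetLike.mem_coe, Scheme.Hom.support_ker] at h1
    exact (i.isClosedEmbedding.isClosed_range.closure_eq).le h1
  · subst h
    have h1 := H13CInt.ker_stalkMap i v' ⟨_, hW⟩ hv
    rw [hker, Ideal.map_span, ← Set.range_comp] at h1
    simpa [i, Function.comp_def] using h1
  · let p : Ideal Γ(S, U) := (hU.primeIdealOf ⟨A.π v, hv⟩).asIdeal
    let J : Ideal (A.presheaf.obj (op U)) := p.map (astr A U)
    have hJ : IsWeaklyRegular (A.presheaf.obj (op U) ⧸ J) (List.ofFn fun l => japp j U (u.app U (k l))) :=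
      isWeaklyRegular_of_polyEquiv (astr A U) (astr A' U) η hη₀ _ hη₁ p
    let g : A.presheaf.obj (op U) →+* A.spec.presheaf.stalk v :=
      (A.spec.presheaf.germ _ v hv).hom.comp γ.symm.toRingHom
    letI := g.toAlgebra
    haveI : Module.Flat (A.presheaf.obj (op U)) (A.spec.presheaf.stalk v) := by
      refine RingHom.Flat.comp (f := γ.symm.toRingHom) (RingHom.Flat.of_bijective γ.symm.bijective) ?_
      letI := TopCat.Presheaf.algebra_section_stalk A.spec.presheaf (⟨v, hv⟩ : ↥(A.π ⁻¹ᵁ U))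
      haveI := hW.isLocalization_stalk ⟨v, hv⟩
      exact RingHom.flat_algebraMap_iff.mpr
        (IsLocalization.flat _ (hW.primeIdealOf ⟨v, hv⟩).asIdeal.primeCompl)
    have h2 := isWeaklyRegular_quot_map (T := A.spec.presheaf.stalk v) J _ hJ
    rw [List.map_ofFn] at h2
    have hJm : J.map g = (IsLocalRing.maximalIdeal (S.presheaf.stalk (A.π v))).map (A.π.stalkMap v).hom := by
      letI := TopCat.Presheaf.algebra_section_stalk S.presheaf (⟨A.π v, hv⟩ : U)
      haveI := hU.isLocalization_stalk ⟨A.π v, hv⟩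
      rw [← IsLocalization.AtPrime.map_eq_maximalIdeal p (S.presheaf.stalk (A.π v)), Ideal.map_map, Ideal.map_map]
      refine congrArg (Ideal.map · p) (RingHom.ext fun r => ?_)
      show A.spec.presheaf.germ _ v hv (γ.symm (astr A U r)) = A.π.stalkMap v (S.presheaf.germ U (A.π v) hv r)
      rw [Scheme.Hom.germ_stalkMap_apply]
      refine congrArg _ (γ.symm_apply_eq.mpr ?_)
      exact (ConcreteCategory.congr_hom (A.π_app_gammaAff U hU) r).symm
    exact ((Submodule.quotEquivOfEq _ _ (by exact hJm)).isWeaklyRegular_congr _).mp h2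

end loc

end Groth.Agent.H3Cyc.SymSplit
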