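import Groth.Agent.H3CAlg.Tame.DvrNorm
import Groth.Agent.S1850
import Mathlib

/-!
# The tame symbol on the fraction field of a one-dimensional local domain
-/

set_option autoImplicit false
set_option linter.style.haveILetI false
set_option linter.unusedSectionVars false
universe u

open IsLocalRing CycAlg
open scoped nonZeroDivisors

namespace Groth.Agent.H3Cyc.TameFrac

open H3CAlg.Tame

/-- The tame symbol is invariant under isomorphisms. -/
theorem tameSymbol_ringEquiv {L L' : Type u} [CommRing L] [CommRing L'] [IsNoetherianRing L] [IsNoetherianRing L']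
    [IsLocalRing L] [IsLocalRing L'] (e : L ≃+* L') (hL : ringKrullDim L = 1) {a b : L} (ha : a ∈ L⁰) (hb : b ∈ L⁰) :
    ResidueField.map (e : L →+* L') (tameSymbol L a b) = tameSymbol L' (e a) (e b) := by
  letI := e.toRingHom.toAlgebra
  haveI : IsLocalHom (algebraMap L L') := ⟨fun r hr => (isUnit_map_iff e r).mp hr⟩
  haveI : Module.Flat L L' := Module.Flat.of_linearEquiv
    (LinearEquiv.ofBijective (Algebra.linearMap L L') e.bijective).symm
  have hL' : ringKrullDim L' = 1 := by rw [← ringKrullDim_eq_of_ringEquiv e, hL]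
  have h := S1850.result L L' hL hL' a b ha hb
  have hm : (maximalIdeal L).map (algebraMap L L') = maximalIdeal L' :=
    IsLocalRing.map_maximalIdeal_of_surjective _ e.surjective
  rw [hm] at h
  haveI : IsSimpleModule L' (L' ⧸ maximalIdeal L') :=
    isSimpleModule_iff_isCoatom.mpr (Ideal.isMaximal_def.mp inferInstance)
  rw [Module.length_eq_one (R := L') (M := L' ⧸ maximalIdeal L'), ENat.toNat_one, pow_one] at h
  exact h

variable (A : Type u) [CommRing A] [IsLocalRing A] {K : Type u} [Field K] [Algebra A K] [IsFractionRing A K]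

/-- The tame symbol of `a / b` and `c / d`. -/
noncomputable def quot4 (a b c d : A) : ResidueField A :=
  tameSymbol A a c * tameSymbol A b d * (tameSymbol A a d * tameSymbol A b c)⁻¹

/-- The tame symbol of two elements of the fraction field. -/
noncomputable def tsym (f g : K) : ResidueField A :=
  quot4 A (IsLocalization.sec A⁰ f).1 ((IsLocalization.sec A⁰ f).2 : A)
    (IsLocalization.sec A⁰ g).1 ((IsLocalization.sec A⁰ g).2 : A)

variable {A}

theorem sec_fst_mem [IsDomain A] {f : K} (hf : f ≠ 0) : (IsLocalization.sec A⁰ f).1 ∈ A⁰ := by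
  refine mem_nonZeroDivisors_of_ne_zero fun h0 => hf ?_
  have h := IsLocalization.sec_spec A⁰ f
  rw [h0, map_zero] at h
  exact (mul_eq_zero.mp h).resolve_right ((IsLocalization.map_units K (IsLocalization.sec A⁰ f).2).ne_zero)

variable [IsDomain A] [IsNoetherianRing A]

theorem tameSymbol_ne_zero (hA : ringKrullDim A = 1) {a b : A} (ha : a ∈ A⁰) (hb : b ∈ A⁰) : tameSymbol A a b ≠ 0 :=
  (S1848.result A hA).1 a b ha hb

omit [IsDomain A] in
theorem cross (hA : ringKrullDim A = 1) {a b a' b' c : A} (ha : a ∈ A⁰) (hb : b ∈ A⁰) (ha' : a' ∈ A⁰) (hb' : b' ∈ A⁰)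
    (hc : c ∈ A⁰) (h : a * b' = a' * b) :
    tameSymbol A a c * tameSymbol A b' c = tameSymbol A a' c * tameSymbol A b c ∧
      tameSymbol A c a * tameSymbol A c b' = tameSymbol A c a' * tameSymbol A c b := by
  constructor
  · rw [← tameSymbol_mul_left hA ha hb' hc, ← tameSymbol_mul_left hA ha' hb hc, h]
  · rw [← tameSymbol_mul_right hA hc ha hb', ← tameSymbol_mul_right hA hc ha' hb, h]

theorem quot4_congr (hA : ringKrullDim A = 1) {a b c d a' b' c' d' : A} (ha : a ∈ A⁰) (hb : b ∈ A⁰) (hc : c ∈ A⁰)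
    (hd : d ∈ A⁰) (ha' : a' ∈ A⁰) (hb' : b' ∈ A⁰) (hc' : c' ∈ A⁰) (hd' : d' ∈ A⁰)
    (h : a * b' = a' * b) (h' : c * d' = c' * d) :
    quot4 A a b c d = quot4 A a' b' c' d' := by
  have n := @tameSymbol_ne_zero A _ _ _ _ hA
  obtain ⟨e1, -⟩ := cross hA ha hb ha' hb' hc h
  obtain ⟨e2, -⟩ := cross hA ha hb ha' hb' hd h
  obtain ⟨-, e3⟩ := cross hA hc hd hc' hd' ha' h'
  obtain ⟨-, e4⟩ := cross hA hc hd hc' hd' hb' h'
  have h12 : quot4 A a b c d = quot4 A a' b' c d := by
    simp only [quot4]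
    have := n ha hd; have := n hb hc; have := n ha' hd; have := n hb' hc
    field_simp
    calc tameSymbol A a c * tameSymbol A b d * tameSymbol A a' d * tameSymbol A b' c
        = (tameSymbol A a c * tameSymbol A b' c) * (tameSymbol A a' d * tameSymbol A b d) := by ring
      _ = (tameSymbol A a' c * tameSymbol A b c) * (tameSymbol A a d * tameSymbol A b' d) := by rw [e1, e2]
      _ = _ := by ring
  rw [h12]
  simp only [quot4]
  have := n ha' hd; have := n hb' hc; have := n ha' hd'; have := n hb' hc'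
  field_simp
  calc tameSymbol A a' c * tameSymbol A b' d * tameSymbol A a' d' * tameSymbol A b' c'
      = (tameSymbol A a' c * tameSymbol A a' d') * (tameSymbol A b' c' * tameSymbol A b' d) := by ring
    _ = (tameSymbol A a' c' * tameSymbol A a' d) * (tameSymbol A b' c * tameSymbol A b' d') := by rw [e3, e4]
    _ = _ := by ring

theorem mul_eq_mul_of_frac {f : K} {a b a' b' : A} (h : f * algebraMap A K b = algebraMap A K a)
    (h' : f * algebraMap A K b' = algebraMap A K a') : a * b' = a' * b :=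
  IsFractionRing.injective A K (by rw [map_mul, map_mul, ← h, ← h']; ring)

theorem ne_zero_of_frac {f : K} {a b : A} (ha : a ∈ A⁰) (h : f * algebraMap A K b = algebraMap A K a) : f ≠ 0 :=
  fun e => nonZeroDivisors.ne_zero ha (IsFractionRing.injective A K (by rw [← h, e, zero_mul, map_zero]))

theorem tsym_eq (hA : ringKrullDim A = 1) {f g : K} {a b c d : A} (ha : a ∈ A⁰) (hb : b ∈ A⁰) (hc : c ∈ A⁰)
    (hd : d ∈ A⁰) (hf : f * algebraMap A K b = algebraMap A K a) (hg : g * algebraMap A K d = algebraMap A K c) :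
    tsym A f g = quot4 A a b c d :=
  quot4_congr hA (sec_fst_mem (ne_zero_of_frac ha hf)) (IsLocalization.sec A⁰ f).2.2
    (sec_fst_mem (ne_zero_of_frac hc hg)) (IsLocalization.sec A⁰ g).2.2 ha hb hc hd
    (mul_eq_mul_of_frac (IsLocalization.sec_spec A⁰ f) hf) (mul_eq_mul_of_frac (IsLocalization.sec_spec A⁰ g) hg)

theorem exists_frac {f : K} (hf : f ≠ 0) :
    ∃ a b : A, a ∈ A⁰ ∧ b ∈ A⁰ ∧ f * algebraMap A K b = algebraMap A K a :=
  ⟨_, _, sec_fst_mem hf, (IsLocalization.sec A⁰ f).2.2, IsLocalization.sec_spec A⁰ f⟩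

theorem tsym_ne_zero (hA : ringKrullDim A = 1) {f g : K} (hf : f ≠ 0) (hg : g ≠ 0) : tsym A f g ≠ 0 := by
  obtain ⟨a, b, ha, hb, h⟩ := exists_frac (A := A) hf
  obtain ⟨c, d, hc, hd, h'⟩ := exists_frac (A := A) hg
  rw [tsym_eq hA ha hb hc hd h h']
  have n := @tameSymbol_ne_zero A _ _ _ _ hA
  exact mul_ne_zero (mul_ne_zero (n ha hc) (n hb hd)) (inv_ne_zero (mul_ne_zero (n ha hd) (n hb hc)))

theorem tsym_mul_left (hA : ringKrullDim A = 1) {f f' g : K} (hf : f ≠ 0) (hf' : f' ≠ 0) (hg : g ≠ 0) :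
    tsym A (f * f') g = tsym A f g * tsym A f' g := by
  obtain ⟨a, b, ha, hb, h⟩ := exists_frac (A := A) hf
  obtain ⟨a', b', ha', hb', h1⟩ := exists_frac (A := A) hf'
  obtain ⟨c, d, hc, hd, h'⟩ := exists_frac (A := A) hg
  rw [tsym_eq hA (mul_mem ha ha') (mul_mem hb hb') hc hd (by rw [map_mul, map_mul, ← h, ← h1]; ring) h',
    tsym_eq hA ha hb hc hd h h', tsym_eq hA ha' hb' hc hd h1 h']
  simp only [quot4, tameSymbol_mul_left hA ha ha' hc, tameSymbol_mul_left hA hb hb' hd,
    tameSymbol_mul_left hA ha ha' hd, tameSymbol_mul_left hA hb hb' hc, mul_inv]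
  ring

theorem tsym_mul_right (hA : ringKrullDim A = 1) {f g g' : K} (hf : f ≠ 0) (hg : g ≠ 0) (hg' : g' ≠ 0) :
    tsym A f (g * g') = tsym A f g * tsym A f g' := by
  obtain ⟨a, b, ha, hb, h⟩ := exists_frac (A := A) hf
  obtain ⟨c, d, hc, hd, h'⟩ := exists_frac (A := A) hg
  obtain ⟨c', d', hc', hd', h1⟩ := exists_frac (A := A) hg'
  rw [tsym_eq hA ha hb (mul_mem hc hc') (mul_mem hd hd') h (by rw [map_mul, map_mul, ← h', ← h1]; ring),
    tsym_eq hA ha hb hc hd h h', tsym_eq hA ha hb hc' hd' h h1]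
  simp only [quot4, tameSymbol_mul_right hA ha hc hc', tameSymbol_mul_right hA hb hd hd',
    tameSymbol_mul_right hA ha hd hd', tameSymbol_mul_right hA hb hc hc', mul_inv]
  ring

theorem tsym_of_mem (hA : ringKrullDim A = 1) {a c : A} (ha : a ∈ A⁰) (hc : c ∈ A⁰) :
    tsym A (algebraMap A K a) (algebraMap A K c) = tameSymbol A a c := by
  rw [tsym_eq hA ha (one_mem _) hc (one_mem _) (by rw [map_one, mul_one]) (by rw [map_one, mul_one]), quot4,
    tameSymbol_one_left hA (one_mem _), tameSymbol_one_right hA ha, tameSymbol_one_left hA hc, mul_one, mul_one,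
    inv_one, mul_one]

theorem tsym_units (hA : ringKrullDim A = 1) {p q : A} (hp : IsUnit p) (hq : IsUnit q) :
    tsym A (algebraMap A K p) (algebraMap A K q) = 1 := by
  rw [tsym_of_mem hA hp.mem_nonZeroDivisors hq.mem_nonZeroDivisors]
  exact tameSymbol_of_isUnit hp hq

theorem tsym_unit_left (hA : ringKrullDim A = 1) {p : A} (hp : IsUnit p) {g : K} {c d : A} (hc : c ∈ A⁰) (hd : d ∈ A⁰)
    (hg : g * algebraMap A K d = algebraMap A K c) :
    tsym A (algebraMap A K p) g =
      residue A p ^ (((Ring.ord A c).toNat : ℤ) - ((Ring.ord A d).toNat : ℤ)) := by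
  rw [tsym_eq hA hp.mem_nonZeroDivisors (one_mem _) hc hd (by rw [map_one, mul_one]) hg, quot4,
    tameSymbol_one_left hA hd, tameSymbol_one_left hA hc, mul_one, mul_one,
    tameSymbol_unit_left hA hp hc, tameSymbol_unit_left hA hp hd, zpow_sub₀ (hp.map (residue A)).ne_zero,
    zpow_natCast, zpow_natCast, div_eq_mul_inv]
  rfl

theorem tsym_unit_right (hA : ringKrullDim A = 1) {q : A} (hq : IsUnit q) {f : K} {a b : A} (ha : a ∈ A⁰) (hb : b ∈ A⁰)
    (hf : f * algebraMap A K b = algebraMap A K a) :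
    tsym A f (algebraMap A K q) =
      residue A q ^ (((Ring.ord A b).toNat : ℤ) - ((Ring.ord A a).toNat : ℤ)) := by
  rw [tsym_eq hA ha hb hq.mem_nonZeroDivisors (one_mem _) hf (by rw [map_one, mul_one]), quot4,
    tameSymbol_one_right hA hb, tameSymbol_one_right hA ha, mul_one, one_mul,
    tameSymbol_unit_right hA hq ha, tameSymbol_unit_right hA hq hb, inv_inv, zpow_sub₀ (hq.map (residue A)).ne_zero,
    zpow_natCast, zpow_natCast, div_eq_mul_inv, mul_comm]
  rfl

end Groth.Agent.H3Cyc.TameFrac
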