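import Groth.Agent.H3Cyc.TameFrac
import Groth.Agent.H3Cyc.C1Map
import Groth.Agent.H3CAlg.Recip.Assemble
import Mathlib

/-!
# The tame symbols of two rational functions and reciprocity at a point of codimension two
-/

set_option autoImplicit false
set_option linter.style.haveILetI false
set_option linter.unusedSectionVars false
universe u

open AlgebraicGeometry CategoryTheory IsLocalRing
open scoped nonZeroDivisors

namespace Groth.Agent.H3Cyc.TameSch

variable {X : Scheme.{u}} [IsIntegral X] [IsLocallyNoetherian X]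

/-- The tame symbol at `z` of two rational functions. -/
noncomputable def phi (z : X) (f g : X.functionField) : X.residueField z :=
  TameFrac.tsym (X.presheaf.stalk z) f g

variable {δ : X → ℤ} {n : ℤ}

theorem delta_lt (hδ : Cyc.IsDimFun X δ) (hn : δ (genericPoint X) = n) {y : X} (hy : y ≠ genericPoint X) : δ y < n :=
  hn ▸ (hδ _ _ (genericPoint_specializes y) (Ne.symm hy)).1

theorem eq_genericPoint_of (hδ : Cyc.IsDimFun X δ) (hn : δ (genericPoint X) = n) {y : X} (hy : n ≤ δ y) :
    y = genericPoint X := by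
  by_contra h
  have := delta_lt hδ hn h
  omega

theorem ringKrullDim_stalk_eq_one (hδ : Cyc.IsDimFun X δ) (hn : δ (genericPoint X) = n) (z : X) (hz : δ z = n - 1) :
    ringKrullDim (X.presheaf.stalk z) = 1 := by
  have hne : genericPoint X ≠ z := fun e => by rw [e] at hn; omega
  refine le_antisymm (FlatDiv.ringKrullDim_stalk_le_one z fun w hw hwz v hv => ?_) ?_
  · have h1 := (hδ _ _ hw hwz).1
    have hwg := eq_genericPoint_of hδ hn (y := w) (by omega)
    have h2 := H22Alg.DeltaDim.delta_le hδ hv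
    exact (eq_genericPoint_of hδ hn (y := v) (by omega)).trans hwg.symm
  · rw [ringKrullDim_stalk_eq_coheight, show ((1 : WithBot ℕ∞)) = ((1 : ℕ∞) : WithBot ℕ∞) from rfl, WithBot.coe_le_coe,
      ENat.one_le_iff_ne_zero, ne_eq, Order.coheight_eq_zero, not_isMax_iff]
    exact ⟨genericPoint X, lt_iff_le_not_ge.mpr ⟨Scheme.le_iff_specializes.mpr (genericPoint_specializes z),
      fun h => hne ((genericPoint_specializes z).antisymm (Scheme.le_iff_specializes.mp h)).eq⟩⟩

theorem ker_eq_bot_iff (x w : X) (h : w ⤳ x) :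
    RingHom.ker (Cyc.specMap x w h) = ⊥ ↔ w = genericPoint X := by
  constructor
  · intro e
    have h1 := GenStalk.fromSpecStalk_eq x w h
    have h2 := GenStalk.fromSpecStalk_eq x (genericPoint X) (genericPoint_specializes x)
    have hle : (⟨RingHom.ker (Cyc.specMap x w h), GenStalk.isPrime_ker x w h⟩ : PrimeSpectrum (X.presheaf.stalk x)) ≤
        ⟨RingHom.ker (Cyc.specMap x _ (genericPoint_specializes x)), GenStalk.isPrime_ker _ _ _⟩ := by
      show RingHom.ker (Cyc.specMap x w h) ≤ _
      rw [e]; exact bot_le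
    have h3 := ((PrimeSpectrum.le_iff_specializes _ _).mp hle).map (X.fromSpecStalk x).continuous
    rw [h1, h2] at h3
    exact (h3.antisymm (genericPoint_specializes w)).eq
  · rintro rfl
    refine eq_bot_iff.mpr fun a ha => ?_
    rw [GenStalk.mem_ker_iff, (IsLocalRing.isField_iff_maximalIdeal_eq.mp (Field.toIsField X.functionField)),
      Submodule.mem_bot] at ha
    rw [Submodule.mem_bot]
    exact IsFractionRing.injective (X.presheaf.stalk x) X.functionField (ha.trans (map_zero _).symm)

theorem ringKrullDim_stalk_eq_two (hδ : Cyc.IsDimFun X δ) (hn : δ (genericPoint X) = n) (x : X) (hx : δ x = n - 2) :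
    ringKrullDim (X.presheaf.stalk x) = 2 := by
  have hne : genericPoint X ≠ x := fun e => by rw [e] at hn; omega
  obtain ⟨z, hzx, hzn, hzne⟩ : ∃ z : X, z ⤳ x ∧ z ≠ genericPoint X ∧ z ≠ x := by
    by_contra hc
    push Not at hc
    have := (hδ _ _ (genericPoint_specializes x) hne).2 fun z _ hz => by
      by_cases h1 : z = genericPoint X
      · exact Or.inl h1
      · exact Or.inr (hc z hz h1)
    omega
  rw [ringKrullDim_stalk_eq_coheight, show ((2 : WithBot ℕ∞)) = (((2 : ℕ) : ℕ∞) : WithBot ℕ∞) from rfl, WithBot.coe_inj]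
  refine le_antisymm ?_ ?_
  · refine Order.coheight_le_coe_iff.mpr fun y hy => ?_
    have hy' := Scheme.le_iff_specializes.mp hy.le
    have h1 := (hδ _ _ hy' fun e => hy.ne e.symm).1
    refine lt_of_le_of_lt (b := ((1 : ℕ) : ℕ∞)) (Order.coheight_le_coe_iff.mpr fun w hw => ?_) (by exact_mod_cast Nat.one_lt_two)
    have h2 := (hδ _ _ (Scheme.le_iff_specializes.mp hw.le) fun e => hw.ne e.symm).1
    rw [Order.coheight_eq_zero.mpr]
    · exact_mod_cast Nat.one_pos
    intro v hv
    have hg := eq_genericPoint_of hδ hn (y := w) (by omega)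
    rw [hg] at hv ⊢
    exact Scheme.le_iff_specializes.mpr (genericPoint_specializes v)
  · have h1 : x < z := lt_iff_le_not_ge.mpr ⟨Scheme.le_iff_specializes.mpr hzx,
      fun h => hzne (hzx.antisymm (Scheme.le_iff_specializes.mp h)).eq⟩
    have h2 : z < genericPoint X := lt_iff_le_not_ge.mpr ⟨Scheme.le_iff_specializes.mpr (genericPoint_specializes z),
      fun h => hzn ((genericPoint_specializes z).antisymm (Scheme.le_iff_specializes.mp h)).eq.symm⟩
    have hz1 := Order.coheight_add_one_le h2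
    have hz2 := Order.coheight_add_one_le h1
    rw [show Order.coheight (genericPoint X) = 0 from Order.coheight_eq_zero.mpr fun w _ =>
      Scheme.le_iff_specializes.mpr (genericPoint_specializes w)] at hz1
    calc ((2 : ℕ) : ℕ∞) = 0 + 1 + 1 := rfl
      _ ≤ Order.coheight z + 1 := by gcongr
      _ ≤ Order.coheight x := hz2

section point

variable (hδ : Cyc.IsDimFun X δ) (hn : δ (genericPoint X) = n) (x : X) (hx : δ x = n - 2)

open Classical in
/-- The order along `z` of the tame symbol of two regular functions at `x`. -/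
noncomputable def term (a c : X.presheaf.stalk x) (z : X) : ℤ :=
  if h : z ⤳ x then Cyc.ordAt x z h (CycAlg.tameSymbol (X.presheaf.stalk z)
    (X.presheaf.stalkSpecializes h a) (X.presheaf.stalkSpecializes h c)) else 0

theorem stalkSpecializes_mem {z : X} (h : z ⤳ x) {a : X.presheaf.stalk x} (ha : a ∈ (X.presheaf.stalk x)⁰) :
    X.presheaf.stalkSpecializes h a ∈ (X.presheaf.stalk z)⁰ := by
  refine mem_nonZeroDivisors_of_ne_zero fun e => nonZeroDivisors.ne_zero ha ?_
  refine IsFractionRing.injective (X.presheaf.stalk x) X.functionField (Eq.trans ?_ (map_zero _).symm)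
  show X.presheaf.stalkSpecializes (genericPoint_specializes x) a = 0
  rw [show X.presheaf.stalkSpecializes (genericPoint_specializes x) =
    X.presheaf.stalkSpecializes h ≫ X.presheaf.stalkSpecializes (genericPoint_specializes z) from
      (X.presheaf.stalkSpecializes_comp _ _).symm]
  show X.presheaf.stalkSpecializes (genericPoint_specializes z) (X.presheaf.stalkSpecializes h a) = 0
  rw [e]
  exact map_zero _

include hδ hn hx in
theorem height_one_iff' (z : X) (h : z ⤳ x) :
    (RingHom.ker (Cyc.specMap x z h)).height = 1 ↔ δ z = n - 1 := by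
  haveI := GenStalk.isPrime_ker x z h
  constructor
  · intro hh
    have h1 : z ≠ genericPoint X := fun e => by
      rw [(ker_eq_bot_iff x z h).mpr e, Ideal.height_bot] at hh
      exact absurd hh (by decide)
    have h2 : z ≠ x := fun e => by
      subst e
      have h3 : RingHom.ker (Cyc.specMap z z h) = maximalIdeal (X.presheaf.stalk z) := by
        ext c
        rw [GenStalk.mem_ker_iff, TopCat.Presheaf.stalkSpecializes_refl]
        rfl
      rw [h3] at hh
      have h4 := IsLocalRing.maximalIdeal_height_eq_ringKrullDim (R := X.presheaf.stalk z)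
      rw [hh, ringKrullDim_stalk_eq_two hδ hn z hx] at h4
      exact absurd h4 (by decide)
    have := delta_lt hδ hn h1
    have := (hδ _ _ h h2).1
    omega
  · intro hz
    haveI := GenStalk.isLocalization_stalkSpecializes x z h
    letI := (X.presheaf.stalkSpecializes h).hom.toAlgebra
    have h1 := IsLocalization.AtPrime.ringKrullDim_eq_height (RingHom.ker (Cyc.specMap x z h)) (X.presheaf.stalk z)
    rw [ringKrullDim_stalk_eq_one hδ hn z hz] at h1
    exact (WithBot.coe_inj.mp h1).symm

theorem ordFrac_eq_term (a c : X.presheaf.stalk x) (z : X) (h : z ⤳ x) (hdim : ringKrullDim (X.presheaf.stalk z) = 1)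
    (ha : a ∈ (X.presheaf.stalk x)⁰) (hc : c ∈ (X.presheaf.stalk x)⁰)
    (q : PrimeSpectrum (X.presheaf.stalk x)) (hq : q.asIdeal = RingHom.ker (Cyc.specMap x z h)) :
    CycAlg.ordFrac (X.presheaf.stalk x ⧸ q.asIdeal) q.asIdeal.ResidueField
      (CycAlg.tameSymbol (Localization.AtPrime q.asIdeal) (algebraMap _ (Localization.AtPrime q.asIdeal) a)
        (algebraMap _ (Localization.AtPrime q.asIdeal) c)) = term x a c z := by
  obtain ⟨p, hp⟩ := q
  simp only at hq
  subst hq
  rw [term, dif_pos h]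
  letI := (X.presheaf.stalkSpecializes h).hom.toAlgebra
  haveI := GenStalk.isLocalization_stalkSpecializes x z h
  let p := RingHom.ker (Cyc.specMap x z h)
  haveI : p.IsPrime := GenStalk.isPrime_ker x z h
  let e := IsLocalization.algEquiv p.primeCompl (Localization.AtPrime p) (X.presheaf.stalk z)
  have hdim' : ringKrullDim (Localization.AtPrime p) = 1 := by rw [ringKrullDim_eq_of_ringEquiv e.toRingEquiv, hdim]
  have hreg : ∀ {b : X.presheaf.stalk x}, b ∈ (X.presheaf.stalk x)⁰ →
      algebraMap (X.presheaf.stalk x) (Localization.AtPrime p) b ∈ (Localization.AtPrime p)⁰ := fun hb =>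
    IsLocalization.map_nonZeroDivisors_le p.primeCompl _ ⟨_, hb, rfl⟩
  have hs := TameFrac.tameSymbol_ringEquiv e.toRingEquiv hdim' (hreg ha) (hreg hc)
  have ea : e.toRingEquiv (algebraMap _ _ a) = X.presheaf.stalkSpecializes h a := e.commutes a
  have ec : e.toRingEquiv (algebraMap _ _ c) = X.presheaf.stalkSpecializes h c := e.commutes c
  rw [ea, ec] at hs
  rw [← hs]
  letI algK : Algebra (X.presheaf.stalk x ⧸ p) (X.residueField z) :=
    (Ideal.Quotient.lift p (Cyc.specMap x z h) (fun _ ha => RingHom.mem_ker.mp ha)).toAlgebra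
  let φ : p.ResidueField ≃+* X.residueField z := ResidueField.mapEquiv e.toRingEquiv
  exact (@H22Alg.CycDiv.ordFrac_congr _ _ _ _ p.ResidueField (X.residueField z) _ _ _ algK
    (RingEquiv.refl (X.presheaf.stalk x ⧸ p)) φ (fun r => by
      obtain ⟨r, rfl⟩ := Ideal.Quotient.mk_surjective r
      show X.residue z (e.toRingEquiv (algebraMap _ _ r)) = X.residue z (X.presheaf.stalkSpecializes h r)
      exact congrArg _ (e.commutes r)) _).symm

include hδ hn hx in
theorem finite_nonunit (a : X.presheaf.stalk x) (ha : a ∈ (X.presheaf.stalk x)⁰) :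
    {z : X | δ z = n - 1 ∧ ∃ h : z ⤳ x, ¬ IsUnit (X.presheaf.stalkSpecializes h a)}.Finite := by
  have hA := ringKrullDim_stalk_eq_two hδ hn x hx
  refine ((((Ideal.finite_minimalPrimes_of_isNoetherianRing (X.presheaf.stalk x) (Ideal.span {a})).preimage
      (f := PrimeSpectrum.asIdeal) (fun p _ q _ h => PrimeSpectrum.ext h))).image (X.fromSpecStalk x)).subset ?_
  rintro z ⟨hz, h, hu⟩
  have hmem : a ∈ RingHom.ker (Cyc.specMap x z h) := (GenStalk.mem_ker_iff x z h a).mpr hu
  haveI := GenStalk.isPrime_ker x z h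
  refine ⟨⟨_, GenStalk.isPrime_ker x z h⟩, ⟨⟨GenStalk.isPrime_ker x z h, (Ideal.span_singleton_le_iff_mem _).mpr hmem⟩,
    fun p hp hle => ?_⟩, GenStalk.fromSpecStalk_eq x z h⟩
  haveI := hp.1
  refine ((eq_or_lt_of_le hle).resolve_right ?_).ge
  exact H3CAlg.Glue.not_lt_of_mem hA ha (hp.2 (Ideal.mem_span_singleton_self _))
    ((H3CAlg.Recip.height_one_iff hA ha hmem).mp ((height_one_iff' hδ hn x hx z h).mpr hz))

include hδ hn hx in
theorem finsum_term_eq_zero (a c : X.presheaf.stalk x) (ha : a ∈ (X.presheaf.stalk x)⁰)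
    (hc : c ∈ (X.presheaf.stalk x)⁰) :
    {z : X | δ z = n - 1 ∧ term x a c z ≠ 0}.Finite ∧ ∑ᶠ z ∈ {z : X | δ z = n - 1}, term x a c z = 0 := by
  constructor
  · refine ((finite_nonunit hδ hn x hx a ha).union (finite_nonunit hδ hn x hx c hc)).subset fun z hz => ?_
    have hne := hz.2
    rw [term] at hne
    split_ifs at hne with h
    · by_cases hu : IsUnit (X.presheaf.stalkSpecializes h a)
      · refine Or.inr ⟨hz.1, h, fun hu' => hne ?_⟩
        rw [H3CAlg.Tame.tameSymbol_of_isUnit hu hu']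
        exact C1Api.ordAt_one x z h
      · exact Or.inl ⟨hz.1, h, hu⟩
    · exact absurd rfl hne
  have h0 := H3CAlg.Recip.finsum_ordFrac_eq_zero (ringKrullDim_stalk_eq_two hδ hn x hx) a c ha hc
  rw [← finsum_mem_inter_support_eq' (term x a c) {z : X | z ⤳ x ∧ δ z = n - 1} {z : X | δ z = n - 1} fun z hz =>
    ⟨fun h => h.2, fun h => ⟨by_contra fun hn' => hz (dif_neg hn'), h⟩⟩]
  refine Eq.trans (finsum_mem_eq_of_bijOn (fun q => X.fromSpecStalk x q) ⟨fun q hq => ?_,
    fun q _ q' _ e => (X.fromSpecStalk x).isEmbedding.injective e, fun z hz => ?_⟩ fun q hq => ?_).symm h0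
  · obtain ⟨h, e⟩ := GenStalk.ker_specMap_fromSpecStalk x q
    exact ⟨h, (height_one_iff' hδ hn x hx _ h).mp (e ▸ hq)⟩
  · exact ⟨⟨_, GenStalk.isPrime_ker x z hz.1⟩, (height_one_iff' hδ hn x hx z hz.1).mpr hz.2,
      GenStalk.fromSpecStalk_eq x z hz.1⟩
  · obtain ⟨h, e⟩ := GenStalk.ker_specMap_fromSpecStalk x q
    exact ordFrac_eq_term x a c _ h
      (ringKrullDim_stalk_eq_one hδ hn _ ((height_one_iff' hδ hn x hx _ h).mp (e ▸ hq))) ha hc q e

include hδ hn hx in
/-- **Reciprocity**: the divisors of the tame symbols of two rational functions cancel at a point of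
codimension two. -/
theorem finsum_divFun_phi (f g : X.functionField) (hf : f ≠ 0) (hg : g ≠ 0) :
    {z : X | δ z = n - 1 ∧ Cyc.divFun δ z (phi z f g) x ≠ 0}.Finite ∧
      ∑ᶠ z ∈ {z : X | δ z = n - 1}, Cyc.divFun δ z (phi z f g) x = 0 := by
  obtain ⟨a, b, ha, hb, hfe⟩ := TameFrac.exists_frac (A := X.presheaf.stalk x) hf
  obtain ⟨c, d, hc, hd, hge⟩ := TameFrac.exists_frac (A := X.presheaf.stalk x) hg
  obtain ⟨F1, S1⟩ := finsum_term_eq_zero hδ hn x hx a c ha hc
  obtain ⟨F2, S2⟩ := finsum_term_eq_zero hδ hn x hx b d hb hd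
  obtain ⟨F3, S3⟩ := finsum_term_eq_zero hδ hn x hx a d ha hd
  obtain ⟨F4, S4⟩ := finsum_term_eq_zero hδ hn x hx b c hb hc
  have key : ∀ z, δ z = n - 1 → Cyc.divFun δ z (phi z f g) x =
      (term x a c z + term x b d z) - (term x a d z + term x b c z) := by
    intro z hz
    by_cases h : z ⤳ x
    swap
    · rw [Cyc.divFun, dif_neg fun hh => h hh.1]
      simp only [term, dif_neg h]
      rfl
    have hdim := ringKrullDim_stalk_eq_one hδ hn z hz
    have hm := fun {b : X.presheaf.stalk x} (hb : b ∈ (X.presheaf.stalk x)⁰) => stalkSpecializes_mem x h hb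
    have halg : ∀ b : X.presheaf.stalk x, algebraMap (X.presheaf.stalk z) X.functionField (X.presheaf.stalkSpecializes h b) =
        algebraMap (X.presheaf.stalk x) X.functionField b := fun b => by
      show (X.presheaf.stalkSpecializes h ≫ X.presheaf.stalkSpecializes _) b = X.presheaf.stalkSpecializes _ b
      rw [TopCat.Presheaf.stalkSpecializes_comp]
    rw [phi, TameFrac.tsym_eq hdim (hm ha) (hm hb) (hm hc) (hm hd) (by rw [halg, halg]; exact hfe)
      (by rw [halg, halg]; exact hge), TameFrac.quot4]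
    simp only [Cyc.divFun]
    rw [dif_pos ⟨h, by omega⟩]
    simp only [term, dif_pos h]
    have n0 := fun {p q : X.presheaf.stalk z} (hp : p ∈ (X.presheaf.stalk z)⁰) (hq : q ∈ (X.presheaf.stalk z)⁰) =>
      TameFrac.tameSymbol_ne_zero hdim hp hq
    refine (C1Api.ordAt_mul x z h (mul_ne_zero (n0 (hm ha) (hm hc)) (n0 (hm hb) (hm hd)))
      (inv_ne_zero (mul_ne_zero (n0 (hm ha) (hm hd)) (n0 (hm hb) (hm hc))))).trans ?_
    rw [show Cyc.ordAt x z h _ = _ from C1Api.ordAt_inv x z h (mul_ne_zero (n0 (hm ha) (hm hd)) (n0 (hm hb) (hm hc))),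
      show Cyc.ordAt x z h (_ * _) = _ from C1Api.ordAt_mul x z h (n0 (hm ha) (hm hc)) (n0 (hm hb) (hm hd)),
      show Cyc.ordAt x z h (_ * _) = _ from C1Api.ordAt_mul x z h (n0 (hm ha) (hm hd)) (n0 (hm hb) (hm hc))]
    ring
  have hsub : {z : X | δ z = n - 1 ∧ Cyc.divFun δ z (phi z f g) x ≠ 0} ⊆
      ({z : X | δ z = n - 1 ∧ term x a c z ≠ 0} ∪ {z | δ z = n - 1 ∧ term x b d z ≠ 0}) ∪
        ({z | δ z = n - 1 ∧ term x a d z ≠ 0} ∪ {z | δ z = n - 1 ∧ term x b c z ≠ 0}) := by
    rintro z ⟨hz, hne⟩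
    rw [key z hz] at hne
    by_contra hc'
    simp only [Set.mem_union, Set.mem_setOf_eq, not_or, not_and, not_not] at hc'
    obtain ⟨⟨e1, e2⟩, e3, e4⟩ := hc'
    exact hne (by rw [e1 hz, e2 hz, e3 hz, e4 hz]; ring)
  refine ⟨((F1.union F2).union (F3.union F4)).subset hsub, ?_⟩
  classical
  let S := ((F1.union F2).union (F3.union F4)).toFinset
  have hS : (S : Set X) ⊆ {z | δ z = n - 1} := fun z hz => by
    rcases ((F1.union F2).union (F3.union F4)).mem_toFinset.mp hz with (h | h) | h | h <;> exact h.1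
  have hsum : ∀ (t : X → ℤ), {z | δ z = n - 1 ∧ t z ≠ 0} ⊆ (S : Set X) →
      ∑ᶠ z ∈ {z : X | δ z = n - 1}, t z = ∑ z ∈ S, t z := fun t ht =>
    finsum_mem_eq_sum_of_subset _ (fun z hz => ht ⟨hz.1, hz.2⟩) hS
  rw [hsum _ (fun z hz => by rw [Set.Finite.coe_toFinset]; exact hsub hz), Finset.sum_congr rfl fun z hz => key z (hS hz),
    Finset.sum_sub_distrib, Finset.sum_add_distrib, Finset.sum_add_distrib, ← hsum _ ?_, ← hsum _ ?_, ← hsum _ ?_,
    ← hsum _ ?_, S1, S2, S3, S4]
  · rfl
  all_goals intro z hz; rw [Set.Finite.coe_toFinset]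
  all_goals first | exact Or.inl (Or.inl hz) | exact Or.inl (Or.inr hz) | exact Or.inr (Or.inl hz) | exact Or.inr (Or.inr hz)

end point

end Groth.Agent.H3Cyc.TameSch
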