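import Groth.Agent.H3Cyc.TensorFilt
import Mathlib

/-!
# The first two Chern classes of a tensor product
-/

set_option autoImplicit false
set_option linter.style.haveILetI false
set_option linter.unusedSectionVars false
set_option backward.isDefEq.respectTransparency.types false
universe u

open CategoryTheory CategoryTheory.Limits AlgebraicGeometry
open Groth.Agent.H3Cyc.Tot

noncomputable section

namespace Groth.Agent.H3Cyc.SplitChern

variable {Y : Scheme.{u}} {δY : Y → ℤ} (hY : Cyc.IsSetup Y δY)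

theorem map_pairs {lE lF : List Y.Modules} (hE : ∀ L ∈ lE, PicF.IsInvertible L) (hF : ∀ L ∈ lF, PicF.IsInvertible L) :
    (lF.flatMap fun N => lE.map (CohB1.tensorMod N)).map (ccr hY) =
      (lF.map (ccr hY)).flatMap fun y => (lE.map (ccr hY)).map (y + ·) := by
  induction lF with
  | nil => rfl
  | cons N lF ih =>
    rw [List.flatMap_cons, List.map_append, List.map_cons, List.flatMap_cons,
      ih fun L hL => hF L (List.mem_cons_of_mem _ hL), List.map_map, List.map_map]
    congr 1
    exact List.map_congr_left fun L hL => ccr_tensor hY (hF N List.mem_cons_self) (hE L hL)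

theorem es_one_tensor {lE lF : List Y.Modules} (hE : ∀ L ∈ lE, PicF.IsInvertible L)
    (hF : ∀ L ∈ lF, PicF.IsInvertible L) (f : T Y δY) :
    ESym.es ((lF.flatMap fun N => lE.map (CohB1.tensorMod N)).map (Filt.cc hY)) 1 f =
      (lE.length : ℤ) • ESym.es (lF.map (Filt.cc hY)) 1 f + (lF.length : ℤ) • ESym.es (lE.map (Filt.cc hY)) 1 f := by
  rw [← coe_es, map_pairs hY hE hF, ESym.es_one_pairs, List.length_map, List.length_map, natCast_zsmul, natCast_zsmul,
    ← coe_es, ← coe_es]
  show (((lE.length : CC hY) : AddMonoid.End (T Y δY)) *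
      ((ESym.es (lF.map (ccr hY)) 1 : CC hY) : AddMonoid.End (T Y δY))) f +
    (((lF.length : CC hY) : AddMonoid.End (T Y δY)) *
      ((ESym.es (lE.map (ccr hY)) 1 : CC hY) : AddMonoid.End (T Y δY))) f = _
  rw [Subring.coe_natCast, Subring.coe_natCast]
  exact congrArg₂ (· + ·) (AddMonoid.End.natCast_apply _ _) (AddMonoid.End.natCast_apply _ _)

theorem es_two_tensor {lE lF : List Y.Modules} (hE : ∀ L ∈ lE, PicF.IsInvertible L)
    (hF : ∀ L ∈ lF, PicF.IsInvertible L) (f : T Y δY) :
    ESym.es ((lF.flatMap fun N => lE.map (CohB1.tensorMod N)).map (Filt.cc hY)) 2 f =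
      (lE.length : ℤ) • ESym.es (lF.map (Filt.cc hY)) 2 f + (lF.length : ℤ) • ESym.es (lE.map (Filt.cc hY)) 2 f +
        (lE.length.choose 2 : ℤ) • ESym.es (lF.map (Filt.cc hY)) 1 (ESym.es (lF.map (Filt.cc hY)) 1 f) +
        ((lE.length : ℤ) * (lF.length : ℤ) - 1) •
          ESym.es (lE.map (Filt.cc hY)) 1 (ESym.es (lF.map (Filt.cc hY)) 1 f) +
        (lF.length.choose 2 : ℤ) • ESym.es (lE.map (Filt.cc hY)) 1 (ESym.es (lE.map (Filt.cc hY)) 1 f) := by
  rw [← coe_es, map_pairs hY hE hF, ESym.es_two_pairs, List.length_map, List.length_map]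
  simp only [← coe_es]
  simp only [Subring.coe_add, Subring.coe_mul, Subring.coe_natCast, SubmonoidClass.coe_pow, sq, AddSubgroupClass.coe_sub,
    OneMemClass.coe_one]
  generalize ((ESym.es (lE.map (ccr hY)) 1 : CC hY) : AddMonoid.End (T Y δY)) = A
  generalize ((ESym.es (lE.map (ccr hY)) 2 : CC hY) : AddMonoid.End (T Y δY)) = B
  generalize ((ESym.es (lF.map (ccr hY)) 1 : CC hY) : AddMonoid.End (T Y δY)) = C
  generalize ((ESym.es (lF.map (ccr hY)) 2 : CC hY) : AddMonoid.End (T Y δY)) = D
  simp only [sub_zsmul, one_zsmul, mul_zsmul, natCast_zsmul]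
  have hm : ∀ (G H : AddMonoid.End (T Y δY)) (z : T Y δY), (G * H) z = G (H z) := fun _ _ _ => rfl
  have ha : ∀ (G H : AddMonoid.End (T Y δY)) (z : T Y δY), (G + H) z = G z + H z := fun _ _ _ => rfl
  have hs : ∀ (G H : AddMonoid.End (T Y δY)) (z : T Y δY), (G - H) z = G z - H z := fun _ _ _ => rfl
  have h1 : ∀ z : T Y δY, (1 : AddMonoid.End (T Y δY)) z = z := fun _ => rfl
  simp only [hm, ha, hs, h1, sub_mul, one_mul, AddMonoid.End.natCast_apply]
  simp only [← sub_eq_add_neg]

end Groth.Agent.H3Cyc.SplitChern
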