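import Groth.Agent.H06EGA14.ValuationDim
import Groth.Agent.H06EGA14.MaximalPoint
import Groth.Agent.H06EGA14.OpenDimScheme
import Groth.Agent.H22Alg.FibreCount
import Groth.Agent.H8Props.FibreDimSemicont
import Mathlib.AlgebraicGeometry.Morphisms.UniversallyOpen

/-!
Flat morphisms with pure generic fibres are universally equidimensional.

* `fibreDimAt_eq_of_valuationRing` : over a valuation ring, a flat morphism with generic fibre
  pure of dimension `r` has all fibres pure of dimension `r`;
* `fibreDimAt_eq_of_flat` : the same over an arbitrary base, with purity at the maximal points;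
* `fibreDimAt_comp_closedImmersion` : fibre dimension only depends on the fibre as a space;
* `fibreDimAt_closure_point` : the closure of a point, fibre over a maximal point of the base;
* `univEquidim` : base changes of such morphisms.
-/

set_option autoImplicit false

universe u

open CategoryTheory CategoryTheory.Limits AlgebraicGeometry TopologicalSpace Topology

namespace Groth.Agent.H3Cyc.UnivEquidim

open Groth.Agent.H8Props.FieldDim

theorem fibreDimAt_eq_of_valuationRing {A : CommRingCat.{u}} [IsDomain A] [ValuationRing A]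
    {X : Scheme.{u}} (f : X ⟶ Spec A) [LocallyOfFiniteType f] [Flat f] (r : WithBot ℕ∞)
    (h : ∀ v : X, f v = (⊥ : PrimeSpectrum A) → FlatMor.fibreDimAt f v = r) (x : X) :
    FlatMor.fibreDimAt f x = r := by
  obtain ⟨ξ, hξ, -, -, hd⟩ := H06EGA14.exists_maximal_generization f x
  obtain ⟨v, hv, hfv⟩ := (Flat.generalizingMap f)
    (show (⊥ : PrimeSpectrum A) ⤳ f ξ from (PrimeSpectrum.le_iff_specializes _ _).mp bot_le)
  refine le_antisymm ?_ ?_
  · rw [← hd, ← h v hfv]
    exact (H06EGA14.cdim_asFiber_le_of_valuationRing f ξ v hv hfv).trans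
      (H06Equidim.cdim_asFiber_le_fibreDimAt f v)
  · rw [← h v hfv]
    exact fibreDimAt_le_of_specializes f (hv.trans hξ)

theorem fibreDimAt_eq_of_flat {X Y : Scheme.{u}} (f : X ⟶ Y) [LocallyOfFiniteType f] [Flat f]
    (r : WithBot ℕ∞)
    (h : ∀ v : X, (∀ y, y ⤳ f v → y = f v) → FlatMor.fibreDimAt f v = r) (x : X) :
    FlatMor.fibreDimAt f x = r := by
  obtain ⟨ξ, hξ, hmax⟩ : ∃ y : Y, y ⤳ f x ∧ ∀ y', y' ⤳ y → y' = y := by
    obtain ⟨η, hη, hT⟩ := exists_component_generization (f x)
    obtain ⟨η', hη', hmax⟩ := mem_irreducibleComponents_iff hT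
    obtain rfl := H06EGA14.eq_of_closure_singleton_eq hη'
    exact ⟨η, hη, hmax⟩
  obtain ⟨V, hV1, hV2, g, hg1, hg2⟩ := H18HTop.exists_valuation_of_specializes hξ
  haveI := hV1; haveI := hV2
  have hP := IsPullback.of_hasPullback f g
  obtain ⟨p, hp1, hp2⟩ :=
    Scheme.exists_preimage_of_isPullback hP x (IsLocalRing.closedPoint V) hg2.symm
  rw [← hp1, ← fibreDimAt_baseChange f hP p]
  refine fibreDimAt_eq_of_valuationRing (pullback.snd f g) r (fun v hv => ?_) p
  rw [fibreDimAt_baseChange f hP v]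
  have hfv : f (pullback.fst f g v) = ξ := by
    rw [← Scheme.Hom.comp_apply, pullback.condition, Scheme.Hom.comp_apply, hv, hg1]
  exact h _ (hfv ▸ hmax)

/-- A closed immersion induces closed embeddings of fibres, keeping closure dimensions. -/
theorem cdim_asFiber_closedImmersion {T W Y : Scheme.{u}} (c : T ⟶ W) (f : W ⟶ Y)
    [IsClosedImmersion c] (t : T) : cdim ((c ≫ f).asFiber t) = cdim (f.asFiber (c t)) := by
  let s : Set W := f ⁻¹' {f (c t)}
  let e : ↥((c ≫ f) ⁻¹' {(c ≫ f) t}) ≃ₜ ↥(c ⁻¹' s) :=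
    Homeomorph.setCongr (by ext; simp [s])
  let m : (c ≫ f).fiber ((c ≫ f) t) → f.fiber (f (c t)) :=
    (f.fiberHomeo (f (c t))).symm ∘ s.restrictPreimage c ∘ e ∘ (c ≫ f).fiberHomeo _
  have hm : IsClosedEmbedding m :=
    (f.fiberHomeo _).symm.isClosedEmbedding.comp
      (((c.isClosedEmbedding).restrictPreimage s).comp
        (e.isClosedEmbedding.comp ((c ≫ f).fiberHomeo _).isClosedEmbedding))
  have key : m ((c ≫ f).asFiber t) = f.asFiber (c t) := by
    apply (f.fiberHomeo (f (c t))).injective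
    apply Subtype.ext
    simp only [m, Function.comp_apply, Homeomorph.apply_symm_apply]
    simp [e, Scheme.Hom.fiberHomeo_apply, Scheme.Hom.fiberι_asFiber]
    exact congrArg c ((c ≫ f).fiberι_asFiber t)
  rw [← key]
  exact (H22Alg.FibreCount.cdim_emb hm _).symm

theorem fibreDimAt_comp_closedImmersion {T W Y : Scheme.{u}} (c : T ⟶ W) (f : W ⟶ Y)
    [IsClosedImmersion c] [LocallyOfFiniteType f] (t : T)
    (h : ∀ w : W, f w = f (c t) → w ∈ Set.range c) :
    FlatMor.fibreDimAt (c ≫ f) t = FlatMor.fibreDimAt f (c t) := by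
  refine le_antisymm ?_ ?_
  · obtain ⟨ξ, hξ, -, -, hd⟩ := H06EGA14.exists_maximal_generization (c ≫ f) t
    rw [← hd, cdim_asFiber_closedImmersion]
    exact (H06Equidim.cdim_asFiber_le_fibreDimAt f _).trans
      (fibreDimAt_le_of_specializes f (hξ.map c.continuous))
  · obtain ⟨ξ, hξ, hfξ, -, hd⟩ := H06EGA14.exists_maximal_generization f (c t)
    obtain ⟨ξ₀, rfl⟩ := h ξ hfξ
    rw [← hd, ← cdim_asFiber_closedImmersion]
    exact (H06Equidim.cdim_asFiber_le_fibreDimAt _ _).trans
      (fibreDimAt_le_of_specializes _ (c.isEmbedding.isInducing.specializes_iff.mp hξ))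

theorem fibreDimAt_closure_point {X S Z : Scheme.{u}} (p : X ⟶ S) [LocallyOfFiniteType p]
    (z : X) (r : WithBot ℕ∞)
    (hr : topologicalKrullDim ↥(closure ({p.asFiber z} : Set ↥(p.fiber (p.base z)))) = r)
    (ι : Z ⟶ X) [IsClosedImmersion ι] (hZ : Set.range ι.base = closure {z}) (v : Z)
    (hv : ∀ y, y ⤳ (ι ≫ p) v → y = (ι ≫ p) v) : FlatMor.fibreDimAt (ι ≫ p) v = r := by
  obtain ⟨u₀, hu₀⟩ : z ∈ Set.range ι.base := hZ ▸ subset_closure rfl
  have hle : ∀ w : Z, u₀ ⤳ w := fun w => ι.isEmbedding.isInducing.specializes_iff.mp <| by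
    show ι.base u₀ ⤳ ι.base w
    rw [hu₀, specializes_iff_mem_closure, ← hZ]
    exact ⟨w, rfl⟩
  obtain ⟨ξ, -, hfξ, hmax, hd⟩ := H06EGA14.exists_maximal_generization (ι ≫ p) v
  have hp0 : (ι ≫ p) u₀ = (ι ≫ p) ξ := by
    rw [hfξ]
    exact hv _ ((hle v).map (ι ≫ p).continuous)
  obtain rfl := hmax u₀ hp0 (hle ξ)
  rw [← hd, cdim_asFiber_closedImmersion]
  have key : ∀ x : X, x = z → cdim (p.asFiber x) = r := by
    rintro x rfl
    exact hr
  exact key _ hu₀

/-- Components dominate components under a flat morphism. -/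
theorem closure_image_mem_irreducibleComponents {X Y : Scheme.{u}} (f : X ⟶ Y) [Flat f]
    {C : Set X} (hC : C ∈ irreducibleComponents ↥X) :
    closure (f.base '' C) ∈ irreducibleComponents ↥Y := by
  obtain ⟨η, rfl, hmax⟩ := mem_irreducibleComponents_iff hC
  have himg : closure (f.base '' closure {η}) = closure {f η} := by
    rw [closure_image_closure f.continuous, Set.image_singleton]
  rw [himg]
  refine H06Equidim.closure_singleton_mem_irreducibleComponents _ fun w hw => ?_
  obtain ⟨η', hη', rfl⟩ := (Flat.generalizingMap f) hw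
  rw [hmax η' hη']

/-- A flat morphism with pure fibres of dimension `r` over maximal points is universally
equidimensional of dimension `r`. -/
theorem univEquidim {X Y : Scheme.{u}} (f : X ⟶ Y) [LocallyOfFiniteType f] [Flat f]
    (r : WithBot ℕ∞)
    (h : ∀ v : X, (∀ y, y ⤳ f v → y = f v) → FlatMor.fibreDimAt f v = r)
    {Y' : Scheme.{u}} (g : Y' ⟶ Y) :
    (∀ w : ↥(pullback f g), FlatMor.fibreDimAt (pullback.snd f g) w = r) ∧
      ∀ C ∈ irreducibleComponents ↥(pullback f g),
        closure ((pullback.snd f g).base '' C) ∈ irreducibleComponents ↥Y' := by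
  refine ⟨fun w => ?_, fun C hC => ?_⟩
  · rw [fibreDimAt_baseChange f (IsPullback.of_hasPullback f g) w]
    exact fibreDimAt_eq_of_flat f r h _
  · haveI : Flat (pullback.snd f g) :=
      MorphismProperty.of_isPullback (P := @Flat) (IsPullback.of_hasPullback f g) ‹_›
    exact closure_image_mem_irreducibleComponents _ hC

end Groth.Agent.H3Cyc.UnivEquidim
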