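import Groth.Agent.H11Sym.SymSheaf
import Groth.Agent.H06Equidim.AffineSpace
import Groth.Agent.H12AlgSp.RelDim
import Groth.Agent.H22Alg.CycBasic
import Mathlib

/-!
# Affine space charts of vector bundles
-/

set_option autoImplicit false
set_option linter.style.haveILetI false
set_option backward.isDefEq.respectTransparency.types false
universe u

open CategoryTheory CategoryTheory.Limits AlgebraicGeometry TopologicalSpace Opposite
open Groth.Agent.H11Sym

noncomputable section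

namespace Groth.Agent.H3Cyc.VBChart

variable {X Y : Scheme.{u}}

/-- Locally on the base the morphism is an affine space. -/
def LocAff (σ : Type u) (f : Y ⟶ X) : Prop :=
  ∀ x : X, ∃ U : X.Opens, x ∈ U ∧ ∃ j : 𝔸(σ; (U : Scheme.{u})) ⟶ Y,
    IsPullback j (𝔸(σ; (U : Scheme.{u})) ↘ (U : Scheme.{u})) f U.ι

theorem LocAff.hloc {σ : Type u} {f : Y ⟶ X} (h : LocAff σ f) (x : X) :
    ∃ U : X.Opens, x ∈ U ∧ ∃ e : (↑(f ⁻¹ᵁ U) : Scheme.{u}) ≅ 𝔸(σ; (↑U : Scheme.{u})),
      e.hom ≫ (𝔸(σ; (↑U : Scheme.{u})) ↘ (↑U : Scheme.{u})) = f ∣_ U := by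
  obtain ⟨U, hx, j, hj⟩ := h x
  exact ⟨U, hx, (isPullback_morphismRestrict f U).flip.isoIsPullback _ _ hj,
    (isPullback_morphismRestrict f U).flip.isoIsPullback_hom_snd _ _ hj⟩

theorem LocAff.flat {σ : Type u} [Fintype σ] {f : Y ⟶ X} (h : LocAff σ f) : Flat f := by
  choose U hxU e he using h.hloc
  refine IsZariskiLocalAtTarget.of_iSup_eq_top U
    (eq_top_iff.2 fun x _ => Opens.mem_iSup.2 ⟨x, hxU x⟩) fun x => ?_
  haveI := H06Equidim.flat_affineSpace (Y := (U x : Scheme.{u})) σ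
  rw [← he x]
  infer_instance

theorem LocAff.hasRelDim {σ : Type u} [Fintype σ] {f : Y ⟶ X} [LocallyOfFiniteType f] (h : LocAff σ f) :
    Cyc.HasRelDim f (Fintype.card σ) := by
  refine H12AlgSp.hasRelDim_of_fibreDimAt f _ fun y => ?_
  obtain ⟨U, hx, j, hj⟩ := h (f y)
  haveI : IsOpenImmersion j := MorphismProperty.of_isPullback hj.flip inferInstance
  obtain ⟨w, hw, -⟩ := Scheme.exists_preimage_of_isPullback hj y ⟨f y, hx⟩ rfl
  rw [← hw, ← H8Props.FieldDim.fibreDimAt_openImmersion_comp, hj.w,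
    H8Props.FieldDim.fibreDimAt_comp_openImmersion, H06Equidim.fibreDimAt_affineSpace]

theorem LocAff.lft {σ : Type u} [Fintype σ] {f : Y ⟶ X} (h : LocAff σ f) : LocallyOfFiniteType f := by
  choose U hxU e he using h.hloc
  refine IsZariskiLocalAtTarget.of_iSup_eq_top U
    (eq_top_iff.2 fun x _ => Opens.mem_iSup.2 ⟨x, hxU x⟩) fun x => ?_
  rw [← he x]
  infer_instance

/-- Charts are inherited by base changes. -/
theorem locAff_baseChange {σ : Type u} {f : Y ⟶ X} {X' Y' : Scheme.{u}} {g : X' ⟶ X} {g' : Y' ⟶ Y}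
    {f' : Y' ⟶ X'} (hsq : IsPullback g' f' f g)
    (h : ∀ x' : X', ∃ U : X.Opens, g x' ∈ U ∧ ∃ j : 𝔸(σ; (U : Scheme.{u})) ⟶ Y,
      IsPullback j (𝔸(σ; (U : Scheme.{u})) ↘ (U : Scheme.{u})) f U.ι) : LocAff σ f' := fun x => by
  obtain ⟨U, hx, j, hj⟩ := h x
  have hU : IsPullback (g ∣_ U) (g ⁻¹ᵁ U).ι U.ι g := isPullback_morphismRestrict g U
  have hbig : IsPullback (AffineSpace.map σ (g ∣_ U) ≫ j) (𝔸(σ; (↑(g ⁻¹ᵁ U) : Scheme.{u})) ↘ (↑(g ⁻¹ᵁ U) : Scheme.{u}))
      f ((g ⁻¹ᵁ U).ι ≫ g) := by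
    rw [← hU.w]
    exact (AffineSpace.isPullback_map (n := σ) (g ∣_ U)).paste_horiz hj
  refine ⟨g ⁻¹ᵁ U, hx, hsq.lift (AffineSpace.map σ (g ∣_ U) ≫ j) (_ ≫ (g ⁻¹ᵁ U).ι)
    (hbig.w.trans (Category.assoc _ _ _).symm), ?_⟩
  exact IsPullback.of_right (by rw [IsPullback.lift_fst]; exact hbig) (IsPullback.lift_snd _ _ _ _) hsq

theorem exists_mvPolyEquiv {Q : X.Modules} {A : RelSpec.QCAlg X} {j : Q ⟶ A.toModule} (hA : IsAffSym j) {U : X.Opens}
    (hU : IsAffineOpen U) {r : ℕ} (k : Module.Basis (Fin r) Γ(X, U) Γ(Q, U)) :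
    ∃ η : A.presheaf.obj (op U) ≃+* MvPolynomial (ULift.{u} (Fin r)) Γ(X, U),
      ∀ c, η (astr A U c) = MvPolynomial.C c := by
  let P := MvPolynomial (ULift.{u} (Fin r)) Γ(X, U)
  obtain ⟨g, hg₀, hg₁⟩ := hA.exists_lift hU (MvPolynomial.C : Γ(X, U) →+* P)
    (AddMonoidHom.mk' (fun q : Γ(Q, U) => ∑ l, MvPolynomial.C (k.repr q l) * (MvPolynomial.X (ULift.up l) : P))
      fun q q' => by simp only [map_add, Finsupp.add_apply, add_mul, Finset.sum_add_distrib]) (fun c q => by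
      simp only [AddMonoidHom.mk'_apply, map_smul, Finsupp.smul_apply, smul_eq_mul, map_mul, Finset.mul_sum, mul_assoc])
  simp only [AddMonoidHom.mk'_apply] at hg₁
  let f : P →+* A.presheaf.obj (op U) :=
    MvPolynomial.eval₂Hom (A.str.app (op U)).hom fun l => japp j U (k l.down)
  have hx : ∀ l : ULift.{u} (Fin r), g (japp j U (k l.down)) = MvPolynomial.X l := fun l => by
    rw [hg₁, Finset.sum_eq_single l.down (fun b _ hb => by
      rw [k.repr_self, Finsupp.single_eq_of_ne' hb.symm, map_zero, zero_mul]) (by simp),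
      k.repr_self, Finsupp.single_eq_same, map_one, one_mul]
  have hfg : f.comp g = RingHom.id _ := hA.ringHom_ext hU (fun c => by
      rw [RingHom.comp_apply, hg₀, RingHom.id_apply]
      exact MvPolynomial.eval₂Hom_C _ _ _) fun q => by
      rw [RingHom.comp_apply, hg₁, RingHom.id_apply, map_sum,
        Finset.sum_congr rfl fun l _ => (map_mul f _ _).trans (congrArg₂ (· * ·)
          (MvPolynomial.eval₂Hom_C _ _ _) (MvPolynomial.eval₂Hom_X' _ _ _))]
      rw [Finset.sum_congr rfl fun l _ => (japp_smul j U (k.repr q l) (k l)).symm]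
      exact (map_sum (AddMonoidHom.mk' (japp j U) (japp_add j U)) _ _).symm.trans (congrArg (japp j U) (k.sum_repr q))
  have hgf : g.comp f = RingHom.id _ := MvPolynomial.ringHom_ext (fun c => by
      rw [RingHom.comp_apply, MvPolynomial.eval₂Hom_C, RingHom.id_apply]
      exact hg₀ c) fun l => by
      rw [RingHom.comp_apply, MvPolynomial.eval₂Hom_X', hx, RingHom.id_apply]
  exact ⟨RingEquiv.ofRingHom g f hgf hfg, hg₀⟩

/-- Over an affine open with free sections the bundle is an affine space. -/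
theorem exists_chart {Q : X.Modules} {A : RelSpec.QCAlg X} {j : Q ⟶ A.toModule} (hA : IsAffSym j) {U : X.Opens}
    (hU : IsAffineOpen U) {r : ℕ} (k : Module.Basis (Fin r) Γ(X, U) Γ(Q, U)) :
    ∃ c : 𝔸(ULift.{u} (Fin r); (U : Scheme.{u})) ⟶ A.spec,
      IsPullback c (𝔸(ULift.{u} (Fin r); (U : Scheme.{u})) ↘ (U : Scheme.{u})) A.π U.ι := by
  obtain ⟨η, hη⟩ := exists_mvPolyEquiv hA hU k
  let σ := ULift.{u} (Fin r)
  haveI : IsIso (CommRingCat.ofHom η.toRingHom) := inferInstanceAs (IsIso η.toCommRingCatIso.hom)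
  let c := AffineSpace.map σ hU.isoSpec.hom ≫ (AffineSpace.SpecIso σ Γ(X, U)).hom ≫
    Spec.map (CommRingCat.ofHom η.toRingHom) ≫ A.ι U hU
  have hC : A.str.app (op U) ≫ CommRingCat.ofHom η.toRingHom =
      CommRingCat.ofHom (MvPolynomial.C : Γ(X, U) →+* MvPolynomial σ Γ(X, U)) :=
    CommRingCat.hom_ext (RingHom.ext hη)
  have hw : c ≫ A.π = (𝔸(σ; (U : Scheme.{u})) ↘ (U : Scheme.{u})) ≫ U.ι := by
    have h1 : (AffineSpace.SpecIso σ Γ(X, U)).hom ≫ Spec.map (CommRingCat.ofHom (MvPolynomial.C : Γ(X, U) →+* _)) =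
        𝔸(σ; Spec Γ(X, U)) ↘ Spec Γ(X, U) := by
      rw [← AffineSpace.SpecIso_inv_over, Iso.hom_inv_id_assoc]
    simp only [c, Category.assoc, RelSpec.QCAlg.ι_π]
    rw [← Spec.map_comp_assoc, hC, reassoc_of% h1, AffineSpace.map_over_assoc]
    congr 1
    rw [← IsAffineOpen.isoSpec_inv_ι, Iso.hom_inv_id_assoc]
  haveI : IsIso (AffineSpace.map σ hU.isoSpec.hom) := (MorphismProperty.isomorphisms.iff _).1
    (MorphismProperty.of_isPullback (P := MorphismProperty.isomorphisms Scheme.{u})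
      (AffineSpace.isPullback_map (n := σ) hU.isoSpec.hom).flip (show IsIso _ from inferInstance))
  refine ⟨c, (IsOpenImmersion.isPullback (𝔸(σ; (U : Scheme.{u})) ↘ (U : Scheme.{u})) c U.ι A.π hw ?_).flip⟩
  rw [Scheme.Opens.opensRange_ι, A.π_preimage U hU]
  simp only [c]
  rw [Scheme.Hom.opensRange_comp_of_isIso, Scheme.Hom.opensRange_comp_of_isIso, Scheme.Hom.opensRange_comp_of_isIso]

end Groth.Agent.H3Cyc.VBChart
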